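import Cfsg.Agent.H53.HC.Flag_m3
import Cfsg.Agent.H139.Cusp.Orth
import Cfsg.Agent.H766.PQ.A01_m3
import Cfsg.Agent.H684.CoverCount_m3
import Cfsg.Agent.H611.CoverPrincipal
import Cfsg.Agent.S0914
import Cfsg.Agent.S0967
import Cfsg.Agent.Blocks.ExistsModular
import Cfsg.Agent.Blocks.RegularCount
import Cfsg.Agent.OddOrderCharacters.InertiaAbelian
import Cfsg.Agent.H658.Reg.EndChar
import Cfsg.Agent.H892.EP.Good_m3
import Cfsg.Agent.H477.HC.Arith_m3
import Cfsg.Agent.H113.PSU.Main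
import Cfsg.Agent.H477.HC.Levi
import Cfsg.Agent.H477.HC.Rk3Chars_m3
import Cfsg.Agent.H328.Gow.RowPsu
import Cfsg.Agent.H996.PQ.BigSum_m3
import Cfsg.Agent.H710.R4.Sph_m3
import Cfsg.Agent.H996.Eight.TabTwEa_mg_m3
import Cfsg.Agent.H996.Eight.KqT
import Cfsg.Agent.H996.PQ.KqB
import Cfsg.Agent.Nodes.RGDTwD4
import Cfsg.Agent.Nodes.RGDTwE6
import Cfsg.Agent.H35.ExcIdxTw_m3
import Cfsg.Agent.FastGrp
import Cfsg.Agent.Prune
set_option linter.all false

section
prune_inst 0x7f00000000000000000000000000000000000000000000000000000000000000000000000000000000000000000000000000000000000000000000000000000000000000000000000000000000000000003ffffffffcfffffffffff7ffffffbeffbdf3feffff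

-- part: H61/PQ/HcB0
section
set_option linter.all false
open scoped Cfsg.Agent.FastGrp

-- part: H61/PQ/Tor
section
/-!
# The Coxeter torus of `GL_n` and the values of the cuspidal characters (helper61, S4612)

* `mulE ξ` : the multiplication by `ξ ∈ L^*` as an element of `L ≃ₗ[F] L`;
* `exists_mulE` : the elements commuting with `mulE ξ`, `ξ` a generator of `L / F`, are the `mulE η`;
* `cusp_mulE` : the value of `cusp L θ` at `mulE ξ`, `ξ` a generator.
-/

set_option autoImplicit false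

open Polynomial Cfsg

namespace Cfsg.Agent.H61.PQ

open Cfsg.Agent.H139.Cusp Cfsg.Agent.H53.HC Module

universe u w

variable {F : Type u} [Field F] {L : Type w} [Field L] [Algebra F L]

/-- the multiplication by `ξ` -/
def mulE (F : Type u) [Field F] {L : Type w} [Field L] [Algebra F L] : Lˣ →* (L ≃ₗ[F] L) where
  toFun ξ :=
    { toFun := fun v => ξ * v
      invFun := fun v => (ξ⁻¹ : Lˣ) * v
      left_inv := fun v => Units.inv_mul_cancel_left ξ v
      right_inv := fun v => Units.mul_inv_cancel_left ξ v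
      map_add' := fun x y => mul_add _ _ _
      map_smul' := fun c x => by rw [mul_smul_comm, RingHom.id_apply] }
  map_one' := by
    ext v
    exact one_mul v
  map_mul' ξ η := by
    ext v
    show ((ξ * η : Lˣ) : L) * v = ξ * (η * v)
    rw [Units.val_mul, mul_assoc]

@[simp] theorem mulE_apply (ξ : Lˣ) (v : L) : mulE F ξ v = ξ * v := rfl

theorem mulE_injective : Function.Injective (mulE F (L := L)) := by
  intro ξ η h
  have h1 := congrArg (fun e : L ≃ₗ[F] L => e 1) h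
  simp only [mulE_apply, mul_one] at h1
  exact Units.ext h1

/-- the elements commuting with a generator -/
theorem exists_mulE [Finite L] {ξ : Lˣ} (hξ : (minpoly F (ξ : L)).natDegree = finrank F L) {g : L ≃ₗ[F] L}
    (hg : g * mulE F ξ = mulE F ξ * g) : ∃ η : Lˣ, g = mulE F η := by
  have hfin : FiniteDimensional F L := inferInstance
  have hg' : ∀ v, g (ξ * v) = ξ * g v := fun v => congrArg (fun e : L ≃ₗ[F] L => e v) hg
  let C : IntermediateField F L :=
    { carrier := {a | ∀ v, g (a * v) = a * g v}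
      mul_mem' := fun {a b} ha hb v => by rw [mul_assoc, ha, hb, mul_assoc]
      add_mem' := fun {a b} ha hb v => by rw [add_mul, map_add, ha, hb, add_mul]
      algebraMap_mem' := fun c v => by rw [← Algebra.smul_def, ← Algebra.smul_def, map_smul]
      inv_mem' := fun a ha v => by
        by_cases h0 : a = 0
        · rw [h0, inv_zero, zero_mul, zero_mul, map_zero]
        · have h1 := ha (a⁻¹ * v)
          rw [← mul_assoc, mul_inv_cancel₀ h0, one_mul] at h1
          rw [h1, ← mul_assoc, inv_mul_cancel₀ h0, one_mul] }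
  have hC : C = ⊤ := by
    have h1 : IntermediateField.adjoin F {(ξ : L)} = ⊤ :=
      (Field.primitive_element_iff_minpoly_natDegree_eq F (ξ : L)).2 hξ
    rw [eq_top_iff, ← h1, IntermediateField.adjoin_le_iff, Set.singleton_subset_iff]
    exact hg'
  have h1 : ∀ a, g a = a * g 1 := by
    intro a
    have h2 : a ∈ C := by rw [hC]; trivial
    have h3 := h2 1
    rwa [mul_one] at h3
  have h2 : g 1 ≠ 0 := by
    intro h
    exact one_ne_zero ((map_eq_zero_iff g g.injective).1 h)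
  refine ⟨Units.mk0 (g 1) h2, ?_⟩
  ext v
  rw [mulE_apply, Units.val_mk0, h1 v, mul_comm]

theorem aeval_mulE (ξ : Lˣ) (p : F[X]) (v : L) : aeval (mulE F ξ : L →ₗ[F] L) p v = aeval (ξ : L) p * v := by
  induction p using Polynomial.induction_on generalizing v with
  | C a => rw [aeval_C, aeval_C, Module.algebraMap_end_apply, Algebra.smul_def]
  | add p q hp hq => rw [map_add, map_add, LinearMap.add_apply, hp, hq, add_mul]
  | monomial n a h =>
    have h1 : aeval (mulE F ξ : L →ₗ[F] L) (C a * X ^ (n + 1)) v =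
        aeval (mulE F ξ : L →ₗ[F] L) (C a * X ^ n) ((ξ : L) * v) := by
      rw [pow_succ, ← mul_assoc, map_mul, Module.End.mul_apply, aeval_X]
      rfl
    rw [h1, h, ← mul_assoc, pow_succ, ← mul_assoc (C a), map_mul (aeval (ξ : L)) (C a * X ^ n) X, aeval_X]

theorem charpoly_mulE [Finite L] {ξ : Lˣ} (hξ : (minpoly F (ξ : L)).natDegree = finrank F L) :
    (mulE F ξ : L →ₗ[F] L).charpoly = minpoly F (ξ : L) := by
  have hfin : FiniteDimensional F L := inferInstance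
  have h1 : aeval (ξ : L) (mulE F ξ : L →ₗ[F] L).charpoly = 0 := by
    have h2 := LinearMap.aeval_self_charpoly (mulE F ξ : L →ₗ[F] L)
    have h4 := aeval_mulE ξ (mulE F ξ : L →ₗ[F] L).charpoly 1
    rw [h2, LinearMap.zero_apply, mul_one] at h4
    exact h4.symm
  have hm : (minpoly F (ξ : L)).Monic := minpoly.monic (Algebra.IsIntegral.isIntegral (ξ : L))
  have hd : minpoly F (ξ : L) ∣ (mulE F ξ : L →ₗ[F] L).charpoly := minpoly.dvd F _ h1
  exact Polynomial.eq_of_monic_of_dvd_of_natDegree_le hm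
    (LinearMap.charpoly_monic _) hd (by rw [LinearMap.charpoly_natDegree, hξ])

/-- **the value** at a generator -/
theorem cusp_mulE [Finite F] [Finite L] (θ : L →*₀ ℂ) {ξ : Lˣ} (hξ : (minpoly F (ξ : L)).natDegree = finrank F L) :
    cusp L θ (mulE F ξ : L →ₗ[F] L) =
      (-1) ^ (finrank F L - 1) * ∑ i ∈ Finset.range (finrank F L), θ ((ξ : L) ^ (Nat.card F ^ i)) := by
  have hcp := charpoly_mulE hξ
  rw [cusp_of_irreducible L θ (by rw [hcp]; exact minpoly.irreducible (Algebra.IsIntegral.isIntegral (ξ : L))), hcp,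
    lb_minpoly, hξ]

end Cfsg.Agent.H61.PQ
end

-- part: H451/PQ/A7
section
/-!
# S4612, A7: the reduction to simple groups (helper451)

* `mem_B0_normal` : the principal block of a normal subgroup consists of the constituents of the restrictions of the
  characters of the principal block;
* `same_normal` : `Same p q G → Same p q N`;
* `B0_eq_triv_iff` : `B0 p G = {1}` iff `p ∤ |G|`;
* `same_quot` : `Same p q G → Same p q (G ⧸ N)` for `N` a `p'`- and `q'`-group;
* `reduction`, `main` : **the reduction**, and the final form of S4612.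
-/

set_option autoImplicit false

open Cfsg

namespace Cfsg.Agent.H451.PQ

open Cfsg.Agent.H317.PQ Cfsg.Agent.Blocks
open Cfsg.Agent.H684.BlockTools (triv triv_mem infl infl_mem infl_injective)

universe u

variable {p q : ℕ} {G : Type u} [Group G]

theorem exists_M (hp : p.Prime) : ∃ M : Ideal AlgInt, IsPModular p M := ExistsModular.exists_isPModular hp

/-- **The principal block of a normal subgroup.** -/
theorem mem_B0_normal [Finite G] (hp : p.Prime) (N : Subgroup G) [N.Normal] [Fintype N] (θ : IrrCharacter N) :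
    θ ∈ B0 p N ↔ ∃ χ ∈ B0 p G, classInner (fun n : N => (χ : G → ℂ) n) (θ : N → ℂ) ≠ 0 := by
  have : Fact p.Prime := ⟨hp⟩
  have := Fintype.ofFinite G
  obtain ⟨M, hM⟩ := exists_M hp
  rw [B0_eq hp hM, B0_eq hp hM]
  constructor
  · exact H684.CoverCount.exists_over hM N θ
  · rintro ⟨χ, hχ, h⟩
    exact H611.CoverPrincipal.mem_principalBlock_of_over p hM N χ θ h hχ

theorem same_normal [Finite G] (hp : p.Prime) (hq : q.Prime) (h : Same p q G) (N : Subgroup G) [N.Normal] :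
    Same p q N := by
  have := Fintype.ofFinite N
  have h' : B0 p G = B0 q G := h
  show B0 p N = B0 q N
  ext θ
  rw [mem_B0_normal hp, mem_B0_normal hq, h']

theorem charDegree_triv : charDegree ((triv G : IrrCharacter G) : G → ℂ) = 1 := by
  apply Basic.charDegree_of_eq
  show (1 : ℂ) = _
  simp

/-- the principal block is trivial exactly for `p'`-groups -/
theorem B0_eq_triv_iff [Finite G] (hp : p.Prime) : B0 p G = {triv G} ↔ ¬ p ∣ Nat.card G := by
  have : Fact p.Prime := ⟨hp⟩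
  obtain ⟨M, hM⟩ := exists_M hp
  have h := S0914.result p M hM (triv G)
  rw [charDegree_triv, Nat.div_one] at h
  rw [B0_eq hp hM, h]
  rfl

theorem mem_B0_infl [Finite G] (hp : p.Prime) (N : Subgroup G) [N.Normal] (hN : ¬ p ∣ Nat.card N)
    (χ : IrrCharacter (G ⧸ N)) :
    infl (QuotientGroup.mk' N) (QuotientGroup.mk'_surjective N) χ ∈ B0 p G ↔ χ ∈ B0 p (G ⧸ N) := by
  have : Fact p.Prime := ⟨hp⟩
  obtain ⟨M, hM⟩ := exists_M hp
  rw [B0_eq hp hM, B0_eq hp hM]
  constructor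
  · intro h
    obtain ⟨ψ', h1, h2⟩ := S0967.result p M hM N hN (triv (G ⧸ N)) _ h
    have h3 : χ = ψ' := by
      apply Subtype.ext
      funext x
      obtain ⟨g, rfl⟩ := QuotientGroup.mk_surjective x
      exact congrFun h1 g
    rw [h3]
    exact h2
  · exact infl_mem hM _ _

theorem same_quot [Finite G] (hp : p.Prime) (hq : q.Prime) (h : Same p q G) (N : Subgroup G) [N.Normal]
    (hpN : ¬ p ∣ Nat.card N) (hqN : ¬ q ∣ Nat.card N) : Same p q (G ⧸ N) := by
  have h' : B0 p G = B0 q G := h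
  show B0 p (G ⧸ N) = B0 q (G ⧸ N)
  ext χ
  rw [← mem_B0_infl hp N hpN, ← mem_B0_infl hq N hqN, h']

/-- one of the primes divides the order, the other does not -/
theorem not_same_of_dvd [Finite G] (hp : p.Prime) (hq : q.Prime) (hpG : p ∣ Nat.card G) (hqG : ¬ q ∣ Nat.card G) :
    ¬ Same p q G := by
  intro h
  have h' : B0 p G = B0 q G := h
  rw [(B0_eq_triv_iff hq).2 hqG] at h'
  exact (B0_eq_triv_iff hp).1 h' hpG

/-- **The reduction to simple groups.** -/
theorem reduction (h : ∀ (S : Type u) [Group S] [Finite S] [IsSimpleGroup S], ¬ IsMulCommutative S → Row S)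
    {G : Type u} [Group G] [Finite G] : Row G := by
  suffices key : ∀ n : ℕ, ∀ (G : Type u) [Group G] [Finite G], Nat.card G = n → Row G from key _ G rfl
  intro n
  induction n using Nat.strong_induction_on with
  | _ n ih =>
  intro G _ _ hn p q hp hq hpq hpG hqG hS
  have hnt : Nontrivial G := by
    by_contra hcon
    rw [not_nontrivial_iff_subsingleton] at hcon
    have h1 : Nat.card G = 1 := Nat.card_eq_one_iff_unique.2 ⟨hcon, ⟨1⟩⟩
    rw [h1] at hpG
    exact hp.one_lt.ne' (Nat.dvd_one.1 hpG)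
  by_cases hs : IsSimpleGroup G
  · by_cases hc : IsMulCommutative G
    · let _ : CommGroup G := { (inferInstance : Group G) with mul_comm := fun a b => hc.is_comm.comm a b }
      have h1 : (Nat.card G).Prime := IsSimpleGroup.prime_card
      exact hpq (((Nat.prime_dvd_prime_iff_eq hp h1).1 hpG).trans ((Nat.prime_dvd_prime_iff_eq hq h1).1 hqG).symm)
    · exact h G hc p q hp hq hpq hpG hqG hS
  · -- a proper normal subgroup
    obtain ⟨N, hNn, hN1, hN2⟩ : ∃ N : Subgroup G, N.Normal ∧ N ≠ ⊥ ∧ N ≠ ⊤ := by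
      by_contra hcon
      push Not at hcon
      apply hs
      exact { exists_pair_ne := hnt.exists_pair_ne
              eq_bot_or_eq_top_of_normal := fun N hN => by
                by_contra h2
                push Not at h2
                exact h2.2 (hcon N hN h2.1) }
    have hlt : Nat.card N < Nat.card G := by
      refine lt_of_le_of_ne (Subgroup.card_le_card_group N) ?_
      intro h1
      exact hN2 (Subgroup.eq_top_of_card_eq N h1)
    have hSN := same_normal hp hq hS N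
    by_cases hpN : p ∣ Nat.card N
    · by_cases hqN : q ∣ Nat.card N
      · exact ih (Nat.card N) (hn ▸ hlt) N rfl p q hp hq hpq hpN hqN hSN
      · exact not_same_of_dvd hp hq hpN hqN hSN
    · by_cases hqN : q ∣ Nat.card N
      · exact not_same_of_dvd hq hp hqN hpN hSN.symm
      · have hcard : Nat.card G = Nat.card (G ⧸ N) * Nat.card N := Subgroup.card_eq_card_quotient_mul_card_subgroup N
        have hlt' : Nat.card (G ⧸ N) < n := by
          rw [← hn, hcard]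
          have h1 : 1 < Nat.card N := (Subgroup.one_lt_card_iff_ne_bot N).2 hN1
          exact lt_mul_of_one_lt_right Nat.card_pos h1
        have hp' : p ∣ Nat.card (G ⧸ N) := by
          rw [hcard] at hpG
          exact (hp.dvd_mul.1 hpG).resolve_right hpN
        have hq' : q ∣ Nat.card (G ⧸ N) := by
          rw [hcard] at hqG
          exact (hq.dvd_mul.1 hqG).resolve_right hqN
        exact ih _ hlt' (G ⧸ N) rfl p q hp hq hpq hp' hq' (same_quot hp hq hS N hpN hqN)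

/-- **The final form of S4612.** -/
theorem main (h : ∀ (S : Type u) [Group S] [Finite S] [IsSimpleGroup S], ¬ IsMulCommutative S → Row S)
    {G : Type u} [Group G] [Finite G] (p q : ℕ) [Fact p.Prime] [Fact q.Prime] (hpq : p ≠ q) (hp : p ∣ Nat.card G)
    (hq : q ∣ Nat.card G) (Mp Mq : Ideal Cfsg.AlgInt) (hMp : Cfsg.IsPModular p Mp) (hMq : Cfsg.IsPModular q Mq) :
    Cfsg.principalBlock Mp G ≠ Cfsg.principalBlock Mq G := by
  rw [← B0_eq Fact.out hMp, ← B0_eq Fact.out hMq]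
  exact reduction h p q Fact.out Fact.out hpq hp hq

end Cfsg.Agent.H451.PQ
end

-- part: H61/PQ/UpDown
section
/-!
# S4612, classical layer, section 0: up and down (helper61)

* `sreg` : the sum of a function over the `p`-regular elements;
* `sreg_comp` : the sum over the `p`-regular elements of a function inflated from a quotient by a central subgroup;
* `mem_B0_infl_iff` : a character of `K` is in `B0 p K` iff its inflation along `f : G →* K` (surjective, central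
  kernel) is in `B0 p G`;
* `exists_linear` : `N` normal in `G` with abelian quotient, `χ` over `ψ ∈ B0 p N`: some multiple of `χ` by a linear
  character of `G` trivial on `N` is in `B0 p G`;
* `Same.twist` : the combination.
-/

set_option autoImplicit false

open Cfsg Cfsg.Agent
open scoped commutatorElement

namespace Cfsg.Agent.H61.PQ

open Cfsg.Agent.H317.PQ Cfsg.Agent.Characters.Core Cfsg.Agent.Blocks.Basic Cfsg.Agent.Blocks.Local Cfsg.Agent.H766.PQ

universe u v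

variable {p q : ℕ} {G : Type u} [Group G] {K : Type v} [Group K]

/-- the sum over the `p`-regular elements -/
noncomputable def sreg (p : ℕ) (φ : G → ℂ) : ℂ := ∑ᶠ g ∈ {g : G | ¬ p ∣ orderOf g}, φ g

theorem sreg_eq [Fintype G] (φ : G → ℂ) : sreg p φ = ∑ g : G with ¬ p ∣ orderOf g, φ g := by
  classical
  unfold sreg
  rw [finsum_mem_eq_finite_toFinset_sum _ (Set.toFinite _)]
  refine Finset.sum_congr ?_ fun _ _ => rfl
  ext g
  simp

theorem mem_B0_iff_sreg [Finite G] (hp : p.Prime) (χ : IrrCharacter G) : χ ∈ B0 p G ↔ sreg p (χ : G → ℂ) ≠ 0 := by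
  have := Fintype.ofFinite G
  rw [mem_B0_iff hp, sreg_eq]

/-- a `p`-regular element of a homomorphic image has a `p`-regular preimage -/
theorem exists_regular_lift [Finite G] (hp : p.Prime) (f : G →* K) (hf : Function.Surjective f) {y : K}
    (hy : ¬ p ∣ orderOf y) : ∃ g : G, f g = y ∧ ¬ p ∣ orderOf g := by
  have : Fact p.Prime := ⟨hp⟩
  obtain ⟨g, rfl⟩ := hf y
  obtain ⟨x, z, hxz, -, hx, -, ⟨k, hk⟩, hz⟩ := Blocks.RegularCount.exists_pPart (p := p) g
  refine ⟨z, ?_, hz⟩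
  have h1 : f x = 1 := by
    rw [← orderOf_eq_one_iff]
    have h2 : orderOf (f x) ∣ p ^ k := hk ▸ orderOf_map_dvd f x
    obtain ⟨n, rfl⟩ := Subgroup.mem_zpowers_iff.1 hx
    have h3 : orderOf (f (g ^ n)) ∣ orderOf (f g) := by
      rw [map_zpow]
      exact orderOf_dvd_of_mem_zpowers (Subgroup.mem_zpowers_iff.2 ⟨n, rfl⟩)
    obtain ⟨j, -, hj⟩ := (Nat.dvd_prime_pow hp).1 h2
    rw [hj] at h3 ⊢
    rcases Nat.eq_zero_or_pos j with h0 | h0
    · rw [h0, pow_zero]
    · exact absurd ((dvd_pow_self p h0.ne').trans h3) hy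
  rw [← hxz, map_mul, h1, one_mul]

/-- the `p`-regular elements of the kernel act regularly on the `p`-regular preimages of a `p`-regular element -/
theorem card_regular_fiber [Finite G] (hp : p.Prime) (f : G →* K) (hf : Function.Surjective f)
    (hZ : f.ker ≤ Subgroup.center G) {y : K} (hy : ¬ p ∣ orderOf y) :
    Nat.card {g : G // ¬ p ∣ orderOf g ∧ f g = y} = Nat.card {z : f.ker // ¬ p ∣ orderOf z} := by
  obtain ⟨g₁, h₁, hr⟩ := exists_regular_lift hp f hf hy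
  have key : ∀ {a b : G}, Commute a b → ¬ p ∣ orderOf a → ¬ p ∣ orderOf b → ¬ p ∣ orderOf (a * b) := by
    intro a b hab ha hb h
    have h2 := h.trans (hab.orderOf_mul_dvd_mul_orderOf)
    rcases hp.dvd_mul.1 h2 with h3 | h3
    · exact ha h3
    · exact hb h3
  have hcm : ∀ z ∈ f.ker, ∀ g : G, Commute z g := fun z hz g => (Subgroup.mem_center_iff.1 (hZ hz) g).symm
  refine Nat.card_congr ⟨fun g => ⟨⟨g.1 * g₁⁻¹, ?_⟩, ?_⟩, fun z => ⟨z.1.1 * g₁, ?_, ?_⟩, fun g => ?_, fun z => ?_⟩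
  · rw [MonoidHom.mem_ker, map_mul, map_inv, h₁, g.2.2, mul_inv_cancel]
  · have hz : g.1 * g₁⁻¹ ∈ f.ker := by
      rw [MonoidHom.mem_ker, map_mul, map_inv, h₁, g.2.2, mul_inv_cancel]
    rw [Subgroup.orderOf_mk]
    have h2 : Commute g.1 g₁⁻¹ := by
      have h3 := hcm _ hz g₁
      have h4 : g.1 = (g.1 * g₁⁻¹) * g₁ := by group
      rw [h4]
      exact (h3.mul_left (Commute.refl g₁)).inv_right
    exact key h2 g.2.1 (by rwa [orderOf_inv])
  · have h2 := z.2
    rw [← Subgroup.orderOf_coe] at h2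
    exact key (hcm _ z.1.2 g₁) h2 hr
  · rw [map_mul, MonoidHom.mem_ker.1 z.1.2, one_mul, h₁]
  · apply Subtype.ext
    simp
  · apply Subtype.ext
    apply Subtype.ext
    simp

theorem sreg_comp [Finite G] (hp : p.Prime) (f : G →* K) (hf : Function.Surjective f)
    (hZ : f.ker ≤ Subgroup.center G) (φ : K → ℂ) :
    sreg p (φ ∘ f) = (Nat.card {z : f.ker // ¬ p ∣ orderOf z} : ℂ) * sreg p φ := by
  classical
  have := Fintype.ofFinite G
  have hK : Finite K := Finite.of_surjective f hf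
  have := Fintype.ofFinite K
  rw [sreg_eq, sreg_eq, ← Finset.sum_fiberwise _ f, Finset.mul_sum, Finset.sum_filter]
  refine Finset.sum_congr rfl fun y _ => ?_
  have h1 : ∑ g ∈ (Finset.univ.filter fun g : G => ¬ p ∣ orderOf g).filter (fun g => f g = y), (φ ∘ f) g =
      ∑ _g ∈ (Finset.univ.filter fun g : G => ¬ p ∣ orderOf g).filter (fun g => f g = y), φ y := by
    refine Finset.sum_congr rfl fun g hg => ?_
    rw [Function.comp_apply, (Finset.mem_filter.1 hg).2]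
  rw [h1, Finset.sum_const, nsmul_eq_mul]
  by_cases h : p ∣ orderOf y
  · rw [if_neg (not_not.2 h)]
    rw [Finset.card_eq_zero.2, Nat.cast_zero, zero_mul]
    rw [Finset.filter_eq_empty_iff]
    intro g hg hgy
    have h2 := (Finset.mem_filter.1 hg).2
    apply h2
    rw [← hgy] at h
    exact h.trans (orderOf_map_dvd f g)
  · rw [if_pos h]
    congr 2
    rw [← card_regular_fiber hp f hf hZ h, Nat.card_eq_fintype_card, Fintype.card_subtype]
    congr 1
    ext g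
    simp only [_root_.Finset.mem_filter, _root_.Finset.mem_univ, _root_.true_and]

theorem card_regular_ne_zero [Finite G] (hp : p.Prime) (f : G →* K) : Nat.card {z : f.ker // ¬ p ∣ orderOf z} ≠ 0 := by
  have : Nonempty {z : f.ker // ¬ p ∣ orderOf z} := ⟨⟨1, by rw [orderOf_one]; exact hp.one_lt.ne' ∘ Nat.dvd_one.1⟩⟩
  exact Nat.card_pos.ne'

/-- **centre** : the inflation along a surjection with central kernel preserves and reflects the principal block -/
theorem mem_B0_infl_iff [Finite G] (hp : p.Prime) (f : G →* K) (hf : Function.Surjective f)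
    (hZ : f.ker ≤ Subgroup.center G) {χ : IrrCharacter K} {ψ : IrrCharacter G}
    (hψ : (ψ : G → ℂ) = (χ : K → ℂ) ∘ f) : ψ ∈ B0 p G ↔ χ ∈ B0 p K := by
  have hK : Finite K := Finite.of_surjective f hf
  rw [mem_B0_iff_sreg hp, mem_B0_iff_sreg hp, hψ, sreg_comp hp f hf hZ]
  have := card_regular_ne_zero hp f
  simp only [this, _root_.ne_eq, _root_.mul_eq_zero, _root_.Nat.cast_eq_zero, _root_.false_or]

/-- two characters with a common constituent are not orthogonal -/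
theorem classInner_ne_zero_of_common [Fintype G] {α β : G → ℂ} (hα : IsCharacter G α) (hβ : IsCharacter G β)
    {ψ : G → ℂ} (hψ : IsIrrCharacter G ψ) (h₁ : classInner α ψ ≠ 0) (h₂ : classInner β ψ ≠ 0) : classInner α β ≠ 0 := by
  classical
  have := finite_irr (G := G)
  have := Fintype.ofFinite (IrrCharacter G)
  rw [classInner_eq_sum (isCharacter_isClassFunction hα) (isCharacter_isClassFunction hβ)]
  choose a ha using fun χ : IrrCharacter G => classInner_isNat hα (isIrr_isCharacter χ.2)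
  choose b hb using fun χ : IrrCharacter G => classInner_isNat hβ (isIrr_isCharacter χ.2)
  have h3 : ∀ χ : IrrCharacter G, classInner α (χ : G → ℂ) * (starRingEnd ℂ) (classInner β (χ : G → ℂ)) =
      ((a χ * b χ : ℕ) : ℂ) := by
    intro χ
    rw [ha, hb, Complex.conj_natCast]
    push_cast
    ring
  rw [Finset.sum_congr rfl fun χ _ => h3 χ, ← Nat.cast_sum]
  refine Nat.cast_ne_zero.2 ?_
  intro h0
  have h4 := Finset.sum_eq_zero_iff.1 h0 ⟨ψ, hψ⟩ (Finset.mem_univ _)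
  rcases Nat.mul_eq_zero.1 h4 with h5 | h5
  · apply h₁
    have := ha ⟨ψ, hψ⟩
    rw [h5, Nat.cast_zero] at this
    exact this
  · apply h₂
    have := hb ⟨ψ, hψ⟩
    rw [h5, Nat.cast_zero] at this
    exact this

/-- `G ⧸ N` abelian: two irreducible characters of `G` over the same irreducible character of `N` differ by a linear
character trivial on `N` -/
theorem exists_linear_of_over [Finite G] (N : Subgroup G) [N.Normal] (hN : commutator G ≤ N) [Fintype N]
    {χ χ' : IrrCharacter G} {ψ : IrrCharacter N} (h₁ : classInner (fun n : N => (χ : G → ℂ) n) (ψ : N → ℂ) ≠ 0)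
    (h₂ : classInner (fun n : N => (χ' : G → ℂ) n) (ψ : N → ℂ) ≠ 0) :
    ∃ l : G →* ℂˣ, (∀ n ∈ N, l n = 1) ∧ ∀ g, (χ' : G → ℂ) g = (l g : ℂ) * (χ : G → ℂ) g := by
  classical
  have := Fintype.ofFinite G
  let _ : CommGroup (G ⧸ N) :=
    { (inferInstance : Group (G ⧸ N)) with
      mul_comm := by
        intro a b
        obtain ⟨x, rfl⟩ := QuotientGroup.mk_surjective a
        obtain ⟨y, rfl⟩ := QuotientGroup.mk_surjective b
        rw [← QuotientGroup.mk_mul, ← QuotientGroup.mk_mul, QuotientGroup.eq]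
        have h : (x * y)⁻¹ * (y * x) = ⁅y⁻¹, x⁻¹⁆ := by
          rw [commutatorElement_def]
          group
        rw [h]
        exact hN (Subgroup.commutator_mem_commutator (Subgroup.mem_top _) (Subgroup.mem_top _)) }
  have hfin : Finite ((G ⧸ N) →* ℂˣ) := by
    obtain ⟨e⟩ := CommGroup.monoidHom_mulEquiv_of_hasEnoughRootsOfUnity (G ⧸ N) ℂ
    exact Finite.of_equiv _ e.toEquiv.symm
  have := Fintype.ofFinite ((G ⧸ N) →* ℂˣ)
  have hc := classInner_ne_zero_of_common (isCharacter_comp N.subtype (isIrr_isCharacter χ.2))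
    (isCharacter_comp N.subtype (isIrr_isCharacter χ'.2)) ψ.2 h₁ h₂
  by_contra hcon
  push Not at hcon
  apply hc
  -- all multiples are orthogonal to `χ'`
  have h0 : ∀ l : (G ⧸ N) →* ℂˣ, classInner (fun g : G => ((l (g : G ⧸ N) : ℂˣ) : ℂ) * (χ : G → ℂ) g) (χ' : G → ℂ) = 0 := by
    intro l
    refine classInner_irr_ne (OddOrderCharacters.InertiaAbelian.isIrr_mul_hom (l.comp (QuotientGroup.mk' N)) χ.2) χ'.2 ?_
    intro he
    obtain ⟨g, hg⟩ := hcon (l.comp (QuotientGroup.mk' N)) (fun n hn => by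
      rw [MonoidHom.comp_apply, QuotientGroup.mk'_apply, (QuotientGroup.eq_one_iff n).2 hn, map_one])
    exact hg (congrFun he g).symm
  have h1 : ∑ l : (G ⧸ N) →* ℂˣ, classInner (fun g : G => ((l (g : G ⧸ N) : ℂˣ) : ℂ) * (χ : G → ℂ) g) (χ' : G → ℂ) = 0 :=
    Finset.sum_eq_zero fun l _ => h0 l
  simp only [Characters.Core.classInner_def] at h1
  rw [← Finset.mul_sum, Finset.sum_comm] at h1
  have h2 : ∀ g : G, ∑ l : (G ⧸ N) →* ℂˣ, ((l (g : G ⧸ N) : ℂˣ) : ℂ) * (χ : G → ℂ) g * (starRingEnd ℂ) ((χ' : G → ℂ) g) =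
      if g ∈ N then (Nat.card (G ⧸ N) : ℂ) * ((χ : G → ℂ) g * (starRingEnd ℂ) ((χ' : G → ℂ) g)) else 0 := by
    intro g
    rw [Finset.sum_congr rfl fun l _ => mul_assoc _ _ _, ← Finset.sum_mul,
      OddOrderCharacters.InertiaAbelian.sum_hom_apply]
    by_cases hg : g ∈ N
    · rw [if_pos ((QuotientGroup.eq_one_iff g).2 hg), if_pos hg]
    · rw [if_neg (fun h => hg ((QuotientGroup.eq_one_iff g).1 h)), if_neg hg, zero_mul]
  rw [Finset.sum_congr rfl fun g _ => h2 g, ← Finset.sum_filter, ← Finset.mul_sum] at h1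
  have hG : (Nat.card G : ℂ)⁻¹ ≠ 0 := inv_ne_zero card_ne_zero_complex
  have hQ : (Nat.card (G ⧸ N) : ℂ) ≠ 0 := Nat.cast_ne_zero.2 Nat.card_pos.ne'
  have h3 := ((mul_eq_zero.1 h1).resolve_left hG)
  have h4 := ((mul_eq_zero.1 h3).resolve_left hQ)
  rw [Characters.Core.classInner_def]
  have h5 : ∑ n : N, ((χ : G → ℂ) ∘ N.subtype) n * (starRingEnd ℂ) (((χ' : G → ℂ) ∘ N.subtype) n) =
      ∑ g : G with g ∈ N, (χ : G → ℂ) g * (starRingEnd ℂ) ((χ' : G → ℂ) g) := by
    exact (Finset.sum_subtype (Finset.univ.filter fun g : G => g ∈ N) (by simp)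
      (fun g : G => (χ : G → ℂ) g * (starRingEnd ℂ) ((χ' : G → ℂ) g))).symm
  rw [h5, h4, mul_zero]

/-- **up** : `N` normal in `G` with abelian quotient, `χ` over a member of the principal `p`-block of `N`: some
multiple of `χ` by a linear character trivial on `N` is in the principal `p`-block of `G` -/
theorem exists_linear [Finite G] (hp : p.Prime) (N : Subgroup G) [N.Normal] (hN : commutator G ≤ N) [Fintype N]
    {χ : IrrCharacter G} {ψ : IrrCharacter N} (hψ : ψ ∈ B0 p N)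
    (h : classInner (fun n : N => (χ : G → ℂ) n) (ψ : N → ℂ) ≠ 0) :
    ∃ l : G →* ℂˣ, (∀ n ∈ N, l n = 1) ∧ ∃ ξ ∈ B0 p G, ∀ g, (ξ : G → ℂ) g = (l g : ℂ) * (χ : G → ℂ) g := by
  obtain ⟨χ', h', h2⟩ := (H451.PQ.mem_B0_normal hp N ψ).1 hψ
  obtain ⟨l, hl, hl2⟩ := exists_linear_of_over N hN h h2
  exact ⟨l, hl, χ', h', hl2⟩

/-- a constituent of the restriction of a character trivial on a central subgroup of `N` is trivial on it -/
theorem trivial_of_over [Finite G] (N : Subgroup G) [Fintype N] {χ : G → ℂ} {ψ : IrrCharacter N}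
    (h : classInner (fun n : N => χ n) (ψ : N → ℂ) ≠ 0) {z : N} (hz : z ∈ Subgroup.center N)
    (hχ : ∀ n : N, χ (z * n) = χ n) (n : N) : (ψ : N → ℂ) (z * n) = (ψ : N → ℂ) n := by
  obtain ⟨m, ρ, hρ, hψ⟩ := ψ.2
  obtain ⟨w, hw⟩ := Characters.Central.exists_smul_of_comm ρ hρ (ρ z) (by
    intro g
    rw [← map_mul, ← map_mul, Subgroup.mem_center_iff.1 hz g])
  have h1 : ∀ n : N, (ψ : N → ℂ) (z * n) = w * (ψ : N → ℂ) n := by
    intro n
    rw [← hψ]
    show LinearMap.trace ℂ _ (ρ (z * n)) = w * LinearMap.trace ℂ _ (ρ n)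
    rw [map_mul, hw]
    simp
  have h2 : classInner (fun n : N => χ n) (ψ : N → ℂ) = (starRingEnd ℂ) w * classInner (fun n : N => χ n) (ψ : N → ℂ) := by
    rw [Characters.Core.classInner_def, mul_left_comm]
    congr 1
    rw [Finset.mul_sum, ← Fintype.sum_equiv (Equiv.mulLeft z) (fun n : N => (starRingEnd ℂ) w * (χ n * (starRingEnd ℂ) ((ψ : N → ℂ) n)))
      (fun n : N => χ n * (starRingEnd ℂ) ((ψ : N → ℂ) n)) (fun n => ?_)]
    show _ = χ ((z * n : N) : G) * (starRingEnd ℂ) ((ψ : N → ℂ) (z * n))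
    rw [h1, map_mul, Subgroup.coe_mul, hχ n]
    ring
  have h3 : (starRingEnd ℂ) w = 1 := by
    have h4 : ((starRingEnd ℂ) w - 1) * classInner (fun n : N => χ n) (ψ : N → ℂ) = 0 := by
      rw [sub_mul, ← h2, one_mul, sub_self]
    exact sub_eq_zero.1 ((mul_eq_zero.1 h4).resolve_right h)
  have h4 : w = 1 := by
    have := congrArg (starRingEnd ℂ) h3
    simpa using this
  rw [h1, h4, one_mul]

/-- the restriction of an irreducible character to a subgroup has a constituent -/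
theorem exists_under [Finite G] (N : Subgroup G) [Fintype N] (χ : IrrCharacter G) :
    ∃ ψ : IrrCharacter N, classInner (fun n : N => (χ : G → ℂ) n) (ψ : N → ℂ) ≠ 0 := by
  classical
  have := finite_irr (G := N)
  have := Fintype.ofFinite (IrrCharacter N)
  by_contra hcon
  push Not at hcon
  have h1 := classFunction_eq_sum (isCharacter_isClassFunction (isCharacter_comp N.subtype (isIrr_isCharacter χ.2)))
  have h2 := congrFun h1 1
  rw [Finset.sum_apply, Finset.sum_eq_zero fun ψ _ => ?_] at h2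
  · exact isIrr_apply_one_ne_zero χ.2 (by simpa only [_root_.Subgroup.coe_subtype, _root_.Function.comp_apply, _root_.OneMemClass.coe_one] using h2)
  · rw [Pi.smul_apply, smul_eq_mul]
    have h3 : classInner ((χ : G → ℂ) ∘ N.subtype) (ψ : N → ℂ) = 0 := hcon ψ
    rw [h3, zero_mul]

/-- **up and down** : `I` with a normal subgroup `N`, `I ⧸ N` abelian, `K` a quotient of `N` by a central subgroup.
If the principal `p`-block of `K` is the principal `q`-block, then for every `χ` in the principal `q`-block of `I` which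
is trivial on the kernel some multiple of `χ` by a linear character trivial on `N` is in the principal `p`-block of `I`. -/
theorem _root_.Cfsg.Agent.H317.PQ.Same.twist [Finite G] (hp : p.Prime) (hq : q.Prime) (h : Same p q K) (N : Subgroup G) [N.Normal]
    (hN : commutator G ≤ N) (f : N →* K) (hf : Function.Surjective f) (hZ : f.ker ≤ Subgroup.center N)
    {χ : IrrCharacter G} (hχ : χ ∈ B0 q G) (htriv : ∀ z ∈ f.ker, ∀ n : N, (χ : G → ℂ) (z * n) = (χ : G → ℂ) n) :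
    ∃ l : G →* ℂˣ, (∀ n ∈ N, l n = 1) ∧ ∃ ξ ∈ B0 p G, ∀ g, (ξ : G → ℂ) g = (l g : ℂ) * (χ : G → ℂ) g := by
  have := Fintype.ofFinite N
  obtain ⟨ψ, hψ⟩ := exists_under N χ
  have h1 : ψ ∈ B0 q N := (H451.PQ.mem_B0_normal hq N ψ).2 ⟨χ, hχ, hψ⟩
  obtain ⟨ψ', hψ', h2⟩ := H658.Reg.exists_defl f hf ψ.2 (fun z hz => by
    have := trivial_of_over N hψ (hZ (MonoidHom.mem_ker.2 hz)) (htriv z (MonoidHom.mem_ker.2 hz)) 1
    rwa [mul_one] at this)
  have h3 : (ψ : N → ℂ) = ((⟨ψ', hψ'⟩ : IrrCharacter K) : K → ℂ) ∘ f := funext h2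
  have h4 : ψ ∈ B0 p N := by
    rw [mem_B0_infl_iff hp f hf hZ h3]
    have h5 : B0 p K = B0 q K := h
    rw [h5, ← mem_B0_infl_iff hq f hf hZ h3]
    exact h1
  exact exists_linear hp N hN h4 hψ

end Cfsg.Agent.H61.PQ
end

-- part: H61/PQ/Cusp
section
/-!
# Cuspidal characters of `GL_n(q)` and principal blocks (helper61, S4612)

`l` a prime with `n = ord_l(q)`, `θ` a character of `F_{q^n}^*` of order `l`, `c = psi L θ` the cuspidal character of
`GL_n(q)`:
* `Th.mem` : `c` is in the principal `l`-block;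
* `Th.not_mem` : `c` (times a linear character of order prime to `l`) is not in the principal `l'`-block for every prime
  `l' ≠ l` not dividing `q`, if `-b` is not a power of `q` modulo `l` for some `b ≠ 0`.
-/

set_option autoImplicit false
set_option linter.unusedSectionVars false

open Polynomial Cfsg

namespace Cfsg.Agent.H61.PQ

open Cfsg.Agent.H139.Cusp Cfsg.Agent.H53.HC Module Cfsg.Agent.H317.PQ
open Cfsg.Agent.Blocks.Local Cfsg.Agent.Blocks.Basic

universe u w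

variable {F : Type u} [Field F] [Finite F] {L : Type w} [Field L] [Finite L] [Algebra F L]

/-- the torus in the matrix group -/
noncomputable def tor {n : ℕ} (b : Basis (Fin n) F L) : Lˣ →* GL (Fin n) F := (glE b).toMonoidHom.comp (mulE F)

theorem tor_apply {n : ℕ} (b : Basis (Fin n) F L) (ξ : Lˣ) : tor b ξ = glE b (mulE F ξ) := rfl

theorem tor_injective {n : ℕ} (b : Basis (Fin n) F L) : Function.Injective (tor b) :=
  (glE b).injective.comp mulE_injective

theorem psi_tor (θ : L →*₀ ℂ) {n : ℕ} (b : Basis (Fin n) F L) {ξ : Lˣ}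
    (hξ : (minpoly F (ξ : L)).natDegree = finrank F L) :
    psi L θ (tor b ξ) = (-1) ^ (n - 1) * ∑ i ∈ Finset.range n, θ ((ξ : L) ^ (Nat.card F ^ i)) := by
  have hn : finrank F L = n := by rw [finrank_eq_card_basis b, Fintype.card_fin]
  rw [tor_apply, psi_glE, cusp_mulE θ hξ, hn]

theorem centralizer_tor {n : ℕ} (b : Basis (Fin n) F L) {ξ : Lˣ}
    (hξ : (minpoly F (ξ : L)).natDegree = finrank F L) {g : GL (Fin n) F} (hg : g * tor b ξ = tor b ξ * g) :
    ∃ η : Lˣ, g = tor b η := by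
  obtain ⟨f, rfl⟩ := (glE b).surjective g
  rw [tor_apply, ← map_mul, ← map_mul] at hg
  obtain ⟨η, rfl⟩ := exists_mulE hξ ((glE b).injective hg)
  exact ⟨η, rfl⟩

theorem card_centralizer_tor {n : ℕ} (b : Basis (Fin n) F L) {ξ : Lˣ}
    (hξ : (minpoly F (ξ : L)).natDegree = finrank F L) :
    Nat.card (Subgroup.centralizer ({tor b ξ} : Set (GL (Fin n) F))) = Nat.card F ^ n - 1 := by
  have hn : finrank F L = n := by rw [finrank_eq_card_basis b, Fintype.card_fin]
  have h1 : Subgroup.centralizer ({tor b ξ} : Set (GL (Fin n) F)) = (tor b).range := by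
    ext g
    rw [Subgroup.mem_centralizer_singleton_iff, MonoidHom.mem_range]
    constructor
    · intro h
      obtain ⟨η, rfl⟩ := centralizer_tor b hξ h
      exact ⟨η, rfl⟩
    · rintro ⟨η, rfl⟩
      rw [← map_mul, mul_comm, map_mul]
  rw [h1, Nat.card_congr (MonoidHom.ofInjective (tor_injective b)).toEquiv.symm, Nat.card_units,
    Module.natCard_eq_pow_finrank (K := F) (V := L), hn]

theorem card_GL_eq (n : ℕ) (hn : 0 < n) :
    Nat.card (GL (Fin n) F) =
      Nat.card F ^ (∑ i ∈ Finset.range n, i) * degP (Nat.card F) n * (Nat.card F ^ n - 1) := by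
  classical
  have := Fintype.ofFinite F
  rw [Matrix.card_GL_field, ← Nat.card_eq_fintype_card]
  obtain ⟨m, rfl⟩ : ∃ m, n = m + 1 := ⟨n - 1, by omega⟩
  have h1 : ∀ i : Fin (m + 1), Nat.card F ^ (m + 1) - Nat.card F ^ (i : ℕ) =
      Nat.card F ^ (i : ℕ) * (Nat.card F ^ (m + 1 - i) - 1) := by
    intro i
    rw [Nat.mul_sub_one, ← pow_add]
    congr 2
    omega
  rw [Finset.prod_congr rfl fun i _ => h1 i, Finset.prod_mul_distrib, mul_assoc]
  congr 1
  · rw [Finset.prod_pow_eq_pow_sum, Fin.sum_univ_eq_sum_range (fun i => i)]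
  · rw [Fin.prod_univ_eq_prod_range (fun i => Nat.card F ^ (m + 1 - i) - 1), degP, Nat.add_sub_cancel,
      ← Finset.prod_range_succ (fun i => Nat.card F ^ (i + 1) - 1) m, ← Finset.prod_range_reflect]
    refine Finset.prod_congr rfl fun i hi => ?_
    rw [Finset.mem_range] at hi
    congr 2
    omega

/-- the data: `θ` of order `l` with `θ ξ = ω` a primitive `l`-th root of unity, `ξ` an `l`-element -/
structure Th (F : Type u) [Field F] {L : Type w} [Field L] [Algebra F L] (l n : ℕ) (θ : L →*₀ ℂ) (ξ : Lˣ)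
    (ω : ℂ) : Prop where
  fin : finrank F L = n
  pos : 0 < n
  prime : l.Prime
  ndvd : ¬ l ∣ Nat.card F
  reg : ∀ i, 0 < i → i < n → ¬ l ∣ Nat.card F ^ i - 1
  one : ∀ η : Lˣ, ¬ l ∣ orderOf η → θ η = 1
  pw : ∃ m, orderOf ξ = l ^ m
  val : θ ξ = ω
  prim : IsPrimitiveRoot ω l

variable {l n : ℕ} {θ : L →*₀ ℂ} {ξ : Lˣ} {ω : ℂ}

theorem Th.deg (h : Th F l n θ ξ ω) {ζ : Lˣ} (hζ : l ∣ orderOf ζ) : (minpoly F (ζ : L)).natDegree = finrank F L := by
  have hd : (minpoly F (ζ : L)).natDegree ∣ finrank F L := by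
    rw [← pow_eq_self_iff, ← Module.natCard_eq_pow_finrank (K := F) (V := L)]
    have := Fintype.ofFinite L
    rw [Nat.card_eq_fintype_card]
    exact FiniteField.pow_card (ζ : L)
  have h1 := (pow_eq_self_iff (F := F) (ζ : L) (minpoly F (ζ : L)).natDegree).2 dvd_rfl
  have hle := Nat.le_of_dvd (by rw [h.fin]; exact h.pos) hd
  by_contra hne
  have hlt : (minpoly F (ζ : L)).natDegree < n := by rw [← h.fin]; exact lt_of_le_of_ne hle hne
  have hpos := natDegree_pos' (F := F) (ζ : L)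
  refine h.reg _ hpos hlt (hζ.trans ?_)
  rw [orderOf_dvd_iff_pow_eq_one]
  have h2 : ζ * ζ ^ (Nat.card F ^ (minpoly F (ζ : L)).natDegree - 1) = ζ * 1 := by
    rw [← pow_succ', Nat.sub_add_cancel (Nat.one_le_pow _ _ Nat.card_pos), mul_one]
    apply Units.ext
    rw [Units.val_pow_eq_pow_val]
    exact h1
  exact mul_left_cancel h2

theorem Th.dvd_of_ne (h : Th F l n θ ξ ω) {ζ : Lˣ} (hζ : θ ζ ≠ 1) : l ∣ orderOf ζ := by
  by_contra hn
  exact hζ (h.one ζ hn)

/-- the values at the generators -/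
theorem Th.value (h : Th F l n θ ξ ω) (b : Basis (Fin n) F L) {ζ : Lˣ} (hζ : l ∣ orderOf ζ) :
    psi L θ (tor b ζ) = (-1) ^ (n - 1) * ∑ i ∈ Finset.range n, θ ζ ^ (Nat.card F ^ i) := by
  rw [psi_tor θ b (h.deg hζ)]
  congr 1
  refine Finset.sum_congr rfl fun i _ => ?_
  rw [map_pow]

theorem Th.lt (h : Th F l n θ ξ ω) : n < l := by
  by_contra hn
  push Not at hn
  have hl := h.prime
  have : Fact l.Prime := ⟨hl⟩
  rcases Nat.lt_or_ge (l - 1) n with h1 | h1
  · have h0 : 0 < l - 1 := by have := hl.two_le; omega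
    refine h.reg (l - 1) h0 h1 ?_
    have hc : Nat.Coprime (Nat.card F) l := ((Nat.Prime.coprime_iff_not_dvd hl).2 h.ndvd).symm
    have h2 := Nat.ModEq.pow_totient hc
    rw [Nat.totient_prime hl] at h2
    exact (Nat.modEq_iff_dvd' (Nat.one_le_pow _ _ Nat.card_pos)).1 h2.symm
  · have := hl.two_le
    omega

theorem Th.sum_ne_zero (h : Th F l n θ ξ ω) {M : Ideal AlgInt} (hM : IsPModular l M) {w : ℂ} (hw : w ^ l = 1) :
    ∑ i ∈ Finset.range n, w ^ (Nat.card F ^ i) ≠ 0 := by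
  have : Fact l.Prime := ⟨h.prime⟩
  have hMp := isPrime_of_isPModular hM
  intro h0
  have h1 : MemLocalIdeal M (∑ i ∈ Finset.range n, (w ^ (Nat.card F ^ i) - 1)) := by
    refine memLocalIdeal_sum fun i _ => ?_
    refine Blocks.PrincipalConst.memLocalIdeal_sub_one_of_pow_eq_one hM ?_
    rw [← pow_mul, mul_comm, pow_mul, hw, one_pow]
  rw [Finset.sum_sub_distrib, h0, zero_sub, Finset.sum_const, Finset.card_range, nsmul_eq_mul, mul_one] at h1
  have h2 := (memLocalIdeal_natCast_iff hM n).1 (memLocalIdeal_neg_iff.1 h1)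
  exact absurd (Nat.le_of_dvd h.pos h2) (by have := h.lt; omega)

/-- **the cuspidal character is in the principal `l`-block** -/
theorem Th.mem (h : Th F l n θ ξ ω) (hirr : IsIrrCharacter (GL (Fin n) F) (psi L θ)) :
    (⟨psi L θ, hirr⟩ : IrrCharacter (GL (Fin n) F)) ∈ B0 l (GL (Fin n) F) := by
  classical
  intro M hM
  have : Fact l.Prime := ⟨h.prime⟩
  have := Fintype.ofFinite (GL (Fin n) F)
  have b : Basis (Fin n) F L := finBasisOfFinrankEq F L h.fin
  refine H892.EP.mem_of_section_sum hM _ (tor b ξ) ?_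
  have hcl := psi_isClass (n := n) (F := F) L θ
  have hval : ∀ g ∈ {g : GL (Fin n) F | ∃ z, IsPPart l g z ∧ IsConj (tor b ξ) z},
      psi L θ g = (-1) ^ (n - 1) * ∑ i ∈ Finset.range n, ω ^ (Nat.card F ^ i) := by
    rintro g ⟨z, ⟨y, hzy, hcomm, ⟨m, hm⟩, hy⟩, hconj⟩
    obtain ⟨c, hc⟩ := isConj_iff.1 hconj
    -- move to the torus
    have hg : psi L θ g = psi L θ (c⁻¹ * g * c) := by
      have := hcl g c⁻¹
      rw [inv_inv] at this
      exact this.symm
    have h1 : c⁻¹ * g * c = tor b ξ * (c⁻¹ * y * c) := by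
      rw [← hzy, ← hc]
      group
    have hyc : (c⁻¹ * y * c) * tor b ξ = tor b ξ * (c⁻¹ * y * c) := by
      have h2 : y * (c * tor b ξ * c⁻¹) = (c * tor b ξ * c⁻¹) * y := by
        rw [hc]
        exact hcomm.symm.eq
      calc (c⁻¹ * y * c) * tor b ξ = c⁻¹ * (y * (c * tor b ξ * c⁻¹)) * c := by group
        _ = c⁻¹ * ((c * tor b ξ * c⁻¹) * y) * c := by rw [h2]
        _ = tor b ξ * (c⁻¹ * y * c) := by group
    have hlξ : l ∣ orderOf ξ := h.dvd_of_ne (by rw [h.val]; exact h.prim.ne_one h.prime.one_lt)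
    obtain ⟨η, hη⟩ := centralizer_tor b (h.deg hlξ) hyc
    have hηo : ¬ l ∣ orderOf η := by
      have h3 : orderOf (tor b η) = orderOf η := orderOf_injective _ (tor_injective b) η
      rw [← h3, ← hη]
      have h4 : orderOf (c⁻¹ * y * c) = orderOf y := by
        have := orderOf_injective (MulAut.conj c⁻¹).toMonoidHom (MulAut.conj c⁻¹).injective y
        rw [← this]
        congr 1
      rwa [h4]
    have hθ : θ ((ξ * η : Lˣ) : L) = ω := by
      rw [Units.val_mul, map_mul, h.one η hηo, mul_one, h.val]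
    rw [hg, h1, hη, ← map_mul, h.value b (h.dvd_of_ne (by rw [hθ]; exact h.prim.ne_one h.prime.one_lt)), hθ]
  rw [finsum_mem_congr rfl hval, finsum_mem_eq_finite_toFinset_sum _ (Set.toFinite _), Finset.sum_const, nsmul_eq_mul]
  refine mul_ne_zero ?_ (mul_ne_zero (pow_ne_zero _ (by norm_num)) (h.sum_ne_zero hM h.prim.pow_eq_one))
  refine Nat.cast_ne_zero.2 (Finset.card_ne_zero.2 ⟨tor b ξ, ?_⟩)
  rw [Set.Finite.mem_toFinset]
  refine ⟨tor b ξ, ⟨1, mul_one _, Commute.one_right _, ?_, ?_⟩, IsConj.refl _⟩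
  · obtain ⟨m, hm⟩ := h.pw
    exact ⟨m, by rw [← hm]; exact orderOf_injective _ (tor_injective b) ξ⟩
  · rw [orderOf_one]
    exact fun h1 => h.prime.one_lt.ne' (Nat.dvd_one.1 h1)

/-- sums of powers of a primitive root of unity -/
theorem sum_pow_prim {l : ℕ} {ω : ℂ} (hω : IsPrimitiveRoot ω l) (_hl : 0 < l) (m : ℕ) :
    ∑ j ∈ Finset.range l, ω ^ (j * m) = if l ∣ m then (l : ℂ) else 0 := by
  split_ifs with h
  · obtain ⟨c, rfl⟩ := h
    rw [Finset.sum_congr rfl fun j _ => (by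
      rw [mul_left_comm, pow_mul, hω.pow_eq_one, one_pow] : ω ^ (j * (l * c)) = 1)]
    simp
  · have h1 : (ω ^ m - 1) * ∑ j ∈ Finset.range l, ω ^ (j * m) = 0 := by
      have h2 : ∑ j ∈ Finset.range l, ω ^ (j * m) = ∑ j ∈ Finset.range l, (ω ^ m) ^ j :=
        Finset.sum_congr rfl fun j _ => by rw [mul_comm, pow_mul]
      rw [h2, mul_geom_sum, ← pow_mul, mul_comm, pow_mul, hω.pow_eq_one, one_pow, sub_self]
    rcases mul_eq_zero.1 h1 with h2 | h2
    · exact absurd ((hω.pow_eq_one_iff_dvd m).1 (sub_eq_zero.1 h2)) h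
    · exact h2

/-- **the cuspidal character is not in the principal `l'`-block** -/
theorem Th.not_mem (h : Th F l n θ ξ ω) {l' : ℕ} (hl' : l'.Prime) (hll : l' ≠ l) (hq : ¬ l' ∣ Nat.card F)
    {c : ℕ} (hc0 : ¬ l ∣ c) (hc : ∀ i, ¬ l ∣ Nat.card F ^ i + c)
    (f : GL (Fin n) F → ℂ) (hf : ∀ g, (∃ m, orderOf g = l ^ m) → f g = 1)
    (ψ : IrrCharacter (GL (Fin n) F)) (hψ : ∀ g, (ψ : GL (Fin n) F → ℂ) g = f g * psi L θ g) :
    ψ ∉ B0 l' (GL (Fin n) F) := by
  classical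
  intro hmem
  have hl := h.prime
  obtain ⟨M, hM⟩ := Blocks.ExistsModular.exists_isPModular hl'
  have hMp := isPrime_of_isPModular hM
  have b : Basis (Fin n) F L := finBasisOfFinrankEq F L h.fin
  set D := degP (Nat.card F) n with hD
  set q0 := Nat.card F ^ (∑ i ∈ Finset.range n, i) with hq0
  have hF2 : 2 ≤ Nat.card F := Finite.one_lt_card
  have hDpos : 0 < D := degP_pos hF2 n
  have hψ1 : (ψ : GL (Fin n) F → ℂ) 1 = (D : ℂ) := by
    rw [hψ, hf 1 ⟨0, by simp⟩, one_mul, psi_one L θ h.pos]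
  -- the congruences
  have key : ∀ j ∈ Finset.range l, MemLocalIdeal M ((ω ^ (j * (l - 1)) - ω ^ (j * c)) *
      ((q0 : ℂ) * ((D : ℂ) - (-1) ^ (n - 1) * ∑ i ∈ Finset.range n, ω ^ (j * Nat.card F ^ i)))) := by
    intro j hj
    rw [Finset.mem_range] at hj
    rcases Nat.eq_zero_or_pos j with rfl | hj0
    · rw [zero_mul, zero_mul, sub_self, zero_mul]
      exact memLocalIdeal_zero
    · have hint : IsIntegral ℤ ω := h.prim.isIntegral h.prime.pos
      refine memLocalIdeal_mul_left (memLocalRing_sub (memLocalRing_of_isIntegral (hint.pow _))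
        (memLocalRing_of_isIntegral (hint.pow _))) ?_
      have hθj : θ ((ξ ^ j : Lˣ) : L) = ω ^ j := by rw [Units.val_pow_eq_pow_val, map_pow, h.val]
      have hne : θ ((ξ ^ j : Lˣ) : L) ≠ 1 := by
        rw [hθj]
        intro h1
        have h2 := (h.prim.pow_eq_one_iff_dvd j).1 h1
        exact absurd (Nat.le_of_dvd hj0 h2) (by omega)
      have hdvd := h.dvd_of_ne hne
      have hv := h.value b hdvd
      rw [hθj] at hv
      obtain ⟨m, hm⟩ := h.pw
      have hord : ∃ m, orderOf (tor b (ξ ^ j)) = l ^ m := by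
        have h1 : orderOf (tor b (ξ ^ j)) ∣ l ^ m := by
          rw [orderOf_injective _ (tor_injective b), ← hm]
          exact orderOf_pow_dvd j
        obtain ⟨m', -, hm'⟩ := (Nat.dvd_prime_pow hl).1 h1
        exact ⟨m', hm'⟩
      have hidx : (Subgroup.centralizer ({tor b (ξ ^ j)} : Set (GL (Fin n) F))).index = q0 * D := by
        have h1 := (Subgroup.centralizer ({tor b (ξ ^ j)} : Set (GL (Fin n) F))).index_mul_card
        rw [card_centralizer_tor b (h.deg hdvd), card_GL_eq n h.pos] at h1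
        refine Nat.eq_of_mul_eq_mul_right ?_ h1
        have : 1 < Nat.card F ^ n := Nat.one_lt_pow h.pos.ne' hF2
        omega
      have h1 := hmem M hM (tor b (ξ ^ j))
      unfold centralChar at h1
      rw [hidx, hψ1, hψ, hf _ hord, one_mul, hv] at h1
      have h2 : (((q0 * D : ℕ) : ℂ) * 1 / 1 - ((q0 * D : ℕ) : ℂ) * ((-1) ^ (n - 1) *
          ∑ i ∈ Finset.range n, (ω ^ j) ^ (Nat.card F ^ i)) / D) =
          (q0 : ℂ) * ((D : ℂ) - (-1) ^ (n - 1) * ∑ i ∈ Finset.range n, ω ^ (j * Nat.card F ^ i)) := by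
        have hD0 : (D : ℂ) ≠ 0 := Nat.cast_ne_zero.2 hDpos.ne'
        have h3 : ∀ i, (ω ^ j) ^ (Nat.card F ^ i) = ω ^ (j * Nat.card F ^ i) := fun i => (pow_mul _ _ _).symm
        rw [Finset.sum_congr rfl fun i _ => h3 i, Nat.cast_mul]
        field_simp
      rwa [h2] at h1
  have hsum := memLocalIdeal_sum (M := M) key
  -- the sum
  have hl2 := hl.two_le
  have e1 : ∑ j ∈ Finset.range l, (ω ^ (j * (l - 1)) - ω ^ (j * c)) *
      ((q0 : ℂ) * ((D : ℂ) - (-1) ^ (n - 1) * ∑ i ∈ Finset.range n, ω ^ (j * Nat.card F ^ i))) =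
      (q0 : ℂ) * (D : ℂ) * (∑ j ∈ Finset.range l, ω ^ (j * (l - 1)) - ∑ j ∈ Finset.range l, ω ^ (j * c)) -
      (q0 : ℂ) * (-1) ^ (n - 1) * (∑ i ∈ Finset.range n, (∑ j ∈ Finset.range l, ω ^ (j * (l - 1 + Nat.card F ^ i)) -
        ∑ j ∈ Finset.range l, ω ^ (j * (c + Nat.card F ^ i)))) := by
    rw [← Finset.sum_sub_distrib, Finset.mul_sum]
    have e2 : ∀ i ∈ Finset.range n, (∑ j ∈ Finset.range l, ω ^ (j * (l - 1 + Nat.card F ^ i)) -
        ∑ j ∈ Finset.range l, ω ^ (j * (c + Nat.card F ^ i))) =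
        ∑ j ∈ Finset.range l, (ω ^ (j * (l - 1)) - ω ^ (j * c)) * ω ^ (j * Nat.card F ^ i) := by
      intro i _
      rw [← Finset.sum_sub_distrib]
      refine Finset.sum_congr rfl fun j _ => ?_
      rw [mul_add, mul_add, pow_add, pow_add, sub_mul]
    rw [Finset.sum_congr rfl e2, Finset.sum_comm, Finset.mul_sum, ← Finset.sum_sub_distrib]
    refine Finset.sum_congr rfl fun j _ => ?_
    rw [← Finset.mul_sum]
    ring
  have e3 : ¬ l ∣ l - 1 := fun h1 => by
    have := Nat.le_of_dvd (by omega) h1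
    omega
  have e4 : ∀ i ∈ Finset.range n, (∑ j ∈ Finset.range l, ω ^ (j * (l - 1 + Nat.card F ^ i)) -
        ∑ j ∈ Finset.range l, ω ^ (j * (c + Nat.card F ^ i))) = if i = 0 then (l : ℂ) else 0 := by
    intro i hi
    rw [Finset.mem_range] at hi
    have h8 : ¬ l ∣ c + Nat.card F ^ i := by rw [add_comm]; exact hc i
    rw [sum_pow_prim h.prim hl.pos, sum_pow_prim h.prim hl.pos, if_neg h8, sub_zero]
    rcases Nat.eq_zero_or_pos i with rfl | hi0
    · rw [pow_zero, Nat.sub_add_cancel hl.one_lt.le, if_pos dvd_rfl, if_pos rfl]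
    · rw [if_neg hi0.ne', if_neg]
      intro h1
      refine h.reg i hi0 hi ?_
      have h2 : 1 ≤ Nat.card F ^ i := Nat.one_le_pow _ _ Nat.card_pos
      have h3 : l - 1 + Nat.card F ^ i = l + (Nat.card F ^ i - 1) := by omega
      rw [h3] at h1
      exact (Nat.dvd_add_right dvd_rfl).1 h1
  rw [e1, sum_pow_prim h.prim hl.pos, sum_pow_prim h.prim hl.pos, if_neg e3, if_neg hc0, sub_self, mul_zero, zero_sub,
    Finset.sum_congr rfl e4, Finset.sum_ite_eq' , if_pos (Finset.mem_range.2 h.pos)] at hsum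
  rw [memLocalIdeal_neg_iff] at hsum
  have h5 : MemLocalIdeal M ((((-1 : ℂ)) ^ (n - 1)) * ((q0 : ℂ) * (-1) ^ (n - 1) * (l : ℂ))) :=
    memLocalIdeal_mul_left (memLocalRing_pow (memLocalRing_neg memLocalRing_one) _) hsum
  have h6 : (((-1 : ℂ)) ^ (n - 1)) * ((q0 : ℂ) * (-1) ^ (n - 1) * (l : ℂ)) = ((q0 * l : ℕ) : ℂ) := by
    have h7 : ((-1 : ℂ)) ^ (n - 1) * (-1) ^ (n - 1) = 1 := by
      rw [← mul_pow]
      norm_num
    push_cast
    linear_combination (q0 : ℂ) * l * h7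
  rw [h6, memLocalIdeal_natCast_iff hM] at h5
  rcases (Nat.Prime.dvd_mul hl').1 h5 with h7 | h7
  · exact hq (hl'.dvd_of_dvd_pow h7)
  · exact hll ((Nat.prime_dvd_prime_iff_eq hl' hl).1 h7)

end Cfsg.Agent.H61.PQ
end

-- part: H61/PQ/CD
section
/-!
# The cuspidal data for a prime of linear type (helper61, S4612)

`CD K k l σ c` : `c` is a cuspidal irreducible character of `GL_k(K)`, not fixed by `A ↦ σ(A)⁻ᵀ`, in the principal
`l`-block and in no other principal block, also after twisting by functions trivial on the `l`-elements.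

* `exists_cd` (`σ = id`), `exists_cdU` (`σ = s`-th powers, `|K| = s ^ 2`).
-/

set_option autoImplicit false
set_option linter.unusedSectionVars false

open Polynomial Cfsg
open scoped ComplexConjugate

namespace Cfsg.Agent.H61.PQ

open Cfsg.Agent.H139.Cusp Cfsg.Agent.H53.HC Module Cfsg.Agent.H317.PQ
open Cfsg.Agent.Blocks.Local Cfsg.Agent.Blocks.Basic Cfsg.Agent.H477.HC

universe u w

/-- the cuspidal data -/
structure CD (K : Type u) [Field K] (k l : ℕ) (σ : K →+* K) (c : GL (Fin k) K → ℂ) : Prop where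
  cus : Cus K k σ (fun z => z ^ ((Nat.card K ^ k - 1) / l) = 1) c
  mem : ∀ hirr : IsIrrCharacter _ c, (⟨c, hirr⟩ : IrrCharacter (GL (Fin k) K)) ∈ B0 l (GL (Fin k) K)
  not_mem : ∀ {l' : ℕ}, l'.Prime → l' ≠ l → ¬ l' ∣ Nat.card K → ∀ f : GL (Fin k) K → ℂ,
    (∀ g, (∃ m, orderOf g = l ^ m) → f g = 1) → ∀ ψ : IrrCharacter (GL (Fin k) K),
    (∀ g, (ψ : GL (Fin k) K → ℂ) g = f g * c g) → ψ ∉ B0 l' (GL (Fin k) K)

variable {K : Type u} [Field K] [Finite K]

/-- the character `θ` of order `l` -/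
theorem exists_Th {L : Type w} [Field L] [Finite L] [Algebra K L] {θ₀ : L →*₀ ℂ} (hθ₀ : Function.Injective θ₀)
    {k l : ℕ} (hL : finrank K L = k) (hk : 0 < k) (hl : l.Prime) (hlq : ¬ l ∣ Nat.card K)
    (hdvd : l ∣ Nat.card K ^ k - 1) (hreg : ∀ i, 0 < i → i < k → ¬ l ∣ Nat.card K ^ i - 1)
    (ha : (Nat.card K ^ k - 1) / l ≠ 0) :
    ∃ (ξ : Lˣ) (ω : ℂ), Th K l k (powTheta θ₀ ((Nat.card K ^ k - 1) / l) ha) ξ ω := by
  have : Fact l.Prime := ⟨hl⟩
  have hcard : Nat.card Lˣ = Nat.card K ^ k - 1 := by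
    rw [Nat.card_units, Module.natCard_eq_pow_finrank (K := K), hL]
  set a := (Nat.card K ^ k - 1) / l with hadef
  have hal : a * l = Nat.card K ^ k - 1 := Nat.div_mul_cancel hdvd
  have hone : ∀ η : Lˣ, ¬ l ∣ orderOf η → powTheta θ₀ a ha η = 1 := by
    intro η hη
    apply powTheta_eq_one
    have h1 : orderOf η ∣ a * l := by rw [hal, ← hcard]; exact orderOf_dvd_natCard η
    have h2 : orderOf η ∣ a := (Nat.Coprime.symm ((Nat.Prime.coprime_iff_not_dvd hl).2 hη)).dvd_of_dvd_mul_right h1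
    have h3 : η ^ a = 1 := orderOf_dvd_iff_pow_eq_one.1 h2
    exact congrArg Units.val h3
  obtain ⟨γ, hγ⟩ := IsCyclic.exists_ofOrder_eq_natCard (α := Lˣ)
  obtain ⟨x, y, hxy, -, -, -, hx, hy⟩ := Blocks.RegularCount.exists_pPart (p := l) γ
  have hprim : IsPrimitiveRoot (powTheta θ₀ a ha x) l := by
    have h1 : powTheta θ₀ a ha x = θ₀ γ ^ a := by
      rw [← powTheta_apply θ₀ a ha, ← hxy, Units.val_mul, map_mul, hone y hy, mul_one]
    rw [h1]
    have h2 : IsPrimitiveRoot (θ₀ γ) (a * l) := by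
      rw [hal, ← hcard, ← hγ, ← orderOf_units]
      have h3 : orderOf (γ : L) = orderOf (θ₀ γ) :=
        (orderOf_injective (θ₀ : L →* ℂ) hθ₀ (γ : L)).symm
      rw [h3]
      exact IsPrimitiveRoot.orderOf _
    exact h2.pow (Nat.mul_pos (Nat.pos_of_ne_zero ha) hl.pos) rfl
  exact ⟨x, powTheta θ₀ a ha x, hL, hk, hl, hlq, hreg, hone, hx, rfl, hprim⟩

theorem dvd_of_mul_dvd {a l m x : ℕ} (ha : a ≠ 0) (hm : a * l = m) (h : m ∣ a * x) : l ∣ x := by
  rw [← hm] at h
  exact Nat.dvd_of_mul_dvd_mul_left (Nat.pos_of_ne_zero ha) h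

/-- **the cuspidal data, `σ = id`** -/
theorem exists_cd {k l : ℕ} (hk : 0 < k) (hl : l.Prime) (hlq : ¬ l ∣ Nat.card K) (hdvd : l ∣ Nat.card K ^ k - 1)
    (hreg : ∀ i, 0 < i → i < k → ¬ l ∣ Nat.card K ^ i - 1) (hdual : ∀ i, ¬ l ∣ Nat.card K ^ i + 1) :
    ∃ c : GL (Fin k) K → ℂ, CD K k l (RingHom.id K) c := by
  classical
  have hF2 : 2 ≤ Nat.card K := Finite.one_lt_card
  obtain ⟨L, _, _, _, hL⟩ := exists_L K k hk
  obtain ⟨θ, hθ⟩ := exists_theta L
  have hcardL : Nat.card Lˣ = Nat.card K ^ k - 1 := by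
    rw [Nat.card_units, Module.natCard_eq_pow_finrank (K := K), hL]
  have hpos : 0 < Nat.card K ^ k - 1 := by
    have : 1 < Nat.card K ^ k := Nat.one_lt_pow hk.ne' hF2
    omega
  have hal : (Nat.card K ^ k - 1) / l * l = Nat.card K ^ k - 1 := Nat.div_mul_cancel hdvd
  have ha : (Nat.card K ^ k - 1) / l ≠ 0 := by
    intro h0
    rw [h0, zero_mul] at hal
    omega
  obtain ⟨ξ, ω, hTh⟩ := exists_Th hθ hL hk hl hlq hdvd hreg ha
  have hR : Regular K k (powTheta θ _ ha) := (regular_powTheta_iff hθ ha hL).2 fun i h0 h1 h2 =>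
    hreg i h0 h1 (dvd_of_mul_dvd ha hal h2)
  refine ⟨psi L (powTheta θ _ ha), ⟨psi_isIrr _ hL hR, psi_isCusp L _, ?_, ?_, ?_⟩, fun hirr => hTh.mem hirr,
    fun {l'} h1 h2 h3 f hf ψ hψ => hTh.not_mem h1 h2 h3 (c := 1) ?_ hdual f hf ψ hψ⟩
  · intro h
    have h1 : ∀ g : ((Fin k → K) →ₗ[K] (Fin k → K))ˣ,
        cusp L (powTheta θ _ ha) (g : (Fin k → K) →ₗ[K] (Fin k → K)) =
        cusp L (conjTheta (powTheta θ _ ha)) (g : (Fin k → K) →ₗ[K] (Fin k → K)) := by
      intro g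
      let A : GL (Fin k) K := Matrix.GeneralLinearGroup.toLin.symm g
      have h2 := congrFun h A
      have h3 : ((Matrix.GeneralLinearGroup.map (RingHom.id K)).comp (invT k)) A = invT k A := by
        ext i j
        rfl
      rw [Function.comp_apply, h3, psi_invT _ hL] at h2
      have h4 : psi L (powTheta θ _ ha) A = cusp L (powTheta θ _ ha) (g : (Fin k → K) →ₗ[K] (Fin k → K)) := by
        have h5 : Matrix.GeneralLinearGroup.toLin A = g := MulEquiv.apply_symm_apply _ g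
        rw [← h5]
        rfl
      rw [h4, cusp_star] at h2
      exact h2.symm
    obtain ⟨i, hi, h2⟩ := (cusp_eq_iff (V := Fin k → K) (powTheta θ _ ha) (conjTheta (powTheta θ _ ha))
      (by rw [Module.finrank_fin_fun, hL]) (by rw [hL]; exact hR)).1 h1
    have h3 := (conj_powTheta_eq_iff hθ ha ha (pow_ne_zero i (Nat.card_pos (α := K)).ne')).1 h2
    rw [hcardL] at h3
    refine hdual i (dvd_of_mul_dvd ha hal ?_)
    rw [mul_add, mul_one]
    exact h3
  · intro z hz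
    have h1 := psi_scalar (powTheta θ _ ha) hL z 1
    rw [mul_one] at h1
    rw [h1, powTheta_eq_one ha, one_mul]
    rw [← map_pow, ← Units.val_pow_eq_pow_val, hz, Units.val_one, map_one]
  · rw [psi_one L _ hk, degP_eq_Ico]
  · exact fun h4 => hl.one_lt.ne' (Nat.dvd_one.1 h4)

/-- **the cuspidal data, Hermitian case** -/
theorem exists_cdU {s : ℕ} (hs : Nat.card K = s ^ 2) {k l : ℕ} (hk : 0 < k) (hl : l.Prime) (hlq : ¬ l ∣ Nat.card K)
    (hdvd : l ∣ Nat.card K ^ k - 1)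
    (hreg : ∀ i, 0 < i → i < k → ¬ l ∣ Nat.card K ^ i - 1) (hdual : ∀ i, ¬ l ∣ s * Nat.card K ^ i + 1) :
    ∃ c : GL (Fin k) K → ℂ, CD K k l (CForm.powHom hs) c := by
  classical
  have hF2 : 2 ≤ Nat.card K := Finite.one_lt_card
  obtain ⟨L, _, _, _, hL⟩ := exists_L K k hk
  obtain ⟨θ, hθ⟩ := exists_theta L
  have hcardL : Nat.card Lˣ = Nat.card K ^ k - 1 := by
    rw [Nat.card_units, Module.natCard_eq_pow_finrank (K := K), hL]
  have hpos : 0 < Nat.card K ^ k - 1 := by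
    have : 1 < Nat.card K ^ k := Nat.one_lt_pow hk.ne' hF2
    omega
  have hs0 : s ≠ 0 := by
    rintro rfl
    rw [hs] at hF2
    norm_num at hF2
  have hal : (Nat.card K ^ k - 1) / l * l = Nat.card K ^ k - 1 := Nat.div_mul_cancel hdvd
  have ha : (Nat.card K ^ k - 1) / l ≠ 0 := by
    intro h0
    rw [h0, zero_mul] at hal
    omega
  set a := (Nat.card K ^ k - 1) / l with hadef
  have hb : a * s ≠ 0 := Nat.mul_ne_zero ha hs0
  obtain ⟨ξ, ω, hTh⟩ := exists_Th hθ hL hk hl hlq hdvd hreg ha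
  have hR : Regular K k (powTheta θ _ ha) := (regular_powTheta_iff hθ ha hL).2 fun i h0 h1 h2 =>
    hreg i h0 h1 (dvd_of_mul_dvd ha hal h2)
  have hls : ¬ l ∣ s := fun h => hlq (by rw [hs]; exact dvd_pow h two_ne_zero)
  have hc : ∀ i, ¬ l ∣ Nat.card K ^ i + s := by
    intro i h
    rcases Nat.eq_zero_or_pos i with rfl | hi
    · apply hdual 0
      rw [pow_zero, mul_one]
      rwa [pow_zero, add_comm] at h
    · obtain ⟨j, rfl⟩ : ∃ j, i = j + 1 := ⟨i - 1, by omega⟩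
      have h1 : Nat.card K ^ (j + 1) + s = s * (s * Nat.card K ^ j + 1) := by
        rw [pow_succ, hs]
        ring
      rw [h1] at h
      rcases hl.dvd_mul.1 h with h2 | h2
      · exact hls h2
      · exact hdual j h2
  refine ⟨psi L (powTheta θ _ ha), ⟨psi_isIrr _ hL hR, psi_isCusp L _, ?_, ?_, ?_⟩, fun hirr => hTh.mem hirr,
    fun {l'} h1 h2 h3 f hf ψ hψ => hTh.not_mem h1 h2 h3 (c := s) hls hc f hf ψ hψ⟩
  · intro h
    have h1 : ∀ g : ((Fin k → K) →ₗ[K] (Fin k → K))ˣ,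
        cusp L (powTheta θ a ha) (g : (Fin k → K) →ₗ[K] (Fin k → K)) =
        cusp L (conjTheta (powTheta θ (a * s) hb)) (g : (Fin k → K) →ₗ[K] (Fin k → K)) := by
      intro g
      let A : GL (Fin k) K := Matrix.GeneralLinearGroup.toLin.symm g
      have h2 := congrFun h A
      rw [Function.comp_apply, MonoidHom.comp_apply,
        H345.CusU.psi_map_pow (powTheta θ a ha) (powTheta θ (a * s) hb) hL hs
          (fun x => by rw [powTheta_apply, powTheta_apply, map_pow, ← pow_mul, mul_comm s]),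
        psi_invT _ hL] at h2
      have h4 : ∀ θ₁ : L →*₀ ℂ, psi L θ₁ A = cusp L θ₁ (g : (Fin k → K) →ₗ[K] (Fin k → K)) := by
        intro θ₁
        have h5 : Matrix.GeneralLinearGroup.toLin A = g := MulEquiv.apply_symm_apply _ g
        rw [← h5]
        rfl
      rw [h4, h4, cusp_star] at h2
      exact h2.symm
    obtain ⟨i, hi, h2⟩ := (cusp_eq_iff (V := Fin k → K) (powTheta θ a ha)
      (conjTheta (powTheta θ (a * s) hb))
      (by rw [Module.finrank_fin_fun, hL]) (by rw [hL]; exact hR)).1 h1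
    have h3 := (conj_powTheta_eq_iff hθ ha hb (pow_ne_zero i (Nat.card_pos (α := K)).ne')).1 h2
    rw [hcardL] at h3
    refine hc i (dvd_of_mul_dvd ha hal ?_)
    rw [mul_add]
    exact h3
  · intro z hz
    have h1 := psi_scalar (powTheta θ a ha) hL z 1
    rw [mul_one] at h1
    rw [h1, powTheta_eq_one ha, one_mul]
    rw [← map_pow, ← Units.val_pow_eq_pow_val, hz, Units.val_one, map_one]
  · rw [psi_one L _ hk, degP_eq_Ico]

end Cfsg.Agent.H61.PQ
end

-- part: H61/PQ/HcB0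
section
/-!
# Harish-Chandra induced characters of classical groups and principal blocks (helper61, S4612)

* `sreg_hc` : the sum over the `p`-regular elements of `λ · R(c × 1)`;
* `hc_mem` : `c` in the principal `p`-block: so is `R(c × 1)`;
* `hc_not_mem` : `λ · R(c × 1)` in the principal `p`-block, `λ` of order prime to `l`: then `f c` is in the principal
  `p`-block of `GL_k` for some `f` trivial on the `l`-elements;
* `not_same_of_linear` : **a prime `l` of linear type is separated from all the other primes**.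
-/

set_option autoImplicit false
set_option linter.unusedSectionVars false

open Cfsg
open scoped ComplexConjugate

namespace Cfsg.Agent.H61.PQ

open Cfsg.Agent.H53.HC Module Cfsg.Agent.H317.PQ Cfsg.Agent.Characters
open Cfsg.Agent.H477.HC

universe u v w

variable {K : Type u} [Field K] [Finite K] {V : Type v} [AddCommGroup V] [Module K V] [Finite V]
  [FiniteDimensional K V] (F : CForm K V) {k : ℕ}

instance finite_iso' : Finite F.iso := by
  have : Finite (V ≃ₗ[K] V) := Finite.of_injective (fun e : V ≃ₗ[K] V => (e : V → V)) DFunLike.coe_injective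
  infer_instance

theorem sreg_hc [Fintype (F.Om k)] (p : ℕ) (lam : F.iso →* ℂˣ) {c : GL (Fin k) K → ℂ} (hcl : IsClassFunction _ c)
    {W₀ : Submodule K V} (hW₀ : W₀ ∈ F.Om k) :
    sreg p (fun g : F.iso => (lam g : ℂ) * F.hc c (fun _ _ => 1) g) =
      (Nat.card (F.Om k) : ℂ) *
        sreg p (fun g : stabW F.iso.subtype W₀ => (lam g : ℂ) * flagTerm F.iso.subtype c g W₀) := by
  classical
  have := Fintype.ofFinite F.iso
  have := Fintype.ofFinite (stabW F.iso.subtype W₀)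
  rw [sreg_eq, sreg_eq]
  have h1 : ∀ g : F.iso, (lam g : ℂ) * F.hc c (fun _ _ => 1) g =
      ∑ W : F.Om k, (lam g : ℂ) * flagTerm F.iso.subtype c g W.1 := by
    intro g
    unfold CForm.hc
    rw [Finset.mul_sum]
    exact Finset.sum_congr rfl fun W _ => by rw [mul_one]
  rw [Finset.sum_congr rfl fun g _ => h1 g, Finset.sum_comm]
  have h2 : ∀ W : F.Om k, ∑ g : F.iso with ¬ p ∣ orderOf g, (lam g : ℂ) * flagTerm F.iso.subtype c g W.1 =
      ∑ g : F.iso with ¬ p ∣ orderOf g, (lam g : ℂ) * flagTerm F.iso.subtype c g W₀ := by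
    intro W
    obtain ⟨x, hx⟩ := F.trans_Om hW₀ W.2
    symm
    refine Finset.sum_equiv (MulAut.conj x).toEquiv (fun g => ?_) fun g _ => ?_
    · rw [Finset.mem_filter, Finset.mem_filter]
      have h3 : orderOf ((MulAut.conj x).toEquiv g) = orderOf g :=
        orderOf_injective (MulAut.conj x).toMonoidHom (MulAut.conj x).injective g
      rw [h3]
      simp only [_root_.Finset.mem_univ, _root_.true_and, _root_.MulEquiv.toEquiv_eq_coe, _root_.EquivLike.coe_coe, _root_.MulAut.conj_apply]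
    · have h3 : (MulAut.conj x).toEquiv g = x * g * x⁻¹ := rfl
      rw [h3, ← hx, flagTerm_conj F.iso.subtype hcl x g W₀]
      congr 2
      rw [map_mul, map_mul, map_inv, mul_comm (lam x), mul_inv_cancel_right]
  simp only [Finset.sum_congr rfl fun W _ => h2 W, Finset.sum_const, Finset.card_univ, ← Nat.card_eq_fintype_card,
    nsmul_eq_mul]
  congr 1
  rw [← Finset.sum_filter_add_sum_filter_not (Finset.univ.filter fun g : F.iso => ¬ p ∣ orderOf g)
    (fun g => g ∈ stabW F.iso.subtype W₀)]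
  have h4 : ∑ g ∈ (Finset.univ.filter fun g : F.iso => ¬ p ∣ orderOf g).filter
      (fun g => ¬ g ∈ stabW F.iso.subtype W₀), (lam g : ℂ) * flagTerm F.iso.subtype c g W₀ = 0 := by
    refine Finset.sum_eq_zero fun g hg => ?_
    have h5 : ¬ W₀.map (F.iso.subtype g : V →ₗ[K] V) = W₀ := (Finset.mem_filter.1 hg).2
    unfold flagTerm
    rw [dif_neg h5, mul_zero]
  rw [h4, add_zero]
  symm
  refine Finset.sum_bij (fun (g : stabW F.iso.subtype W₀) _ => (g : F.iso)) ?_ ?_ ?_ ?_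
  · intro g hg
    rw [Finset.mem_filter] at hg
    rw [Finset.mem_filter, Finset.mem_filter, Subgroup.orderOf_coe]
    exact ⟨⟨Finset.mem_univ _, hg.2⟩, g.2⟩
  · intro a _ b _ hab
    exact Subtype.ext hab
  · intro g hg
    rw [Finset.mem_filter, Finset.mem_filter] at hg
    obtain ⟨hg1, hg2⟩ := hg
    refine ⟨⟨g, hg2⟩, ?_, rfl⟩
    rw [Finset.mem_filter]
    refine ⟨Finset.mem_univ _, ?_⟩
    have h6 : orderOf (⟨g, hg2⟩ : stabW F.iso.subtype W₀) = orderOf g := Subgroup.orderOf_mk g hg2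
    rw [h6]
    exact hg1.2
  · intro g _
    rfl

/-- the homomorphism of the stabiliser onto `GL_k` -/
theorem exists_fP {W₀ : Submodule K V} (hW₀ : W₀ ∈ F.Om k) :
    ∃ f : stabW F.iso.subtype W₀ →* GL (Fin k) K,
      (∀ g, f g = 1 ↔ ∀ w ∈ W₀, ((g : F.iso) : V ≃ₗ[K] V) w = w) ∧
      (∀ A, ∃ g : stabW F.iso.subtype W₀, (g : F.iso) ∈ F.TT W₀ ∧ f g = A) ∧
      ∀ (c : GL (Fin k) K → ℂ), IsClassFunction _ c → ∀ g : stabW F.iso.subtype W₀,
        flagTerm F.iso.subtype c g W₀ = c (f g) := by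
  obtain ⟨W₁, hW₁, hopp⟩ := F.exists_opp hW₀
  let b : Basis (Fin k) K W₀ := finBasisOfFinrankEq K W₀ hW₀.2
  have h0' := CForm.opp_symm hW₀.2 hW₁.2 hopp
  let f : stabW F.iso.subtype W₀ →* GL (Fin k) K := (glE b).toMonoidHom.comp (resHom F.iso.subtype W₀)
  refine ⟨f, fun g => ?_, fun A => ?_, fun c hcf g => ?_⟩
  · have h1 : f g = 1 ↔ resHom F.iso.subtype W₀ g = 1 := by
      show glE b (resHom F.iso.subtype W₀ g) = 1 ↔ _
      rw [map_eq_one_iff _ (glE b).injective]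
    rw [h1]
    constructor
    · intro h w hw
      have h2 := congrArg (fun e : W₀ ≃ₗ[K] W₀ => (e ⟨w, hw⟩ : V)) h
      exact h2
    · intro h
      ext w
      exact h w w.2
  · obtain ⟨a, rfl⟩ := (glE b).surjective A
    obtain ⟨g, hg1, -, -, hg2⟩ := F.exists_levi hW₀.1 hW₁.1
      (fun w hw hw' => by
        have : w ∈ W₀ ⊓ F.perp W₁ := ⟨hw, hw'⟩
        rw [hopp] at this
        exact (Submodule.mem_bot K).1 this)
      (fun w hw hw' => by
        have : w ∈ W₁ ⊓ F.perp W₀ := ⟨hw, fun w' hw'' => F.B_eq_zero (hw' w' hw'')⟩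
        rw [h0'] at this
        exact (Submodule.mem_bot K).1 this) a
    refine ⟨⟨g, hg2.1.1⟩, hg2.1, ?_⟩
    change glE b (res (F.iso.subtype g) W₀ _) = glE b a
    congr 1
    ext w
    exact hg1 w
  · rw [flagTerm_of F.iso.subtype c g.2, cl_eq hcf b]
    rfl

/-- **`R(c × 1)` is in the principal `p`-block if `c` is** -/
theorem hc_mem [Fintype (F.Om k)] {p : ℕ} (hp : p.Prime) {c : IrrCharacter (GL (Fin k) K)}
    (hc : c ∈ B0 p (GL (Fin k) K)) {W₀ : Submodule K V} (hW₀ : W₀ ∈ F.Om k) (χ : IrrCharacter F.iso)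
    (hχ : (χ : F.iso → ℂ) = F.hc (c : GL (Fin k) K → ℂ) (fun _ _ => 1)) : χ ∈ B0 p F.iso := by
  have hcl := Core.isIrr_isClassFunction c.2
  obtain ⟨f, -, hf, hft⟩ := exists_fP F hW₀
  have hsurj : Function.Surjective f := fun A => by
    obtain ⟨g, -, hg⟩ := hf A
    exact ⟨g, hg⟩
  obtain ⟨ψ, hψ, hψc⟩ := H766.PQ.mem_B0_comp hsurj hp hc
  rw [mem_B0_iff_sreg hp] at hψ ⊢
  have h1 := sreg_hc F p (1 : F.iso →* ℂˣ) hcl hW₀
  have h2 : (fun g : F.iso => (((1 : F.iso →* ℂˣ) g : ℂˣ) : ℂ) * F.hc (c : GL (Fin k) K → ℂ) (fun _ _ => 1) g) =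
      (χ : F.iso → ℂ) := by
    rw [hχ]
    funext g
    rw [MonoidHom.one_apply, Units.val_one, one_mul]
  have h3 : (fun g : stabW F.iso.subtype W₀ => (((1 : F.iso →* ℂˣ) g : ℂˣ) : ℂ) *
      flagTerm F.iso.subtype (c : GL (Fin k) K → ℂ) g W₀) = (ψ : stabW F.iso.subtype W₀ → ℂ) := by
    rw [hψc]
    funext g
    rw [MonoidHom.one_apply, Units.val_one, one_mul, hft _ hcl, Function.comp_apply]
  rw [h2, h3] at h1
  rw [h1]
  refine mul_ne_zero (Nat.cast_ne_zero.2 ?_) hψ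
  have : Nonempty (F.Om k) := ⟨⟨W₀, hW₀⟩⟩
  exact Nat.card_pos.ne'

/-! ### the kernels -/

/-- the isometries trivial on `W` and on `Wᗮ / W` form a group of order prime to every prime not dividing `|K|` -/
theorem pow_eq_one_of_uni {p : ℕ} [Fact p.Prime] [CharP K p] {W : Submodule K V} {g : F.iso}
    (hg : g ∈ F.TT W) (hg1 : ∀ w ∈ W, (g : V ≃ₗ[K] V) w = w) : g ^ p ^ 2 = 1 := by
  have hperp : ∀ v, (g : V ≃ₗ[K] V) v - v ∈ F.perp W := by
    intro v w hw
    rw [F.B_sub_left]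
    conv_lhs => rw [← hg1 w hw]
    rw [F.iso_B, hg1 w hw, sub_self]
  let e : Module.End K V := ((g : V ≃ₗ[K] V) : V →ₗ[K] V)
  have h3 : (e - 1) ^ 3 = 0 := by
    ext v
    rw [pow_succ, pow_two, Module.End.mul_apply, Module.End.mul_apply]
    show (e - 1) ((e - 1) ((g : V ≃ₗ[K] V) v - v)) = 0
    have h4 := hg.2 _ (hperp v)
    show (e - 1) ((g : V ≃ₗ[K] V) ((g : V ≃ₗ[K] V) v - v) - ((g : V ≃ₗ[K] V) v - v)) = 0
    show (g : V ≃ₗ[K] V) ((g : V ≃ₗ[K] V) ((g : V ≃ₗ[K] V) v - v) - ((g : V ≃ₗ[K] V) v - v)) -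
      ((g : V ≃ₗ[K] V) ((g : V ≃ₗ[K] V) v - v) - ((g : V ≃ₗ[K] V) v - v)) = 0
    rw [hg1 _ h4, sub_self]
  have h4 : (e - 1) ^ p ^ 2 = 0 := by
    have hp2 : 2 ≤ p := (Fact.out : p.Prime).two_le
    have h5 : 3 ≤ p ^ 2 := by nlinarith
    obtain ⟨m, hm⟩ := Nat.exists_eq_add_of_le h5
    rw [hm, pow_add, h3, zero_mul]
  have hch : CharP (Module.End K V) p ∨ Subsingleton V := by
    rcases subsingleton_or_nontrivial V with h | h
    · exact Or.inr h
    · left
      exact charP_of_injective_algebraMap (algebraMap K (Module.End K V)).injective p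
  rcases hch with hch | hch
  · have h5 : e ^ p ^ 2 = 1 := by
      have h6 := sub_pow_char_pow_of_commute (R := Module.End K V) (p := p) (n := 2) (x := e) (y := 1)
        (Commute.one_right e)
      rw [h4, one_pow] at h6
      exact (sub_eq_zero.1 h6.symm)
    apply Subtype.ext
    apply LinearEquiv.ext
    intro v
    have h6 := congrArg (fun T : Module.End K V => T v) h5
    have h7 : ∀ n : ℕ, ((g ^ n : F.iso) : V ≃ₗ[K] V) v = (e ^ n) v := by
      intro n
      induction n with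
      | zero => rfl
      | succ n ih =>
        rw [pow_succ', pow_succ', Module.End.mul_apply, ← ih]
        rfl
    rw [h7]
    exact h6
  · apply Subtype.ext
    apply LinearEquiv.ext
    intro v
    exact Subsingleton.elim _ _

/-- `TT W` is normal in the stabiliser of `W` -/
theorem TT_normal {W : Submodule K V} {x g : F.iso} (hx : x ∈ stabW F.iso.subtype W) (hg : g ∈ F.TT W) :
    x * g * x⁻¹ ∈ F.TT W := by
  have hxi := (stabW F.iso.subtype W).inv_mem hx
  refine ⟨(stabW F.iso.subtype W).mul_mem ((stabW F.iso.subtype W).mul_mem hx hg.1) hxi, fun v hv => ?_⟩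
  have h1 : ((x⁻¹ : F.iso) : V ≃ₗ[K] V) v ∈ F.perp W := by
    intro w hw
    have h2 : F.B (((x⁻¹ : F.iso) : V ≃ₗ[K] V) v) w = F.B v ((x : V ≃ₗ[K] V) w) := by
      rw [← F.iso_B x]
      congr 1
      exact (x : V ≃ₗ[K] V).apply_symm_apply v
    rw [h2]
    refine hv _ ?_
    have h3 : W.map (F.iso.subtype x : V →ₗ[K] V) = W := hx
    rw [← h3]
    exact ⟨w, hw, rfl⟩
  have h2 := hg.2 _ h1
  have h3 : ((x * g * x⁻¹ : F.iso) : V ≃ₗ[K] V) v - v =
      (x : V ≃ₗ[K] V) ((g : V ≃ₗ[K] V) (((x⁻¹ : F.iso) : V ≃ₗ[K] V) v) - ((x⁻¹ : F.iso) : V ≃ₗ[K] V) v) := by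
    rw [map_sub]
    congr 1
    exact ((x : V ≃ₗ[K] V).apply_symm_apply v).symm
  rw [h3]
  have h4 : W.map (F.iso.subtype x : V →ₗ[K] V) = W := hx
  rw [← h4]
  exact ⟨_, h2, rfl⟩

/-- inflation along a surjection with kernel of order prime to `p` -/
theorem mem_B0_of_infl {G : Type u} {H : Type v} [Group G] [Group H] [Finite G] {p : ℕ} (hp : p.Prime) (f : G →* H)
    (hf : Function.Surjective f) (hk : ¬ p ∣ Nat.card f.ker) {χ : IrrCharacter H} {ψ : IrrCharacter G}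
    (hψ : (ψ : G → ℂ) = (χ : H → ℂ) ∘ f) (h : ψ ∈ B0 p G) : χ ∈ B0 p H := by
  let e : G ⧸ f.ker ≃* H := QuotientGroup.quotientKerEquivOfSurjective f hf
  have hζ : IsIrrCharacter (G ⧸ f.ker) ((χ : H → ℂ) ∘ e) := Core.isIrr_comp e.toMonoidHom e.surjective χ.2
  rw [← H766.PQ.mem_B0_equiv (p := p) e (ψ := ⟨_, hζ⟩) rfl, ← H451.PQ.mem_B0_infl hp f.ker hk]
  convert h using 1
  apply Subtype.ext
  rw [hψ]
  rfl

/-- the twisted Harish-Chandra induced character in the principal block -/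
theorem exists_of_twist [Fintype (F.Om k)] {p l : ℕ} (hp : p.Prime) (hl : l.Prime) (hpK : ¬ p ∣ Nat.card K)
    (lam : F.iso →* ℂˣ) {c : GL (Fin k) K → ℂ} (hc : IsIrrCharacter _ c) {W₀ : Submodule K V} (hW₀ : W₀ ∈ F.Om k)
    (χ : IrrCharacter F.iso) (hχ : ∀ g, (χ : F.iso → ℂ) g = (lam g : ℂ) * F.hc c (fun _ _ => 1) g)
    (h : χ ∈ B0 p F.iso) {e : ℕ} (he : ¬ l ∣ e) (hlam : ∀ g, lam g ^ e = 1) :
    ∃ f : GL (Fin k) K → ℂ, (∀ g, (∃ m, orderOf g = l ^ m) → f g = 1) ∧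
      ∃ η : IrrCharacter (GL (Fin k) K), η ∈ B0 p (GL (Fin k) K) ∧ ∀ g, (η : GL (Fin k) K → ℂ) g = f g * c g := by
  classical
  obtain ⟨r, hr⟩ := CharP.exists K
  have hrp : r.Prime := (CharP.char_is_prime_or_zero K r).resolve_right (CharP.char_ne_zero_of_finite K r)
  have : Fact r.Prime := ⟨hrp⟩
  have hcl := Core.isIrr_isClassFunction hc
  obtain ⟨f, hf1, hf, hft⟩ := exists_fP F hW₀
  have hsurj : Function.Surjective f := fun A => by
    obtain ⟨g, -, hg⟩ := hf A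
    exact ⟨g, hg⟩
  -- the character of the parabolic subgroup
  let P := stabW F.iso.subtype W₀
  have hξirr : IsIrrCharacter P (fun g => (lam g : ℂ) * c (f g)) :=
    OddOrderCharacters.InertiaAbelian.isIrr_mul_hom (lam.comp P.subtype) (Core.isIrr_comp f hsurj hc)
  let ξ : IrrCharacter P := ⟨_, hξirr⟩
  have hξ : ξ ∈ B0 p P := by
    rw [mem_B0_iff_sreg hp] at h ⊢
    have h1 := sreg_hc F p lam hcl hW₀
    have h2 : (χ : F.iso → ℂ) = fun g => (lam g : ℂ) * F.hc c (fun _ _ => 1) g := funext hχ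
    have h3 : (ξ : P → ℂ) = fun g : P => (lam g : ℂ) * flagTerm F.iso.subtype c g W₀ := by
      funext g
      rw [hft c hcl g]
    rw [← h2, ← h3] at h1
    intro h0
    rw [h0, mul_zero] at h1
    exact h h1
  -- the normal subgroup
  let M : Subgroup P := (F.TT W₀).comap P.subtype
  have hMn : M.Normal := ⟨fun g hg x => TT_normal F x.2 hg⟩
  let fM : M →* GL (Fin k) K := f.comp M.subtype
  have hfM : Function.Surjective fM := by
    intro A
    obtain ⟨g, hg1, hg2⟩ := hf A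
    exact ⟨⟨g, hg1⟩, hg2⟩
  have hξMirr : IsIrrCharacter M (fun g => (lam (g : P) : ℂ) * c (fM g)) :=
    OddOrderCharacters.InertiaAbelian.isIrr_mul_hom ((lam.comp P.subtype).comp M.subtype) (Core.isIrr_comp fM hfM hc)
  let ξM : IrrCharacter M := ⟨_, hξMirr⟩
  have := Fintype.ofFinite M
  have hξM : ξM ∈ B0 p M := by
    rw [H451.PQ.mem_B0_normal hp M ξM]
    refine ⟨ξ, hξ, ?_⟩
    have h1 : (fun n : M => (ξ : P → ℂ) n) = (ξM : M → ℂ) := rfl
    rw [h1, Core.classInner_irr_self ξM.2]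
    exact one_ne_zero
  -- the kernel
  have hker : ∀ u : M, fM u = 1 → ((u : P) : F.iso) ^ r ^ 2 = 1 := by
    intro u hu
    exact pow_eq_one_of_uni F u.2 ((hf1 _).1 hu)
  have hkc : ¬ p ∣ Nat.card fM.ker := by
    intro hd
    have : Fact p.Prime := ⟨hp⟩
    obtain ⟨u, hu⟩ := exists_prime_orderOf_dvd_card' p hd
    have h1 : (((u : M) : P) : F.iso) ^ r ^ 2 = 1 := hker _ (MonoidHom.mem_ker.1 u.2)
    have h2 : u ^ r ^ 2 = 1 := by
      apply Subtype.ext
      apply Subtype.ext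
      apply Subtype.ext
      exact h1
    have h3 : p ∣ r ^ 2 := hu ▸ orderOf_dvd_of_pow_eq_one h2
    have h4 : p = r := (Nat.prime_dvd_prime_iff_eq hp hrp).1 (hp.dvd_of_dvd_pow h3)
    apply hpK
    rw [h4]
    have := Fintype.ofFinite K
    rw [Nat.card_eq_fintype_card]
    obtain ⟨n, -, hn⟩ := FiniteField.card K r
    rw [hn]
    exact dvd_pow_self r n.ne_zero
  -- `lam` is trivial on the kernel
  have hlk : ∀ u : M, fM u = 1 → lam (u : P) = 1 := by
    have := Fintype.ofFinite fM.ker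
    let lk : fM.ker →* ℂˣ := ((lam.comp P.subtype).comp M.subtype).comp fM.ker.subtype
    have hirr : IsIrrCharacter fM.ker (fun u => (lk u : ℂ) * (1 : fM.ker → ℂ) u) :=
      OddOrderCharacters.InertiaAbelian.isIrr_mul_hom lk Core.isIrr_one
    let θ : IrrCharacter fM.ker := ⟨_, hirr⟩
    have h1 : θ ∈ B0 p fM.ker := by
      rw [H451.PQ.mem_B0_normal hp fM.ker θ]
      refine ⟨ξM, hξM, ?_⟩
      have h2 : (fun n : fM.ker => (ξM : M → ℂ) n) = c 1 • (θ : fM.ker → ℂ) := by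
        funext n
        simp only [Pi.smul_apply, smul_eq_mul]
        show (lam ((n : M) : P) : ℂ) * c (fM n) = c 1 * ((lk n : ℂ) * (1 : fM.ker → ℂ) n)
        simp_rw [MonoidHom.mem_ker.1 n.2, Pi.one_apply, mul_one, mul_comm]
        rfl
      simp only [h2, Core.classInner_smul_left, Core.classInner_irr_self θ.2, mul_one]
      exact Core.isIrr_apply_one_ne_zero hc
    simp only [(H451.PQ.B0_eq_triv_iff hp).2 hkc, Set.mem_singleton_iff] at h1
    intro u hu
    have h2 := congrFun (congrArg Subtype.val h1) ⟨u, MonoidHom.mem_ker.2 hu⟩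
    have h3 : ((lam (u : P) : ℂˣ) : ℂ) * 1 = 1 := h2
    rw [mul_one] at h3
    exact Units.ext h3
  -- deflation
  obtain ⟨η', hη', hη2⟩ := H658.Reg.exists_defl fM hfM ξM.2 (fun u hu => by
    show (lam (u : P) : ℂ) * c (fM u) = (lam ((1 : M) : P) : ℂ) * c (fM 1)
    simp only [hlk u hu, hu, hlk 1 (map_one fM), map_one])
  let η : IrrCharacter (GL (Fin k) K) := ⟨η', hη'⟩
  have hηB : η ∈ B0 p (GL (Fin k) K) := mem_B0_of_infl hp fM hfM hkc (ψ := ξM) (funext hη2) hξM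
  choose sec hsec using hfM
  refine ⟨fun A => (lam ((sec A : M) : P) : ℂ), ?_, η, hηB, fun A => ?_⟩
  · rintro A ⟨m, hm⟩
    have h1 : lam (((sec A) ^ l ^ m : M) : P) = 1 := by
      apply hlk
      rw [map_pow, hsec, ← hm, pow_orderOf_eq_one]
    have h2 : lam ((sec A : M) : P) ^ l ^ m = 1 := by
      rw [← map_pow]
      exact h1
    have h3 := hlam ((sec A : M) : P)
    have h4 : orderOf (lam ((sec A : M) : P)) = 1 := by
      have h5 := orderOf_dvd_of_pow_eq_one h2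
      have h6 := orderOf_dvd_of_pow_eq_one h3
      have h7 : Nat.Coprime (l ^ m) e := Nat.Coprime.pow_left m ((Nat.Prime.coprime_iff_not_dvd hl).2 he)
      exact Nat.dvd_one.1 (h7 ▸ Nat.dvd_gcd h5 h6)
    rw [orderOf_eq_one_iff] at h4
    show (lam ((sec A : M) : P) : ℂ) = 1
    rw [h4, Units.val_one]
  · show η' A = _
    conv_lhs => rw [← hsec A]
    rw [← hη2]
    show (lam ((sec A : M) : P) : ℂ) * c (fM (sec A)) = _
    rw [hsec]

/-- **A prime `l` of linear type is separated from all the other primes.** -/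
theorem not_same_of_linear {S : Type w} [Group S] (N : Subgroup F.iso) [N.Normal] (hN : commutator F.iso ≤ N)
    (f : N →* S) (hf : Function.Surjective f) (hZ : f.ker ≤ Subgroup.center N) {l l' : ℕ} (hl : l.Prime)
    (hl' : l'.Prime) (hne : l' ≠ l) (hq : ¬ l' ∣ Nat.card K) (hidx : ¬ l ∣ N.index) {c : GL (Fin k) K → ℂ}
    (hc : CD K k l F.σ c)
    (hsc : ∀ z ∈ f.ker, ∃ a : Kˣ, a ^ ((Nat.card K ^ k - 1) / l) = 1 ∧ ∀ v, ((z : F.iso) : V ≃ₗ[K] V) v = (a : K) • v)
    {W₀ : Submodule K V} (hW₀ : W₀ ∈ F.Om k) : ¬ Same l l' S := by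
  classical
  intro hS
  have : Finite (F.Om k) := by
    have : Finite (Submodule K V) := Finite.of_injective (fun W : Submodule K V => (W : Set V)) SetLike.coe_injective
    infer_instance
  have := Fintype.ofFinite (F.Om k)
  have := Fintype.ofFinite F.iso
  have hcl := Core.isIrr_isClassFunction hc.cus.irr
  have hirr := F.isIrr_hc_one hc.cus.irr hc.cus.cusp hc.cus.dual hW₀
  let χ : IrrCharacter F.iso := ⟨_, hirr⟩
  have hχ : χ ∈ B0 l F.iso := hc_mem F hl (hc.mem hc.cus.irr) hW₀ χ rfl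
  obtain ⟨lam, hlam, ξ, hξ, hξ2⟩ := Same.twist hl' hl hS.symm N hN f hf hZ hχ (fun z hz n => by
    obtain ⟨a, ha, hza⟩ := hsc z hz
    have h1 : (χ : F.iso → ℂ) z = (χ : F.iso → ℂ) 1 :=
      F.hc_scalar hcl (fun _ _ => 1) hza (hc.cus.scal a ha) (fun _ _ => rfl)
    have h2 : (z : F.iso) * (n : F.iso) = (n : F.iso) * z := by
      have h3 := Subgroup.mem_center_iff.1 (hZ hz) n
      exact (congrArg Subtype.val h3).symm
    rw [h2]
    exact Cfsg.Agent.H477.HC.kernel_mul (Core.isIrr_isCharacter hirr) h1 n)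
  obtain ⟨f', hf', η, hη, hη2⟩ := exists_of_twist F hl' hl hq lam hc.cus.irr hW₀ ξ hξ2 hξ hidx (fun g => by
    rw [← map_pow]
    exact hlam _ (N.pow_index_mem g))
  exact hc.not_mem hl' hne hq f' hf' η hη2 hη

end Cfsg.Agent.H61.PQ
end
end

section
prune_inst 0xfeedfbebea45dfdfff7e3ff6dccffc32c14fffe6dff94bffe8e19f2fdf231209c5fb850de070ff0ee6e21410b87843fbfffeffe26ffc7ffffdfdf41ffbee4fe5f7b508119488340f3c2ff703f0778e6f000000000300000000000800000000000208000000

-- part: H61/PQ/RowsLin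
section
prune_inst 0x11004101110002000004008211003c83ab000090000b000140a6080005808e200000ae20b8b001010080000450390040000000100010000000200400011901a0808202043140a000040089000080010000000000000000000000000000000000004010000
set_option linter.all false
open scoped Cfsg.Agent.FastGrp

/-!
# S4612: the primes of linear type in the classical groups (helper61)

`l` an odd prime, `k = ord_l(q)` odd (symplectic and orthogonal groups over `F_q`) resp. `ord_l(q)` not `2` modulo `4`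
(unitary groups over `F_{q²}`): the principal `l`-block of the simple group differs from the principal `l'`-block for every
prime `l' ≠ l` not dividing `q`.

* `psp_lin`, `odd_lin`, `plus_lin`, `minus_lin`, `psu_lin`.
-/

set_option autoImplicit false
set_option linter.unusedSectionVars false

open Cfsg
open scoped ComplexConjugate

namespace Cfsg.Agent.H61.PQ

open Cfsg.Agent.H53.HC Module Cfsg.Agent.H317.PQ Cfsg.Agent.Characters
open Cfsg.Agent.H477.HC

universe u v w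

/-! ### arithmetic -/

section arith

variable {q l : ℕ}

theorem pow_sub_one_iff (h1 : 1 ≤ q) (i : ℕ) : l ∣ q ^ i - 1 ↔ orderOf ((q : ℕ) : ZMod l) ∣ i := by
  rw [orderOf_dvd_iff_pow_eq_one, ← ZMod.natCast_eq_zero_iff, Nat.cast_sub (Nat.one_le_pow _ _ h1), Nat.cast_pow,
    Nat.cast_one, sub_eq_zero]

theorem orderOf_pos' (hl : l.Prime) (hq : ¬ l ∣ q) : 0 < orderOf ((q : ℕ) : ZMod l) := by
  have : Fact l.Prime := ⟨hl⟩
  have h0 : ((q : ℕ) : ZMod l) ≠ 0 := by rwa [Ne, ZMod.natCast_eq_zero_iff]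
  rw [← Units.val_mk0 h0, orderOf_units]
  exact orderOf_pos _

/-- the order of `q` is odd: `-1` is no power of `q` -/
theorem not_dvd_add_one (hl : l.Prime) (hl2 : l ≠ 2) (h1 : 1 ≤ q) (hodd : Odd (orderOf ((q : ℕ) : ZMod l))) (i : ℕ) :
    ¬ l ∣ q ^ i + 1 := by
  intro h
  have h2 : l ∣ q ^ (2 * i) - 1 := by
    rw [sq_sub]
    exact Dvd.dvd.mul_right h _
  rw [pow_sub_one_iff h1] at h2
  have h3 : orderOf ((q : ℕ) : ZMod l) ∣ i :=
    (Nat.Coprime.dvd_of_dvd_mul_left (Nat.Coprime.symm (Nat.coprime_two_left.2 hodd)) h2)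
  rw [← pow_sub_one_iff h1] at h3
  have h4 : l ∣ 2 := by
    have h5 : q ^ i + 1 = (q ^ i - 1) + 2 := by
      have := Nat.one_le_pow i q h1
      omega
    rw [h5] at h
    exact (Nat.dvd_add_right h3).1 h
  exact hl2 ((Nat.prime_dvd_prime_iff_eq hl Nat.prime_two).1 h4)

/-- `ord_l(q)` is not `2` modulo `4`: `-1` is no odd power of `q` -/
theorem not_dvd_odd_add_one (hl : l.Prime) (hl2 : l ≠ 2) (h1 : 1 ≤ q) (h4 : orderOf ((q : ℕ) : ZMod l) % 4 ≠ 2) (i : ℕ) :
    ¬ l ∣ q * (q ^ 2) ^ i + 1 := by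
  intro h
  have e1 : q * (q ^ 2) ^ i = q ^ (2 * i + 1) := by rw [← pow_mul, pow_succ, mul_comm]
  rw [e1] at h
  have h2 : l ∣ q ^ (2 * (2 * i + 1)) - 1 := by
    rw [sq_sub]
    exact Dvd.dvd.mul_right h _
  rw [pow_sub_one_iff h1] at h2
  have h3 : ¬ orderOf ((q : ℕ) : ZMod l) ∣ 2 * i + 1 := by
    rw [← pow_sub_one_iff h1]
    intro h3
    have h4 : l ∣ 2 := by
      have h5 : q ^ (2 * i + 1) + 1 = (q ^ (2 * i + 1) - 1) + 2 := by
        have := Nat.one_le_pow (2 * i + 1) q h1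
        omega
      rw [h5] at h
      exact (Nat.dvd_add_right h3).1 h
    exact hl2 ((Nat.prime_dvd_prime_iff_eq hl Nat.prime_two).1 h4)
  set d := orderOf ((q : ℕ) : ZMod l)
  rcases Nat.even_or_odd d with he | ho
  · obtain ⟨e, he⟩ := he
    have h5 : d = 2 * e := by omega
    rw [h5] at h2
    have h6 := Nat.dvd_of_mul_dvd_mul_left (by norm_num) h2
    have h7 : Odd e := by
      rcases Nat.even_or_odd e with h8 | h8
      · exfalso
        obtain ⟨c, hc⟩ := h6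
        obtain ⟨e', rfl⟩ := h8
        have : 2 * i + 1 = 2 * (e' * c) := by rw [hc]; ring
        omega
      · exact h8
    obtain ⟨c, hc⟩ := h7
    omega
  · exact h3 (Nat.Coprime.dvd_of_dvd_mul_left (Nat.Coprime.symm (Nat.coprime_two_left.2 ho)) h2)

end arith

/-! ### transport -/

section transport

variable {K : Type u} [Field K] [Finite K] {V : Type v} [AddCommGroup V] [Module K V] [Finite V]
  [FiniteDimensional K V] (F : CForm K V) {k : ℕ}

/-- the form of `not_same_of_linear` for a group isomorphic to the isometry group -/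
theorem not_same_of_linear' {I : Type*} [Group I] (E : I ≃* F.iso) {S : Type w} [Group S] (N : Subgroup I) [N.Normal]
    (hN : commutator I ≤ N) (f : N →* S) (hf : Function.Surjective f) (hZ : f.ker ≤ Subgroup.center N) {l l' : ℕ}
    (hl : l.Prime) (hl' : l'.Prime) (hne : l' ≠ l) (hq : ¬ l' ∣ Nat.card K) (hidx : ¬ l ∣ N.index)
    {c : GL (Fin k) K → ℂ} (hc : CD K k l F.σ c)
    (hsc : ∀ z ∈ f.ker, ∃ a : Kˣ, a ^ ((Nat.card K ^ k - 1) / l) = 1 ∧
      ∀ v, ((E (z : I) : F.iso) : V ≃ₗ[K] V) v = (a : K) • v)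
    {W₀ : Submodule K V} (hW₀ : W₀ ∈ F.Om k) : ¬ Same l l' S := by
  let e : N ≃* N.map E.toMonoidHom := N.equivMapOfInjective E.toMonoidHom E.injective
  have hn : (N.map E.toMonoidHom).Normal := Subgroup.Normal.map inferInstance _ E.surjective
  have he : ∀ n : N, ((e n : N.map E.toMonoidHom) : F.iso) = E n := fun n => rfl
  refine not_same_of_linear F (N.map E.toMonoidHom) ?_ (f.comp e.symm.toMonoidHom) (hf.comp e.symm.surjective) ?_ hl hl'
    hne hq ?_ hc ?_ hW₀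
  · rw [commutator_def, ← Subgroup.map_top_of_surjective E.toMonoidHom E.surjective, ← Subgroup.map_commutator,
      ← commutator_def]
    exact Subgroup.map_mono hN
  · intro z hz
    rw [MonoidHom.mem_ker, MonoidHom.comp_apply] at hz
    have h1 := hZ (MonoidHom.mem_ker.2 hz)
    rw [Subgroup.mem_center_iff] at h1 ⊢
    intro g
    have h2 := h1 (e.symm g)
    apply e.symm.injective
    rw [map_mul, map_mul]
    exact h2
  · rwa [Subgroup.index_map_of_bijective E.bijective]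
  · intro z hz
    rw [MonoidHom.mem_ker, MonoidHom.comp_apply] at hz
    obtain ⟨a, ha, h2⟩ := hsc _ (MonoidHom.mem_ker.2 hz)
    refine ⟨a, ha, fun v => ?_⟩
    rw [← h2 v]
    congr 2
    rw [← he]
    exact (congrArg Subtype.val (e.apply_symm_apply z)).symm

end transport

/-! ### symplectic and orthogonal groups -/

section rows

variable (K : Type u) [Field K] [Finite K]

theorem pow_eq_one_of_sq {a : Kˣ} (ha : a ^ 2 = 1) {k l : ℕ} (hl : l.Prime) (hl2 : l ≠ 2)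
    (hdvd : l ∣ Nat.card K ^ k - 1) : a ^ ((Nat.card K ^ k - 1) / l) = 1 := by
  rw [← orderOf_dvd_iff_pow_eq_one]
  have h1 : orderOf a ∣ 2 := orderOf_dvd_of_pow_eq_one ha
  have h2 : orderOf a ∣ Nat.card K ^ k - 1 := by
    refine (orderOf_dvd_natCard a).trans ?_
    rw [Nat.card_units]
    simpa only [_root_.one_pow] using Nat.sub_dvd_pow_sub_pow (Nat.card K) 1 k
  have h3 : Nat.Coprime (orderOf a) l :=
    Nat.Coprime.coprime_dvd_left h1 ((Nat.coprime_primes Nat.prime_two hl).2 hl2.symm)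
  rw [← Nat.div_mul_cancel hdvd] at h2
  exact h3.dvd_of_dvd_mul_right h2

variable {K}

theorem exists_char_prime : ∃ r : ℕ, r.Prime ∧ CharP K r := by
  obtain ⟨r, hr⟩ := CharP.exists K
  exact ⟨r, (CharP.char_is_prime_or_zero K r).resolve_right (CharP.char_ne_zero_of_finite K r), hr⟩

variable {l l' : ℕ}

/-- the cuspidal data for `k = ord_l(q)` odd -/
theorem exists_cd' (hl : l.Prime) (hl2 : l ≠ 2) (hlK : ¬ l ∣ Nat.card K)
    (hodd : Odd (orderOf ((Nat.card K : ℕ) : ZMod l))) :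
    ∃ c : GL (Fin (orderOf ((Nat.card K : ℕ) : ZMod l))) K → ℂ,
      CD K (orderOf ((Nat.card K : ℕ) : ZMod l)) l (RingHom.id K) c := by
  have h1 : 1 ≤ Nat.card K := Nat.card_pos
  refine exists_cd (orderOf_pos' hl hlK) hl hlK ((pow_sub_one_iff h1 _).2 dvd_rfl) (fun i h0 hi h => ?_)
    (not_dvd_add_one hl hl2 h1 hodd)
  rw [pow_sub_one_iff h1] at h
  exact absurd (Nat.le_of_dvd h0 h) (by omega)

theorem k_dvd (hodd : Odd (orderOf ((Nat.card K : ℕ) : ZMod l))) {i : ℕ} (h : l ∣ Nat.card K ^ (2 * i) - 1) :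
    orderOf ((Nat.card K : ℕ) : ZMod l) ∣ i := by
  rw [pow_sub_one_iff Nat.card_pos] at h
  exact Nat.Coprime.dvd_of_dvd_mul_left (Nat.Coprime.symm (Nat.coprime_two_left.2 hodd)) h

theorem exists_idx_of_prod (hl : l.Prime) {m : ℕ} (h : l ∣ ∏ i ∈ Finset.range m, (Nat.card K ^ (2 * (i + 1)) - 1)) :
    ∃ i, 0 < i ∧ i ≤ m ∧ l ∣ Nat.card K ^ (2 * i) - 1 := by
  obtain ⟨i, hi, h2⟩ := (Prime.dvd_finsetProd_iff hl.prime _).1 h
  rw [Finset.mem_range] at hi
  exact ⟨i + 1, Nat.succ_pos i, hi, h2⟩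

/-- **`PSp_{2m}(q)`, `l` of linear type** -/
theorem psp_lin {m : ℕ} (hl : l.Prime) (hl2 : l ≠ 2) (hl' : l'.Prime) (hne : l' ≠ l) (hlK : ¬ l ∣ Nat.card K)
    (hl'K : ¬ l' ∣ Nat.card K) (hodd : Odd (orderOf ((Nat.card K : ℕ) : ZMod l))) (hd : l ∣ Nat.card (PSp m K)) :
    ¬ Same l l' (PSp m K) := by
  classical
  obtain ⟨r, hr, hrK⟩ := exists_char_prime (K := K)
  have : Fact r.Prime := ⟨hr⟩
  obtain ⟨c, hc⟩ := exists_cd' hl hl2 hlK hodd
  set k := orderOf ((Nat.card K : ℕ) : ZMod l) with hkdef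
  have hkm : k ≤ m := by
    have hd1 : l ∣ Nat.card (Matrix.symplecticGroup (Fin m) K) := hd.trans (Subgroup.card_quotient_dvd_card _)
    rw [Nat.card_congr (isoSp m K).toEquiv, card_spF] at hd1
    obtain ⟨i, h0, hi, h2⟩ := exists_idx_of_prod hl
      ((hl.dvd_mul.1 hd1).resolve_left fun h => hlK (hl.dvd_of_dvd_pow h))
    exact (Nat.le_of_dvd h0 (k_dvd hodd h2)).trans hi
  obtain ⟨n, rfl⟩ := Nat.exists_eq_add_of_le hkm
  obtain ⟨⟨W₀, hW₀⟩, -⟩ := CForm.spF_frame (K := K) (p := r) k n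
  have hdvd : l ∣ Nat.card K ^ k - 1 := (pow_sub_one_iff Nat.card_pos _).2 dvd_rfl
  let f : (⊤ : Subgroup (Matrix.symplecticGroup (Fin (k + n)) K)) →* PSp (k + n) K :=
    (QuotientGroup.mk' (Subgroup.center (Matrix.symplecticGroup (Fin (k + n)) K))).comp (Subgroup.subtype ⊤)
  have hker : ∀ z ∈ f.ker, (z : Matrix.symplecticGroup (Fin (k + n)) K) ∈
      Subgroup.center (Matrix.symplecticGroup (Fin (k + n)) K) := by
    intro z hz
    exact (QuotientGroup.eq_one_iff _).1 (MonoidHom.mem_ker.1 hz)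
  refine not_same_of_linear' (CForm.spF K (k + n)) (isoSp (k + n) K) (S := PSp (k + n) K) ⊤ le_top f ?_ ?_ hl hl' hne hl'K
    ?_ hc ?_ hW₀
  · intro x
    obtain ⟨y, rfl⟩ := QuotientGroup.mk_surjective x
    exact ⟨⟨y, Subgroup.mem_top y⟩, rfl⟩
  · intro z hz
    have h1 := hker z hz
    rw [Subgroup.mem_center_iff] at h1 ⊢
    intro g
    exact Subtype.ext (h1 g)
  · rw [Subgroup.index_top]
    exact fun h => hl.one_lt.ne' (Nat.dvd_one.1 h)
  · intro z hz
    rcases Cfsg.Agent.ClassicalGeometry.SympInvolutions.center_eq (hker z hz) with h | h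
    · refine ⟨1, one_pow _, fun v => ?_⟩
      rw [isoSp_apply, h, Matrix.one_mulVec, Units.val_one, one_smul]
    · refine ⟨-1, pow_eq_one_of_sq K neg_one_sq hl hl2 hdvd, fun v => ?_⟩
      rw [isoSp_apply, h, Matrix.neg_mulVec, Matrix.one_mulVec, Units.val_neg, Units.val_one, neg_one_smul]

/-- orthogonal groups: the general statement -/
theorem om_lin {ι : Type} [Fintype ι] [DecidableEq ι] (F : CForm K (ι → K)) (hσ : F.σ = RingHom.id K)
    (hB : ∀ u v, F.B u v = F.Q (u + v) - F.Q u - F.Q v) {k : ℕ} {W₀ : Submodule K (ι → K)} (hW₀ : W₀ ∈ F.Om k)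
    (hl : l.Prime) (hl2 : l ≠ 2) (hl' : l'.Prime) (hne : l' ≠ l) (hl'K : ¬ l' ∣ Nat.card K)
    (hdvd : l ∣ Nat.card K ^ k - 1) {c : GL (Fin k) K → ℂ} (hc : CD K k l (RingHom.id K) c)
    (hcen : ∀ z : Omega K F.Q, z ∈ Subgroup.center (Omega K F.Q) → omMat z = 1 ∨ omMat z = -1)
    (hidx : (Omega K F.Q).index ∣ 8) : ¬ Same l l' (POmega K F.Q) := by
  refine not_same_of_linear' F (isoQuad F hB) (S := POmega K F.Q) (Omega K F.Q) le_rfl (QuotientGroup.mk' _)
    (QuotientGroup.mk'_surjective _) ?_ hl hl' hne hl'K ?_ (c := c) (by rw [hσ]; exact hc) ?_ hW₀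
  · rw [QuotientGroup.ker_mk']
  · intro h
    have h1 : l ∣ 2 ^ 3 := h.trans hidx
    exact hl2 ((Nat.prime_dvd_prime_iff_eq hl Nat.prime_two).1 (hl.dvd_of_dvd_pow h1))
  · intro z hz
    rw [QuotientGroup.ker_mk'] at hz
    obtain ⟨a, ha, h1⟩ := scal_of (hcen z hz)
    exact ⟨a, pow_eq_one_of_sq K ha hl hl2 hdvd, fun v => h1 v⟩

/-- **`PΩ_{2m+1}(q)`, `l` of linear type** -/
theorem odd_lin {m : ℕ} (ho : Odd (Nat.card K)) (hm : 3 ≤ m) (hl : l.Prime) (hl2 : l ≠ 2) (hl' : l'.Prime)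
    (hne : l' ≠ l) (hlK : ¬ l ∣ Nat.card K)
    (hl'K : ¬ l' ∣ Nat.card K) (hodd : Odd (orderOf ((Nat.card K : ℕ) : ZMod l)))
    (hd : l ∣ Nat.card (POmega K (quadFormOdd m K))) : ¬ Same l l' (POmega K (quadFormOdd m K)) := by
  classical
  obtain ⟨r, hr, hrK⟩ := exists_char_prime (K := K)
  have : Fact r.Prime := ⟨hr⟩
  have h2 := two_ne_zero_of_odd (K := K) (p := r) ho
  obtain ⟨c, hc⟩ := exists_cd' hl hl2 hlK hodd
  set k := orderOf ((Nat.card K : ℕ) : ZMod l) with hkdef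
  have hkm : k ≤ m := by
    have hd1 : l ∣ Nat.card (isometryGroup K (quadFormOdd m K)) :=
      hd.trans ((Subgroup.card_quotient_dvd_card _).trans (Subgroup.card_subgroup_dvd_card _))
    have hd2 : l ∣ Nat.card (CForm.oddF K m h2).iso := by
      rwa [← Nat.card_congr (isoQuad (CForm.oddF K m h2) (odd_hB K m h2)).toEquiv]
    rw [card_oddF K h2 ho] at hd2
    have h3 : l ∣ ∏ i ∈ Finset.range m, (Nat.card K ^ (2 * (i + 1)) - 1) := by
      rcases hl.dvd_mul.1 hd2 with h | h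
      · rcases hl.dvd_mul.1 h with h' | h'
        · exact absurd ((Nat.prime_dvd_prime_iff_eq hl Nat.prime_two).1 h') hl2
        · exact absurd (hl.dvd_of_dvd_pow h') hlK
      · exact h
    obtain ⟨i, h0, hi, h4⟩ := exists_idx_of_prod hl h3
    exact (Nat.le_of_dvd h0 (k_dvd hodd h4)).trans hi
  obtain ⟨n, rfl⟩ := Nat.exists_eq_add_of_le hkm
  obtain ⟨⟨W₀, hW₀⟩, -⟩ := CForm.oddF_frame (K := K) (p := r) h2 k n
  refine (om_lin (CForm.oddF K (k + n) h2) rfl (odd_hB K (k + n) h2) hW₀ hl hl2 hl' hne hl'K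
    ((pow_sub_one_iff Nat.card_pos _).2 dvd_rfl) hc (fun z hz => cen_odd K h2 (by omega) z hz) ?_ :)
  have := (odd_idx K (p := r) ho hm).1
  change (Omega K (quadFormOdd (k + n) K)).index ∣ 8
  rw [this]
  norm_num

/-- **`PΩ⁺_{2m}(q)`, `l` of linear type** -/
theorem plus_lin {m : ℕ} (hm : 4 ≤ m) (hl : l.Prime) (hl2 : l ≠ 2) (hl' : l'.Prime)
    (hne : l' ≠ l) (hlK : ¬ l ∣ Nat.card K)
    (hl'K : ¬ l' ∣ Nat.card K) (hodd : Odd (orderOf ((Nat.card K : ℕ) : ZMod l)))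
    (hd : l ∣ Nat.card (POmega K (quadFormPlus m K))) : ¬ Same l l' (POmega K (quadFormPlus m K)) := by
  classical
  obtain ⟨r, hr, hrK⟩ := exists_char_prime (K := K)
  have : Fact r.Prime := ⟨hr⟩
  obtain ⟨c, hc⟩ := exists_cd' hl hl2 hlK hodd
  set k := orderOf ((Nat.card K : ℕ) : ZMod l) with hkdef
  have hkm : k ≤ m := by
    have hd1 : l ∣ Nat.card (isometryGroup K (quadFormPlus m K)) :=
      hd.trans ((Subgroup.card_quotient_dvd_card _).trans (Subgroup.card_subgroup_dvd_card _))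
    have hd2 : l ∣ Nat.card (CForm.plusF K m).iso := by
      rwa [← Nat.card_congr (isoQuad (CForm.plusF K m) (plus_hB K m)).toEquiv]
    rw [card_plusF K (by omega)] at hd2
    rcases hl.dvd_mul.1 hd2 with h | h
    · rcases hl.dvd_mul.1 h with h' | h'
      · rcases hl.dvd_mul.1 h' with h'' | h''
        · exact absurd ((Nat.prime_dvd_prime_iff_eq hl Nat.prime_two).1 h'') hl2
        · exact absurd (hl.dvd_of_dvd_pow h'') hlK
      · rw [pow_sub_one_iff Nat.card_pos] at h'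
        exact Nat.le_of_dvd (by omega) h'
    · obtain ⟨i, h0, hi, h4⟩ := exists_idx_of_prod hl h
      have := Nat.le_of_dvd h0 (k_dvd hodd h4)
      omega
  obtain ⟨n, rfl⟩ := Nat.exists_eq_add_of_le hkm
  obtain ⟨⟨W₀, hW₀⟩, -⟩ := CForm.plusF_frame (K := K) (p := r) k n
  exact om_lin (CForm.plusF K (k + n)) rfl (plus_hB K (k + n)) hW₀ hl hl2 hl' hne hl'K
    ((pow_sub_one_iff Nat.card_pos _).2 dvd_rfl) hc (fun z hz => cen_plus K (by omega) z hz) (plus_idx K hm)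

/-- **`PΩ⁻_{2m+2}(q)`, `l` of linear type** -/
theorem minus_lin {m : ℕ} (hm : 3 ≤ m) {a b : K}
    (hab : ∀ z₁ z₂ : K, z₁ ^ 2 + a * z₁ * z₂ + b * z₂ ^ 2 = 0 → z₁ = 0 ∧ z₂ = 0) (hl : l.Prime) (hl2 : l ≠ 2)
    (hl' : l'.Prime) (hne : l' ≠ l) (hlK : ¬ l ∣ Nat.card K)
    (hl'K : ¬ l' ∣ Nat.card K) (hodd : Odd (orderOf ((Nat.card K : ℕ) : ZMod l)))
    (hd : l ∣ Nat.card (POmega K (quadFormMinus m K a b))) : ¬ Same l l' (POmega K (quadFormMinus m K a b)) := by
  classical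
  obtain ⟨r, hr, hrK⟩ := exists_char_prime (K := K)
  have : Fact r.Prime := ⟨hr⟩
  obtain ⟨c, hc⟩ := exists_cd' hl hl2 hlK hodd
  have hneg := not_dvd_add_one hl hl2 (Nat.card_pos (α := K)) hodd
  set k := orderOf ((Nat.card K : ℕ) : ZMod l) with hkdef
  have hkm : k ≤ m := by
    have hd1 : l ∣ Nat.card (isometryGroup K (quadFormMinus m K a b)) :=
      hd.trans ((Subgroup.card_quotient_dvd_card _).trans (Subgroup.card_subgroup_dvd_card _))
    have hd2 : l ∣ Nat.card (CForm.minusF K m a b hab).iso := by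
      rwa [← Nat.card_congr (isoQuad (CForm.minusF K m a b hab) (minus_hB K m a b hab)).toEquiv]
    rw [card_minusF K] at hd2
    rcases hl.dvd_mul.1 hd2 with h | h
    · rcases hl.dvd_mul.1 h with h' | h'
      · rcases hl.dvd_mul.1 h' with h'' | h''
        · exact absurd ((Nat.prime_dvd_prime_iff_eq hl Nat.prime_two).1 h'') hl2
        · exact absurd (hl.dvd_of_dvd_pow h'') hlK
      · exact absurd h' (hneg _)
    · obtain ⟨i, h0, hi, h4⟩ := exists_idx_of_prod hl h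
      exact (Nat.le_of_dvd h0 (k_dvd hodd h4)).trans hi
  obtain ⟨n, rfl⟩ := Nat.exists_eq_add_of_le hkm
  obtain ⟨⟨W₀, hW₀⟩, -⟩ := CForm.minusF_frame (K := K) (p := r) hab k n
  exact (om_lin (CForm.minusF K (k + n) a b hab) rfl (minus_hB K (k + n) a b hab) hW₀ hl hl2 hl' hne hl'K
    ((pow_sub_one_iff Nat.card_pos _).2 dvd_rfl) hc (fun z hz => cen_minus K (by omega) a b hab z hz)
    (minus_idx K a b hab hm) :)

end rows

/-! ### unitary groups -/

section unitary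

variable {K : Type u} [Field K] [Fintype K] {l l' q : ℕ}

/-- the isomorphism of `SU` with the special isometry group -/
noncomputable def suE (hq : Nat.card K = q ^ 2) (n : ℕ) : SU n K q ≃* H328.Gow.sg (CForm.hermF K hq n) :=
  MulEquiv.ofBijective (H328.Gow.suHom hq n) ⟨fun a b h => by
    apply Subtype.ext
    apply Subtype.ext
    have h1 : isoGU hq n _ = isoGU hq n _ := congrArg Subtype.val h
    have h2 := congrArg Subtype.val ((isoGU hq n).injective h1)
    exact congrArg Units.val h2, H328.Gow.suHom_surjective hq n⟩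

/-- **`PSU_n(q)`, `l` of linear type** -/
theorem psu_lin {n : ℕ} (hF : Fintype.card K = q ^ 2) (hn : 3 ≤ n) (hl : l.Prime) (hl2 : l ≠ 2)
    (hl' : l'.Prime) (hne : l' ≠ l) (hlq : ¬ l ∣ q) (hl'q : ¬ l' ∣ q)
    (h4 : orderOf ((q : ℕ) : ZMod l) % 4 ≠ 2) (hd : l ∣ Nat.card (PSU n K q)) : ¬ Same l l' (PSU n K q) := by
  classical
  have hq : Nat.card K = q ^ 2 := by rw [Nat.card_eq_fintype_card, hF]
  obtain ⟨r, hr, hrK⟩ := exists_char_prime (K := K)
  have : Fact r.Prime := ⟨hr⟩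
  have hq2 := CForm.two_le_of_card hq
  have hq1 : 1 ≤ q := by omega
  have hneg := not_dvd_odd_add_one hl hl2 hq1 h4
  have hlK : ¬ l ∣ Nat.card K := fun h => hlq (hl.dvd_of_dvd_pow (hq ▸ h))
  have hl'K : ¬ l' ∣ Nat.card K := fun h => hl'q (hl'.dvd_of_dvd_pow (hq ▸ h))
  have hK1 : 1 ≤ Nat.card K := Nat.card_pos
  obtain ⟨k, hk0, hk⟩ : ∃ k, 0 < k ∧ ∀ i, l ∣ Nat.card K ^ i - 1 ↔ k ∣ i :=
    ⟨_, orderOf_pos' hl hlK, fun i => pow_sub_one_iff hK1 i⟩
  obtain ⟨c, hc⟩ := exists_cdU (K := K) hq hk0 hl hlK ((hk k).2 dvd_rfl) (fun i h0 hi h =>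
    absurd (Nat.le_of_dvd h0 ((hk i).1 h)) (by omega)) (fun i => by rw [hq]; exact hneg i)
  have hl1 : ¬ l ∣ q + 1 := fun h => hneg 0 (by rw [pow_zero, mul_one]; exact h)
  have hkn : 2 * k ≤ n := by
    have hd1 : l ∣ Nat.card (SU n K q) := hd.trans (Subgroup.card_quotient_dvd_card _)
    have hd2 : l ∣ Nat.card (CForm.hermF K hq n).iso := by
      rw [Nat.card_congr (suE hq n).toEquiv] at hd1
      exact hd1.trans (Subgroup.card_subgroup_dvd_card _)
    rw [H113.PSU.Levi.card_iso hq n] at hd2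
    have h3 := (hl.dvd_mul.1 hd2).resolve_left fun h => hlq (hl.dvd_of_dvd_pow h)
    obtain ⟨i, hi, h5⟩ := (Prime.dvd_finsetProd_iff hl.prime _).1 h3
    rw [Finset.mem_range] at hi
    unfold H113.PSU.Levi.uu at h5
    split_ifs at h5 with he
    · obtain ⟨j, hj⟩ := he
      have h6 : i + 1 = 2 * j := by omega
      rw [h6, pow_mul, ← hq, hk] at h5
      have := Nat.le_of_dvd (by omega) h5
      omega
    · rw [Nat.not_even_iff_odd] at he
      obtain ⟨j, hj⟩ := he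
      exfalso
      apply hneg j
      rw [← pow_mul, ← pow_succ', ← hj]
      exact h5
  obtain ⟨m, rfl⟩ : ∃ m, n = k + (k + m) := ⟨n - 2 * k, by omega⟩
  obtain ⟨⟨W₀, hW₀⟩, -⟩ := CForm.hermF_frame (K := K) (p := r) hq k m
  let F := CForm.hermF K hq (k + (k + m))
  let e := suE (K := K) hq (k + (k + m))
  let f : H328.Gow.sg F →* PSU (k + (k + m)) K q :=
    (QuotientGroup.mk' (Subgroup.center (SU (k + (k + m)) K q))).comp e.symm.toMonoidHom
  have hsgn : (H328.Gow.sg F).Normal := MonoidHom.normal_ker _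
  have hker : ∀ z ∈ f.ker, e.symm z ∈ Subgroup.center (SU (k + (k + m)) K q) := by
    intro z hz
    exact (QuotientGroup.eq_one_iff _).1 (MonoidHom.mem_ker.1 hz)
  have hfin : Finite F.iso := finite_iso' F
  refine not_same_of_linear F (H328.Gow.sg F) ?_ f ?_ ?_ hl hl' hne hl'K ?_ hc ?_ hW₀
  · exact Abelianization.commutator_subset_ker _
  · exact (QuotientGroup.mk'_surjective _).comp e.symm.surjective
  · intro z hz
    have h1 := hker z hz
    rw [Subgroup.mem_center_iff] at h1 ⊢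
    intro g
    apply e.symm.injective
    rw [map_mul, map_mul]
    exact h1 _
  · intro h
    have : Fact l.Prime := ⟨hl⟩
    obtain ⟨x, hx⟩ := exists_prime_orderOf_dvd_card' (G := F.iso ⧸ H328.Gow.sg F) l h
    obtain ⟨g, rfl⟩ := QuotientGroup.mk_surjective x
    have h5 : ((g : F.iso ⧸ H328.Gow.sg F)) ^ (q + 1) = 1 := by
      rw [← QuotientGroup.mk_pow, QuotientGroup.eq_one_iff, H328.Gow.mem_sg]
      obtain ⟨A, rfl⟩ := (isoGU hq (k + (k + m))).surjective g
      rw [← map_pow, H328.Gow.det_isoGU]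
      have h6 := Cfsg.Agent.ClassicalGeometry.GUBasic.det_pow hF fun u v => A.2 u v
      rw [Subgroup.coe_pow, Units.val_pow_eq_pow_val, Matrix.det_pow]
      exact h6
    have h6 := orderOf_dvd_of_pow_eq_one h5
    rw [hx] at h6
    exact hl1 h6
  · intro z hz
    obtain ⟨a, han, haq, h5⟩ := (Cfsg.Agent.LieClassical.SUBasic.mem_center_SU_iff hF
      hn _).1 (hker z hz)
    have ha0 : a ≠ 0 := by
      rintro rfl
      rw [zero_pow (Nat.succ_ne_zero q)] at haq
      exact zero_ne_one haq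
    refine ⟨Units.mk0 a ha0, ?_, fun v => ?_⟩
    · rw [← orderOf_dvd_iff_pow_eq_one]
      have h7 : orderOf (Units.mk0 a ha0) ∣ q + 1 := orderOf_dvd_of_pow_eq_one (Units.ext haq)
      have h8 : q + 1 ∣ Nat.card K ^ k - 1 := by
        have h10 : Nat.card K - 1 ∣ Nat.card K ^ k - 1 := by
          have := Nat.sub_dvd_pow_sub_pow (Nat.card K) 1 k
          rwa [one_pow] at this
        refine Dvd.dvd.trans ?_ h10
        have h11 : q ^ 2 - 1 ^ 2 = (q + 1) * (q - 1) := Nat.sq_sub_sq q 1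
        rw [one_pow] at h11
        rw [hq, h11]
        exact dvd_mul_right _ _
      have h9 := h7.trans h8
      rw [← Nat.div_mul_cancel ((hk k).2 dvd_rfl)] at h9
      refine Nat.Coprime.dvd_of_dvd_mul_right ?_ h9
      exact Nat.Coprime.coprime_dvd_left h7 (Nat.Coprime.symm ((Nat.Prime.coprime_iff_not_dvd hl).2 hl1))
    · have h7 : z = e (e.symm z) := (e.apply_symm_apply z).symm
      rw [h7]
      change (((e.symm z : SU (k + (k + m)) K q) : Matrix.SpecialLinearGroup (Fin (k + (k + m))) K) :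
        Matrix _ _ K).mulVec v = a • v
      rw [h5]
      change (Matrix.diagonal (fun _ => a)).mulVec v = a • v
      ext i
      rw [Matrix.mulVec_diagonal, Pi.smul_apply, smul_eq_mul]

end unitary

end Cfsg.Agent.H61.PQ
end

-- part: H61/PQ/Cd2
section
prune_inst 0x2000400880000000000000000020000000000000000000000000000000000000000001000000001000000000000000001000000000000000000000000000000000040000000008000000000000000000000000000000000000000000000000000000000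
set_option linter.all false
open scoped Cfsg.Agent.FastGrp

-- part: H61/PQ/TwoTwist
section
/-!
# Twisted Harish-Chandra induced characters and principal blocks, the precise form (helper61, S4612)

* `exists_of_twist'` : `λ · R(c × 1)` in the principal `p`-block: then `f c` is in the principal `p`-block of `GL_k`
  for a linear character `f` of `GL_k` invariant under `A ↦ σ(A)⁻ᵀ`;
* `not_same_of_two'` : the general theorem for the pair `{2, l'}`.
-/

set_option autoImplicit false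
set_option linter.unusedSectionVars false

open Cfsg
open scoped ComplexConjugate

namespace Cfsg.Agent.H61.PQ

open Cfsg.Agent.H53.HC Module Cfsg.Agent.H317.PQ Cfsg.Agent.Characters
open Cfsg.Agent.H477.HC

universe u v w

variable {K : Type u} [Field K] [Finite K] {V : Type v} [AddCommGroup V] [Module K V] [Finite V]
  [FiniteDimensional K V] (F : CForm K V) {k : ℕ}

/-- conjugation of `TT W` -/
theorem TT_conj {W : Submodule K V} {x g : F.iso} (hg : g ∈ F.TT W) :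
    x * g * x⁻¹ ∈ F.TT (W.map (F.iso.subtype x : V →ₗ[K] V)) := by
  have hxx : ∀ v, (x : V ≃ₗ[K] V) (((x⁻¹ : F.iso) : V ≃ₗ[K] V) v) = v := (x : V ≃ₗ[K] V).apply_symm_apply
  have hxx' : ∀ v, ((x⁻¹ : F.iso) : V ≃ₗ[K] V) ((x : V ≃ₗ[K] V) v) = v := (x : V ≃ₗ[K] V).symm_apply_apply
  have hval : ∀ v, ((x * g * x⁻¹ : F.iso) : V ≃ₗ[K] V) v =
      (x : V ≃ₗ[K] V) ((g : V ≃ₗ[K] V) (((x⁻¹ : F.iso) : V ≃ₗ[K] V) v)) := fun v => rfl
  refine ⟨map_eq_of_le F.iso.subtype ?_, fun v hv => ?_⟩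
  · rintro _ ⟨w, hw, rfl⟩
    have h1 : (g : V ≃ₗ[K] V) w ∈ W := by
      rw [← hg.1]
      exact ⟨w, hw, rfl⟩
    show ((x * g * x⁻¹ : F.iso) : V ≃ₗ[K] V) ((x : V ≃ₗ[K] V) w) ∈ _
    rw [hval, hxx']
    exact ⟨_, h1, rfl⟩
  · have h1 : ((x⁻¹ : F.iso) : V ≃ₗ[K] V) v ∈ F.perp W := by
      intro w hw
      have h2 : F.B (((x⁻¹ : F.iso) : V ≃ₗ[K] V) v) w = F.B v ((x : V ≃ₗ[K] V) w) := by
        rw [← F.iso_B x, hxx]
      rw [h2]
      exact hv _ ⟨w, hw, rfl⟩
    have h2 := hg.2 _ h1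
    have h3 : ((x * g * x⁻¹ : F.iso) : V ≃ₗ[K] V) v - v =
        (x : V ≃ₗ[K] V) ((g : V ≃ₗ[K] V) (((x⁻¹ : F.iso) : V ≃ₗ[K] V) v) - ((x⁻¹ : F.iso) : V ≃ₗ[K] V) v) := by
      rw [map_sub, hxx, hval]
    rw [h3]
    exact ⟨_, h2, rfl⟩

/-- the twisted Harish-Chandra induced character in the principal block -/
theorem exists_of_twist' [Fintype (F.Om k)] {p : ℕ} (hp : p.Prime) (hpK : ¬ p ∣ Nat.card K)
    (lam : F.iso →* ℂˣ) {c : GL (Fin k) K → ℂ} (hc : IsIrrCharacter _ c) {W₀ : Submodule K V} (hW₀ : W₀ ∈ F.Om k)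
    (χ : IrrCharacter F.iso) (hχ : ∀ g, (χ : F.iso → ℂ) g = (lam g : ℂ) * F.hc c (fun _ _ => 1) g)
    (h : χ ∈ B0 p F.iso) :
    ∃ f : GL (Fin k) K →* ℂˣ, (∀ A, f (F.iota k A) = f A) ∧
      ∃ η : IrrCharacter (GL (Fin k) K), η ∈ B0 p (GL (Fin k) K) ∧ ∀ g, (η : GL (Fin k) K → ℂ) g = f g * c g := by
  classical
  obtain ⟨r, hr⟩ := CharP.exists K
  have hrp : r.Prime := (CharP.char_is_prime_or_zero K r).resolve_right (CharP.char_ne_zero_of_finite K r)
  have : Fact r.Prime := ⟨hrp⟩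
  have hcl := Core.isIrr_isClassFunction hc
  obtain ⟨f, hf1, hf, hft⟩ := exists_fP F hW₀
  have hsurj : Function.Surjective f := fun A => by
    obtain ⟨g, -, hg⟩ := hf A
    exact ⟨g, hg⟩
  -- the character of the parabolic subgroup
  let P := stabW F.iso.subtype W₀
  have hξirr : IsIrrCharacter P (fun g => (lam g : ℂ) * c (f g)) :=
    OddOrderCharacters.InertiaAbelian.isIrr_mul_hom (lam.comp P.subtype) (Core.isIrr_comp f hsurj hc)
  let ξ : IrrCharacter P := ⟨_, hξirr⟩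
  have hξ : ξ ∈ B0 p P := by
    rw [mem_B0_iff_sreg hp] at h ⊢
    have h1 := sreg_hc F p lam hcl hW₀
    have h2 : (χ : F.iso → ℂ) = fun g => (lam g : ℂ) * F.hc c (fun _ _ => 1) g := funext hχ
    have h3 : (ξ : P → ℂ) = fun g : P => (lam g : ℂ) * flagTerm F.iso.subtype c g W₀ := by
      funext g
      rw [hft c hcl g]
    rw [← h2, ← h3] at h1
    intro h0
    rw [h0, mul_zero] at h1
    exact h h1
  -- the normal subgroup
  let M : Subgroup P := (F.TT W₀).comap P.subtype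
  have hMn : M.Normal := ⟨fun g hg x => TT_normal F x.2 hg⟩
  let fM : M →* GL (Fin k) K := f.comp M.subtype
  have hfM : Function.Surjective fM := by
    intro A
    obtain ⟨g, hg1, hg2⟩ := hf A
    exact ⟨⟨g, hg1⟩, hg2⟩
  have hξMirr : IsIrrCharacter M (fun g => (lam (g : P) : ℂ) * c (fM g)) :=
    OddOrderCharacters.InertiaAbelian.isIrr_mul_hom ((lam.comp P.subtype).comp M.subtype) (Core.isIrr_comp fM hfM hc)
  let ξM : IrrCharacter M := ⟨_, hξMirr⟩
  have := Fintype.ofFinite M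
  have hξM : ξM ∈ B0 p M := by
    rw [H451.PQ.mem_B0_normal hp M ξM]
    refine ⟨ξ, hξ, ?_⟩
    have h1 : (fun n : M => (ξ : P → ℂ) n) = (ξM : M → ℂ) := rfl
    rw [h1, Core.classInner_irr_self ξM.2]
    exact one_ne_zero
  -- the kernel
  have hker : ∀ u : M, fM u = 1 → ((u : P) : F.iso) ^ r ^ 2 = 1 := by
    intro u hu
    exact pow_eq_one_of_uni F u.2 ((hf1 _).1 hu)
  have hkc : ¬ p ∣ Nat.card fM.ker := by
    intro hd
    have : Fact p.Prime := ⟨hp⟩
    obtain ⟨u, hu⟩ := exists_prime_orderOf_dvd_card' p hd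
    have h1 : (((u : M) : P) : F.iso) ^ r ^ 2 = 1 := hker _ (MonoidHom.mem_ker.1 u.2)
    have h2 : u ^ r ^ 2 = 1 := by
      apply Subtype.ext
      apply Subtype.ext
      apply Subtype.ext
      exact h1
    have h3 : p ∣ r ^ 2 := hu ▸ orderOf_dvd_of_pow_eq_one h2
    have h4 : p = r := (Nat.prime_dvd_prime_iff_eq hp hrp).1 (hp.dvd_of_dvd_pow h3)
    apply hpK
    rw [h4]
    have := Fintype.ofFinite K
    rw [Nat.card_eq_fintype_card]
    obtain ⟨n, -, hn⟩ := FiniteField.card K r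
    rw [hn]
    exact dvd_pow_self r n.ne_zero
  -- `lam` is trivial on the kernel
  have hlk : ∀ u : M, fM u = 1 → lam (u : P) = 1 := by
    have := Fintype.ofFinite fM.ker
    let lk : fM.ker →* ℂˣ := ((lam.comp P.subtype).comp M.subtype).comp fM.ker.subtype
    have hirr : IsIrrCharacter fM.ker (fun u => (lk u : ℂ) * (1 : fM.ker → ℂ) u) :=
      OddOrderCharacters.InertiaAbelian.isIrr_mul_hom lk Core.isIrr_one
    let θ : IrrCharacter fM.ker := ⟨_, hirr⟩
    have h1 : θ ∈ B0 p fM.ker := by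
      rw [H451.PQ.mem_B0_normal hp fM.ker θ]
      refine ⟨ξM, hξM, ?_⟩
      have h2 : (fun n : fM.ker => (ξM : M → ℂ) n) = c 1 • (θ : fM.ker → ℂ) := by
        funext n
        simp only [Pi.smul_apply, smul_eq_mul]
        show (lam ((n : M) : P) : ℂ) * c (fM n) = c 1 * ((lk n : ℂ) * (1 : fM.ker → ℂ) n)
        exact (congrArg (fun t => (lam ((n : M) : P) : ℂ) * c t) (MonoidHom.mem_ker.1 n.2)).trans
          ((mul_comm _ _).trans (congrArg _ (mul_one _).symm))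
      simp only [h2, Core.classInner_smul_left, Core.classInner_irr_self θ.2, mul_one]
      exact Core.isIrr_apply_one_ne_zero hc
    simp only [(H451.PQ.B0_eq_triv_iff hp).2 hkc, Set.mem_singleton_iff] at h1
    intro u hu
    have h2 := congrFun (congrArg Subtype.val h1) ⟨u, MonoidHom.mem_ker.2 hu⟩
    have h3 : ((lam (u : P) : ℂˣ) : ℂ) * 1 = 1 := h2
    rw [mul_one] at h3
    exact Units.ext h3
  -- deflation
  obtain ⟨η', hη', hη2⟩ := H658.Reg.exists_defl fM hfM ξM.2 (fun u hu => by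
    show (lam (u : P) : ℂ) * c (fM u) = (lam ((1 : M) : P) : ℂ) * c (fM 1)
    simp only [hlk u hu, hu, hlk 1 (map_one fM), map_one])
  let η : IrrCharacter (GL (Fin k) K) := ⟨η', hη'⟩
  have hηB : η ∈ B0 p (GL (Fin k) K) := mem_B0_of_infl hp fM hfM hkc (ψ := ξM) (funext hη2) hξM
  -- the linear character of `GL_k`
  let lamM : M →* ℂˣ := (lam.comp P.subtype).comp M.subtype
  have hkf : fM.ker ≤ lamM.ker := fun u hu => MonoidHom.mem_ker.2 (hlk u (MonoidHom.mem_ker.1 hu))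
  let f' : GL (Fin k) K →* ℂˣ :=
    fM.liftOfRightInverse (Function.surjInv hfM) (Function.rightInverse_surjInv hfM) ⟨lamM, hkf⟩
  have hf' : ∀ u : M, f' (fM u) = lam (u : P) := fun u =>
    fM.liftOfRightInverse_comp_apply _ (Function.rightInverse_surjInv hfM) ⟨lamM, hkf⟩ u
  refine ⟨f', fun A => ?_, η, hηB, fun A => ?_⟩
  · obtain ⟨W₁, hW₁, hopp⟩ := F.exists_opp hW₀
    have h0' := CForm.opp_symm hW₀.2 hW₁.2 hopp
    obtain ⟨b, b', hb⟩ := CForm.exists_dual_basis hW₀.2 hW₁.2 hopp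
    obtain ⟨x, hx⟩ := F.trans_Om hW₁ hW₀
    obtain ⟨a, rfl⟩ := (glE b).surjective A
    obtain ⟨g, hg1, -, -, hg2⟩ := F.exists_levi hW₀.1 hW₁.1
      (fun w hw hw' => by
        have : w ∈ W₀ ⊓ F.perp W₁ := ⟨hw, hw'⟩
        rw [hopp] at this
        exact (Submodule.mem_bot K).1 this)
      (fun w hw hw' => by
        have : w ∈ W₁ ⊓ F.perp W₀ := ⟨hw, fun w' hw'' => F.B_eq_zero (hw' w' hw'')⟩
        rw [h0'] at this
        exact (Submodule.mem_bot K).1 this) a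
    let C : GL (Fin k) K → ℂ := fun B => (f' B : ℂ)
    have hC : IsClassFunction _ C := by
      intro B D
      show ((f' _ : ℂˣ) : ℂ) = ((f' _ : ℂˣ) : ℂ)
      congr 1
      rw [map_mul, map_mul, map_inv, mul_comm (f' D) _, mul_inv_cancel_right]
    have e1 : flagTerm F.iso.subtype C g W₀ = (lam g : ℂ) := by
      have h1 := hft C hC ⟨g, hg2.1.1⟩
      change flagTerm F.iso.subtype C g W₀ = _ at h1
      rw [h1]
      show ((f' (fM ⟨⟨g, hg2.1.1⟩, hg2.1⟩) : ℂˣ) : ℂ) = _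
      rw [hf']
    have hres : res (F.iso.subtype g) W₀ hg2.1.1 = a := by
      ext w
      exact hg1 w
    have e2 : flagTerm F.iso.subtype C g W₀ = (f' (glE b a) : ℂ) := by
      rw [flagTerm_of F.iso.subtype C hg2.1.1, cl_eq hC b, hres]
    have e3 : flagTerm F.iso.subtype C g W₁ = (f' (F.iota k (glE b a)) : ℂ) := by
      rw [flagTerm_of F.iso.subtype C hg2.2.1, cl_eq hC b', CForm.glE_opp hb hg2.1.1 hg2.2.1, hres]
    have hconj : x * g * x⁻¹ ∈ F.TT W₀ := by
      have := TT_conj F (x := x) hg2.2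
      rwa [hx] at this
    have e4 : flagTerm F.iso.subtype C (x * g * x⁻¹) W₀ = (lam (x * g * x⁻¹) : ℂ) := by
      have h1 := hft C hC ⟨x * g * x⁻¹, hconj.1⟩
      change flagTerm F.iso.subtype C (x * g * x⁻¹) W₀ = _ at h1
      rw [h1]
      show ((f' (fM ⟨⟨x * g * x⁻¹, hconj.1⟩, hconj⟩) : ℂˣ) : ℂ) = _
      rw [hf']
    have e5 : flagTerm F.iso.subtype C (x * g * x⁻¹) W₀ = flagTerm F.iso.subtype C g W₁ := by
      rw [← flagTerm_conj F.iso.subtype hC x g W₁, hx]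
    have e6 : lam (x * g * x⁻¹) = lam g := by
      rw [map_mul, map_mul, map_inv, mul_comm (lam x) _, mul_inv_cancel_right]
    apply Units.ext
    rw [← e3, ← e5, e4, e6, ← e1, e2]
  · obtain ⟨u, rfl⟩ := hfM A
    simp only [hf']
    show η' (fM u) = _
    rw [← hη2]

/-- the cuspidal data for the prime `2` -/
structure CD2 (K : Type u) [Field K] (k : ℕ) (σ : K →+* K) (Z : Kˣ → Prop) (c : GL (Fin k) K → ℂ) : Prop where
  cus : Cus K k σ Z c
  mem : ∀ hirr : IsIrrCharacter _ c, (⟨c, hirr⟩ : IrrCharacter (GL (Fin k) K)) ∈ B0 2 (GL (Fin k) K)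
  not_mem : ∀ {l' : ℕ}, l'.Prime → l' ≠ 2 → ¬ l' ∣ Nat.card K → ∀ f : GL (Fin k) K →* ℂˣ,
    (∀ A, f (((Matrix.GeneralLinearGroup.map σ).comp (invT k)) A) = f A) → ∀ ψ : IrrCharacter (GL (Fin k) K),
    (∀ g, (ψ : GL (Fin k) K → ℂ) g = f g * c g) → ψ ∉ B0 l' (GL (Fin k) K)

/-- **The pair `{2, l'}`.** -/
theorem not_same_of_two {S : Type w} [Group S] (N : Subgroup F.iso) [N.Normal] (hN : commutator F.iso ≤ N)
    (f : N →* S) (hf : Function.Surjective f) (hZ : f.ker ≤ Subgroup.center N) {l' : ℕ}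
    (hl' : l'.Prime) (hne : l' ≠ 2) (hq : ¬ l' ∣ Nat.card K) {Z : Kˣ → Prop} {c : GL (Fin k) K → ℂ}
    (hc : CD2 K k F.σ Z c)
    (hsc : ∀ z ∈ f.ker, ∃ a : Kˣ, Z a ∧ ∀ v, ((z : F.iso) : V ≃ₗ[K] V) v = (a : K) • v)
    {W₀ : Submodule K V} (hW₀ : W₀ ∈ F.Om k) : ¬ Same 2 l' S := by
  classical
  intro hS
  have : Finite (F.Om k) := by
    have : Finite (Submodule K V) := Finite.of_injective (fun W : Submodule K V => (W : Set V)) SetLike.coe_injective
    infer_instance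
  have := Fintype.ofFinite (F.Om k)
  have := Fintype.ofFinite F.iso
  have hcl := Core.isIrr_isClassFunction hc.cus.irr
  have hirr := F.isIrr_hc_one hc.cus.irr hc.cus.cusp hc.cus.dual hW₀
  let χ : IrrCharacter F.iso := ⟨_, hirr⟩
  have hχ : χ ∈ B0 2 F.iso := hc_mem F Nat.prime_two (hc.mem hc.cus.irr) hW₀ χ rfl
  obtain ⟨lam, hlam, ξ, hξ, hξ2⟩ := Same.twist hl' Nat.prime_two hS.symm N hN f hf hZ hχ (fun z hz n => by
    obtain ⟨a, ha, hza⟩ := hsc z hz
    have h1 : (χ : F.iso → ℂ) z = (χ : F.iso → ℂ) 1 :=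
      F.hc_scalar hcl (fun _ _ => 1) hza (hc.cus.scal a ha) (fun _ _ => rfl)
    have h2 : (z : F.iso) * (n : F.iso) = (n : F.iso) * z := by
      have h3 := Subgroup.mem_center_iff.1 (hZ hz) n
      exact (congrArg Subtype.val h3).symm
    rw [h2]
    exact Cfsg.Agent.H477.HC.kernel_mul (Core.isIrr_isCharacter hirr) h1 n)
  obtain ⟨f', hf', η, hη, hη2⟩ := exists_of_twist' F hl' hq lam hc.cus.irr hW₀ ξ hξ2 hξ
  exact hc.not_mem hl' hne hq f' hf' η hη2 hη

/-- the form of `not_same_of_two` for a group isomorphic to the isometry group -/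
theorem not_same_of_two' {I : Type*} [Group I] (E : I ≃* F.iso) {S : Type w} [Group S] (N : Subgroup I) [N.Normal]
    (hN : commutator I ≤ N) (f : N →* S) (hf : Function.Surjective f) (hZ : f.ker ≤ Subgroup.center N) {l' : ℕ}
    (hl' : l'.Prime) (hne : l' ≠ 2) (hq : ¬ l' ∣ Nat.card K) {Z : Kˣ → Prop}
    {c : GL (Fin k) K → ℂ} (hc : CD2 K k F.σ Z c)
    (hsc : ∀ z ∈ f.ker, ∃ a : Kˣ, Z a ∧ ∀ v, ((E (z : I) : F.iso) : V ≃ₗ[K] V) v = (a : K) • v)
    {W₀ : Submodule K V} (hW₀ : W₀ ∈ F.Om k) : ¬ Same 2 l' S := by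
  let e : N ≃* N.map E.toMonoidHom := N.equivMapOfInjective E.toMonoidHom E.injective
  have hn : (N.map E.toMonoidHom).Normal := Subgroup.Normal.map inferInstance _ E.surjective
  have he : ∀ n : N, ((e n : N.map E.toMonoidHom) : F.iso) = E n := fun n => rfl
  refine not_same_of_two F (N.map E.toMonoidHom) ?_ (f.comp e.symm.toMonoidHom) (hf.comp e.symm.surjective) ?_ hl'
    hne hq hc ?_ hW₀
  · rw [commutator_def, ← Subgroup.map_top_of_surjective E.toMonoidHom E.surjective, ← Subgroup.map_commutator,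
      ← commutator_def]
    exact Subgroup.map_mono hN
  · intro z hz
    rw [MonoidHom.mem_ker, MonoidHom.comp_apply] at hz
    have h1 := hZ (MonoidHom.mem_ker.2 hz)
    rw [Subgroup.mem_center_iff] at h1 ⊢
    intro g
    have h2 := h1 (e.symm g)
    apply e.symm.injective
    rw [map_mul, map_mul]
    exact h2
  · intro z hz
    rw [MonoidHom.mem_ker, MonoidHom.comp_apply] at hz
    obtain ⟨a, ha, h2⟩ := hsc _ (MonoidHom.mem_ker.2 hz)
    refine ⟨a, ha, fun v => ?_⟩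
    rw [← h2 v]
    congr 2
    rw [← he]
    exact (congrArg Subtype.val (e.apply_symm_apply z)).symm

end Cfsg.Agent.H61.PQ
end

-- part: H61/PQ/Cd2
section
/-!
# The cuspidal data for the prime 2 (helper61, S4612)

* `exists_cd2_one` : `k = 1`, `θ` of order `2 ^ j`, `2 ^ j ∤ s' + 1` where `σ x = x ^ s'`;
* `exists_cd2_two` : `k = 2`, `σ = 1`, `|K| = 3 (mod 4)`, `θ` of order `(|K|² - 1)_2`.
-/

set_option autoImplicit false
set_option linter.unusedSectionVars false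

open Polynomial Cfsg
open scoped ComplexConjugate

namespace Cfsg.Agent.H61.PQ

open Cfsg.Agent.H139.Cusp Cfsg.Agent.H53.HC Module Cfsg.Agent.H317.PQ
open Cfsg.Agent.Blocks.Local Cfsg.Agent.Blocks.Basic Cfsg.Agent.H477.HC

universe u w

/-- a root of unity of `2`-power order congruent to `1` modulo an odd prime is `1` -/
theorem eq_one_of_mem {p : ℕ} (hp : p.Prime) (h2 : p ≠ 2) {M : Ideal AlgInt} (hM : IsPModular p M) (m : ℕ) :
    ∀ {w : ℂ}, w ^ 2 ^ m = 1 → MemLocalIdeal M (w - 1) → w = 1 := by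
  have : Fact p.Prime := ⟨hp⟩
  have hMp := isPrime_of_isPModular hM
  induction m with
  | zero =>
    intro w hw _
    rwa [pow_zero, pow_one] at hw
  | succ m ih =>
    intro w hw h
    have hint : IsIntegral ℤ w := by
      refine IsIntegral.of_pow (n := 2 ^ (m + 1)) (by positivity) ?_
      rw [hw]
      exact isIntegral_one
    have h1 : w ^ 2 = 1 := by
      refine ih ?_ ?_
      · rw [← pow_mul, ← pow_succ']
        exact hw
      · have h3 : w ^ 2 - 1 = (w + 1) * (w - 1) := by ring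
        rw [h3]
        exact memLocalIdeal_mul_left (memLocalRing_of_isIntegral (hint.add isIntegral_one)) h
    rcases mul_self_eq_one_iff.1 (by rw [← sq]; exact h1 : w * w = 1) with h3 | h3
    · exact h3
    · exfalso
      rw [h3] at h
      have h4 : (-1 : ℂ) - 1 = -((2 : ℕ) : ℂ) := by push_cast; ring
      rw [h4, memLocalIdeal_neg_iff, memLocalIdeal_natCast_iff hM] at h
      exact h2 ((Nat.prime_dvd_prime_iff_eq hp Nat.prime_two).1 h)

/-- roots of unity of `p`-power order are `1` modulo `p` -/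
theorem sub_one_mem_of_pow {M : Ideal AlgInt} {p : ℕ} (hM : IsPModular p M) {w : ℂ} {m : ℕ} (hw : w ^ p ^ m = 1) :
    MemLocalIdeal M (w - 1) := by
  have := isPrime_of_isPModular hM
  have hp : p.Prime := hM.1
  have hint : IsIntegral ℤ w := IsIntegral.of_pow (pow_pos hp.pos m) (by rw [hw]; exact isIntegral_one)
  have hwR : MemLocalRing M w := memLocalRing_of_isIntegral hint
  have : Fact p.Prime := ⟨hp⟩
  have := charP_resField hM
  rw [← redC_eq_iff hwR memLocalRing_one, redC_one]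
  have h1 : (redC M w) ^ p ^ m = 1 := by rw [← redC_pow hwR, hw, redC_one]
  have h2 : (redC M w - 1) ^ p ^ m = 0 := by
    rw [sub_pow_char_pow, h1, one_pow, sub_self]
  exact sub_eq_zero.1 ((pow_eq_zero_iff (pow_pos hp.pos m).ne').1 h2)

variable {K : Type u} [Field K] [Finite K]

/-- the character `θ` of order `2 ^ j` and a `2`-element -/
theorem exists_two_elt {L : Type w} [Field L] [Finite L] {θ₀ : L →*₀ ℂ} (hθ₀ : Function.Injective θ₀) {a j : ℕ}
    (ha : a ≠ 0) (haj : a * 2 ^ j = Nat.card Lˣ) :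
    (∀ η : Lˣ, ¬ 2 ∣ orderOf η → powTheta θ₀ a ha η = 1) ∧
    ∃ ξ : Lˣ, (∃ m, orderOf ξ = 2 ^ m) ∧ IsPrimitiveRoot (powTheta θ₀ a ha ξ) (2 ^ j) := by
  have hone : ∀ η : Lˣ, ¬ 2 ∣ orderOf η → powTheta θ₀ a ha η = 1 := by
    intro η hη
    apply powTheta_eq_one
    have h1 : orderOf η ∣ a * 2 ^ j := by rw [haj]; exact orderOf_dvd_natCard η
    have h2 : orderOf η ∣ a :=
      (Nat.Coprime.pow_right j ((Nat.Prime.coprime_iff_not_dvd Nat.prime_two).2 hη).symm).dvd_of_dvd_mul_right h1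
    have h3 : η ^ a = 1 := orderOf_dvd_iff_pow_eq_one.1 h2
    exact congrArg Units.val h3
  refine ⟨hone, ?_⟩
  obtain ⟨γ, hγ⟩ := IsCyclic.exists_ofOrder_eq_natCard (α := Lˣ)
  obtain ⟨x, y, hxy, -, -, -, hx, hy⟩ := Blocks.RegularCount.exists_pPart (p := 2) γ
  refine ⟨x, hx, ?_⟩
  have h1 : powTheta θ₀ a ha x = θ₀ γ ^ a := by
    rw [← powTheta_apply θ₀ a ha, ← hxy, Units.val_mul, map_mul, hone y hy, mul_one]
  rw [h1]
  have h2 : IsPrimitiveRoot (θ₀ γ) (a * 2 ^ j) := by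
    rw [haj, ← hγ, ← orderOf_units]
    have h3 : orderOf (γ : L) = orderOf (θ₀ γ) :=
      (orderOf_injective (θ₀ : L →* ℂ) hθ₀ (γ : L)).symm
    rw [h3]
    exact IsPrimitiveRoot.orderOf _
  exact h2.pow (Nat.mul_pos (Nat.pos_of_ne_zero ha) (by positivity)) rfl

/-! ### `k = 1` -/

theorem exists_scalar (A : GL (Fin 1) K) : ∃ z : Kˣ, A = Matrix.GeneralLinearGroup.scalar (Fin 1) z := by
  refine ⟨Matrix.GeneralLinearGroup.det A, ?_⟩
  ext i j
  rw [Matrix.GeneralLinearGroup.coe_scalar, Matrix.scalar_apply, Matrix.diagonal_apply]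
  have hi : i = 0 := Subsingleton.elim _ _
  have hj : j = 0 := Subsingleton.elim _ _
  subst hi
  subst hj
  rw [if_pos rfl]
  show _ = Matrix.det (A : Matrix (Fin 1) (Fin 1) K)
  rw [Matrix.det_fin_one]

theorem iota_scalar (σ : K →+* K) (z : Kˣ) :
    ((Matrix.GeneralLinearGroup.map σ).comp (invT 1)) (Matrix.GeneralLinearGroup.scalar (Fin 1) z) =
      Matrix.GeneralLinearGroup.scalar (Fin 1) (Units.map (σ : K →* K) z)⁻¹ := by
  have h1 : (Matrix.GeneralLinearGroup.scalar (Fin 1) z)⁻¹ = Matrix.GeneralLinearGroup.scalar (Fin 1) z⁻¹ :=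
    (map_inv (Matrix.GeneralLinearGroup.scalar (Fin 1)) z).symm
  ext i j
  rw [MonoidHom.comp_apply]
  show σ (((invT 1 (Matrix.GeneralLinearGroup.scalar (Fin 1) z) : GL (Fin 1) K) : Matrix (Fin 1) (Fin 1) K) i j) = _
  rw [invT_val, h1, Matrix.transpose_apply, Matrix.GeneralLinearGroup.coe_scalar,
    Matrix.GeneralLinearGroup.coe_scalar, Matrix.scalar_apply, Matrix.scalar_apply, Matrix.diagonal_apply,
    Matrix.diagonal_apply]
  have hij : i = j := Subsingleton.elim _ _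
  rw [if_pos hij.symm, if_pos hij, ← map_inv]
  rfl

theorem psi_scalar1 (θ : K →*₀ ℂ) (z : Kˣ) : psi K θ (Matrix.GeneralLinearGroup.scalar (Fin 1) z) = θ z := by
  have h1 := psi_scalar (n := 1) θ (by rw [Module.finrank_self]) z (1 : GL (Fin 1) K)
  rw [mul_one] at h1
  rw [h1, psi_one K θ Nat.one_pos]
  simp only [degP, _root_.Algebra.algebraMap_self, _root_.RingHom.id_apply, _root_.tsub_self, _root_.Finset.range_zero, _root_.Finset.prod_empty, _root_.Nat.cast_one, _root_.mul_one]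

theorem centralChar_scalar1 (χ : GL (Fin 1) K → ℂ) (z : Kˣ) :
    centralChar χ (Matrix.GeneralLinearGroup.scalar (Fin 1) z) =
      χ (Matrix.GeneralLinearGroup.scalar (Fin 1) z) / χ 1 := by
  unfold centralChar
  have h1 : Subgroup.centralizer ({Matrix.GeneralLinearGroup.scalar (Fin 1) z} : Set (GL (Fin 1) K)) = ⊤ := by
    rw [eq_top_iff]
    intro A _
    rw [Subgroup.mem_centralizer_singleton_iff]
    exact (Matrix.GeneralLinearGroup.scalar_commute z A).symm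
  rw [h1, Subgroup.index_top, Nat.cast_one, one_mul]

/-- **`k = 1`** -/
theorem exists_cd2_one {s' a j : ℕ} (σ : K →+* K) (hσ : ∀ x, σ x = x ^ s') (ha : a * 2 ^ j = Nat.card K - 1)
    (hj : ¬ 2 ^ j ∣ s' + 1) : ∃ c : GL (Fin 1) K → ℂ, CD2 K 1 σ (fun z => z ^ a = 1) c := by
  classical
  obtain ⟨θ₀, hθ₀⟩ := exists_theta K
  have hK2 : 2 ≤ Nat.card K := Finite.one_lt_card
  have ha0 : a ≠ 0 := by
    rintro rfl
    rw [zero_mul] at ha
    omega
  obtain ⟨hone, ξ, hξ, hprim⟩ := exists_two_elt hθ₀ ha0 (j := j) (by rw [ha, Nat.card_units])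
  set θ := powTheta θ₀ a ha0 with hθdef
  have hne : θ ξ * θ (Units.map (σ : K →* K) ξ) ≠ 1 := by
    have h1 : ((Units.map (σ : K →* K) ξ : Kˣ) : K) = (ξ : K) ^ s' := hσ ξ
    rw [h1, map_pow, ← pow_succ']
    intro h2
    exact hj ((hprim.pow_eq_one_iff_dvd _).1 h2)
  have hfin : finrank K K = 1 := Module.finrank_self K
  have hR : Regular K 1 θ := by
    rw [hθdef, regular_powTheta_iff hθ₀ ha0 hfin]
    intro i h0 h1
    omega
  have hval : ∀ z : Kˣ, psi K θ (((Matrix.GeneralLinearGroup.map σ).comp (invT 1))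
      (Matrix.GeneralLinearGroup.scalar (Fin 1) z)) = (θ (Units.map (σ : K →* K) z))⁻¹ := by
    intro z
    rw [iota_scalar, psi_scalar1, Units.val_inv_eq_inv_val, map_inv₀]
  have hψ1 : psi K θ (1 : GL (Fin 1) K) = 1 := by
    have h1 := psi_scalar1 θ (1 : Kˣ)
    rwa [map_one, Units.val_one, map_one] at h1
  refine ⟨psi K θ, ⟨psi_isIrr _ hfin hR, psi_isCusp K _, ?_, ?_, ?_⟩, ?_, ?_⟩
  · intro h
    have h1 := congrFun h (Matrix.GeneralLinearGroup.scalar (Fin 1) ξ)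
    rw [Function.comp_apply, hval, psi_scalar1] at h1
    apply hne
    have h2 : θ (Units.map (σ : K →* K) ξ : Kˣ) ≠ 0 := (_root_.map_ne_zero θ).2 (Units.ne_zero _)
    rw [← h1, inv_mul_cancel₀ h2]
  · intro z hz
    rw [psi_scalar1, hψ1, hθdef]
    exact powTheta_eq_one ha0 (by rw [← Units.val_pow_eq_pow_val, hz, Units.val_one])
  · rw [psi_one K _ Nat.one_pos, degP_eq_Ico]
  · intro hirr M hM x
    have : Fact (2 : ℕ).Prime := ⟨Nat.prime_two⟩
    have hMp := isPrime_of_isPModular hM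
    obtain ⟨z, rfl⟩ := exists_scalar x
    show MemLocalIdeal M (centralChar (fun _ => (1 : ℂ)) _ - centralChar (psi K θ) _)
    rw [centralChar_scalar1, centralChar_scalar1, psi_scalar1, hψ1, div_one, div_one]
    have h2 : θ z ^ 2 ^ j = 1 := by
      rw [← map_pow, hθdef]
      refine powTheta_eq_one ha0 ?_
      rw [← pow_mul, mul_comm, ha, ← Nat.card_units, ← Units.val_pow_eq_pow_val, pow_card_eq_one', Units.val_one]
    have h3 := sub_one_mem_of_pow hM h2
    have h4 : (1 : ℂ) - θ z = -(θ z - 1) := by ring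
    rw [h4]
    exact memLocalIdeal_neg_iff.2 h3
  · intro l' hl' hne2 _ f hf ψ hψ hmem
    obtain ⟨M, hM⟩ := Blocks.ExistsModular.exists_isPModular hl'
    have : Fact l'.Prime := ⟨hl'⟩
    have hMp := isPrime_of_isPModular hM
    obtain ⟨m, hm⟩ := hξ
    have hψ1' : (ψ : GL (Fin 1) K → ℂ) 1 = 1 := by
      rw [hψ, map_one, Units.val_one, hψ1, one_mul]
    have key : ∀ z : Kˣ, z ^ 2 ^ m = 1 → (f (Matrix.GeneralLinearGroup.scalar (Fin 1) z) : ℂ) * θ z = 1 := by
      intro z hz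
      refine eq_one_of_mem hl' hne2 hM m ?_ ?_
      · rw [mul_pow, ← Units.val_pow_eq_pow_val, ← map_pow, ← map_pow, hz, map_one, map_one, Units.val_one, ← map_pow,
          ← Units.val_pow_eq_pow_val, hz, Units.val_one, map_one, one_mul]
      · have h1 := hmem M hM (Matrix.GeneralLinearGroup.scalar (Fin 1) z)
        change MemLocalIdeal M (centralChar (fun _ => (1 : ℂ)) _ - centralChar (ψ : GL (Fin 1) K → ℂ) _) at h1
        rw [centralChar_scalar1, centralChar_scalar1, hψ1', hψ, psi_scalar1, div_one, div_one] at h1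
        have h2 := memLocalIdeal_neg_iff.2 h1
        rwa [neg_sub] at h2
    have h1 := key ξ (by rw [← hm, pow_orderOf_eq_one])
    have h2 := key (Units.map (σ : K →* K) ξ)⁻¹ (by
      rw [inv_pow, ← map_pow, ← hm, pow_orderOf_eq_one, map_one, inv_one])
    have h3 := hf (Matrix.GeneralLinearGroup.scalar (Fin 1) ξ)
    rw [iota_scalar] at h3
    rw [h3, Units.val_inv_eq_inv_val, map_inv₀] at h2
    apply hne
    have h4 : θ (Units.map (σ : K →* K) ξ : Kˣ) ≠ 0 := (_root_.map_ne_zero θ).2 (Units.ne_zero _)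
    have h5 : (f (Matrix.GeneralLinearGroup.scalar (Fin 1) ξ) : ℂ) ≠ 0 := Units.ne_zero _
    have h6 : (f (Matrix.GeneralLinearGroup.scalar (Fin 1) ξ) : ℂ) = θ (Units.map (σ : K →* K) ξ : Kˣ) := by
      field_simp at h2
      exact h2
    rw [← h6, mul_comm]
    exact h1

/-! ### `k = 2` -/

section tor

variable {F : Type u} [Field F] [Finite F] {L : Type w} [Field L] [Finite L] [Algebra F L]

/-- the degree of `ξ η`, `η` of order prime to the order of `ξ` -/
theorem deg_mul {p : ℕ} (hp : p.Prime) {ξ η : Lˣ} (hpw : ∃ m, orderOf ξ = p ^ m)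
    (hdeg : (minpoly F (ξ : L)).natDegree = finrank F L) (hη : ¬ p ∣ orderOf η) :
    (minpoly F ((ξ * η : Lˣ) : L)).natDegree = finrank F L := by
  have hd : (minpoly F ((ξ * η : Lˣ) : L)).natDegree ∣ finrank F L := by
    rw [← pow_eq_self_iff, ← Module.natCard_eq_pow_finrank (K := F) (V := L)]
    have := Fintype.ofFinite L
    rw [Nat.card_eq_fintype_card]
    exact FiniteField.pow_card _
  refine Nat.dvd_antisymm hd ?_
  rw [← hdeg, ← pow_eq_self_iff (F := F)]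
  set d := (minpoly F ((ξ * η : Lˣ) : L)).natDegree with hdd
  have h1 := (pow_eq_self_iff (F := F) ((ξ * η : Lˣ) : L) d).2 dvd_rfl
  obtain ⟨m, hm⟩ := hpw
  have hco : Nat.Coprime (p ^ m) (orderOf η) := Nat.Coprime.pow_left m ((Nat.Prime.coprime_iff_not_dvd hp).2 hη)
  obtain ⟨e, he1, he2⟩ := Nat.chineseRemainder hco 1 0
  have h2 : (ξ * η) ^ e = ξ := by
    rw [mul_pow]
    have h3 : η ^ e = 1 := by
      rw [← orderOf_dvd_iff_pow_eq_one]
      exact (Nat.modEq_zero_iff_dvd).1 he2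
    have h4 : ξ ^ e = ξ := by
      conv_rhs => rw [← pow_one ξ]
      rw [pow_eq_pow_iff_modEq, hm]
      exact he1
    rw [h3, h4, mul_one]
  rw [← h2, Units.val_pow_eq_pow_val, ← pow_mul, mul_comm e, pow_mul, h1]

/-- **a cuspidal character in the principal `p`-block** -/
theorem mem_of_tor {p n : ℕ} (hp : p.Prime) (b : Basis (Fin n) F L) {θ : L →*₀ ℂ}
    (hirr : IsIrrCharacter (GL (Fin n) F) (psi L θ)) {ξ : Lˣ} (hpw : ∃ m, orderOf ξ = p ^ m)
    (hdeg : (minpoly F (ξ : L)).natDegree = finrank F L) (hone : ∀ η : Lˣ, ¬ p ∣ orderOf η → θ η = 1)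
    (hsum : ∑ i ∈ Finset.range n, θ ξ ^ (Nat.card F ^ i) ≠ 0) :
    (⟨psi L θ, hirr⟩ : IrrCharacter (GL (Fin n) F)) ∈ B0 p (GL (Fin n) F) := by
  classical
  intro M hM
  have : Fact p.Prime := ⟨hp⟩
  have := Fintype.ofFinite (GL (Fin n) F)
  refine H892.EP.mem_of_section_sum hM _ (tor b ξ) ?_
  have hcl := psi_isClass (n := n) (F := F) L θ
  have hval : ∀ g ∈ {g : GL (Fin n) F | ∃ z, IsPPart p g z ∧ IsConj (tor b ξ) z},
      psi L θ g = (-1) ^ (n - 1) * ∑ i ∈ Finset.range n, θ ξ ^ (Nat.card F ^ i) := by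
    rintro g ⟨z, ⟨y, hzy, hcomm, ⟨m, hm⟩, hy⟩, hconj⟩
    obtain ⟨c, hc⟩ := isConj_iff.1 hconj
    have hg : psi L θ g = psi L θ (c⁻¹ * g * c) := by
      have := hcl g c⁻¹
      rw [inv_inv] at this
      exact this.symm
    have h1 : c⁻¹ * g * c = tor b ξ * (c⁻¹ * y * c) := by
      rw [← hzy, ← hc]
      group
    have hyc : (c⁻¹ * y * c) * tor b ξ = tor b ξ * (c⁻¹ * y * c) := by
      have h2 : y * (c * tor b ξ * c⁻¹) = (c * tor b ξ * c⁻¹) * y := by
        rw [hc]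
        exact hcomm.symm.eq
      calc (c⁻¹ * y * c) * tor b ξ = c⁻¹ * (y * (c * tor b ξ * c⁻¹)) * c := by group
        _ = c⁻¹ * ((c * tor b ξ * c⁻¹) * y) * c := by rw [h2]
        _ = tor b ξ * (c⁻¹ * y * c) := by group
    obtain ⟨η, hη⟩ := centralizer_tor b hdeg hyc
    have hηo : ¬ p ∣ orderOf η := by
      have h3 : orderOf (tor b η) = orderOf η := orderOf_injective _ (tor_injective b) η
      rw [← h3, ← hη]
      have h4 : orderOf (c⁻¹ * y * c) = orderOf y := by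
        have := orderOf_injective (MulAut.conj c⁻¹).toMonoidHom (MulAut.conj c⁻¹).injective y
        rw [← this]
        congr 1
      rwa [h4]
    have hθ : θ ((ξ * η : Lˣ) : L) = θ ξ := by
      rw [Units.val_mul, map_mul, hone η hηo, mul_one]
    rw [hg, h1, hη, ← map_mul, psi_tor θ b (deg_mul hp hpw hdeg hηo)]
    congr 1
    refine Finset.sum_congr rfl fun i _ => ?_
    rw [map_pow, hθ]
  rw [finsum_mem_congr rfl hval, finsum_mem_eq_finite_toFinset_sum _ (Set.toFinite _), Finset.sum_const, nsmul_eq_mul]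
  refine mul_ne_zero ?_ (mul_ne_zero (pow_ne_zero _ (by norm_num)) hsum)
  refine Nat.cast_ne_zero.2 (Finset.card_ne_zero.2 ⟨tor b ξ, ?_⟩)
  rw [Set.Finite.mem_toFinset]
  refine ⟨tor b ξ, ⟨1, mul_one _, Commute.one_right _, ?_, ?_⟩, IsConj.refl _⟩
  · obtain ⟨m, hm⟩ := hpw
    exact ⟨m, by rw [← hm]; exact orderOf_injective _ (tor_injective b) ξ⟩
  · rw [orderOf_one]
    exact fun h1 => hp.one_lt.ne' (Nat.dvd_one.1 h1)

end tor

/-- the cuspidal character, `σ = 1` -/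
theorem cus_psi {L : Type w} [Field L] [Finite L] [Algebra K L] {θ : L →*₀ ℂ} (hθ : Function.Injective θ) {k : ℕ}
    (hL : finrank K L = k) (hk : 0 < k) {a : ℕ} (ha : a ≠ 0)
    (hreg : ∀ i, 0 < i → i < k → ¬ (Nat.card K ^ k - 1) ∣ a * (Nat.card K ^ i - 1))
    (hdual : ∀ i, i < k → ¬ (Nat.card K ^ k - 1) ∣ a * Nat.card K ^ i + a) :
    Cus K k (RingHom.id K) (fun z => z ^ a = 1) (psi L (powTheta θ a ha)) := by
  classical
  have hcardL : Nat.card Lˣ = Nat.card K ^ k - 1 := by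
    rw [Nat.card_units, Module.natCard_eq_pow_finrank (K := K), hL]
  have hR : Regular K k (powTheta θ a ha) := (regular_powTheta_iff hθ ha hL).2 hreg
  refine ⟨psi_isIrr _ hL hR, psi_isCusp L _, ?_, ?_, ?_⟩
  · intro h
    have h1 : ∀ g : ((Fin k → K) →ₗ[K] (Fin k → K))ˣ, cusp L (powTheta θ a ha) (g : (Fin k → K) →ₗ[K] (Fin k → K)) =
        cusp L (conjTheta (powTheta θ a ha)) (g : (Fin k → K) →ₗ[K] (Fin k → K)) := by
      intro g
      let A : GL (Fin k) K := Matrix.GeneralLinearGroup.toLin.symm g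
      have h2 := congrFun h A
      have h3 : ((Matrix.GeneralLinearGroup.map (RingHom.id K)).comp (invT k)) A = invT k A := by
        ext i j
        rfl
      rw [Function.comp_apply, h3, psi_invT _ hL] at h2
      have h4 : psi L (powTheta θ a ha) A = cusp L (powTheta θ a ha) (g : (Fin k → K) →ₗ[K] (Fin k → K)) := by
        have h5 : Matrix.GeneralLinearGroup.toLin A = g := MulEquiv.apply_symm_apply _ g
        rw [← h5]
        rfl
      rw [h4, cusp_star] at h2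
      exact h2.symm
    obtain ⟨i, hi, h2⟩ := (cusp_eq_iff (V := Fin k → K) (powTheta θ a ha) (conjTheta (powTheta θ a ha))
      (by rw [Module.finrank_fin_fun, hL]) (by rw [hL]; exact hR)).1 h1
    rw [hL] at hi
    have h3 := (conj_powTheta_eq_iff hθ ha ha (pow_ne_zero i (Nat.card_pos (α := K)).ne')).1 h2
    rw [hcardL] at h3
    exact hdual i hi h3
  · intro z hz
    have h1 := psi_scalar (powTheta θ a ha) hL z 1
    rw [mul_one] at h1
    rw [h1, powTheta_eq_one ha, one_mul]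
    rw [← map_pow, ← Units.val_pow_eq_pow_val, hz, Units.val_one, map_one]
  · rw [psi_one L _ hk, degP_eq_Ico]

/-- homomorphisms from `GL_2` to commutative groups are trivial at `-1` -/
theorem hom_neg_one (f : GL (Fin 2) K →* ℂˣ) : f (Matrix.GeneralLinearGroup.scalar (Fin 2) (-1)) = 1 := by
  let D : GL (Fin 2) K := Matrix.GeneralLinearGroup.mkOfDetNeZero !![1, 0; 0, -1] (by
    rw [Matrix.det_fin_two_of]; norm_num)
  let J : GL (Fin 2) K := Matrix.GeneralLinearGroup.mkOfDetNeZero !![0, 1; -1, 0] (by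
    rw [Matrix.det_fin_two_of]; norm_num)
  have h1 : D * J = Matrix.GeneralLinearGroup.scalar (Fin 2) (-1) * (J * D) := by
    ext i j
    (revert i j; simp only [D, J, Matrix.GeneralLinearGroup.mkOfDetNeZero, Matrix.mul_apply, Fin.sum_univ_two, _root_.Fin.forall_fin_succ, _root_.Units.val_mul, _root_.Matrix.GeneralLinearGroup.val_mk', _root_.Matrix.of_apply, _root_.Matrix.cons_val', _root_.Matrix.cons_val_fin_one, Fin.isValue, _root_.Matrix.cons_val_zero, _root_.Matrix.cons_val_one, _root_.Matrix.GeneralLinearGroup.coe_scalar, _root_.Units.val_neg, _root_.Units.val_one, _root_.Matrix.scalar_apply, _root_.Matrix.cons_mul, _root_.Nat.succ_eq_add_one, Nat.reduceAdd, _root_.Matrix.vecMul_cons, _root_.Matrix.head_cons, _root_.zero_smul, _root_.Matrix.tail_cons, _root_.one_smul, _root_.Matrix.empty_vecMul, _root_.add_zero, _root_.zero_add, _root_.neg_smul, _root_.Matrix.neg_cons, _root_.neg_zero, _root_.Matrix.neg_empty, _root_.Matrix.empty_mul,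 _root_.Equiv.symm_apply_apply, _root_.MulZeroClass.mul_zero, _root_.mul_neg, _root_.mul_one, _root_.neg_inj, _root_.Matrix.cons_val_succ, _root_.forall_const, _root_.ne_eq, _root_.zero_ne_one, _root_.not_false_eq_true, _root_.Matrix.diagonal_apply_ne, _root_.Matrix.diagonal_apply_eq, _root_.neg_neg, _root_.and_self, _root_.Fin.succ_ne_zero, _root_.and_true, _root_.Fin.succ_zero_eq_one, _root_.IsEmpty.forall_iff])
  have h2 := congrArg f h1
  rw [map_mul, map_mul, map_mul, mul_comm (f D)] at h2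
  have h3 : 1 * (f J * f D) = f (Matrix.GeneralLinearGroup.scalar (Fin 2) (-1)) * (f J * f D) := by
    rw [one_mul]
    exact h2
  exact (mul_right_cancel h3).symm

/-- **`k = 2`** -/
theorem exists_cd2_two (h4 : Nat.card K % 4 = 3) :
    ∃ c : GL (Fin 2) K → ℂ, CD2 K 2 (RingHom.id K) (fun z => z = 1) c := by
  classical
  obtain ⟨L, _, _, _, hL⟩ := exists_L K 2 Nat.two_pos
  obtain ⟨θ₀, hθ₀⟩ := exists_theta L
  have hcardL : Nat.card Lˣ = Nat.card K ^ 2 - 1 := by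
    rw [Nat.card_units, Module.natCard_eq_pow_finrank (K := K), hL]
  set Q := Nat.card K with hQ
  have hQ3 : 3 ≤ Q := by omega
  have hQ9 : 9 ≤ Q ^ 2 := by nlinarith only [hQ3]
  obtain ⟨t, a, hodd, hta⟩ := Nat.exists_eq_two_pow_mul_odd (n := Q ^ 2 - 1) (by omega)
  have ha0 : a ≠ 0 := by
    rintro rfl
    simp at hodd
  -- the exponents
  obtain ⟨r, hr⟩ : ∃ r, Q = 4 * r + 3 := ⟨Q / 4, by omega⟩
  have hfac : Q ^ 2 - 1 = (Q + 1) * (Q - 1) := by
    have := Nat.sq_sub_sq Q 1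
    rwa [one_pow] at this
  have hQm : Q - 1 = 2 * (2 * r + 1) := by (clear * - hr; omega)
  have hQp : Q + 1 = 4 * (r + 1) := by omega
  have h8 : 8 ∣ 2 ^ t := by
    have h1 : 8 ∣ 2 ^ t * a := by
      rw [← hta, hfac, hQm, hQp]
      exact ⟨(r + 1) * (2 * r + 1), by ring⟩
    exact (Nat.Coprime.pow_left 3 (Nat.coprime_two_left.2 hodd)).dvd_of_dvd_mul_right h1
  -- `2 ^ t` does not divide `2 (Q - 1)` and `Q + 1`
  have hn1 : ¬ 2 ^ t ∣ 2 * (Q - 1) := by
    intro h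
    have h1 := h8.trans h
    rw [hQm] at h1
    omega
  have hn2 : ¬ 2 ^ t ∣ Q + 1 := by
    intro h
    have h1 : 2 * 2 ^ t ∣ 2 ^ t * a := by
      rw [← hta, hfac, hQm]
      obtain ⟨c, hc⟩ := h
      rw [hc]
      exact ⟨c * (2 * r + 1), by ring⟩
    rw [mul_comm 2 (2 ^ t)] at h1
    have h2 := Nat.dvd_of_mul_dvd_mul_left (by positivity) h1
    rw [← even_iff_two_dvd, ← Nat.not_odd_iff_even] at h2
    exact h2 hodd
  have key : ∀ x, Q ^ 2 - 1 ∣ a * x → 2 ^ t ∣ x := by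
    intro x hx
    rw [hta, mul_comm] at hx
    exact Nat.dvd_of_mul_dvd_mul_left (Nat.pos_of_ne_zero ha0) hx
  have hreg : ∀ i, 0 < i → i < 2 → ¬ (Q ^ 2 - 1) ∣ a * (Q ^ i - 1) := by
    intro i h0 h1 h
    have : i = 1 := by omega
    subst this
    have h2 := key _ h
    rw [pow_one] at h2
    exact hn1 (h2.trans (dvd_mul_left _ _))
  have hdual : ∀ i, i < 2 → ¬ (Q ^ 2 - 1) ∣ a * Q ^ i + a := by
    intro i hi h
    have h2 : 2 ^ t ∣ Q ^ i + 1 := key _ (by rw [mul_add, mul_one]; exact h)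
    have : i = 0 ∨ i = 1 := by omega
    rcases this with rfl | rfl
    · rw [pow_zero] at h2
      have := h8.trans h2
      omega
    · rw [pow_one] at h2
      exact hn2 h2
  obtain ⟨hone, ξ, hξ, hprim⟩ := exists_two_elt hθ₀ ha0 (j := t) (by rw [hcardL, mul_comm]; exact hta.symm)
  set θ := powTheta θ₀ a ha0 with hθdef
  have hcus := cus_psi (K := K) hθ₀ hL Nat.two_pos ha0 hreg hdual
  have hb : Basis (Fin 2) K L := finBasisOfFinrankEq K L hL
  have hξdeg : (minpoly K (ξ : L)).natDegree = finrank K L := by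
    have hd : (minpoly K (ξ : L)).natDegree ∣ finrank K L := by
      rw [← pow_eq_self_iff, ← Module.natCard_eq_pow_finrank (K := K) (V := L)]
      have := Fintype.ofFinite L
      rw [Nat.card_eq_fintype_card]
      exact FiniteField.pow_card _
    rw [hL] at hd ⊢
    rcases (Nat.dvd_prime Nat.prime_two).1 hd with h1 | h1
    · exfalso
      have h2 := (pow_eq_self_iff (F := K) (ξ : L) 1).2 (by rw [h1])
      rw [pow_one, ← hQ] at h2
      have h3 : ξ ^ (Q - 1) = 1 := by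
        have h4 : ξ * ξ ^ (Q - 1) = ξ * 1 := by
          rw [← pow_succ', Nat.sub_add_cancel (by omega), mul_one]
          apply Units.ext
          rw [Units.val_pow_eq_pow_val]
          exact h2
        exact mul_left_cancel h4
      have h4 : θ ξ ^ (Q - 1) = 1 := by
        rw [← map_pow, ← Units.val_pow_eq_pow_val, h3, Units.val_one, map_one]
      exact hn1 (((hprim.pow_eq_one_iff_dvd _).1 h4).trans (dvd_mul_left _ _))
    · exact h1
  refine ⟨psi L θ, ⟨hcus.irr, hcus.cusp, hcus.dual, fun z hz => hcus.scal z (by rw [hz, one_pow]), hcus.deg⟩,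
    fun hirr => ?_, ?_⟩
  · refine mem_of_tor Nat.prime_two hb hirr hξ hξdeg hone ?_
    rw [Finset.sum_range_succ, Finset.sum_range_one, pow_zero, pow_one, pow_one, ← hQ]
    intro h0
    have h1 : θ ξ ≠ 0 := (_root_.map_ne_zero θ).2 (Units.ne_zero _)
    have h2 : θ ξ ^ (Q - 1) = -1 := by
      have h3 : θ ξ * θ ξ ^ (Q - 1) = θ ξ * (-1) := by
        rw [← pow_succ', Nat.sub_add_cancel (by omega), mul_neg_one]
        linear_combination h0
      exact mul_left_cancel₀ h1 h3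
    apply hn1
    rw [← hprim.pow_eq_one_iff_dvd, mul_comm, pow_mul, h2]
    norm_num
  · intro l' hl' hne2 _ f _ ψ hψ hmem
    obtain ⟨M, hM⟩ := Blocks.ExistsModular.exists_isPModular hl'
    have : Fact l'.Prime := ⟨hl'⟩
    have hMp := isPrime_of_isPModular hM
    set z : GL (Fin 2) K := Matrix.GeneralLinearGroup.scalar (Fin 2) (-1) with hz
    have h1 := hmem M hM z
    change MemLocalIdeal M (centralChar (fun _ => (1 : ℂ)) z - centralChar (ψ : GL (Fin 2) K → ℂ) z) at h1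
    have hcen : Subgroup.centralizer ({z} : Set (GL (Fin 2) K)) = ⊤ := by
      rw [eq_top_iff]
      intro A _
      rw [Subgroup.mem_centralizer_singleton_iff]
      exact (Matrix.GeneralLinearGroup.scalar_commute (-1) A).symm
    have hθ1 : θ ((algebraMap K L) ((-1 : Kˣ) : K)) = -1 := by
      have h2 : θ₀ (-1) = -1 := by
        have h3 : θ₀ (-1) * θ₀ (-1) = 1 := by rw [← map_mul, neg_mul_neg, mul_one, map_one]
        rcases mul_self_eq_one_iff.1 h3 with h5 | h5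
        · exfalso
          have h6 : (-1 : L) = 1 := hθ₀ (by rw [h5, map_one])
          have h7 : (-1 : K) = 1 := (algebraMap K L).injective (by rw [map_neg, map_one, h6])
          have h8 : (2 : K) = 0 := by linear_combination -h7
          obtain ⟨r', hr'⟩ := CharP.exists K
          have hrp : r'.Prime := (CharP.char_is_prime_or_zero K r').resolve_right
            (CharP.char_ne_zero_of_finite K r')
          have : Fact r'.Prime := ⟨hrp⟩
          have h9 : r' = 2 := by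
            have h10 : r' ∣ 2 := (CharP.cast_eq_zero_iff K r' 2).1 (by exact_mod_cast h8)
            exact (Nat.prime_dvd_prime_iff_eq hrp Nat.prime_two).1 h10
          have := Fintype.ofFinite K
          obtain ⟨n, -, hn⟩ := FiniteField.card K r'
          rw [← Nat.card_eq_fintype_card, h9, ← hQ] at hn
          have h11 : 2 ∣ Q := by
            rw [hn]
            exact dvd_pow_self 2 n.ne_zero
          omega
        · exact h5
      rw [Units.val_neg, Units.val_one, map_neg, map_one, hθdef, powTheta_apply, h2]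
      exact hodd.neg_one_pow
    have hψz : (ψ : GL (Fin 2) K → ℂ) z = -(ψ : GL (Fin 2) K → ℂ) 1 := by
      have h2 := psi_scalar θ hL (-1) (1 : GL (Fin 2) K)
      rw [mul_one] at h2
      rw [hψ, hψ, hz, hom_neg_one, h2, hθ1, map_one, Units.val_one]
      ring
    have hψ0 : (ψ : GL (Fin 2) K → ℂ) 1 ≠ 0 := Cfsg.Agent.Characters.Core.isIrr_apply_one_ne_zero ψ.2
    unfold centralChar at h1
    rw [hcen, Subgroup.index_top, Nat.cast_one, one_mul, one_mul, div_one, hψz, neg_div, div_self hψ0, sub_neg_eq_add]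
      at h1
    have h3 : (1 : ℂ) + 1 = ((2 : ℕ) : ℂ) := by push_cast; ring
    rw [h3, memLocalIdeal_natCast_iff hM] at h1
    exact hne2 ((Nat.prime_dvd_prime_iff_eq hl' Nat.prime_two).1 h1)

end Cfsg.Agent.H61.PQ
end

private theorem dce_5897f6707bca : _root_.True := by
  try have : _root_.True := by simp only [_root_.Matrix.GeneralLinearGroup.mkOfDetNeZero.eq_1]
  try have : _root_.True := by simp only [_root_.invertibleOfNonzero.congr_simp]
  exact _root_.True.intro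
end

-- part: H996/PQ/RowsX
section
set_option linter.all false
open scoped Cfsg.Agent.FastGrp

/-!
# The extended separation theorem for the split groups (helper996, for S4612)
-/

set_option autoImplicit false

namespace Cfsg.Agent.H996.PQ

open Cfsg Cfsg.Agent.H967.Sph Cfsg.Agent.H317.PQ Cfsg.Agent.H64.Dl.Sph Cfsg.Agent.H996.Eight.Cert
open CoxeterSystem Cfsg.Agent.ChevalleyStructure.CoxeterGeom Cfsg.Agent.Tits.Roots Cfsg.Agent.Tits.Core
  Cfsg.Agent.Nodes.Reps Cfsg.Agent.Nodes.BNOf Cfsg.Agent.Nodes.Bruhat Cfsg.Agent.Nodes.LeviDec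
open Cfsg.Lie Cfsg.Agent.ChevalleyStructure Cfsg.Agent.ChevalleyStructure.CoxeterGeomTypes Cfsg.Agent.Nodes.RGDChev
  Cfsg.Agent.H35.ExcIdx

universe u

/-- the extended theorem for an equal Cartan matrix -/
theorem sepX_of {l : ℕ} [NeZero l] {W : Type*} {Y : Type u} [Group W] [Finite W] [Group Y] [Finite Y]
    {M : CoxeterMatrix (Fin l)} {cs : CoxeterSystem M W} {A A' : Fin l → Fin l → ℤ} {h : IsCartan M A} {p : ℕ}
    {T : Subgroup Y} {n : Fin l → Y} {X : (Fin l → ℤ) → Subgroup Y} (R : RGD cs h p T n X) (hG : GG cs h T X = ⊤)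
    (hA : A = A') {j : Fin l} {N m : ℕ} {α₀ : Fin l → ℤ} (Fu : Full A' j N m α₀) {lam : Fin m → Fin m → List ℤ}
    (hlam : Fu.Lam lam) {x : ℕ} (hx : 2 ≤ x)
    (hq : ∀ i, Nat.card (X (sr i)) = x ^ Fu.Da.e i) (hcen : Cen cs h X α₀) {j₀ : Fin l} {D : Fin l → ℤ}
    (hi : Hi A j₀ α₀ D) (hr : IsRoot cs h α₀) (hX0 : Nat.card (X α₀) = x) {N' m' : ℕ} (Da' : Data A' j₀ N' m')
    (hq' : ∀ i, Nat.card (X (sr i)) = x ^ Da'.e i) (hNL : pEq (pSum Da'.kk) Fu.NL = true)
    {p' l' : ℕ} (hp : p'.Prime) (hl : l'.Prime) (hS : Same p' l' Y) : SepX Fu.P lam x p' l' (Nat.card Y) Fu.i₀ := by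
  subst hA
  exact Fu.sepX R hG hx hq hlam hcen hi hr hX0 (card_quot_data R hG Da' hq' hNL) hp hl hS

/-- **split groups, extended** -/
theorem split_sepX {D : ChevalleyDatum} {l : ℕ} [NeZero l] {M : CoxeterMatrix (Fin l)} (hp : IsType D l M) (K : Type u)
    [Field K] [Fintype K] {A' : Fin l → Fin l → ℤ} (hA : cartanOf D l = A') {j : Fin l} {N m : ℕ}
    {α₀ : Fin l → ℤ} (Fu : Full A' j N m α₀) {lam : Fin m → Fin m → List ℤ}
    (hlam : Fu.Lam lam) (he : ∀ i, Fu.Da.e i = 1) {j₀ : Fin l}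
    (hi : ∃ (s : ℕ) (Dl : Fin l → ℤ), s < D.nroots ∧
      (∀ r < D.nroots, r ≠ s → (∀ i, 0 ≤ vec D l r i) → D.commTerms r s = []) ∧
      vec D l s = α₀ ∧ Hi (cartanOf D l) j₀ (vec D l s) Dl)
    {N' m' : ℕ} (Da' : Data A' j₀ N' m') (he' : ∀ i, Da'.e i = 1) (hNL : pEq (pSum Da'.kk) Fu.NL = true)
    {p' l' : ℕ} (hp' : p'.Prime) (hl' : l'.Prime) (hS : Same p' l' ↥(D.group K)) :
    SepX Fu.P lam (Fintype.card K) p' l' (Nat.card ↥(D.group K)) Fu.i₀ := by
  obtain ⟨r, hr⟩ := CharP.exists K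
  have : Fact r.Prime := ⟨CharP.char_is_prime K r⟩
  have := finite_W hp M.toCoxeterSystem
  have := finite_group D K
  obtain ⟨s, Dl, hs, hc, rfl, hH⟩ := hi
  have hroot := isRoot_vec hp M.toCoxeterSystem hs
  refine sepX_of (rgd (K := K) hp M.toCoxeterSystem r) (GG_eq_top hp K M.toCoxeterSystem) hA Fu hlam
    Fintype.one_lt_card (fun i => ?_)
    (H241.PQ.cen_split hp K M.toCoxeterSystem hs hc hH.nonneg) hH hroot ?_ Da' (fun i => ?_) hNL hp' hl' hS
  · rw [card_XX hp K M.toCoxeterSystem (isRoot_sr _ _ i), he, pow_one, Nat.card_eq_fintype_card]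
  · rw [card_XX hp K M.toCoxeterSystem hroot, Nat.card_eq_fintype_card]
  · rw [card_XX hp K M.toCoxeterSystem (isRoot_sr _ _ i), he', pow_one, Nat.card_eq_fintype_card]

end Cfsg.Agent.H996.PQ
end

-- part: H996/PQ/RowE6X
section
prune_inst 0x4010000
set_option linter.all false

-- part: H996/Eight/TabE6a
section
/-!
# The table of the spherical machine: `E₆`, node `0` (helper996, for S4899; made by a program)

27 states, 3 classes; 2 certificates.
-/

set_option autoImplicit false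
set_option maxRecDepth 20000

namespace Cfsg.Agent.H996.Eight.TabE6a

open Cfsg.Agent.H967.Sph Cfsg.Agent.H64.Dl.Sph Cfsg.Agent.H996.Eight.Cert Cfsg.Agent.H996.Eight.En

/-- the Cartan matrix -/
def A (i k : Fin 6) : ℤ := (([[2, 0, -1, 0, 0, 0], [0, 2, 0, -1, 0, 0], [-1, 0, 2, -1, 0, 0], [0, -1, -1, 2, -1, 0], [0, 0, 0, -1, 2, -1], [0, 0, 0, 0, -1, 2]] : List (List ℤ)).getD i []).getD k 0

/-- the encoded table -/
def enc : Enc 6 27 3 where
  j := 0
  V := 549926179856535063715633791690885289912566772753620467376030273883509153644267938833792409876427973054102387520977850301226950212375482603129032300661063243398181787783346544964949323305158477961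
  S := 1139395014674102314358338929916026360906441336983759676192772494568256404425039881297101316738411841204510689651935724757675042995148009057146370173393505959103459286525626652107617261303464807305867132788437668791288888089310136802505263978656636653748220675902353854052701206737160065347476106111808449773803693309875154298697597715822704668831841537510189851136464681109567743852444450968665826613866962855382941952922169544471272228865033839576811731872887347176091066636801434189825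
  C := 2810073738465311754318946513477233050656
  P := 46360298402139176196407690931832928515892545624235484471079939060446919723581440
  Q := 106730878190888066589315641192960
  CP := 46360298402139176196407690931832928515893892132195214590859190616998983713685503
  CQ := 106730878190888066589315641192960
  R := 12583936
  W := 6606210499285954464608670347121122365367022368617815811993764096

/-- the table -/
def tab : Tab A 0 27 3 :=
  enc.tab A (by decide +kernel) (Cfsg.Agent.H996.Eight.Kq.t1 93 (by decide +kernel)) (Cfsg.Agent.H996.Eight.Kq.act_of (by decide +kernel)) (Cfsg.Agent.H996.Eight.Kq.t3 (by decide +kernel)) (by decide +kernel)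
    (Cfsg.Agent.H996.Eight.Kq.t5 (by decide +kernel)) (Cfsg.Agent.H996.Eight.Kq.t6 (r := fun a => enc.crep (enc.cls a)) (by decide +kernel))

/-- the exponents of the parameters -/
def e (i : Fin 6) : ℕ := ([1, 1, 1, 1, 1, 1] : List ℕ).getD i 0

def matL : List (List (List ℤ)) := [[[], [0, 1], []], [[0, 1], [0, -1, 1, 1, 1, 2, 2, 2, 1, 1], [0, 0, 0, 0, 0, 0, 0, 0, 1, 1, 1, 1, 1]], [[], [0, 0, 0, 0, 0, 0, 0, 0, 1, 1, 1, 1, 1], [0, 0, 0, 0, 0, 0, 0, 0, -1, 0, 0, 0, 0, 2, 1, 1, 1, 1]]]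

def bbL : List (List (List ℤ)) := [[[], [0, 1, 1, 1, 2, 2, 2, 2, 2, 1, 1, 1], []], [[1], [-1, 1, 1, 1, 2, 2, 2, 1, 1], [0, 0, 0, 0, 0, 0, 0, 1, 1, 1, 1, 1]], [[], [1, 1, 1, 2, 1, 1, 1], [-1, 0, 0, -1, 1, 1, 1, 2, 2, 1, 1, 1]]]

def kL : List (List ℤ) := [[1], [0, 1, 1, 1, 2, 2, 2, 2, 2, 1, 1, 1], [0, 0, 0, 0, 0, 0, 0, 0, 1, 1, 1, 1, 2, 1, 1, 1, 1]]

/-- the data -/
def data : Data A 0 27 3 where
  t := tab
  e := e
  wl := enc.wl
  mat c c' := (matL.getD c []).getD c' []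
  kk c := kL.getD c []
  ff := [1, 1, 1, 2, 2, 2, 2, 2, 1, 1, 1]
  bb c c' := (bbL.getD c []).getD c' []
  chkM := by (delta Cfsg.Agent.H996.Eight.Cert.ChkM Cfsg.Agent.H996.Eight.Cert.ctr; simp only [Cfsg.Agent.H996.Eight.Kq.pEq_eq]; decide +kernel)
  chkK := by (delta Cfsg.Agent.H64.Dl.Sph.ChkK; simp only [Cfsg.Agent.H996.Eight.Kq.pEq_eq]; decide +kernel)
  chkF := by decide +kernel
  chkP := by (simp only [Cfsg.Agent.H996.Eight.Kq.pPos_eq]; decide +kernel)
  chkB := by (simp only [Cfsg.Agent.H996.Eight.Kq.pEq_eq]; decide +kernel)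
  wo := by decide +kernel
  ws := by decide +kernel

/-- `1*q^1*P8*P9 / 1` (`Pn` the cyclotomic polynomials) -/
def c1 : Crt 3 where
  th := [-1, 0, 0, 0, 1, 1, 1, 1, 1]
  nu c := ([[0, 0, 0, 0, 1, 1, 0, 0, 1, 1], [0, 0, 0, -1, 0, 1, 1], [-1, -1]] : List (List ℤ)).getD c []
  steps := [(2, [(0, [-1]), (2, [0, 1, 0, 0, 0, 1])]), (1, [(0, [1])])]
  dn := [0, 1, 0, 0, 1, 1, 0, 1, 1, 0, 0, 1]
  den := 1

theorem ok1 : c1.ok (data.t.cls data.t.o) data.bb data.kk := by (delta Cfsg.Agent.H996.Eight.Cert.Crt.ok; simp only [Cfsg.Agent.H996.Eight.Kq.pEq_eq, Cfsg.Agent.H996.Eight.Kq.pZero_eq, Cfsg.Agent.H996.Eight.Kq.pPos_eq, Cfsg.Agent.H996.Eight.Kq.chkU_eq]; decide +kernel)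

theorem dvd1 : pDvd c1.den c1.dn := by decide +kernel

/-- `1*q^2*P4*P5*P8*P12 / 1` (`Pn` the cyclotomic polynomials) -/
def c2 : Crt 3 where
  th := [-1, 0, 0, -1]
  nu c := ([[0, 0, 0, 0, 0, 1, 2, 3, 4, 5, 5, 5, 5, 4, 3, 2, 1], [0, 0, 0, 0, -1, -1, -1, -1, -1], [1, 1, 1, 1]] : List (List ℤ)).getD c []
  steps := [(2, [(0, [-1]), (2, [0, 1, 0, 0, 0, 1])]), (1, [(0, [1])])]
  dn := [0, 0, 1, 1, 1, 1, 2, 1, 2, 2, 2, 1, 2, 1, 1, 1, 1]
  den := 1

theorem ok2 : c2.ok (data.t.cls data.t.o) data.bb data.kk := by (delta Cfsg.Agent.H996.Eight.Cert.Crt.ok; simp only [Cfsg.Agent.H996.Eight.Kq.pEq_eq, Cfsg.Agent.H996.Eight.Kq.pZero_eq, Cfsg.Agent.H996.Eight.Kq.pPos_eq, Cfsg.Agent.H996.Eight.Kq.chkU_eq]; decide +kernel)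

theorem dvd2 : pDvd c2.den c2.dn := by decide +kernel

end Cfsg.Agent.H996.Eight.TabE6a
end

-- part: H996/PQ/FullE6a
section
/-!
# Full certificate: `E₆`, node `0` (helper996, for S4612; made by a program)

`|G : P| = 1*q^0*P3^2*P6*P9*P12`, number of the long root subgroups `1*q^0*P2*P3*P4*P6*P8*P9*P12` (`Pn` the cyclotomic
polynomials at `q`). Constituents (degree, `D`):
* `0`: degree `1*q^0 / 1`, `D = 0`
* `1`: degree `1*q^1*P8*P9 / 1`, `D = 1*q^10*P2*P3*P4*P6*P12`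
* `2`: degree `1*q^2*P4*P5*P8*P12 / 1`, `D = 1*q^10*P2*P3*P6*P9`
-/

set_option autoImplicit false
set_option maxRecDepth 20000

namespace Cfsg.Agent.H996.PQ.FullE6a

open Cfsg.Agent.H967.Sph Cfsg.Agent.H64.Dl.Sph Cfsg.Agent.H996.Eight Cfsg.Agent.H996.Eight.Cert Cfsg.Agent.H996.Eight.En

def c0 : Crt 3 := ⟨[], fun _ => [1], [], [1], 1⟩

/-- the certificates -/
def C (i : Fin 3) : Crt 3 := ([c0, TabE6a.c1, TabE6a.c2] : List (Crt 3)).getD i c0


/-- the polynomials -/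
def pol : Pol 3 where
  N := [1, 1, 1, 1, 2, 2, 2, 2, 3, 2, 2, 2, 2, 1, 1, 1, 1]
  dn i := (C i).dn
  den i := (C i).den
  D i := ([[], [0, 0, 0, 0, 0, 0, 0, 0, 0, 0, 1, 1, 1, 1, 1, 1, 1, 1, 1, 1, 1, 1], [0, 0, 0, 0, 0, 0, 0, 0, 0, 0, 1, 1, 1, 2, 2, 2, 2, 2, 2, 1, 1, 1]] : List (List ℤ)).getD i []
  o := 0
  nu i := (C i).nu

/-- the long roots -/
def rt : RTab 6 36 where
  V := 7331566395056160060549284009442795241351119215625718893002915619584587539175055751230915715968324127587009560457556548596168175056902106132822510811188054924000120976853835536635153485957765008219076215460580874791814683116389258393370362880118595138081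
  S := 2076635944059057629637969631888537951357646509122253012206279055995176526520765225327400323215484652096816529001367443428986030446537889245787283259705337930811328363144431576883677120188420553605118684487124264869534439832070753611381322632634528202824025659412761918012251955768128820395615112177818183811112127012156773828978048221550826992749904504416963926507912296394882027851151387835636812645578435699408067696120470293959359088362213788594837433407780373998629167850119134551517601623293049865074172314291011840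
  P := 22300743875209884457241280930548420417028657
  Q := 99113885505702252063072373449803893309440

/-- **The full certificate.** -/
def full : Full TabE6a.A 0 27 3 ![1, 2, 2, 3, 2, 1] where
  Da := TabE6a.data
  C := C
  i₀ := 0
  P := pol
  hP := ⟨rfl, rfl, rfl, by decide +kernel⟩
  hN := by (simp only [Cfsg.Agent.H996.Eight.Kq.pEq_eq]; decide +kernel)
  triv := ⟨by decide +kernel, rfl, rfl⟩
  ok := fun i => match i with
    | 0 => fun h => absurd rfl h
    | 1 => fun _ => ⟨ok1_of_ok TabE6a.ok1, TabE6a.dvd1⟩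
    | 2 => fun _ => ⟨ok1_of_ok TabE6a.ok2, TabE6a.dvd2⟩
  uq := fun i => match i with
    | 0 => fun h => absurd rfl h
    | 1 => fun _ => uq_of_ok TabE6a.ok1
    | 2 => fun _ => uq_of_ok TabE6a.ok2
  FF := [0, 0, 0, 1, 1]
  LL := 1
  cf i := ([[0, 0, 0, 1, 1], [1, 0, 0, 1, 0, 0, 1], [1, 0, -1, 0, 1]] : List (List ℤ)).getD i []
  hF := by decide +kernel
  hcf := by (simp only [Cfsg.Agent.H996.Eight.Kq.pEq_eq]; decide +kernel)
  hsum := by (simp only [Cfsg.Agent.H996.Eight.Kq.pEq_eq, Cfsg.Agent.H996.Eight.Kq.pZero_eq]; decide +kernel)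
  hne := by (simp only [Cfsg.Agent.H996.Eight.Kq.pNV_eq]; decide +kernel)
  NL := [1, 1, 1, 2, 3, 3, 4, 5, 5, 5, 6, 6, 5, 5, 5, 4, 3, 3, 2, 1, 1, 1]
  nr := 36
  nz := ⟨by decide⟩
  Z := rt
  hZ := ⟨by decide +kernel, by decide +kernel, by decide +kernel⟩
  kap n := ([0, 1] : List (Fin 3)).getD n 0
  hkap := by decide +kernel
  VV c := ([[1, 1, 1, 1, 2, 2, 2, 2, 3, 2, 2, 1, 1], [0, 0, 0, 0, 0, 0, 0, 0, 0, 0, 0, 1, 1, 1, 1, 1, 1], []] : List (List ℤ)).getD c []
  hVV := by (delta Cfsg.Agent.H996.PQ.ChkC; simp only [Cfsg.Agent.H996.Eight.Kq.pEq_eq]; decide +kernel)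
  hD := by (simp only [Cfsg.Agent.H996.Eight.Kq.pEq_eq]; decide +kernel)

end Cfsg.Agent.H996.PQ.FullE6a
end

-- part: H996/PQ/FullE6b
section
/-!
# Full certificate: `E₆`, node `1` (helper996, for S4612; made by a program)

`|G : P| = 1*q^0*P2*P3*P4*P6*P8*P9*P12`, number of the long root subgroups `1*q^0*P2*P3*P4*P6*P8*P9*P12` (`Pn` the cyclotomic
polynomials at `q`). Constituents (degree, `D`):
* `0`: degree `1*q^0 / 1`, `D = 0`
* `1`: degree `1*q^1*P8*P9 / 1`, `D = 1*q^10*P2*P3*P4*P6*P12`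
* `2`: degree `1*q^2*P4*P5*P8*P12 / 1`, `D = 1*q^10*P2*P3*P6*P9`
* `3`: degree `1*q^3*P5*P8*P9*P12 / 2`, `D = 1*q^9*P2*P3*P4*P6*(-1 + 2*q + 1*q^2 + -1*q^3 + 1*q^5)`
* `4`: degree `1*q^3*P4^2*P5*P9*P12 / 2`, `D = 1*q^9*P2^2*P3*P6^2*P8`
-/

set_option autoImplicit false
set_option maxRecDepth 20000

namespace Cfsg.Agent.H996.PQ.FullE6b

open Cfsg.Agent.H967.Sph Cfsg.Agent.H64.Dl.Sph Cfsg.Agent.H996.Eight Cfsg.Agent.H996.Eight.Cert Cfsg.Agent.H996.Eight.En

def c0 : Crt 5 := ⟨[], fun _ => [1], [], [1], 1⟩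

/-- the certificates -/
def C (i : Fin 5) : Crt 5 := ([c0, TabE6b.c1, TabE6b.c2, TabE6b.c3, TabE6b.c4] : List (Crt 5)).getD i c0


/-- the polynomials -/
def pol : Pol 5 where
  N := [1, 1, 1, 2, 3, 3, 4, 5, 5, 5, 6, 6, 5, 5, 5, 4, 3, 3, 2, 1, 1, 1]
  dn i := (C i).dn
  den i := (C i).den
  D i := ([[], [0, 0, 0, 0, 0, 0, 0, 0, 0, 0, 1, 1, 1, 1, 1, 1, 1, 1, 1, 1, 1, 1], [0, 0, 0, 0, 0, 0, 0, 0, 0, 0, 1, 1, 1, 2, 2, 2, 2, 2, 2, 1, 1, 1], [0, 0, 0, 0, 0, 0, 0, 0, 0, -1, 1, 1, 2, 3, 3, 4, 3, 3, 2, 1, 1, 1], [0, 0, 0, 0, 0, 0, 0, 0, 0, 1, 1, 1, 2, 3, 3, 2, 3, 3, 2, 1, 1, 1]] : List (List ℤ)).getD i []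
  o := 0
  nu i := (C i).nu

/-- the long roots -/
def rt : RTab 6 36 where
  V := 7331566395056160060549284009442795241351119215625718893002915619584587539175055751230915715968324127587009560457556548596168175056902106132822510811188054924000120976853835536635153485957765008219076215460580874791814683116389258393370362880118595138081
  S := 2076635944059057629637969631888537951357646509122253012206279055995176526520765225327400323215484652096816529001367443428986030446537889245787283259705337930811328363144431576883677120188420553605118684487124264869534439832070753611381322632634528202824025659412761918012251955768128820395615112177818183811112127012156773828978048221550826992749904504416963926507912296394882027851151387835636812645578435699408067696120470293959359088362213788594837433407780373998629167850119134551517601623293049865074172314291011840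
  P := 22300743875209884457241280930548420417028657
  Q := 99113885505702252063072373449803893309440

/-- **The full certificate.** -/
def full : Full TabE6b.A 1 72 5 ![1, 2, 2, 3, 2, 1] where
  Da := TabE6b.data
  C := C
  i₀ := 0
  P := pol
  hP := ⟨rfl, rfl, rfl, by decide +kernel⟩
  hN := by (simp only [Cfsg.Agent.H996.Eight.Kq.pEq_eq]; decide +kernel)
  triv := ⟨by decide +kernel, rfl, rfl⟩
  ok := fun i => match i with
    | 0 => fun h => absurd rfl h
    | 1 => fun _ => ⟨ok1_of_ok TabE6b.ok1, TabE6b.dvd1⟩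
    | 2 => fun _ => ⟨ok1_of_ok TabE6b.ok2, TabE6b.dvd2⟩
    | 3 => fun _ => ⟨ok1_of_ok TabE6b.ok3, TabE6b.dvd3⟩
    | 4 => fun _ => ⟨ok1_of_ok TabE6b.ok4, TabE6b.dvd4⟩
  uq := fun i => match i with
    | 0 => fun h => absurd rfl h
    | 1 => fun _ => uq_of_ok TabE6b.ok1
    | 2 => fun _ => uq_of_ok TabE6b.ok2
    | 3 => fun _ => uq_of_ok TabE6b.ok3
    | 4 => fun _ => uq_of_ok TabE6b.ok4
  FF := [0, 0, 0, 0, 0, 0, 0, 0, 0, 1, 0, 0, 1]
  LL := 2
  cf i := ([[0, 0, 0, 0, 0, 0, 0, 0, 0, 2, 0, 0, 2], [0, 0, 0, 0, 2, 0, 0, 2, 2, 0, 2, 2, 0, 0, 2], [0, 0, 2, 0, 0, 0, 2, 0, 2, 0, 0, 0, 2], [1, 0, -1, 2, 2, -2, 1, 4, -1, -1, 4, 1, -2, 2, 2, -1, 0, 1], [1, 0, 0, 1, 0, 0, 2, 0, 0, 1, 0, 0, 1]] : List (List ℤ)).getD i []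
  hF := by decide +kernel
  hcf := by (simp only [Cfsg.Agent.H996.Eight.Kq.pEq_eq]; decide +kernel)
  hsum := by (simp only [Cfsg.Agent.H996.Eight.Kq.pEq_eq, Cfsg.Agent.H996.Eight.Kq.pZero_eq]; decide +kernel)
  hne := by (simp only [Cfsg.Agent.H996.Eight.Kq.pNV_eq]; decide +kernel)
  NL := [1, 1, 1, 2, 3, 3, 4, 5, 5, 5, 6, 6, 5, 5, 5, 4, 3, 3, 2, 1, 1, 1]
  nr := 36
  nz := ⟨by decide⟩
  Z := rt
  hZ := ⟨by decide +kernel, by decide +kernel, by decide +kernel⟩
  kap n := ([0, 1, 4] : List (Fin 5)).getD n 0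
  hkap := by decide +kernel
  VV c := ([[1, 1, 1, 2, 3, 3, 4, 5, 5, 5, 6, 5, 4, 3, 2, 1], [0, 0, 0, 0, 0, 0, 0, 0, 0, 0, 0, 1, 1, 2, 3, 3, 3, 3, 2, 1, 1], [], [], [0, 0, 0, 0, 0, 0, 0, 0, 0, 0, 0, 0, 0, 0, 0, 0, 0, 0, 0, 0, 0, 1]] : List (List ℤ)).getD c []
  hVV := by (delta Cfsg.Agent.H996.PQ.ChkC; simp only [Cfsg.Agent.H996.Eight.Kq.pEq_eq]; decide +kernel)
  hD := by (simp only [Cfsg.Agent.H996.Eight.Kq.pEq_eq]; decide +kernel)

end Cfsg.Agent.H996.PQ.FullE6b
end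

-- part: H996/PQ/RowE6
section
/-!
# The separation theorem and the polynomials: `E₆(q)` (helper996, for S4612; made by a program)
-/

set_option autoImplicit false

namespace Cfsg.Agent.H996.PQ.FullE6a

open Cfsg Cfsg.Agent.H317.PQ Cfsg.Agent.H996.Eight Cfsg.Agent.H996.Eight.Cert Cfsg.Agent.H35.ExcIdx
open Cfsg.Lie Cfsg.Agent.ChevalleyStructure.CoxeterGeomTypes Cfsg.Agent.Nodes.RGDChev

universe u

/-- the degrees: `evdn` -/
theorem deg {x : ℕ} (hx : 2 ≤ x) (i : Fin 3) : (pol.den i : ℤ) * (pol.deg x i : ℤ) = evZ x (pol.dn i) :=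
  full.degZ hx i

theorem hA : cartanOf chevE6 6 = TabE6a.A := by
  funext i k
  revert i k
  decide +kernel

end Cfsg.Agent.H996.PQ.FullE6a

namespace Cfsg.Agent.H996.PQ.FullE6b

open Cfsg Cfsg.Agent.H317.PQ Cfsg.Agent.H996.Eight Cfsg.Agent.H996.Eight.Cert Cfsg.Agent.H35.ExcIdx
open Cfsg.Lie Cfsg.Agent.ChevalleyStructure.CoxeterGeomTypes Cfsg.Agent.Nodes.RGDChev

universe u

/-- the degrees: `evdn` -/
theorem deg {x : ℕ} (hx : 2 ≤ x) (i : Fin 5) : (pol.den i : ℤ) * (pol.deg x i : ℤ) = evZ x (pol.dn i) :=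
  full.degZ hx i

theorem hA : cartanOf chevE6 6 = TabE6b.A := by
  funext i k
  revert i k
  decide +kernel

end Cfsg.Agent.H996.PQ.FullE6b
end

-- part: H996/PQ/RowE6X
section
/-!
# The extended separation theorem: `E₆(q)` (helper996, for S4612; made by a program)
-/

set_option autoImplicit false
set_option maxRecDepth 20000

namespace Cfsg.Agent.H996.PQ.FullE6a

open Cfsg Cfsg.Agent.H317.PQ Cfsg.Agent.H64.Dl.Sph Cfsg.Agent.H996.Eight Cfsg.Agent.H996.Eight.Cert Cfsg.Agent.H35.ExcIdx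
open Cfsg.Lie Cfsg.Agent.ChevalleyStructure.CoxeterGeomTypes Cfsg.Agent.Nodes.RGDChev

universe u

/-- the eigenvalues of the double cosets: row `i` (constituent), column `c` (double coset) -/
def lamL : List (List (List ℤ)) :=
  [[[1], [0, 1, 1, 1, 2, 2, 2, 2, 2, 1, 1, 1], [0, 0, 0, 0, 0, 0, 0, 0, 1, 1, 1, 1, 2, 1, 1, 1, 1]],
   [[1], [-1, 0, 0, 0, 1, 1, 1, 1, 1], [0, 0, 0, 0, -1, -1, -1, -1, -1]],
   [[1], [-1, 0, 0, -1], [0, 0, 0, 1]]]

/-- the eigenvalue of the double coset `c` on the constituent `i` -/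
def lam (i c : Fin 3) : List ℤ := (lamL.getD i []).getD c []

theorem lam_ok : full.Lam lam := by
  show ∀ i c, pEq (pMul (lam i c) (full.P.nu i full.P.o)) (pMul (full.Da.kk c) (full.P.nu i c)) = true
  (simp only [Cfsg.Agent.H996.Eight.Kq.pEq_eq]; decide +kernel)

/-- **The extended theorem.** -/
theorem sepX {K : Type u} [Field K] [Fintype K] {p l : ℕ} (hp : p.Prime) (hl : l.Prime)
    (hS : Same p l ↥(chevE6.group K)) : SepX pol lam (Fintype.card K) p l (Nat.card ↥(chevE6.group K)) 0 :=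
  split_sepX (hpE6) K hA full lam_ok (by decide +kernel)
    H241.PQ.hi_E6 TabE6b.data (by decide +kernel) (by decide +kernel) hp hl hS

end Cfsg.Agent.H996.PQ.FullE6a

namespace Cfsg.Agent.H996.PQ.FullE6b

open Cfsg Cfsg.Agent.H317.PQ Cfsg.Agent.H64.Dl.Sph Cfsg.Agent.H996.Eight Cfsg.Agent.H996.Eight.Cert Cfsg.Agent.H35.ExcIdx
open Cfsg.Lie Cfsg.Agent.ChevalleyStructure.CoxeterGeomTypes Cfsg.Agent.Nodes.RGDChev

universe u

/-- the eigenvalues of the double cosets: row `i` (constituent), column `c` (double coset) -/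
def lamL : List (List (List ℤ)) :=
  [[[1], [0, 1, 1, 2, 3, 3, 3, 3, 2, 1, 1], [0, 0, 0, 0, 0, 0, 1, 2, 3, 4, 5, 5, 4, 3, 2, 1], [0, 0, 0, 0, 0, 0, 0, 0, 0, 0, 0, 1, 1, 2, 3, 3, 3, 3, 2, 1, 1], [0, 0, 0, 0, 0, 0, 0, 0, 0, 0, 0, 0, 0, 0, 0, 0, 0, 0, 0, 0, 0, 1]],
   [[1], [-1, 0, 0, 1, 2, 3, 2, 2, 1], [0, 0, 0, -1, -2, -3, -2, -1, 1, 2, 3, 2, 1], [0, 0, 0, 0, 0, 0, 0, -1, -2, -2, -3, -2, -1, 0, 0, 1], [0, 0, 0, 0, 0, 0, 0, 0, 0, 0, 0, 0, 0, 0, 0, -1]],
   [[1], [-1, 0, -1, 0, 1, 1, 1, 1], [0, 0, 1, 0, -1, -2, -2, -2, -1, 0, 1], [0, 0, 0, 0, 0, 1, 1, 1, 1, 0, -1, 0, -1], [0, 0, 0, 0, 0, 0, 0, 0, 0, 0, 0, 0, 1]],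
   [[1], [-1, 0, -1, -1, 0, -1], [0, 0, 1, 1, 1, 1, 1, 1], [0, 0, 0, 0, -1, 0, -1, -1, 0, -1], [0, 0, 0, 0, 0, 0, 0, 0, 0, 1]],
   [[1], [-1, 0, -1, -1, 0, 1], [0, 0, 1, 1, 1, -1, -1, -1], [0, 0, 0, 0, -1, 0, 1, 1, 0, 1], [0, 0, 0, 0, 0, 0, 0, 0, 0, -1]]]

/-- the eigenvalue of the double coset `c` on the constituent `i` -/
def lam (i c : Fin 5) : List ℤ := (lamL.getD i []).getD c []

theorem lam_ok : full.Lam lam := by
  show ∀ i c, pEq (pMul (lam i c) (full.P.nu i full.P.o)) (pMul (full.Da.kk c) (full.P.nu i c)) = true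
  (simp only [Cfsg.Agent.H996.Eight.Kq.pEq_eq]; decide +kernel)

/-- **The extended theorem.** -/
theorem sepX {K : Type u} [Field K] [Fintype K] {p l : ℕ} (hp : p.Prime) (hl : l.Prime)
    (hS : Same p l ↥(chevE6.group K)) : SepX pol lam (Fintype.card K) p l (Nat.card ↥(chevE6.group K)) 0 :=
  split_sepX (hpE6) K hA full lam_ok (by decide +kernel)
    H241.PQ.hi_E6 TabE6b.data (by decide +kernel) (by decide +kernel) hp hl hS

end Cfsg.Agent.H996.PQ.FullE6b
end
end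

-- part: H996/PQ/RowE8X
section
set_option linter.all false

/-!
# The extended separation theorem: `E₈(q)`, node `7` (helper996, for S4612; made by a program)
-/

set_option autoImplicit false
set_option maxRecDepth 20000

namespace Cfsg.Agent.H996.PQ.FullE8a

open Cfsg Cfsg.Agent.H317.PQ Cfsg.Agent.H64.Dl.Sph Cfsg.Agent.H996.Eight Cfsg.Agent.H996.Eight.Cert Cfsg.Agent.H35.ExcIdx
open Cfsg.Lie Cfsg.Agent.ChevalleyStructure.CoxeterGeomTypes Cfsg.Agent.Nodes.RGDChev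

universe u

/-- the eigenvalues of the double cosets: row `i` (constituent), column `c` (double coset) -/
def lamL : List (List (List ℤ)) :=
  [[[1], [0, 1, 1, 1, 1, 1, 2, 2, 2, 2, 3, 3, 3, 3, 3, 3, 3, 3, 3, 3, 2, 2, 2, 2, 1, 1, 1, 1, 1], [0, 0, 0, 0, 0, 0, 0, 0, 0, 0, 0, 0, 1, 1, 1, 1, 2, 2, 3, 3, 4, 4, 5, 5, 6, 6, 6, 6, 7, 7, 6, 6, 6, 6, 5, 5, 4, 4, 3, 3, 2, 2, 1, 1, 1, 1], [0, 0, 0, 0, 0, 0, 0, 0, 0, 0, 0, 0, 0, 0, 0, 0, 0, 0, 0, 0, 0, 0, 0, 0, 0, 0, 0, 0, 0, 1, 1, 1, 1, 1, 2, 2, 2, 2, 3, 3, 3, 3, 3, 3, 3, 3, 3, 3, 2, 2, 2, 2, 1, 1, 1, 1, 1], [0, 0, 0, 0, 0, 0, 0, 0, 0, 0, 0, 0, 0, 0, 0, 0, 0, 0, 0, 0, 0, 0, 0, 0, 0, 0, 0, 0, 0, 0, 0, 0, 0, 0, 0, 0, 0, 0, 0, 0, 0, 0, 0, 0, 0, 0, 0, 0, 0, 0, 0, 0, 0, 0, 0, 0, 0, 1]],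
   [[1], [-1, 0, 0, 0, 0, 0, 1, 1, 1, 1, 2, 2, 2, 2, 3, 2, 2, 2, 2, 2, 1, 1, 1, 1], [0, 0, 0, 0, 0, 0, -1, -1, -1, -1, -2, -2, -2, -2, -3, -2, -2, -2, -2, -1, 0, 0, 0, 1, 2, 2, 2, 2, 3, 2, 2, 2, 2, 1, 1, 1, 1], [0, 0, 0, 0, 0, 0, 0, 0, 0, 0, 0, 0, 0, 0, 0, 0, 0, 0, 0, -1, -1, -1, -1, -2, -2, -2, -2, -2, -3, -2, -2, -2, -2, -1, -1, -1, -1, 0, 0, 0, 0, 0, 1], [0, 0, 0, 0, 0, 0, 0, 0, 0, 0, 0, 0, 0, 0, 0, 0, 0, 0, 0, 0, 0, 0, 0, 0, 0, 0, 0, 0, 0, 0, 0, 0, 0, 0, 0, 0, 0, 0, 0, 0, 0, 0, -1]],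
   [[1], [-1, 0, 0, 0, 0, -1, 0, 0, 0, 0, 1, 1, 1, 1, 1, 1, 1, 1, 1, 1], [0, 0, 0, 0, 0, 1, 0, 0, 0, 0, -1, -1, -1, -1, -2, -2, -2, -2, -2, -2, -1, -1, -1, -1, 0, 0, 0, 0, 1], [0, 0, 0, 0, 0, 0, 0, 0, 0, 0, 0, 0, 0, 0, 1, 1, 1, 1, 1, 1, 1, 1, 1, 1, 0, 0, 0, 0, -1, 0, 0, 0, 0, -1], [0, 0, 0, 0, 0, 0, 0, 0, 0, 0, 0, 0, 0, 0, 0, 0, 0, 0, 0, 0, 0, 0, 0, 0, 0, 0, 0, 0, 0, 0, 0, 0, 0, 1]],
   [[1], [-1, 0, 0, 0, 0, -1, 0, 0, 0, -1, 0, 0, 0, 0, -1], [0, 0, 0, 0, 0, 1, 0, 0, 0, 1, 0, 0, 0, 1, 1, 0, 0, 0, 1, 0, 0, 0, 1], [0, 0, 0, 0, 0, 0, 0, 0, 0, 0, 0, 0, 0, -1, 0, 0, 0, 0, -1, 0, 0, 0, -1, 0, 0, 0, 0, -1], [0, 0, 0, 0, 0, 0, 0, 0, 0, 0, 0, 0, 0, 0, 0, 0, 0, 0, 0, 0, 0, 0, 0, 0, 0, 0, 0, 1]],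
   [[1], [-1, 0, 0, 0, 0, -1, 0, 0, 0, -1, 0, 0, 0, 0, 1], [0, 0, 0, 0, 0, 1, 0, 0, 0, 1, 0, 0, 0, 1, -1, 0, 0, 0, -1, 0, 0, 0, -1], [0, 0, 0, 0, 0, 0, 0, 0, 0, 0, 0, 0, 0, -1, 0, 0, 0, 0, 1, 0, 0, 0, 1, 0, 0, 0, 0, 1], [0, 0, 0, 0, 0, 0, 0, 0, 0, 0, 0, 0, 0, 0, 0, 0, 0, 0, 0, 0, 0, 0, 0, 0, 0, 0, 0, -1]]]

/-- the eigenvalue of the double coset `c` on the constituent `i` -/
def lam (i c : Fin 5) : List ℤ := (lamL.getD i []).getD c []

theorem lam_ok : full.Lam lam := by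
  show ∀ i c, pEq (pMul (lam i c) (full.P.nu i full.P.o)) (pMul (full.Da.kk c) (full.P.nu i c)) = true
  decide +kernel

/-- **The extended theorem.** -/
theorem sepX {K : Type u} [Field K] [Fintype K] {p l : ℕ} (hp : p.Prime) (hl : l.Prime)
    (hS : Same p l ↥(chevE8.group K)) : SepX pol lam (Fintype.card K) p l (Nat.card ↥(chevE8.group K)) 0 :=
  split_sepX (hpE8) K hA full lam_ok (by decide +kernel)
    H241.PQ.hi_E8 TabE8a.data (by decide +kernel) (by decide +kernel) hp hl hS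

end Cfsg.Agent.H996.PQ.FullE8a
end

-- part: H996/PQ/RowF4X
section
prune_inst 0x4010000
set_option linter.all false

-- part: H996/PQ/FullF4a
section
/-!
# Full certificate: `F₄`, node `0` (helper996, for S4612; made by a program)

`|G : P| = 1*q^0*P2*P3*P4*P6*P8*P12`, number of the long root subgroups `1*q^0*P2*P3*P4*P6*P8*P12` (`Pn` the cyclotomic
polynomials at `q`). Constituents (degree, `D`):
* `0`: degree `1*q^0 / 1`, `D = 0`
* `1`: degree `1*q^1*P4*P8*P12 / 2`, `D = 1*q^7*P1*P2*P3^2*P6`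
* `2`: degree `1*q^1*P2^2*P6^2*P8 / 2`, `D = 1*q^7*P3*P4*P12`
* `3`: degree `1*q^2*P3^2*P6^2*P12 / 1`, `D = 1*q^8*P2*P4*P8`
* `4`: degree `1*q^3*P4^2*P8*P12 / 1`, `D = 1*q^10*P2*P3*P6`
-/

set_option autoImplicit false
set_option maxRecDepth 20000

namespace Cfsg.Agent.H996.PQ.FullF4a

open Cfsg.Agent.H967.Sph Cfsg.Agent.H64.Dl.Sph Cfsg.Agent.H996.Eight Cfsg.Agent.H996.Eight.Cert Cfsg.Agent.H996.Eight.En

def c0 : Crt 5 := ⟨[], fun _ => [1], [], [1], 1⟩

/-- the certificates -/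
def C (i : Fin 5) : Crt 5 := ([c0, TabF4a.c1, TabF4a.c2, TabF4a.c3, TabF4a.c4] : List (Crt 5)).getD i c0


/-- the polynomials -/
def pol : Pol 5 where
  N := [1, 1, 1, 1, 2, 2, 2, 2, 2, 2, 2, 2, 1, 1, 1, 1]
  dn i := (C i).dn
  den i := (C i).den
  D i := ([[], [0, 0, 0, 0, 0, 0, 0, -1, -1, -1, 0, 0, 0, 1, 1, 1], [0, 0, 0, 0, 0, 0, 0, 1, 1, 1, 0, 0, 0, 1, 1, 1], [0, 0, 0, 0, 0, 0, 0, 0, 1, 1, 1, 1, 1, 1, 1, 1], [0, 0, 0, 0, 0, 0, 0, 0, 0, 0, 1, 1, 1, 1, 1, 1]] : List (List ℤ)).getD i []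
  o := 0
  nu i := (C i).nu

/-- the long roots -/
def rt : RTab 4 12 where
  V := 24525914970984824639630287546977029088121354345236276034
  S := 1237947427707087178472231122524848746023515845366931516922216276090790109061678718808151121538484446961366837755904
  P := 280452791402787
  Q := 38482906972160

/-- **The full certificate.** -/
def full : Full TabF4a.A 0 24 5 ![2, 4, 3, 2] where
  Da := TabF4a.data
  C := C
  i₀ := 0
  P := pol
  hP := ⟨rfl, rfl, rfl, by decide +kernel⟩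
  hN := by (simp only [Cfsg.Agent.H996.Eight.Kq.pEq_eq]; decide +kernel)
  triv := ⟨by decide +kernel, rfl, rfl⟩
  ok := fun i => match i with
    | 0 => fun h => absurd rfl h
    | 1 => fun _ => ⟨ok1_of_ok TabF4a.ok1, TabF4a.dvd1⟩
    | 2 => fun _ => ⟨ok1_of_ok TabF4a.ok2, TabF4a.dvd2⟩
    | 3 => fun _ => ⟨ok1_of_ok TabF4a.ok3, TabF4a.dvd3⟩
    | 4 => fun _ => ⟨ok1_of_ok TabF4a.ok4, TabF4a.dvd4⟩
  uq := fun i => match i with
    | 0 => fun h => absurd rfl h
    | 1 => fun _ => uq_of_ok TabF4a.ok1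
    | 2 => fun _ => uq_of_ok TabF4a.ok2
    | 3 => fun _ => uq_of_ok TabF4a.ok3
    | 4 => fun _ => uq_of_ok TabF4a.ok4
  FF := [0, 0, 0, 0, 0, 0, 1, 1]
  LL := 2
  cf i := ([[0, 0, 0, 0, 0, 0, 2, 2], [0, 1, 0, 0, 0, 1, 0, 1, 0, 0, 0, 1], [0, 1, 1, 0, 1, 2, 1, 0, 1, 1], [2, 0, 0, 0, 2, 0, 0, 0, 2], [2, 0, 0, 0, 2, 0, 2, 0, 0, 0, 2]] : List (List ℤ)).getD i []
  hF := by decide +kernel
  hcf := by (simp only [Cfsg.Agent.H996.Eight.Kq.pEq_eq]; decide +kernel)
  hsum := by (simp only [Cfsg.Agent.H996.Eight.Kq.pEq_eq, Cfsg.Agent.H996.Eight.Kq.pZero_eq]; decide +kernel)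
  hne := by (simp only [Cfsg.Agent.H996.Eight.Kq.pNV_eq]; decide +kernel)
  NL := [1, 1, 1, 1, 2, 2, 2, 2, 2, 2, 2, 2, 1, 1, 1, 1]
  nr := 12
  nz := ⟨by decide⟩
  Z := rt
  hZ := ⟨by decide +kernel, by decide +kernel, by decide +kernel⟩
  kap n := ([0, 0, 2] : List (Fin 5)).getD n 0
  hkap := by decide +kernel
  VV c := ([[1, 1, 1, 1, 2, 2, 2, 2, 2, 2, 1, 1], [], [0, 0, 0, 0, 0, 0, 0, 0, 0, 0, 1, 1, 1, 1, 1, 1], [], []] : List (List ℤ)).getD c []
  hVV := by (delta Cfsg.Agent.H996.PQ.ChkC; simp only [Cfsg.Agent.H996.Eight.Kq.pEq_eq]; decide +kernel)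
  hD := by (simp only [Cfsg.Agent.H996.Eight.Kq.pEq_eq]; decide +kernel)

end Cfsg.Agent.H996.PQ.FullF4a
end

-- part: H996/PQ/TabF4d
section
/-!
# The table of the spherical machine: `F₄`, node `3` (helper996, for S4612; made by a program)

24 states, 5 classes.
-/

set_option autoImplicit false
set_option maxRecDepth 20000

namespace Cfsg.Agent.H996.PQ.TabF4d

open Cfsg.Agent.H967.Sph Cfsg.Agent.H64.Dl.Sph Cfsg.Agent.H996.Eight.Cert Cfsg.Agent.H996.Eight.En

/-- the Cartan matrix -/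
def A (i k : Fin 4) : ℤ := (([[2, -1, 0, 0], [-1, 2, -2, 0], [0, -1, 2, -1], [0, 0, -1, 2]] : List (List ℤ)).getD i []).getD k 0

/-- the encoded table -/
def enc : Enc 4 24 5 where
  j := 3
  V := 18551813145641404559631278111941347364420240026327995261459484224281168218420212520500643827731685137908616955205768
  S := 209585948347032473388732970014326661067019478864286225440091573055080811631635641918521840323481389960760558027924482972446772979876024392460794981171878097421696060824418990709289157128957192767635028664153743602587170420898821481453121671536296703818781583818173854995363941488944742400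
  C := 170173342163579295669533205362410528
  P := 37995022776389900215743671079527250221795632900091847944390629043208192
  Q := 15496162291301456167483478576
  CP := 1765157046060728488021291325614354216206943458759285923392767603727400959
  CQ := 640881819876013052428030464
  R := 25301659681792
  W := 369144744884584745186752644434212645045964364134001803520

/-- the table -/
def tab : Tab A 3 24 5 :=
  enc.tab A (by decide +kernel) (Cfsg.Agent.H996.Eight.Kq.t1 38 (by decide +kernel)) (Cfsg.Agent.H996.Eight.Kq.act_of (by decide +kernel)) (Cfsg.Agent.H996.Eight.Kq.t3 (by decide +kernel)) (by decide +kernel)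
    (Cfsg.Agent.H996.Eight.Kq.t5 (by decide +kernel)) (Cfsg.Agent.H996.Eight.Kq.t6 (r := fun a => enc.crep (enc.cls a)) (by decide +kernel))

/-- the exponents of the parameters -/
def e (i : Fin 4) : ℕ := ([1, 1, 1, 1] : List ℕ).getD i 0

def matL : List (List (List ℤ)) := [[[], [0, 1], [], [], []], [[0, 1], [0, -1, 1, 1, 1, 1], [0, 0, 0, 0, 0, 1, 1, 1], [0, 0, 0, 0, 0, 0, 0, 0, 1], []], [[], [0, 0, 0, 0, 0, 1, 1, 1], [0, 0, 0, 0, 0, -1, 0, 0, 1], [0, 0, 0, 0, 0, 0, 0, 0, 0, 1, 1, 1], []], [[], [0, 0, 0, 0, 0, 0, 0, 0, 1], [0, 0, 0, 0, 0, 0, 0, 0, 0, 1, 1, 1], [0, 0, 0, 0, 0, 0, 0, 0, -1, 0, 0, 0, 2, 1, 1], [0, 0, 0, 0, 0, 0, 0, 0, 0, 0, 0, 0, 0, 0, 0, 1]], [[], [], [], [0, 0, 0, 0, 0, 0, 0, 0, 0, 0, 0, 0, 0, 0, 0, 1], [0, 0, 0, 0, 0, 0, 0, 0, 0, 0, 0, 0, 0, 0, 0, -1, 1]]]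

def bbL : List (List (List ℤ)) := [[[], [0, 1, 1, 1, 2, 1, 1, 1], [], [], []], [[1], [-1, 1, 1, 1, 1], [0, 0, 0, 0, 1, 1, 1], [0, 0, 0, 0, 0, 0, 0, 1], []], [[], [1, 1, 1, 1], [-1, 0, 0, 0, 1], [0, 0, 0, 0, 1, 1, 1, 1], []], [[], [1], [0, 1, 1, 1], [-1, 0, 0, 0, 2, 1, 1], [0, 0, 0, 0, 0, 0, 0, 1]], [[], [], [], [1, 1, 1, 2, 1, 1, 1], [-1, 0, 0, -1, 1, 0, 0, 1]]]

def kL : List (List ℤ) := [[1], [0, 1, 1, 1, 2, 1, 1, 1], [0, 0, 0, 0, 0, 1, 1, 1, 1, 1, 1], [0, 0, 0, 0, 0, 0, 0, 0, 1, 1, 1, 2, 1, 1, 1], [0, 0, 0, 0, 0, 0, 0, 0, 0, 0, 0, 0, 0, 0, 0, 1]]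

/-- the data -/
def data : Data A 3 24 5 where
  t := tab
  e := e
  wl := enc.wl
  mat c c' := (matL.getD c []).getD c' []
  kk c := kL.getD c []
  ff := [1, 1, 1, 2, 1, 1, 1]
  bb c c' := (bbL.getD c []).getD c' []
  chkM := by (delta Cfsg.Agent.H996.Eight.Cert.ChkM Cfsg.Agent.H996.Eight.Cert.ctr; simp only [Cfsg.Agent.H996.Eight.Kq.pEq_eq]; decide +kernel)
  chkK := by (delta Cfsg.Agent.H64.Dl.Sph.ChkK; simp only [Cfsg.Agent.H996.Eight.Kq.pEq_eq]; decide +kernel)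
  chkF := by decide +kernel
  chkP := by (simp only [Cfsg.Agent.H996.Eight.Kq.pPos_eq]; decide +kernel)
  chkB := by (simp only [Cfsg.Agent.H996.Eight.Kq.pEq_eq]; decide +kernel)
  wo := by decide +kernel
  ws := by decide +kernel

end Cfsg.Agent.H996.PQ.TabF4d
end

-- part: H996/PQ/FullF4d
section
/-!
# Full certificate: `F₄`, node `3` (helper996, for S4612; made by a program)

`|G : P| = 1*q^0*P2*P3*P4*P6*P8*P12`, number of the long root subgroups `1*q^0*P2*P3*P4*P6*P8*P12` (`Pn` the cyclotomic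
polynomials at `q`). Constituents (degree, `D`):
* `0`: degree `1*q^0 / 1`, `D = 0`
* `1`: degree `1*q^1*P4*P8*P12 / 2`, `D = 1*q^7*P2^2*P3*P6^2`
* `2`: degree `1*q^1*P2^2*P6^2*P8 / 2`, `D = 1*q^7*P3*P4*P12`
* `3`: degree `1*q^2*P3^2*P6^2*P12 / 1`, `D = 1*q^8*P2*P4*P8`
* `4`: degree `1*q^3*P4^2*P8*P12 / 1`, `D = 1*q^6*P2*P3*P6*P8`
-/

set_option autoImplicit false
set_option maxRecDepth 20000

namespace Cfsg.Agent.H996.PQ.FullF4d

open Cfsg.Agent.H967.Sph Cfsg.Agent.H64.Dl.Sph Cfsg.Agent.H996.Eight Cfsg.Agent.H996.Eight.Cert Cfsg.Agent.H996.Eight.En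

/-- degree `1*q^0 / 1` -/
def c0 : Crt 5 where
  th := [0, 1, 1, 1, 2, 1, 1, 1]
  nu c := ([[1], [1], [1], [1], [1]] : List (List ℤ)).getD c []
  steps := []
  dn := [1]
  den := 1

/-- degree `1*q^1*P4*P8*P12 / 2` -/
def c1 : Crt 5 where
  th := [-1, 0, -1, -1, 0, -1]
  nu c := ([[0, 0, 0, 0, 0, 0, 1, 1], [0, 0, 0, 0, 0, -1], [0, 0, 0, 1, 1], [0, 0, -1], [1, 1]] : List (List ℤ)).getD c []
  steps := []
  dn := [0, 1, 0, 0, 0, 1, 0, 1, 0, 0, 0, 1]
  den := 2

/-- degree `1*q^1*P2^2*P6^2*P8 / 2` -/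
def c2 : Crt 5 where
  th := [-1, 0, 1, 1, 2, 1]
  nu c := ([[0, 0, 0, 0, 0, 0, 1, 0, 0, 1], [0, 0, 0, 0, 0, -1, 1, 1], [0, 0, 0, -1, 0, 0, 1], [0, 0, -1, -1, 1], [-1, 0, 0, -1]] : List (List ℤ)).getD c []
  steps := []
  dn := [0, 1, 0, 0, 2, 1, 0, 1, 2, 0, 0, 1]
  den := 2

/-- degree `1*q^2*P3^2*P6^2*P12 / 1` -/
def c3 : Crt 5 where
  th := [-1, 0, 0, 0, 1]
  nu c := ([[0, 0, 0, 0, 0, 0, 0, 0, 1, 1, 1, 1, 1, 1], [0, 0, 0, 0, 0, 0, 0, -1, 0, 0, 1], [0, 0, 0, 0, 0, 0, -1, -1], [0, 0, 0, 1, 0, 0, -1], [1, 1, 1, 1, 1, 1]] : List (List ℤ)).getD c []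
  steps := []
  dn := [0, 0, 1, 0, 1, 0, 2, 0, 1, 0, 2, 0, 1, 0, 1]
  den := 1

/-- degree `1*q^3*P4^2*P8*P12 / 1` -/
def c4 : Crt 5 where
  th := [-1, 0, 0, -1]
  nu c := ([[0, 0, 0, 0, 0, 0, 0, 0, 0, 1, 1, 1, 1], [0, 0, 0, 0, 0, 0, 0, 0, -1], [], [0, 0, 0, 0, 1], [-1, -1, -1, -1]] : List (List ℤ)).getD c []
  steps := []
  dn := [0, 0, 0, 1, 0, 1, 0, 1, 0, 2, 0, 1, 0, 1, 0, 1]
  den := 1

/-- the certificates -/
def C (i : Fin 5) : Crt 5 := ([c0, c1, c2, c3, c4] : List (Crt 5)).getD i c0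

theorem okA : ∀ i, ok1 (C i) (TabF4d.data.t.cls TabF4d.data.t.o) TabF4d.data.bb TabF4d.data.kk := by decide +kernel

theorem dvdA : ∀ i, pDvd (C i).den (C i).dn := by decide +kernel

theorem neA : ∀ i k, i < k → pNV (pAdd (C i).th (pNeg (C k).th)) = true := by (simp only [Cfsg.Agent.H996.Eight.Kq.pNV_eq]; decide +kernel)


/-- the polynomials -/
def pol : Pol 5 where
  N := [1, 1, 1, 1, 2, 2, 2, 2, 2, 2, 2, 2, 1, 1, 1, 1]
  dn i := (C i).dn
  den i := (C i).den
  D i := ([[], [0, 0, 0, 0, 0, 0, 0, 1, 1, 1, 2, 2, 2, 1, 1, 1], [0, 0, 0, 0, 0, 0, 0, 1, 1, 1, 0, 0, 0, 1, 1, 1], [0, 0, 0, 0, 0, 0, 0, 0, 1, 1, 1, 1, 1, 1, 1, 1], [0, 0, 0, 0, 0, 0, 1, 1, 1, 1, 2, 2, 1, 1, 1, 1]] : List (List ℤ)).getD i []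
  o := 0
  nu i := (C i).nu

/-- the long roots -/
def rt : RTab 4 12 where
  V := 24525914970984824639630287546977029088121354345236276034
  S := 1237947427707087178472231122524848746023515845366931516922216276090790109061678718808151121538484446961366837755904
  P := 280452791402787
  Q := 38482906972160

/-- **The full certificate.** -/
def full : Full TabF4d.A 3 24 5 ![2, 4, 3, 2] where
  Da := TabF4d.data
  C := C
  i₀ := 0
  P := pol
  hP := ⟨rfl, rfl, rfl, by decide +kernel⟩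
  hN := by (simp only [Cfsg.Agent.H996.Eight.Kq.pEq_eq]; decide +kernel)
  triv := ⟨by decide +kernel, rfl, rfl⟩
  ok i _ := ⟨okA i, dvdA i⟩
  uq i _ := uq_of_spec C _ _ (fun i => (okA i).1) (fun i => (okA i).2.2.1) neA i
  FF := [0, 0, 0, 0, 0, 0, 1, 1]
  LL := 2
  cf i := ([[0, 0, 0, 0, 0, 0, 2, 2], [0, 1, 0, 0, 0, 1, 0, 1, 0, 0, 0, 1], [0, 1, 1, 0, 1, 2, 1, 0, 1, 1], [2, 0, 0, 0, 2, 0, 0, 0, 2], [2, 0, 0, 0, 2, 0, 2, 0, 0, 0, 2]] : List (List ℤ)).getD i []
  hF := by decide +kernel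
  hcf := by (simp only [Cfsg.Agent.H996.Eight.Kq.pEq_eq]; decide +kernel)
  hsum := by (simp only [Cfsg.Agent.H996.Eight.Kq.pEq_eq, Cfsg.Agent.H996.Eight.Kq.pZero_eq]; decide +kernel)
  hne := by (simp only [Cfsg.Agent.H996.Eight.Kq.pNV_eq]; decide +kernel)
  NL := [1, 1, 1, 1, 2, 2, 2, 2, 2, 2, 2, 2, 1, 1, 1, 1]
  nr := 12
  nz := ⟨by decide⟩
  Z := rt
  hZ := ⟨by decide +kernel, by decide +kernel, by decide +kernel⟩
  kap n := ([0, 1, 4] : List (Fin 5)).getD n 0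
  hkap := by decide +kernel
  VV c := ([[1, 1, 1, 1, 2, 2, 2, 2, 1, 1, 1], [0, 0, 0, 0, 0, 0, 0, 0, 1, 1, 1, 2, 1, 1, 1], [], [], [0, 0, 0, 0, 0, 0, 0, 0, 0, 0, 0, 0, 0, 0, 0, 1]] : List (List ℤ)).getD c []
  hVV := by (delta Cfsg.Agent.H996.PQ.ChkC; simp only [Cfsg.Agent.H996.Eight.Kq.pEq_eq]; decide +kernel)
  hD := by (simp only [Cfsg.Agent.H996.Eight.Kq.pEq_eq]; decide +kernel)

end Cfsg.Agent.H996.PQ.FullF4d
end

-- part: H996/PQ/RowF4
section
/-!
# The separation theorem and the polynomials: `F₄(q)` (helper996, for S4612; made by a program)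
-/

set_option autoImplicit false

namespace Cfsg.Agent.H996.PQ.FullF4a

open Cfsg Cfsg.Agent.H317.PQ Cfsg.Agent.H996.Eight Cfsg.Agent.H996.Eight.Cert Cfsg.Agent.H35.ExcIdx
open Cfsg.Lie Cfsg.Agent.ChevalleyStructure.CoxeterGeomTypes Cfsg.Agent.Nodes.RGDChev

universe u

theorem evN (x : ℤ) : evZ x pol.N = (x + 1) * (x ^ 2 + x + 1) * (x ^ 2 + 1) * (x ^ 2 - x + 1) * (x ^ 4 + 1) * (x ^ 4 - x ^ 2 + 1) := by
  show evZ x [1, 1, 1, 1, 2, 2, 2, 2, 2, 2, 2, 2, 1, 1, 1, 1] = _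
  simp only [evZ]
  ring

theorem evD1 (x : ℤ) : evZ x (pol.D 1) = x ^ 7 * (x - 1) * (x + 1) * (x ^ 2 + x + 1) ^ 2 * (x ^ 2 - x + 1) := by
  show evZ x [0, 0, 0, 0, 0, 0, 0, -1, -1, -1, 0, 0, 0, 1, 1, 1] = _
  simp only [evZ]
  ring

theorem evD2 (x : ℤ) : evZ x (pol.D 2) = x ^ 7 * (x ^ 2 + x + 1) * (x ^ 2 + 1) * (x ^ 4 - x ^ 2 + 1) := by
  show evZ x [0, 0, 0, 0, 0, 0, 0, 1, 1, 1, 0, 0, 0, 1, 1, 1] = _
  simp only [evZ]
  ring

theorem evD3 (x : ℤ) : evZ x (pol.D 3) = x ^ 8 * (x + 1) * (x ^ 2 + 1) * (x ^ 4 + 1) := by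
  show evZ x [0, 0, 0, 0, 0, 0, 0, 0, 1, 1, 1, 1, 1, 1, 1, 1] = _
  simp only [evZ]
  ring

theorem evD4 (x : ℤ) : evZ x (pol.D 4) = x ^ 10 * (x + 1) * (x ^ 2 + x + 1) * (x ^ 2 - x + 1) := by
  show evZ x [0, 0, 0, 0, 0, 0, 0, 0, 0, 0, 1, 1, 1, 1, 1, 1] = _
  simp only [evZ]
  ring

theorem evdn1 (x : ℤ) : evZ x (pol.dn 1) = x * (x ^ 2 + 1) * (x ^ 4 + 1) * (x ^ 4 - x ^ 2 + 1) := by
  show evZ x [0, 1, 0, 0, 0, 1, 0, 1, 0, 0, 0, 1] = _
  simp only [evZ]
  ring

theorem evdn2 (x : ℤ) : evZ x (pol.dn 2) = x * (x + 1) ^ 2 * (x ^ 2 - x + 1) ^ 2 * (x ^ 4 + 1) := by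
  show evZ x [0, 1, 0, 0, 2, 1, 0, 1, 2, 0, 0, 1] = _
  simp only [evZ]
  ring

theorem evdn3 (x : ℤ) : evZ x (pol.dn 3) = x ^ 2 * (x ^ 2 + x + 1) ^ 2 * (x ^ 2 - x + 1) ^ 2 * (x ^ 4 - x ^ 2 + 1) := by
  show evZ x [0, 0, 1, 0, 1, 0, 2, 0, 1, 0, 2, 0, 1, 0, 1] = _
  simp only [evZ]
  ring

theorem evdn4 (x : ℤ) : evZ x (pol.dn 4) = x ^ 3 * (x ^ 2 + 1) ^ 2 * (x ^ 4 + 1) * (x ^ 4 - x ^ 2 + 1) := by
  show evZ x [0, 0, 0, 1, 0, 1, 0, 1, 0, 2, 0, 1, 0, 1, 0, 1] = _
  simp only [evZ]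
  ring

/-- the degrees: `evdn` -/
theorem deg {x : ℕ} (hx : 2 ≤ x) (i : Fin 5) : (pol.den i : ℤ) * (pol.deg x i : ℤ) = evZ x (pol.dn i) :=
  full.degZ hx i

theorem hA : cartanOf chevF4 4 = TabF4a.A := by
  funext i k
  revert i k
  decide +kernel

end Cfsg.Agent.H996.PQ.FullF4a

namespace Cfsg.Agent.H996.PQ.FullF4d

open Cfsg Cfsg.Agent.H317.PQ Cfsg.Agent.H996.Eight Cfsg.Agent.H996.Eight.Cert Cfsg.Agent.H35.ExcIdx
open Cfsg.Lie Cfsg.Agent.ChevalleyStructure.CoxeterGeomTypes Cfsg.Agent.Nodes.RGDChev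

universe u

theorem evN (x : ℤ) : evZ x pol.N = (x + 1) * (x ^ 2 + x + 1) * (x ^ 2 + 1) * (x ^ 2 - x + 1) * (x ^ 4 + 1) * (x ^ 4 - x ^ 2 + 1) := by
  show evZ x [1, 1, 1, 1, 2, 2, 2, 2, 2, 2, 2, 2, 1, 1, 1, 1] = _
  simp only [evZ]
  ring

theorem evD1 (x : ℤ) : evZ x (pol.D 1) = x ^ 7 * (x + 1) ^ 2 * (x ^ 2 + x + 1) * (x ^ 2 - x + 1) ^ 2 := by
  show evZ x [0, 0, 0, 0, 0, 0, 0, 1, 1, 1, 2, 2, 2, 1, 1, 1] = _
  simp only [evZ]
  ring

theorem evD2 (x : ℤ) : evZ x (pol.D 2) = x ^ 7 * (x ^ 2 + x + 1) * (x ^ 2 + 1) * (x ^ 4 - x ^ 2 + 1) := by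
  show evZ x [0, 0, 0, 0, 0, 0, 0, 1, 1, 1, 0, 0, 0, 1, 1, 1] = _
  simp only [evZ]
  ring

theorem evD3 (x : ℤ) : evZ x (pol.D 3) = x ^ 8 * (x + 1) * (x ^ 2 + 1) * (x ^ 4 + 1) := by
  show evZ x [0, 0, 0, 0, 0, 0, 0, 0, 1, 1, 1, 1, 1, 1, 1, 1] = _
  simp only [evZ]
  ring

theorem evD4 (x : ℤ) : evZ x (pol.D 4) = x ^ 6 * (x + 1) * (x ^ 2 + x + 1) * (x ^ 2 - x + 1) * (x ^ 4 + 1) := by
  show evZ x [0, 0, 0, 0, 0, 0, 1, 1, 1, 1, 2, 2, 1, 1, 1, 1] = _
  simp only [evZ]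
  ring

theorem evdn1 (x : ℤ) : evZ x (pol.dn 1) = x * (x ^ 2 + 1) * (x ^ 4 + 1) * (x ^ 4 - x ^ 2 + 1) := by
  show evZ x [0, 1, 0, 0, 0, 1, 0, 1, 0, 0, 0, 1] = _
  simp only [evZ]
  ring

theorem evdn2 (x : ℤ) : evZ x (pol.dn 2) = x * (x + 1) ^ 2 * (x ^ 2 - x + 1) ^ 2 * (x ^ 4 + 1) := by
  show evZ x [0, 1, 0, 0, 2, 1, 0, 1, 2, 0, 0, 1] = _
  simp only [evZ]
  ring

theorem evdn3 (x : ℤ) : evZ x (pol.dn 3) = x ^ 2 * (x ^ 2 + x + 1) ^ 2 * (x ^ 2 - x + 1) ^ 2 * (x ^ 4 - x ^ 2 + 1) := by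
  show evZ x [0, 0, 1, 0, 1, 0, 2, 0, 1, 0, 2, 0, 1, 0, 1] = _
  simp only [evZ]
  ring

theorem evdn4 (x : ℤ) : evZ x (pol.dn 4) = x ^ 3 * (x ^ 2 + 1) ^ 2 * (x ^ 4 + 1) * (x ^ 4 - x ^ 2 + 1) := by
  show evZ x [0, 0, 0, 1, 0, 1, 0, 1, 0, 2, 0, 1, 0, 1, 0, 1] = _
  simp only [evZ]
  ring

/-- the degrees: `evdn` -/
theorem deg {x : ℕ} (hx : 2 ≤ x) (i : Fin 5) : (pol.den i : ℤ) * (pol.deg x i : ℤ) = evZ x (pol.dn i) :=
  full.degZ hx i

theorem hA : cartanOf chevF4 4 = TabF4d.A := by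
  funext i k
  revert i k
  decide +kernel

/-- **The same set `S` of constituents passes the tests for both primes.** -/
theorem sep {K : Type u} [Field K] [Fintype K] {p l : ℕ} (hp : p.Prime) (hl : l.Prime)
    (hS : Same p l ↥(chevF4.group K)) : Sep pol (Fintype.card K) p l 0 :=
  split_sep (hpF4) K hA full (by decide +kernel) H241.PQ.hi_F4 TabF4d.data (by decide +kernel)
    (by decide +kernel) hp hl hS

end Cfsg.Agent.H996.PQ.FullF4d
end

-- part: H996/PQ/RowF4X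
section
/-!
# The extended separation theorem: `F₄(q)` (helper996, for S4612; made by a program)
-/

set_option autoImplicit false
set_option maxRecDepth 20000

namespace Cfsg.Agent.H996.PQ.FullF4a

open Cfsg Cfsg.Agent.H317.PQ Cfsg.Agent.H64.Dl.Sph Cfsg.Agent.H996.Eight Cfsg.Agent.H996.Eight.Cert Cfsg.Agent.H35.ExcIdx
open Cfsg.Lie Cfsg.Agent.ChevalleyStructure.CoxeterGeomTypes Cfsg.Agent.Nodes.RGDChev

universe u

/-- the eigenvalues of the double cosets: row `i` (constituent), column `c` (double coset) -/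
def lamL : List (List (List ℤ)) :=
  [[[1], [0, 1, 1, 1, 2, 1, 1, 1], [0, 0, 0, 0, 0, 1, 1, 1, 1, 1, 1], [0, 0, 0, 0, 0, 0, 0, 0, 1, 1, 1, 2, 1, 1, 1], [0, 0, 0, 0, 0, 0, 0, 0, 0, 0, 0, 0, 0, 0, 0, 1]],
   [[1], [-1, 0, -1, -1, 0, -1], [0, 0, 1, 1, 1, 1, 1, 1], [0, 0, 0, 0, -1, 0, -1, -1, 0, -1], [0, 0, 0, 0, 0, 0, 0, 0, 0, 1]],
   [[1], [-1, 0, 1, 1, 2, 1], [0, 0, -1, -1, -1, 1, 1, 1], [0, 0, 0, 0, -1, -2, -1, -1, 0, 1], [0, 0, 0, 0, 0, 0, 0, 0, 0, -1]],
   [[1], [-1, 0, 0, 0, 1], [0, 0, 0, -1, -1], [0, 0, 0, 1, 0, 0, 0, -1], [0, 0, 0, 0, 0, 0, 0, 1]],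
   [[1], [-1, 0, 0, -1], [], [0, 0, 0, 1, 0, 0, 1], [0, 0, 0, 0, 0, 0, -1]]]

/-- the eigenvalue of the double coset `c` on the constituent `i` -/
def lam (i c : Fin 5) : List ℤ := (lamL.getD i []).getD c []

theorem lam_ok : full.Lam lam := by
  show ∀ i c, pEq (pMul (lam i c) (full.P.nu i full.P.o)) (pMul (full.Da.kk c) (full.P.nu i c)) = true
  (simp only [Cfsg.Agent.H996.Eight.Kq.pEq_eq]; decide +kernel)

end Cfsg.Agent.H996.PQ.FullF4a

namespace Cfsg.Agent.H996.PQ.FullF4d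

open Cfsg Cfsg.Agent.H317.PQ Cfsg.Agent.H64.Dl.Sph Cfsg.Agent.H996.Eight Cfsg.Agent.H996.Eight.Cert Cfsg.Agent.H35.ExcIdx
open Cfsg.Lie Cfsg.Agent.ChevalleyStructure.CoxeterGeomTypes Cfsg.Agent.Nodes.RGDChev

universe u

/-- the eigenvalues of the double cosets: row `i` (constituent), column `c` (double coset) -/
def lamL : List (List (List ℤ)) :=
  [[[1], [0, 1, 1, 1, 2, 1, 1, 1], [0, 0, 0, 0, 0, 1, 1, 1, 1, 1, 1], [0, 0, 0, 0, 0, 0, 0, 0, 1, 1, 1, 2, 1, 1, 1], [0, 0, 0, 0, 0, 0, 0, 0, 0, 0, 0, 0, 0, 0, 0, 1]],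
   [[1], [-1, 0, -1, -1, 0, -1], [0, 0, 1, 1, 1, 1, 1, 1], [0, 0, 0, 0, -1, 0, -1, -1, 0, -1], [0, 0, 0, 0, 0, 0, 0, 0, 0, 1]],
   [[1], [-1, 0, 1, 1, 2, 1], [0, 0, -1, -1, -1, 1, 1, 1], [0, 0, 0, 0, -1, -2, -1, -1, 0, 1], [0, 0, 0, 0, 0, 0, 0, 0, 0, -1]],
   [[1], [-1, 0, 0, 0, 1], [0, 0, 0, -1, -1], [0, 0, 0, 1, 0, 0, 0, -1], [0, 0, 0, 0, 0, 0, 0, 1]],
   [[1], [-1, 0, 0, -1], [], [0, 0, 0, 1, 0, 0, 1], [0, 0, 0, 0, 0, 0, -1]]]

/-- the eigenvalue of the double coset `c` on the constituent `i` -/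
def lam (i c : Fin 5) : List ℤ := (lamL.getD i []).getD c []

theorem lam_ok : full.Lam lam := by
  show ∀ i c, pEq (pMul (lam i c) (full.P.nu i full.P.o)) (pMul (full.Da.kk c) (full.P.nu i c)) = true
  (simp only [Cfsg.Agent.H996.Eight.Kq.pEq_eq]; decide +kernel)

/-- **The extended theorem.** -/
theorem sepX {K : Type u} [Field K] [Fintype K] {p l : ℕ} (hp : p.Prime) (hl : l.Prime)
    (hS : Same p l ↥(chevF4.group K)) : SepX pol lam (Fintype.card K) p l (Nat.card ↥(chevF4.group K)) 0 :=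
  split_sepX (hpF4) K hA full lam_ok (by decide +kernel)
    H241.PQ.hi_F4 TabF4d.data (by decide +kernel) (by decide +kernel) hp hl hS

end Cfsg.Agent.H996.PQ.FullF4d
end
end

-- part: H996/PQ/RowE7c
section
set_option linter.all false

-- part: H996/PQ/TabE7c
section
/-!
# The large table of the spherical machine: `E₇`, node `1` (helper996, for S4612; made by a program)

576 states, 10 classes.
-/

set_option autoImplicit false
set_option maxRecDepth 20000

namespace Cfsg.Agent.H996.PQ.TabE7c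

open Cfsg.Agent.H967.Sph Cfsg.Agent.H64.Dl.Sph Cfsg.Agent.H996.Eight.Cert Cfsg.Agent.H996.PQ.Big

/-- the Cartan matrix -/
def A (i k : Fin 7) : ℤ := (([[2, 0, -1, 0, 0, 0, 0], [0, 2, 0, -1, 0, 0, 0], [-1, 0, 2, -1, 0, 0, 0], [0, -1, -1, 2, -1, 0, 0], [0, 0, 0, -1, 2, -1, 0], [0, 0, 0, 0, -1, 2, -1], [0, 0, 0, 0, 0, -1, 2]] : List (List ℤ)).getD i []).getD k 0

/-- the exponents of the parameters -/
def e (i : Fin 7) : ℕ := ([1, 1, 1, 1, 1, 1, 1] : List ℕ).getD i 0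

/-- the encoded table -/
def B : Bg 7 576 10 where
  V := (by refine (?fq1 : (Nat.add (Nat.add (Nat.add (nat_lit 0x87a7790071f787a7780031178799780071e78799770021278798970071d78798790021178797990051e78797980021078789980051d78789970051c78788990031477a87880031377a79870031277a78890071f77a78880031277998770031177997790071e77997780031077989780071d77989770021177988970071c77988790021077987990051d77987980020f77979980051c77979970051b77978990020e77898880051b77898870051a7789789005197788988006166a88878003156a87898003146a79788003136a78987003126a788890071f6a788880031369987880031269979870031169978890071e69978880031169898770031069897790071d69897780030f69889780071c69889770021069888970071b69888790020f69887990051c69887980020e69879980051b69879970051a69878990020d69798880051a69798870051969797890051869789880020c6898888005196898887005186898789005176897988005166889878004156888898) (Nat.shiftLeft (nat_lit 0x515797897900822797897800108797889900723797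889700315797879a007227978799003157977a9700314797799900721797799800315796a7880031479699870031379698890072079698880020b78a78880051878a78870051778a77890051678a69880020a789977800517789977700516789967900209789897700516789897600208789887900823789887700109789879800316789879700515789877a008227898779003157898699005157897a7700108789799700315789799600514789797900821789797800107789789900722789789700314789779a007217897799003147896a9700313789699900720789699800515788a76800514788996700107788988700314788988600513788986900820788986800106788978900721788978700313788968a0072078896890010578889880072078889860021478887a80071f788878a003127887a880071f7887a870021378879a70071e78879890021278878a90051f78878a800313787a877003127) (nat_lit 3000))) (Nat.shiftLeft (Nat.add (nat_lit 0xa798770030f7a797790071c7a797780030e7a789780071b7a789770020f7a788970071a7a788790020e7a787990051b7a787980020d7a779980051a7a77997005197a778990020c7a69888005197a69887005187a69789005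177a689880030f79988770030e79987790071b79987780030d79979780071a79979770020e79978970071979978790020d79977990051a79977980020c79969980051979969970051879968990030c79898680071979898670020d79897870071879897690020c79896890051979896880020c79889860071779889680020b798878a0082679887880020b7987a87005187987a860020a79879890082579879870010b79878a80031879878a700517798788a0082479878890031779877a90031679869a80020b797a77800518797a77700517797a6790020a79799770051779799760020979798790082479798770010a797979800317797979700516797977a008237979779003167979699005167978a77001097978997003167978996) (Nat.shiftLeft (Nat.add (nat_lit 0x51b87a77980020d87a69980051a87a69970051987a68990030d87998680071a87998670020e87997870071987997690020d87996890051a87996880020d87989860071887989680020c879878a0082787987880020c8797a87005198797a860020b87979890082687979870010c87978a80031987978a700518879788a0082587978890031887977a90031787969a80020c878a77800519878a77700518878a6790020b87899770051887899760020a87898790082587898770010b878979800318878979700517878977a008248789779003178789699005178788a770010a878899700317878899600516878897900823878897800109878889900724878889700316878879a007238788799003168787a9700315878799900722878799800316877a7880031587799870031487798890072187798880061786a88780031686a7898003158699788003148698987003138698889007208698888003127a88788003117a87987003107a878890071d7a87888003107)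 (Nat.shiftLeft (nat_lit 0x8988860051088988690081d88988680010388987890071e889878700310889868a0071d88986890010288979880071d88979860021188977a80071c889778a0030f8896a880071c8896a870021088969a70071b88969890020f88968a90051c88968a800411888a6780010188898780071c88898760021088896980071b888967a004108888a760000088888980061b88888960040f888887a0092a88888780061a888869a0020f8887a960071a8887a780020e888789a008298887898006198886a980030e887a8680071b887a8670020f887a7870071a887a7690020e887a6890051b887a6880020e88799860071988799680020d887978a0082888797880020d8878a870051a8878a860020c88789890082788789870010d88788a80031a88788a700519887888a0082688788890031988787a90031888779a800618886a8780031788698980031087a88770030f87a87790071c87a87780030e87a79780071b87a79770020f87a78970071a87a78790020e87a7799) (nat_lit 3000))) (nat_lit 3000))) (nat_lit 6000))) (Nat.shiftLeft (Nat.add (Nat.add (nat_lit 0x514899698800208898977800515898977700514898967900207898897700514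898897600206898887900821898887700107898879800314898879700513898877a008208988779003138988699005138987a770010689879970031389879960051289879790081f898797800105898789900720898789700312898779a0071f8987799003128986a970031189869990071e898699800513897a7680051289799670010589798870031289798860051189798690081e89798680010489797890071f897978700311897968a0071e89796890010389789880071e89789860021289787a80071d897878a003108977a880071d8977a870021189779a70071c89779890021089778a90051d89778a800311896a87700310896a7790071d896a7780030f89699780071c89699770021089698970071b89698790020f89697990051c89697980020e89689980051b89689970051a89688990051388a78780041288a6898005128899768005118898967001048898887003118) (Nat.shiftLeft (nat_lit 0x7969990071f979699800514978a7680051397899670010697898870031397898860051297898690081f978986800105978978900720978978700312978968a0071f97896890010497889880071f97889860021397887a80071e978878a003119787a880071e9787a870021297879a700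71d97879890021197878a90051e97878a800312977a87700311977a7790071e977a7780031097799780071d97799770021197798970071c97798790021097797990051d97797980020f97789980051c97789970051b97788990031396a87880031296a79870031196a78890071e96a78880031196998770031096997790071d96997780030f96989780071c96989770021096988970071b96988790020f96987990051c96987980020e96979980051b96979970051a96978990020d96898880051a96898870051996897890051896889880020a8a78888005178a78887005168a78789005158a77988005148a69878004138a68898002098997888005168997887005158997789) (nat_lit 3000))) (Nat.shiftLeft (Nat.add (nat_lit 0x20998879890082498879870010a98878a80031798878a700516988788a0082398878890031698877a90031598869a80020a987a77800517987a77700516987a67900209987997700516987997600208987987900823987987700109987979800316987979700515987977a008229879779003159879699005159878a7700108987899700315987899600514987897900821987897800107987889900722987889700314987879a007219878799003149877a9700313987799900720987799800314986a7880031398699870031298698890071f98698880020a97a78880051797a78870051697a77890051597a698800209979977800516979977700515979967900208979897700515979897600207979887900822979887700108979879800315979879700514979877a008219798779003149798699005149797a7700107979799700314979799600513979797900820979797800106979789900721979789700313979779a007209797799003139796a97003129)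 (Nat.shiftLeft (Nat.add (nat_lit 0x7889780071ba7889770020fa7888970071aa7888790020ea7887990051ba7887980020da7879980051aa78799700519a7878990020ca77988800519a77988700518a77978900517a7789880020ba69888800518a69888700517a69878900516a69798800515a68987800414a6888980031199887880031099879870030f99878890071c99878880030f99798770030e99797790071b99797780030d99789780071a99789770020e99788970071999788790020d99787990051a99787980020c99779980051999779970051899778990020b99698880051899698870051799697890051699689880030e98988770030d98987790071a98987780030c98979780071998979770020d98978970071898978790020c98977990051998977980020b98969980051898969970051798968990030b98898680071898898670020c98897870071798897690020b98896890051898896880020b98889860071698889680020a988878a0082598887880020a9887a87005179887a86) (Nat.shiftLeft (nat_lit 0x615a88887800314a88789800313a87978800312a87898700311a8788890071ea87888800312a79878800311a79798700310a7978890071da79788800310a7898770030fa7897790071ca7897780030ea)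 (nat_lit 3000))) (nat_lit 3000))) (nat_lit 6000))) (nat_lit 15000))) = ?xq1 → Nat) ?hq1; (case hq1 => (conv => lhs; whnf)); intro _; exact OfNat.ofNat ?xq1 : Nat)
  S := (by refine (?fq2 : (Nat.add (Nat.add (Nat.add (nat_lit 0x403a0a82a0bc286240f0e4290a4240ad88038380a0260b82a61c0d0dc270942d09d860303608c280b0266140b0d42209c2b0918402834084240a42560c0908c2608c2308d82020220942208821604070842408021089800182008021080208fcc507c1f07c1e07e3e3101e0741e07c1e8f4c30641e0701d0763c308180701d0701b8ecc105c1b06c1b0723a300160681a0681a8e4330741906019066380c81c05419060178dc3106c1405c17062360c01a04c16058168d42f0541805410052340b81405c12038158cc2d04c160440d04e320b01204814030128c42b0441104c0b03e300a810040100540e8bc2903c0f03c0a0462e0a00e0380c050108b4270340d02c130362c0980c0240e0480c8ac2502c080341102a2a0900a01c0a03c0b8a4230140c02409026280880402c080200789c2100c0a01807022260800201807018068940502405014050162401008010040100388c0301c03008030122200806004030080288401004020040000620000000000000400)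 (Nat.shiftLeft (Nat.add (nat_lit 0x1d43e1605c159b4150740f45716c546cc5314c6c1484714db21485217c5310c4f6c4511445e14451135b014050174501404b6bc4f13c5c13c41149ae1384e16c4e1004e6b44d1345a1244d145ac1304c164481304a6ac4b12c581144b141aa1284a15c441284c6a4491244913449125a8120481204c1204669c4711c4710c5311da6118461184211848694451143c12c45115a4110440ec4a1104268c4310c3a11c52105a2108420e4461084468441104381044f10da0100400dc401384067c3f0bc560fc3a0f99e0f82e1543c0e03f6743d0b4540ec370f59c0f02c1143e0d83c66c3b0ac440f4350e59a0e82a10c3a0fc38664390a4420e4340ed980e028104360f83a65c3709c400d43d0dd960d8260d8380f03665435094350dc3b0d1940d0240d0340e43564c191cc330c8330cd92060720bc330c831644171c42e0c4310c990058700b4300c03063c150fc320bc2a0b98e0503e0c42c0a02f634130f4300ac270b58c0483c0b02e0982c62c110ec2b0b4250a58a) (Nat.shiftLeft (nat_lit 0x234762248377cd517c7f224761f1de3505e1f8842207a774d31747d20c871e1dc3485c1f0821d47f76cd116c7b204741edda3405a1e87a2187e764cf164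791e4851ddd8338581e0752087d75ccd15c771d0811e5d6330561c8801fc75754cb154711e07c1d9d4328541c0771ec7474cc90cc8c1c8731cdd2320321d8731c871744c70c4751c4711c9d0318301d0701c07073c6f2bc6b1bc6f1bdce1b8ae1a86e1b86d7346d2b4691b06d1b9cc1b0ac14c6d1b06c72c6b22c6f1a0641adca1a88a1b86718c69724692246d17c601a9c81a0881a06b1786671c6721c671a85d189c6198861986616868714652146519459185c4190841905e1ac6470c6320c631746a181c2188821885c16067704612046116c57195c018080180561a4636fc5f1fc521a456171be1787e144641a05a6f45d1f45018c67161bc1707c13c621545f6ec5b1ec4e1845416dba1687a1345a1985e6e4591e44c1646515db81607812c551885d6dc571dc4a15061165b6158760fc6017c556d455) (nat_lit 3000))) (nat_lit 3000))) (Nat.shiftLeft (Nat.add (Nat.add (nat_lit 0x2aca62aa0a400ba2a8a8290ab824ff2e4a929ca32a6083f8b827caa288a881cfd2dc9e2a4a1296063f0b6274a62aca4814fb2d49c294a029e043e8b426ca22a8a680cf92cc9a284a928e023e0b222ca42a0a2804f72c48a28ca7282003d8b0224a0294a17fcf527ca827c9127dfe3d09e29c9e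2409c7f4f3274a62649d26dfc3c89c294982349e7ecf126ca42549b275fa3c09a28c942689a7e4ef264992749925df83b8982609c230987dced25c9724c97265f63b09625892258967d4eb2548826c9524df43a89421c9a2508f7cce924c8625c93255f23a092214962488e7c4e7244842449f245f03989020c902788d7bce523c8223c8f251ee3908e2048e238927b4e3234802309c241ec3888c1cc8d2608c7ace11aca22208422dea3806a2848720c897a4df1a4a01fc80229e8378682548b1f88679cdd19c942287d209e63706624c861e888794db1949221479205e4368642447e22c8478cd918c901f48a201e23606223c7c1e087784d71848e1ec77215e035860) (Nat.shiftLeft (nat_lit 0x37cd93547f354d537ccc348d41f8d4350da378d034c7d34cd3364dd338d21f0d2348d832cd53447b344d135cca344d01e8d0340d0370d433c7933ccf33cdb334ce1e0ce338cb360d333477334cd328d733ccc1d8cc320d6354cb32c7532cc7338d2330ca1d0ca318cd344ca3247330ce2320c9324c81c8c2330c9320c731c71304cb31cc7320c61c0c0328c6318c63141f40cc5314c4314c40790230cc4314c430c1d324c4308c330cc2070c8308c3308c13041b31cc1304c1308c0068c6300c0300c087d932fcbf2f8bf2fe1e648be2ecbf2f8bd875912f4ba2f4bd2fa1c640bc2e4bc2f0bc86d8f2acbe2ecb62ea1a638aa2f4b82d0bb8658d2a4bc2dcb32e618630a82e0ba2c8b885d8b29cb72e4b12d616628a62d8b62ecb485589294b52d4b02de14620a42d0b22e8b684d8728cb32c4b92ce12618a22bcb42e0b284585284ae2ccb72c210610a02b4b02d4b183d831bcb22bcaf2be0e6086e2c4ae2b8ad835811b4b02b0ad2ba0c6006c2b0ad2b0ac82d012ecab)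 (nat_lit 3000))) (Nat.shiftLeft (Nat.add (nat_lit 0x401002a948400fe3e9013fca951cff3f4f93fcfe2a1463d5003e0fe3f4a7514f43fcf73ecfc299443ccfc404fa3eca550cf23ecf63f4fa291423c4f8400fc3e4a3504f03dcff3e4f828940384fa3f8f83dca14fce03e4fd3d8f62813e37cf63ecf73d49f45cfe3d4e73d4f4279163f4f4398f23cc9d454fc3bcf33c4f2271143ecee38cf43c49b44cfa3acf13ccf0269123e4ea3c0f03bc99444ef3ccef3b4ee261103b8f2388ee3b49743ced3a4ed3bcec2590e3b0e83b0ec3ac95434de3c4eb3a4ea2510c374f03a8e53a49342cdc3b4e93ace82490a36cec3a0e439c91424da39cf539ce624108364e63d0e33948f41cd8394e53a8e42390635ce4390e838c8d414d6388f2398e223104324e33b8e23848b384f8378da384e0228e03dcdd364df37c8937cf6354d6380de220de3ace1350dc37487374ea380d3360dc218dc3a4dc340de36c8536ce836ccf35cda210da39cd4384da36483364e634ce0358d8208d8394d2338dd35c8135ce4344cd36cd6200d638ccc) (Nat.shiftLeft (nat_lit 0x4ad2b535154bd3a4a52a4a94c4512e4a92c4a52952d134a5374ad284a14a449284d92849d2749d3c4892449d26499264c526485264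9525495304952048d24491244bd1c49d2448d2348d2e46d1d4952248922489274711f4852148521485264852048120481204951d47d1f47d1f47d1a4891e4791e4791e4651e4751d4751d461234811c4711c445244891a46d1b46d1048d1846d1a4691a43d1a47d1c465194650e4651e465184611840d1d46d1845d173d52d45d0945d16458f44b11642114455153cd2b4451544d14450f24a9104151644d133c5294351345512448f04a10c44912445113bd1c4551143d10440ee46d144111043d0f3b51a42d0f4450e438ec4650a4390e4350d3ad0d44d0d42d0c430ea431124310742d0b3a50b43d0b4350a428e84290e429064250939d094251742508420e6421084590541d073950741d0743106418e4419064190a4150538d054111442104410e2409054410440d033151840d0240d02408c44110240d02404ab52501404fc) (nat_lit 3000))) (nat_lit 6000))) (nat_lit 9000))) (Nat.shiftLeft (Nat.add (Nat.add (nat_lit 0x6b13458d5255954555ab4cd6253d55569546a9325854e5515654da94c55355d5354d526a1305495654950545a74bd515355d545506992e5414c5415253da54b5465554f53d4e6912c515545394c535a34ad445455c52d4c6892a50d505314e52da14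a54252d595354a681285054a5614a5259f4056052544521486790057d465094951d9d3fd5e5154151d46670fe53d48501465159b3f54e51d3f50d44668fc535445254250d993ed4c50d3e51542660fa52d4052144505973e54a4fd4750540658f850142519404fd953dd3f505454f93e650f64f93e50d3f4f53d5ed3b4f53c4f53c4f17a49d3c4f53c4ed3b5753d4e92f4ed3a4e95c4e93b4ad374e53956d394e5394d5384e15a4e1384e1334dd37565374dd294e9364d9584d9364a1364d53555d354c5354e5344d1564d1304d1324cd33555334b5334e1324c9544c92c4c9344c53154d264d5314c5304c152495344c12e4bd2f545244ad3b4bd2e4b95048d2a4b9304b52d53d174cd2d4b52c4b14e459324b12a) (Nat.shiftLeft (Nat.add (nat_lit 0x6058460181608202b18060181601805fe255e57f5fd7f5fd7e891785f97e5f97d5f6235dd7d5f17d5f97c889765ed7d5f17c5ee214f57c5ed7a5ed7a8813c5e97a5ed7a5e5cf5fd755e5795e5787397e5d1785e1775ddcd5f5735d9775e1767317c575775d9765d5cb5d5795c96e5d574729745e1715b5735cdc95cd775a56a5d172721725c9755a1705c5c75c5715d1675b170719705c170591725bdc55bd6f5bd635ad6e7116e5b9685d56e5b5c35b56d59d745a96c7096c5b166589715adc15ad6b595615bd6a7016a5a9605cd6d5a5bf5a55c5cd60599686f96856d6e5c96459dbd59d5a5b571589666f1665656c57d69595bb595585ad5e595646e96455d645c16858db958d5658d6f585626e1625555f5b167585b7585545796b58d606d9605256a5a55f57db557d48589665815e6d15e51d615955e575b34ed76571515755c6c93a5a55d5355956db14e56856d5b55d5a6c13859d5a56955565af4dd665654b571586b936595585295855dad4d56454d5756d56)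 (Nat.shiftLeft (nat_lit 0x6e5a86b1aa12d556adb8695ab6c04a551aa6dda46a9ac125536a5a96b5a96a448549a86a1ac6a1a611d5169da768db369c46541a6699a2699a81154f6959c6ada569444539a466daa691a210d4d68d9a69db268442531a2665a6689a41054b68598685af68c40529a065da06b9a00fd4963db667d9a6783e5218e6d59c6619f0f547635b466d976743c5198c6959e6599c0ed4562da4675956643a5118a68d9a67d980e543625a26659466c3850988685966799a0dd4161da06559d65c365018665998671960d53f6159565d9b650344f98465194665950ccbf74d936499364c322f9d263d93649910c4bd7458e64591648302f1d063590641900bcbb67d9263d8a6382e2e99e6458c6218f0b4b96759062d876342c2e19c6318e6198c0acb766d8b635856242a2d99a6298a63d880a4b5665896258462c282d198621866398a09cb365d876158d61c262c99660d8863186094b16558261d8b610242c194605846258508caf60d8660d8360c222b9826158260981084ad) (nat_lit 3000))) (nat_lit 3000))) (Nat.shiftLeft (Nat.add (Nat.add (nat_lit 0x751e176476759b6749e077dd51d5d56d5d1761dc75874751b4741d776dd41cdd364dec749d374c72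74992759d3749d11c5d1645d5745d17487074190751d0741d01bd7983dcb73dcf73c6e5e20e729ce739cd1b577835c9731cd7386c5da0c6cdcd731cc1ad757adcf721c472c6a5d1ea739c770dc91a5737a5cd6fdc0728685c9e8721cb6f9c619d7179dc7729bd708665c1e6719c66e9c81956f795c5715b9704645b9e4711be72dc418d6d78dc36f5ca700625b1e2709bc6e1c71856b785c16edb7714605a9e0701b6725c317d6977db2725b66f05e5a1de6c5c4721ba17567775b070dc76e05c599dc6bdc26d5bf16d6576dae705b46ec5a591da6b5ba719be16563765ac6e5c56dc58589d86adb5709bd15d6175daa6d1c16e456581d667dc06fdb51555f7559e6e1bc6d854579d4675b76edb414d5d6cdcc6c9a76cc52571b26fdb368daf1455b6c5be6c5b16b450569b06f5b06c1ab13d596bdbc6bda16c84e561ae6edae681ae135576b5ba6a5ad6c44c559ac) (Nat.shiftLeft (nat_lit 0x8220228601845ea80e07800a0802107a6008160127dff7fe087fdf17fc9e7f9fe81dfe7c1fc275fd7f6067e5fd7ec9c7f1fc815f87b5fe26dfb7ee047d5fb7f49a7e9fa80df47e9fa265f97e5f97f5f97dc987e1f87e1fc7b1f825df77ddf77cdf77e4967d9f67d9f27d9f6255f57d5e87edf57cc947d1f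479dfa7d1ef24df37cde67ddf37d4927c9f2795f67c9ee245f17c5e47c5ff7c4907c1f078df07f9ed23def7bde27bdef7d08e7b9ee785ee7b9f2235ed7b5e07b1fc7c08c7b1ec74ded7e1ec22deb72e027a1e47ac8a7a9ca805e778de9225e97260077de07a8887a1c87d5eb779e621de771df47a9dd78886799c67cde6769e8215e5715f2795d978484791c47c5de7ade420de370df0775ea78082789c27bddc761e7205e1705ee76dd779480781c07b5d67a5e31fddf6fddf7a5d67707e779be779e47a1da1f5dd6f5dd78de77607c771bc771e2755df1eddb6eddb785d476c7a769ba769da799de1e5d96e5d9765e575c78761b8761d5789dd1ddd76ddd7) (nat_lit 3000))) (Nat.shiftLeft (Nat.add (nat_lit 0x8b40c84a2c8a62e8ca2c02e118ae288b6318a80a8422a89e2a8be2b0260f8962c8a6298a40883a248ae288a22701e0d88e2a89a278a0068322289a2789a260157f8a62589625894045fa28892248922300d7d89e2388a23890025f2268862388a220057b8862288620884005ea2088220886202fe3987e1f87a1f87cbe8e21e86e1f87a1d2f6378761a8761d878bc8da1c8661c8721c2ee3582e1e86e16868ba8d20a876188521b2e6338261c85e13864b88ca088621a84a182de3181e1786611854b68c20685a1686e142d62f816158561085cb48ba048521286a162ce2d80e138461984cb28b20283e14862122c62b8060e84e17840b08aa0083610856112be2973e1283e0f83cae8a1ce8460e83a0d2b627736108320d838ac899cc8320d8320c2ae0b86e0b82e06828aa82a1a82a088120b2a6098660981e03824a8822187fe0a80a0829e0785dfe82601814a681a167f60682e0429605855fc8160081ca4812147ee0282a0628e0384dfa8060980ca280a127ae04)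 (Nat.shiftLeft (nat_lit 0x7e3f8fe3f8fe3e8fc1e8fa3e8f63e8fe3e0763d8e63e8f23d8f41c8f2388f23d8f23b06e3b8de3b8ee3b8f01a8ea368ea3a8ea3a0661f8f6398e2398e41887a3c8d6398e23705e1d8ee348de378e0168723a8ce368da360561b8d6388d6308d01486a348de328ba3504e198ce368c62d8cc12862328ca348b232046178c6318ce2b8bc1085a308c2308d62e03e158be2f8be2a8c40e8522e8ba2c8d230036138b62d8ae33) (nat_lit 3000))) (nat_lit 6000))) (nat_lit 9000))) (nat_lit 21000))) = ?xq2 → Nat) ?hq2; (case hq2 => (conv => lhs; whnf)); intro _; exact OfNat.ofNat ?xq2 : Nat)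
  w := 10
  R := 0x479367e23f4dd1f7fd7049921
  o := 289
  cK k := ([34, 49, 66, 96, 75, 52, 27] : List ℤ).getD k 0

theorem hS0 : B.cSa 0 2 256 1 = true := by decide +kernel

theorem hC0 : B.cCa 0 = true := by decide +kernel

theorem hS1 : B.cSa 1 32 4096 1 = true := by decide +kernel

theorem hS2 : B.cSa 2 512 4097 1 = true := by decide +kernel

theorem hC2 : B.cCa 2 = true := by decide +kernel

theorem hS3 : B.cSa 3 8192 65808 1 = true := by decide +kernel

theorem hC3 : B.cCa 3 = true := by decide +kernel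

theorem hS4 : B.cSa 4 131072 1052672 1 = true := by decide +kernel

theorem hC4 : B.cCa 4 = true := by decide +kernel

theorem hS5 : B.cSa 5 2097152 16842752 1 = true := by decide +kernel

theorem hC5 : B.cCa 5 = true := by decide +kernel

theorem hS6 : B.cSa 6 33554432 1048576 1 = true := by decide +kernel

theorem hC6 : B.cCa 6 = true := by decide +kernel

theorem hD : B.cD = true := by decide +kernel

theorem hI : B.cI = true := by decide +kernel

theorem hR : B.cR = true := by decide +kernel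

theorem hQ : B.cQ 1 = true := by decide +kernel

theorem okB : B.Ok A 1 e where
  hA := by decide +kernel
  hc := by decide +kernel
  ho := by decide +kernel
  hv := by decide +kernel
  hw := by decide +kernel
  hS i := match i with
    | 0 => ⟨_, _, by decide +kernel, by decide +kernel, hS0⟩
    | 1 => ⟨_, _, by decide +kernel, by decide +kernel, hS1⟩
    | 2 => ⟨_, _, by decide +kernel, by decide +kernel, hS2⟩
    | 3 => ⟨_, _, by decide +kernel, by decide +kernel, hS3⟩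
    | 4 => ⟨_, _, by decide +kernel, by decide +kernel, hS4⟩
    | 5 => ⟨_, _, by decide +kernel, by decide +kernel, hS5⟩
    | 6 => ⟨_, _, by decide +kernel, by decide +kernel, hS6⟩
  hC i := match i with
    | 0 => fun _ => hC0
    | 1 => fun h => absurd rfl h
    | 2 => fun _ => hC2
    | 3 => fun _ => hC3
    | 4 => fun _ => hC4
    | 5 => fun _ => hC5
    | 6 => fun _ => hC6
  hD := hD
  hI := hI
  hR := hR
  hQ := hQ

theorem hA2 : ∀ i, A i i = 2 := by decide +kernel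

/-- the sums over the states -/
def Z : ℕ := (by refine (?fq3 : (Nat.add (Nat.add (Nat.add (Nat.add (nat_lit 0x100000000000000000000000000000000000000000000000000000000000000000000000000000000000000000000000000000000000000000000000000000000000000000000000000000000000000000000000000000000000000000000000000000000000000000000000) (Nat.shiftLeft (Nat.add (nat_lit 0x0) (Nat.shiftLeft (nat_lit 0x0) (nat_lit 3000))) (nat_lit 3000))) (Nat.shiftLeft (Nat.add (Nat.add (nat_lit 0x401004010000000000000000000000000000000000000000000000000000000000000000000000000000000000000000000000000000000000000000000000000000000000000000000000000000000000000000000000000000000000000000000000000000000000000000000040201004010020040000000000000000000000000000000000000000000000000000000000000000000000000000000000000000000000000000000000000000000000000000000000000000000000000000000000000000000000000000000000000000000000000000000000000000040200c0300801000000000000000000000000000000000000000000000000000000000000000000000000000000000000000000000000000000000000010000000000)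 (Nat.shiftLeft (nat_lit 0x0) (nat_lit 3000))) (Nat.shiftLeft (Nat.add (nat_lit 0x0) (Nat.shiftLeft (nat_lit 0x100401000000000000000000000000000000000000000000000000000000000000000000000000000000000000000000000000000000000000000000000000000000000000000000000000000000000000000000000000000000000000000000000000000000000000100c06020080180300400000000000000000000000000000000000000000000000000000000000000000000000000000000000000000000000000000000000000000000000000000000000000000000000000000000000000000000000000000000000000000000000000000000000040401c0902005008000000000000000000000000000000000000000000000000000000000000000000000000000000000000000000000000000402010040100200400000000000000000000000000000000000000000000000000000000000000000000000000000000000000000000000000000000000000000000000000000000000000000) (nat_lit 3000))) (nat_lit 6000))) (nat_lit 9000))) (Nat.shiftLeft (Nat.add (Nat.add (nat_lit 0x10080300c02004000000000000000000000000000000000000000000000000000000000000000000000000000000000000000000000000000000000000000000000000000000000000000000000000000000000000000000)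 (Nat.shiftLeft (Nat.add (nat_lit 0x0) (Nat.shiftLeft (nat_lit 0x100c070280b02405008000000000000000000000000000000000000000000000000000000000000000000000000000000000000000000000000100c060200801803004000000000000000000000000000000000000000000000000000000000000000000000000000000000000000000000000000000000000000000000000000000000000000000000000000000000000000000000000000000000000000000000000000000000000000004010040100000000000000000000000000000000000000000000000000) (nat_lit 3000))) (nat_lit 3000))) (Nat.shiftLeft (Nat.add (Nat.add (nat_lit 0x10080300c020040000000000000000000000000000000000000000000000000000000000000000000000000000000000000000000000000000000000000000000000000000000000000000000000000000000000000000000000000000000000000000000000000000000000000000040100401000000000000000000000000000000000000000000000000000000000000000000000000000000000000000000000000000000000000000000000000000000000000000000000000000000000000000000000000000000000000000000000000000000000000100c0602008018030040000000000000000000000000000000000000000000000000000000000000000000)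 (Nat.shiftLeft (nat_lit 0x0) (nat_lit 3000))) (Nat.shiftLeft (Nat.add (nat_lit 0x40100401000000000000000000000000000000000000000000000000000000000000000000000000000000000000000000000000000000000000000000000000000000000000000000000000000000000000000000000000000000000000000000000000000000000000000000000000000000000000000000000000000000000000000000000000000000000000000000000000000000000000000000000000000000000000000000000000000000000000000000000000000000000000000000000000000000000000000000000000000000000000000000000000000000000000000000000000000000000000000000000000000000000000000000000000000000000000000000000000000000000001004010000000000000000000000000000000000000000000000000000000000000000000000000000000000000000000000000000000000000000000000000000000000000000000000000000000000000000000000000000000) (Nat.shiftLeft (nat_lit 0x0) (nat_lit 3000))) (nat_lit 6000))) (nat_lit 9000))) (nat_lit 21000))) (Nat.shiftLeft (Nat.add (Nat.add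 (Nat.add (nat_lit 0x0) (Nat.shiftLeft (Nat.add (nat_lit 0x8050240b0280700c01000000000000000000000000000000000000000000000000000000000000000000000000000000000000000000000000000000401004010000000000000000000000000000000000000000000000000000000000000000000000000000000000000000000000000000000000000000000000000000000000000000000000000000000000000000000000000000000000000000000000000000000100c0602008018030040000000000000000000000000000000000000000000000000000000000000000000000000000000000000000000000000000000000000000000000000000000000000000000000000000000000000000000000000000000000000000000000000000000000000010080300c0200400000000000000000000000000000000000000000000000000000000000000000000000000000) (Nat.shiftLeft (nat_lit 0x4010040100000000000000000000000000000000000000000000000000000000000000000000000000000000000000000000000000000000000000000000000000000000000000000000000000000000000000000000000000000000000000000000000000000000000000000100c060200801803004000000000000000000000000000000000000000000000000000000000000000000000000000000000000000000000000000000000000000000000000000000000000000000000000000000000000000000000000000000000000000000000000000000000000000000000000000000000000000000000000000000000000000000000000000000000000000000000000000000000000000000000000)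 (nat_lit 3000))) (nat_lit 3000))) (Nat.shiftLeft (Nat.add (Nat.add (nat_lit 0x0) (Nat.shiftLeft (nat_lit 0x401004010000000000000000000000000000000000000000000000000000000000000000000000000000000000000000000000000000000000000000000000000000000000000000000000000000000000000000000000000000000000000000000000000000000000000) (nat_lit 3000))) (Nat.shiftLeft (Nat.add (nat_lit 0x4010040000000000000000000000000000000000000000000000000000000000000000000000000000000000000000000000000000000000000000000000000000000000000000000000000000000000000000000000000000000000000000000000000000000000000000000000000) (Nat.shiftLeft (nat_lit 0x0) (nat_lit 3000))) (nat_lit 6000))) (nat_lit 9000))) (Nat.shiftLeft (Nat.add (Nat.add (Nat.add (nat_lit 0x100c060200801803004000000000000000000000000000000000000000000000000000000000000000000000000000000000000000000000000000000000000000000000000000000000000000000000000000000000000000000000000000000000000000000000000000000000000000000000000000000000000000000000000000000000000000000000000000000000000000000000000000000000000000000000000000000000000000000000000000000000000000000000000000000000000000000000000000000000000000000000000000000000000010080300c0200400000000000000000000000000000000000000000000000000000000000000000000000000000000000000000000000000000000000)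 (Nat.shiftLeft (nat_lit 0x10080401004008010000000000000000000000000000000000000000000000000000000000000000000000000000000000000000000000000000000000000000000000000000000000000000000000000000000000000000000000000000000000000000000000000000000000000008050200901c0400400000000000000000000000000000000000000000000000000000000000000000000000000000000000000000000000000000000401004000000000000) (nat_lit 3000))) (Nat.shiftLeft (Nat.add (nat_lit 0x0) (Nat.shiftLeft (nat_lit 0x4010040100000000000000000000000000000000000000000000000000000000000000000000000000000000000000000000000000000000000000000000000000000000000000000000000000000000000000000000000000000000000000000000000000000000000000000000000000000000000000000000000000000000000000000000000000000000000000000000000000000000000000000000000000000000000000000000000000000000000000000000000000000000000000000000000000000000000000000000000000000000000000000000000000000000000000000000000) (nat_lit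 3000))) (nat_lit 6000))) (Nat.shiftLeft (Nat.add (Nat.add (nat_lit 0x400000000000000000000000000000000000000000000000000000000000000000000000000000000000000000000000000000000000000000000000000000000000000000000000000000000000000000000000000000000000000000000000000000000000000000000000010080300c0200400000000000000000000000000000000000000000000000000000000000000000000000000000000000000000000000000000100804010040080100000000000000000000000000000000000000000000000000000000000000000000000000000000000000000000000000000000000000000000000000000000000000000000) (Nat.shiftLeft (nat_lit 0x0) (nat_lit 3000))) (Nat.shiftLeft (Nat.add (nat_lit 0x0) (Nat.shiftLeft (nat_lit 0x4000000000000000000000000000000000000000000000000000000000000000000000000000000000000000000000000000000000000000000000000000000000000000000000000000000000000000000000000000000000000000000000000000000000000000000000000000000000000000000000000000000000000000000000000000000000000000000)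 (nat_lit 3000))) (nat_lit 6000))) (nat_lit 12000))) (nat_lit 21000))) (nat_lit 42000))) = ?xq3 → Nat) ?hq3; (case hq3 => (conv => lhs; whnf)); intro _; exact OfNat.ofNat ?xq3 : Nat)

theorem hZ : B.cZ 10 10 43 1 Z = true := by decide +kernel

/-- the table -/
noncomputable def tab : Tab A 1 576 10 := B.tab A 1 e okB hA2

def matL : List (List (List ℤ)) := [[[], [0, 1], [], [], [], [], [], [], [], []], [[0, 1], [0, -1, 1, 1, 2, 3, 3, 2, 1], [0, 0, 0, 0, 0, 0, 1, 2, 4, 4, 4, 2, 1], [0, 0, 0, 0, 0, 0, 0, 0, 0, 0, 0, 1, 1, 1, 1], [], [], [], [], [], []], [[], [0, 0, 0, 0, 0, 0, 1, 2, 4, 4, 4, 2, 1], [0, 0, 0, 0, 0, 0, -1, -1, -2, 0, 2, 7, 9, 10, 7, 4, 1], [0, 0, 0, 0, 0, 0, 0, 0, 0, 0, 0, 0, 1, 3, 6, 8, 8, 6, 3, 1], [0, 0, 0, 0, 0, 0, 0, 0, 0, 0, 0, 0, 0, 0, 0, 1, 1, 1], [0, 0, 0, 0, 0, 0, 0, 0, 0, 0, 0, 0, 0, 0, 0, 0, 1, 2, 3, 3, 2, 1], [], [], [], []], [[], [0, 0, 0, 0, 0, 0, 0, 0, 0, 0, 0, 1, 1, 1, 1], [0, 0, 0, 0, 0, 0, 0,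 0, 0, 0, 0, 0, 1, 3, 6, 8, 8, 6, 3, 1], [0, 0, 0, 0, 0, 0, 0, 0, 0, 0, 0, -1, -1, -2, -3, -1, 2, 7, 12, 13, 11, 7, 3, 1], [], [0, 0, 0, 0, 0, 0, 0, 0, 0, 0, 0, 0, 0, 0, 0, 0, 0, 0, 1, 3, 6, 8, 8, 6, 3, 1], [0, 0, 0, 0, 0, 0, 0, 0, 0, 0, 0, 0, 0, 0, 0, 0, 0, 0, 0, 0, 0, 1, 1, 1, 1], [0, 0, 0, 0, 0, 0, 0, 0, 0, 0, 0, 0, 0, 0, 0, 0, 0, 0, 0, 0, 0, 0, 1, 2, 3, 3, 2, 1], [], []], [[], [], [0, 0, 0, 0, 0, 0, 0, 0, 0, 0, 0, 0, 0, 0, 0, 1, 1, 1], [], [0, 0, 0, 0, 0, 0, 0, 0, 0, 0, 0, 0, 0, 0, 0, -1, 0, 0, 1], [0, 0, 0, 0, 0, 0, 0, 0, 0, 0, 0, 0, 0, 0, 0, 0, 0, 0, 0, 1, 1, 1, 1], [], [], [], []], [[], [], [0, 0, 0, 0, 0, 0, 0, 0, 0, 0, 0, 0, 0, 0, 0, 0, 1, 2, 3, 3, 2, 1], [0, 0, 0, 0, 0, 0, 0, 0, 0, 0, 0, 0, 0, 0, 0, 0, 0, 0, 1, 3, 6, 8, 8, 6, 3, 1], [0, 0, 0, 0, 0, 0, 0, 0, 0, 0, 0, 0, 0, 0, 0, 0, 0, 0, 0, 1, 1, 1, 1], [0, 0, 0, 0, 0, 0, 0, 0, 0, 0, 0, 0, 0, 0, 0, 0, -1, -1, -2, -3, -2, 0, 4, 10, 13, 13, 10, 5, 2], [], [0, 0, 0, 0,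 0, 0, 0, 0, 0, 0, 0, 0, 0, 0, 0, 0, 0, 0, 0, 0, 0, 0, 0, 0, 1, 3, 6, 8, 8, 6, 3, 1], (let yq1 : List ℤ := (let yq2 : List ℤ := (let yq3 : List ℤ := %[0, 1, 1, 1, 1 | []];
  %[0, 0, 0, 0 | yq3]);
  (let yq4 : type_of% yq2 := %[0, 0, 0, 0 | yq2];
  %[0, 0, 0, 0 | yq4]));
  (let yq5 : type_of% yq1 := (let yq6 : type_of% yq1 := %[0, 0, 0, 0 | yq1];
  %[0, 0, 0, 0 | yq6]);
  (let yq7 : type_of% yq5 := %[0, 0, 0, 0 | yq5];
  %[0, 0, 0, 0 | yq7]))), []], [[], [], [], [0, 0, 0, 0, 0, 0, 0, 0, 0, 0, 0, 0, 0, 0, 0, 0, 0, 0, 0, 0, 0, 1, 1, 1, 1], [], [], [0, 0, 0, 0, 0, 0, 0, 0, 0, 0, 0, 0, 0, 0, 0, 0, 0, 0, 0, 0, 0, -1, 0, 0, 0, 1], [0, 0, 0, 0, 0, 0, 0, 0, 0, 0, 0, 0, 0, 0, 0, 0, 0, 0, 0, 0, 0, 0, 0, 0, 0, 0, 1, 1, 1], [], []], [[], [], [], [0, 0, 0, 0, 0, 0, 0, 0, 0, 0, 0, 0, 0, 0, 0, 0, 0, 0, 0, 0, 0, 0, 1, 2, 3, 3, 2, 1], [], [0, 0, 0, 0, 0, 0, 0, 0, 0, 0, 0, 0, 0, 0, 0, 0, 0, 0, 0, 0, 0, 0, 0, 0, 1, 3, 6, 8, 8, 6, 3, 1], [0, 0,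 0, 0, 0, 0, 0, 0, 0, 0, 0, 0, 0, 0, 0, 0, 0, 0, 0, 0, 0, 0, 0, 0, 0, 0, 1, 1, 1], (let yq8 : List ℤ := (let yq9 : List ℤ := (let yq10 : List ℤ := %[10, 11, 9, 5, 2 | []];
  %[-3, -1, 2, 7 | yq10]);
  (let yq11 : type_of% yq9 := %[0, -1, -1, -2, -2 | yq9];
  %[0, 0, 0, 0 | yq11]));
  (let yq12 : type_of% yq8 := (let yq13 : type_of% yq8 := %[0, 0, 0, 0, 0 | yq8];
  %[0, 0, 0, 0 | yq13]);
  (let yq14 : type_of% yq12 := %[0, 0, 0, 0 | yq12];
  %[0, 0, 0, 0 | yq14]))), (let yq15 : List ℤ := (let yq16 : List ℤ := (let yq17 : List ℤ := %[4, 4, 4, 2, 1 | []];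
  %[0, 0, 0, 1, 2 | yq17]);
  (let yq18 : type_of% yq16 := %[0, 0, 0, 0, 0 | yq16];
  %[0, 0, 0, 0 | yq18]));
  (let yq19 : type_of% yq15 := (let yq20 : type_of% yq15 := %[0, 0, 0, 0, 0 | yq15];
  %[0, 0, 0, 0, 0 | yq20]);
  (let yq21 : type_of% yq19 := %[0, 0, 0, 0, 0 | yq19];
  %[0, 0, 0, 0 | yq21]))), []], [[], [], [], [], [], (let yq22 : List ℤ := (let yq23 : List ℤ := (let yq24 : List ℤ := %[0, 1, 1, 1, 1 | []];
  %[0, 0, 0, 0 | yq24]);
  (let yq25 : type_of% yq23 := %[0, 0, 0, 0 | yq23];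
  %[0, 0, 0, 0 | yq25]));
  (let yq26 : type_of% yq22 := (let yq27 : type_of% yq22 := %[0, 0, 0, 0 | yq22];
  %[0, 0, 0, 0 | yq27]);
  (let yq28 : type_of% yq26 := %[0, 0, 0, 0 | yq26];
  %[0, 0, 0, 0 | yq28]))), [], (let yq29 : List ℤ := (let yq30 : List ℤ := (let yq31 : List ℤ := %[4, 4, 4, 2, 1 | []];
  %[0, 0, 0, 1, 2 | yq31]);
  (let yq32 : type_of% yq30 := %[0, 0, 0, 0, 0 | yq30];
  %[0, 0, 0, 0 | yq32]));
  (let yq33 : type_of% yq29 := (let yq34 : type_of% yq29 := %[0, 0, 0, 0, 0 | yq29];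
  %[0, 0, 0, 0, 0 | yq34]);
  (let yq35 : type_of% yq33 := %[0, 0, 0, 0, 0 | yq33];
  %[0, 0, 0, 0 | yq35]))), (let yq36 : List ℤ := (let yq37 : List ℤ := (let yq38 : List ℤ := %[3, 3, 4, 3, 2, 1 | []];
  %[-1, -1, -1, 0, 0 | yq38]);
  (let yq39 : type_of% yq37 := %[0, 0, 0, -1, 0 | yq37];
  %[0, 0, 0, 0, 0 | yq39]));
  (let yq40 : type_of% yq36 := (let yq41 : type_of% yq36 := %[0, 0, 0, 0, 0, 0 | yq36];
  %[0, 0, 0, 0, 0 | yq41]);
  (let yq42 : type_of% yq40 := %[0, 0, 0, 0, 0 | yq40];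
  %[0, 0, 0, 0, 0 | yq42]))), (let yq43 : List ℤ := (let yq44 : List ℤ := (let yq45 : List ℤ := %[0, 0, 0, 0, 0, 1 | []];
  %[0, 0, 0, 0, 0 | yq45]);
  (let yq46 : type_of% yq44 := %[0, 0, 0, 0, 0, 0 | yq44];
  %[0, 0, 0, 0, 0 | yq46]));
  (let yq47 : type_of% yq43 := (let yq48 : type_of% yq43 := %[0, 0, 0, 0, 0, 0 | yq43];
  %[0, 0, 0, 0, 0 | yq48]);
  (let yq49 : type_of% yq47 := %[0, 0, 0, 0, 0 | yq47];
  %[0, 0, 0, 0, 0 | yq49])))], [[], [], [], [], [], [], [], [], (let yq50 : List ℤ := (let yq51 : List ℤ := (let yq52 : List ℤ := %[0, 0, 0, 0, 0, 1 | []];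
  %[0, 0, 0, 0, 0 | yq52]);
  (let yq53 : type_of% yq51 := %[0, 0, 0, 0, 0, 0 | yq51];
  %[0, 0, 0, 0, 0 | yq53]));
  (let yq54 : type_of% yq50 := (let yq55 : type_of% yq50 := %[0, 0, 0, 0, 0, 0 | yq50];
  %[0, 0, 0, 0, 0 | yq55]);
  (let yq56 : type_of% yq54 := %[0, 0, 0, 0, 0 | yq54];
  %[0, 0, 0, 0, 0 | yq56]))), (let yq57 : List ℤ := (let yq58 : List ℤ := (let yq59 : List ℤ := %[0, 0, 0, 0, -1, 1 | []];
  %[0, 0, 0, 0, 0 | yq59]);
  (let yq60 : type_of% yq58 := %[0, 0, 0, 0, 0, 0 | yq58];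
  %[0, 0, 0, 0, 0 | yq60]));
  (let yq61 : type_of% yq57 := (let yq62 : type_of% yq57 := %[0, 0, 0, 0, 0, 0 | yq57];
  %[0, 0, 0, 0, 0 | yq62]);
  (let yq63 : type_of% yq61 := %[0, 0, 0, 0, 0, 0 | yq61];
  %[0, 0, 0, 0, 0 | yq63])))]]

def bbL : List (List (List ℤ)) := [[[], [0, 1, 1, 2, 3, 4, 4, 5, 4, 4, 3, 2, 1, 1], [], [], [], [], [], [], [], []], [[1], [-1, 1, 1, 2, 3, 3, 2, 1], [0, 0, 0, 0, 0, 1, 2, 4, 4, 4, 2, 1], [0, 0, 0, 0, 0, 0, 0, 0, 0, 0, 1, 1, 1, 1], [], [], [], [], [], []], [[], [1, 1, 2, 1, 1], [-1, 0, -1, 1, 2, 4, 3, 3, 1], [0, 0, 0, 0, 0, 0, 1, 2, 3, 3, 2, 1], [0, 0, 0, 0, 0, 0, 0, 0, 0, 1], [0, 0, 0, 0, 0, 0, 0, 0, 0, 0, 1, 1, 1, 1], [], [], [], []], [[], [1], [0, 1, 2, 3, 2, 1], [-1, 0, -1, -1, 1, 3, 4, 4, 2, 1], [], [0, 0, 0, 0, 0, 0, 0, 1, 2, 3, 2, 1], [0, 0, 0, 0, 0, 0, 0, 0, 0, 0, 1], [0, 0, 0, 0, 0, 0, 0, 0, 0, 0, 0, 1, 1, 1], [], []], [[], [], [1, 1, 2, 2, 3, 2, 2, 1, 1], [], [-1, 0, -1, 0, -1, 1, 0,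 1, 0, 1], [0, 0, 0, 0, 1, 1, 2, 3, 3, 3, 3, 2, 1, 1], [], [], [], []], [[], [], [1, 1, 1], [0, 0, 1, 2, 3, 2, 1], [0, 0, 0, 1], [-1, 0, -1, -1, 0, 2, 3, 5, 3, 2], [], [0, 0, 0, 0, 0, 0, 0, 0, 1, 2, 3, 2, 1], [0, 0, 0, 0, 0, 0, 0, 0, 0, 0, 0, 0, 0, 1], []], [[], [], [], [1, 1, 2, 3, 3, 3, 3, 2, 1, 1], [], [], [-1, 0, -1, -1, 0, 0, 0, 1, 1, 0, 1], [0, 0, 0, 0, 0, 1, 1, 2, 2, 3, 2, 2, 1, 1], [], []], [[], [], [], [1, 1, 1, 1], [], [0, 0, 1, 2, 3, 3, 2, 1], [0, 0, 0, 0, 1], [-1, 0, -1, -1, -1, 1, 2, 4, 4, 3, 2], [0, 0, 0, 0, 0, 0, 0, 0, 0, 1, 1, 2, 1, 1], []], [[], [], [], [], [], [1, 1, 1, 1], [], [0, 0, 1, 2, 4, 4, 4, 2, 1], [-1, 0, -1, -1, -1, 0, 0, 3, 3, 4, 3, 2, 1], [0, 0, 0, 0, 0, 0, 0, 0, 0, 0, 0, 0, 0, 1]], [[], [], [], [], [], [], [], [], [1, 1, 2, 3, 4, 4, 5, 4, 4, 3, 2, 1, 1], [-1, 0, -1, -1, -1, 0, -1, 1, 0, 1, 1, 1, 0, 1]]]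

def kL : List (List ℤ) := [[1], [0, 1, 1, 2, 3, 4, 4, 5, 4, 4, 3, 2, 1, 1], [0, 0, 0, 0, 0, 0, 1, 2, 4, 6, 9, 11, 13, 13, 13, 11, 9, 6, 4, 2, 1], [0, 0, 0, 0, 0, 0, 0, 0, 0, 0, 0, 1, 2, 4, 7, 10, 13, 16, 17, 17, 16, 13, 10, 7, 4, 2, 1], [0, 0, 0, 0, 0, 0, 0, 0, 0, 0, 0, 0, 0, 0, 0, 1, 1, 1, 1, 1, 1, 1], [0, 0, 0, 0, 0, 0, 0, 0, 0, 0, 0, 0, 0, 0, 0, 0, 1, 2, 4, 7, 10, 13, 16, 17, 17, 16, 13, 10, 7, 4, 2, 1], [0, 0, 0, 0, 0, 0, 0, 0, 0, 0, 0, 0, 0, 0, 0, 0, 0, 0, 0, 0, 0, 1, 1, 1, 1, 1, 1, 1], (let yq64 : List ℤ := (let yq65 : List ℤ := (let yq66 : List ℤ := %[9, 6, 4, 2, 1 | []];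
  %[11, 13, 13, 13, 11 | yq66]);
  (let yq67 : type_of% yq65 := %[1, 2, 4, 6, 9 | yq65];
  %[0, 0, 0, 0 | yq67]));
  (let yq68 : type_of% yq64 := (let yq69 : type_of% yq64 := %[0, 0, 0, 0, 0 | yq64];
  %[0, 0, 0, 0 | yq69]);
  (let yq70 : type_of% yq68 := %[0, 0, 0, 0, 0 | yq68];
  %[0, 0, 0, 0 | yq70]))), (let yq71 : List ℤ := (let yq72 : List ℤ := (let yq73 : List ℤ := %[4, 4, 3, 2, 1, 1 | []];
  %[2, 3, 4, 4, 5 | yq73]);
  (let yq74 : type_of% yq72 := %[0, 0, 0, 1, 1 | yq72];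
  %[0, 0, 0, 0, 0 | yq74]));
  (let yq75 : type_of% yq71 := (let yq76 : type_of% yq71 := %[0, 0, 0, 0, 0, 0 | yq71];
  %[0, 0, 0, 0, 0 | yq76]);
  (let yq77 : type_of% yq75 := %[0, 0, 0, 0, 0 | yq75];
  %[0, 0, 0, 0, 0 | yq77]))), (let yq78 : List ℤ := (let yq79 : List ℤ := (let yq80 : List ℤ := %[0, 0, 0, 0, 0, 1 | []];
  %[0, 0, 0, 0, 0 | yq80]);
  (let yq81 : type_of% yq79 := %[0, 0, 0, 0, 0, 0 | yq79];
  %[0, 0, 0, 0, 0 | yq81]));
  (let yq82 : type_of% yq78 := (let yq83 : type_of% yq78 := %[0, 0, 0, 0, 0, 0 | yq78];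
  %[0, 0, 0, 0, 0 | yq83]);
  (let yq84 : type_of% yq82 := %[0, 0, 0, 0, 0 | yq82];
  %[0, 0, 0, 0, 0 | yq84])))]

def mat (c c' : Fin 10) : List ℤ := (matL.getD c []).getD c' []

def kk (c : Fin 10) : List ℤ := kL.getD c []

def bb (c c' : Fin 10) : List ℤ := (bbL.getD c []).getD c' []

theorem hmat : ∀ c c' : Fin 10, pEq (Bg.matZ 10 43 Z (e 1) c c') (mat c c') = true := by (delta Cfsg.Agent.H996.PQ.Big.Bg.matZ; simp only [Cfsg.Agent.H996.Eight.Kq.pEq_eq]; decide +kernel)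

theorem hkk : ∀ c : Fin 10, pEq (Bg.kZ 10 43 Z c) (kk c) = true := by (delta Cfsg.Agent.H996.PQ.Big.Bg.kZ; simp only [Cfsg.Agent.H996.Eight.Kq.pEq_eq]; decide +kernel)

theorem hB : ∀ r c, pEq (pMul (kk r) (bb r c)) (pMul [1, 1, 2, 3, 4, 4, 5, 4, 4, 3, 2, 1, 1] (mat r c)) = true := by (simp only [Cfsg.Agent.H996.Eight.Kq.pEq_eq]; decide +kernel)

/-- the data -/
noncomputable def data : Data A 1 576 10 where
  t := tab
  e := e
  wl := B.wl
  mat := mat
  kk := kk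
  ff := [1, 1, 2, 3, 4, 4, 5, 4, 4, 3, 2, 1, 1]
  bb := bb
  chkM := okB.chkM (by decide) (by decide) hZ hA2 hmat
  chkK := okB.chkK (by decide) (by decide) hZ hA2 hkk
  chkF := by decide +kernel
  chkP := by (simp only [Cfsg.Agent.H996.Eight.Kq.pPos_eq]; decide +kernel)
  chkB := hB
  wo := okB.hw
  ws := okB.wl_st

end Cfsg.Agent.H996.PQ.TabE7c
end

-- part: H996/PQ/FullE7c
section
/-!
# Full certificate: `E₇`, node `1` (helper996, for S4612; made by a program)

`|G : P| = 1*q^0*P2^4*P3*P4*P6^2*P8*P9*P10*P12*P14*P18`, number of the long root subgroups `1*q^0*P2*P3*P6*P7*P9*P12*P14*P18` (`Pn` the cyclotomic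
polynomials at `q`). Constituents (degree, `D`):
* `0`: degree `1*q^0 / 1`, `D = 0`
* `1`: degree `1*q^1*P7*P12*P14 / 1`, `D = 1*q^16*P2*P3*P6*P9*P18`
* `2`: degree `1*q^2*P3^2*P6^2*P9*P12*P18 / 1`, `D = 1*q^16*P2*P7*P8*P14`
* `3`: degree `1*q^3*P7*P9*P14*P18 / 1`, `D = 1*q^16*P2*P3*P5*P6*P10*P12`
* `4`: degree `1*q^3*P5*P7*P8*P12*P14*P18 / 2`, `D = 1*q^15*P2*P3*P6*P9*(-1 + 2*q + 1*q^3 + -1*q^4 + 1*q^7)`
* `5`: degree `1*q^3*P2^4*P6^2*P7*P10*P14*P18 / 2`, `D = 1*q^15*P3*P4*P8*P9*P12`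
* `6`: degree `1*q^4*P5*P8*P9*P10*P12*P14*P18 / 2`, `D = 1*q^15*P2*P3*P6*P7*(-1 + 2*q + -1*q^2 + 1*q^3 + -1*q^6 + 1*q^7)`
* `7`: degree `1*q^4*P2^4*P5*P6^2*P9*P10*P14*P18 / 2`, `D = 1*q^15*P3*P7*P12*(1 + 1*q^4 + -1*q^5 + 1*q^6)`
* `8`: degree `1*q^5*P3^2*P6^2*P7*P9*P12*P14*P18 / 1`, `D = 1*q^16*P2*(2 + 2*q^2 + 4*q^4 + 4*q^6 + 4*q^8 + 3*q^10 + 2*q^12 + 1*q^14 + 1*q^16)`
* `9`: degree `1*q^6*P5*P7*P9*P10*P12*P14*P18 / 1`, `D = 1*q^16*P2*P3*P4*P6*P8*(1 + 1*q^2 + -1*q^4 + 1*q^6)`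
-/

set_option autoImplicit false
set_option maxRecDepth 20000

namespace Cfsg.Agent.H996.PQ.FullE7c

open Cfsg.Agent.H996.PQ.Big Cfsg.Agent.H967.Sph Cfsg.Agent.H64.Dl.Sph Cfsg.Agent.H996.Eight Cfsg.Agent.H996.Eight.Cert Cfsg.Agent.H996.Eight.En

/-- degree `1*q^0 / 1` -/
def c0 : Crt 10 where
  th := [0, 1, 1, 2, 3, 4, 4, 5, 4, 4, 3, 2, 1, 1]
  nu c := ([[1], [1], [1], [1], [1], [1], [1], [1], [1], [1]] : List (List ℤ)).getD c []
  steps := []
  dn := [1]
  den := 1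

/-- degree `1*q^1*P7*P12*P14 / 1` -/
def c1 : Crt 10 where
  th := [-1, 0, 0, 1, 2, 4, 4, 5, 4, 3, 2, 1]
  nu c := ([[0, 0, 0, 0, 0, 0, 0, 0, 0, 1, 1, 1, 1, 1, 1, 1], [0, 0, 0, 0, 0, 0, 0, 0, -1, 0, 1, 2, 2, 1], [0, 0, 0, 0, 0, 0, -1, -1, -1, 1, 2, 2, 1], [0, 0, 0, 0, 0, -1, -2, -1, 0, 2, 2, 1], [0, 0, 0, 0, -1, -1, -1, 0, 0, 1, 1, 1, 1], [0, 0, 0, 0, -1, -2, -2, 0, 1, 2, 1], [0, 0, 0, -1, -1, -1, -1, 0, 0, 1, 1, 1], [0, 0, 0, -1, -2, -2, -1, 1, 1, 1], [0, 0, -1, -2, -2, -1, 0, 1], [-1, -1, -1, -1, -1, -1, -1]] : List (List ℤ)).getD c []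
  steps := []
  dn := [0, 1, 0, 0, 0, 1, 0, 1, 0, 1, 0, 1, 0, 1, 0, 0, 0, 1]
  den := 1

/-- degree `1*q^2*P3^2*P6^2*P9*P12*P18 / 1` -/
def c2 : Crt 10 where
  th := [-1, 0, -1, 0, 1, 3, 3, 4, 3, 2, 1]
  nu c := ([[0, 0, 0, 0, 0, 0, 0, 0, 0, 0, 0, 0, 0, 0, 1, 1, 2, 2, 3, 3, 3, 2, 2, 1, 1], [0, 0, 0, 0, 0, 0, 0, 0, 0, 0, 0, 0, 0, -1, 0, -1, 1, 1, 3, 3, 2, 1], [0, 0, 0, 0, 0, 0, 0, 0, 0, 0, 1, -1, -1, -3, -1, -1, 1, 2, 2, 2], [0, 0, 0, 0, 0, 0, 0, 0, 1, 1, 0, -2, -3, -3, -1, 0, 2, 1, 1], [0, 0, 0, 0, 0, 0, 1, 0, 1, -1, 0, -2, -2, -2, -1, 0, 0, 1, 1, 1], [0, 0, 0, 0, 0, 0, 1, 1, 2, 0, -1, -3, -3, -2, 0, 1, 1], [0, 0, 0, 0, 0, 1, 1, 1, 0, 0, -1, -2, -2, -2, 0, -1, 1, 0, 1], [0, 0, 0, 0, 0, 2, 2, 2, 1, -1, -1, -3, -1, -1, 1], [0, 0, 0, 1, 2, 3, 3, 1, 1, -1, 0, -1], [1, 1, 2, 2, 3, 3, 3, 2, 2, 1, 1]] : List (List ℤ)).getD c []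
  steps := []
  dn := [0, 0, 1, 0, 1, 0, 2, 0, 2, 0, 3, 0, 3, 0, 3, 0, 3, 0, 3, 0, 2, 0, 2, 0, 1, 0, 1]
  den := 1

/-- degree `1*q^3*P7*P9*P14*P18 / 1` -/
def c3 : Crt 10 where
  th := [-1, 0, -1, 0, 0, 1, 1, 2, 1, 1, 1]
  nu c := ([[0, 0, 0, 0, 0, 0, 0, 0, 0, 0, 0, 0, 0, 0, 0, 1, 1, 1, 1, 1, 1, 1], [0, 0, 0, 0, 0, 0, 0, 0, 0, 0, 0, 0, 0, 0, -1, 0, 0, 1, 1], [0, 0, 0, 0, 0, 0, 0, 0, 0, 0, 0, 1, -1, -1, -1, 0, 1], [0, 0, 0, 0, 0, 0, 0, 0, 0, 1, 1, 0, -1, -1, 0, 1], [0, 0, 0, 0, 0, 0, -1, 0, 0, 0, -1, -1, -1, -1, -1, -1], [0, 0, 0, 0, 0, 0, -1, 0, 1, 1, 0, -1, -1], [0, 0, 0, 0, 0, 0, 1, 1, 1, 1, 1, 1, 0, 0, 0, 1], [0, 0, 0, 0, 0, -1, 0, 1, 1, 1, -1], [0, 0, 0, -1, -1, 0, 0, 1], [-1, -1, -1, -1, -1, -1, -1]] : List (List ℤ)).getD c []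
  steps := []
  dn := [0, 0, 0, 1, 0, 1, 0, 1, 0, 2, 0, 2, 0, 2, 0, 3, 0, 2, 0, 2, 0, 2, 0, 1, 0, 1, 0, 1]
  den := 1

/-- degree `1*q^3*P5*P7*P8*P12*P14*P18 / 2` -/
def c4 : Crt 10 where
  th := [-1, 0, -1, -1, 0, 0, 0, 1, 0, 1]
  nu c := ([[0, 0, 0, 0, 0, 0, 0, 0, 0, 0, 0, 0, 0, 0, 0, 0, 0, 0, 1, 2, 3, 4, 5, 5, 5, 4, 3, 2, 1], [0, 0, 0, 0, 0, 0, 0, 0, 0, 0, 0, 0, 0, 0, 0, 0, 0, -1, -1, -1, -1, 0, 1, 1, 1], [0, 0, 0, 0, 0, 0, 0, 0, 0, 0, 0, 0, 0, 0, 1, 1, 0, -1, -1, -1, -1, 0, 1], [0, 0, 0, 0, 0, 0, 0, 0, 0, 0, 0, -1, 0, 1, 1, 1, 0, -1, -1, -1], [0, 0, 0, 0, 0, 0, 0, 0, 0, 0, 1, 2, 3, 4, 5, 5, 4, 3, 3, 2, 1, 1, 1], [0, 0, 0, 0, 0, 0, 0, 0, 0, -1, -1, -1, 0, 1, 1, 1, 0, -1], [0, 0, 0, 0, 0, 0, 1, 1, 1, 2, 3, 3, 4, 5, 5, 4, 3, 2, 1], [0, 0, 0, 0, 0, 0, 1, 0, -1, -1, -1, -1, 0, 1, 1], [0, 0, 0, 0, 1, 1, 1, 0, -1, -1, -1, -1], [1, 2, 3, 4, 5, 5, 5, 4, 3, 2, 1]] : List (List ℤ)).getD c []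
  steps := []
  dn := (let yq85 : List ℤ := (let yq86 : List ℤ := (let yq87 : List ℤ := %[2, 0, 1, 1, 1 | []];
  %[4, 1, 3, 1 | yq87]);
  (let yq88 : type_of% yq86 := %[6, 1, 5, 1 | yq86];
  %[6, 0, 6, 2 | yq88]));
  (let yq89 : type_of% yq85 := (let yq90 : type_of% yq85 := %[1, 5, 1, 6, 2 | yq85];
  %[1, 3, 1, 4 | yq90]);
  (let yq91 : type_of% yq89 := %[1, 1, 0, 2 | yq89];
  %[0, 0, 0, 1 | yq91])))
  den := 2

/-- degree `1*q^3*P2^4*P6^2*P7*P10*P14*P18 / 2` -/
def c5 : Crt 10 where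
  th := [-1, 0, -1, -1, 0, 2, 2, 3, 2, 1]
  nu c := ([[0, 0, 0, 0, 0, 0, 0, 0, 0, 0, 0, 0, 0, 0, 0, 0, 0, 0, 1, 2, 3, 5, 7, 8, 9, 9, 8, 7, 5, 3, 2, 1], [0, 0, 0, 0, 0, 0, 0, 0, 0, 0, 0, 0, 0, 0, 0, 0, 0, -1, -1, -1, -2, -1, 2, 4, 5, 5, 3, 1], [0, 0, 0, 0, 0, 0, 0, 0, 0, 0, 0, 0, 0, 0, 1, 1, 0, -2, -4, -5, -4, -1, 2, 3, 2, 1], [0, 0, 0, 0, 0, 0, 0, 0, 0, 0, 0, -1, 0, 3, 4, 1, -1, -4, -6, -5, -1, 1, 1], [0, 0, 0, 0, 0, 0, 0, 0, 0, 0, 1, 2, 3, 3, 3, 2, 0, -2, -2, -2, -2, 0, 1, 1, 1, 1], [0, 0, 0, 0, 0, 0, 0, 0, 0, -1, -1, 1, 5, 6, 4, 1, -1, -4, -3, 0, 1], [0, 0, 0, 0, 0, 0, -1, -1, -1, -1, 0, 2, 2, 2, 2, 0, -2, -3, -3, -3, -2, -1], [0, 0, 0, 0, 0, 0, -1, -2, -3, -2, 1, 4, 5, 4, 2, 0, -1, -1], [0, 0, 0, 0, -1, -3, -5, -5, -4, -2, 1, 2, 1, 1, 1], [-1, -2, -3, -5, -7, -8, -9, -9, -8, -7, -5, -3, -2, -1]] : List (List ℤ)).getD c []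
  steps := []
  dn := (let yq92 : List ℤ := (let yq93 : List ℤ := (let yq94 : List ℤ := %[2, 2, 1, 1, 1 | []];
  %[4, 3, 3, 3 | yq94]);
  (let yq95 : type_of% yq93 := %[6, 5, 5, 5 | yq93];
  %[6, 6, 6, 6 | yq95]));
  (let yq96 : type_of% yq92 := (let yq97 : type_of% yq92 := %[5, 5, 5, 6, 6 | yq92];
  %[3, 3, 3, 4 | yq97]);
  (let yq98 : type_of% yq96 := %[1, 1, 2, 2 | yq96];
  %[0, 0, 0, 1 | yq98])))
  den := 2

/-- degree `1*q^4*P5*P8*P9*P10*P12*P14*P18 / 2` -/
def c6 : Crt 10 where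
  th := [-1, 0, -1, -1, -1, -1, -1, 0, -1]
  nu c := ([[0, 0, 0, 0, 0, 0, 0, 0, 0, 0, 0, 0, 0, 0, 0, 0, 0, 0, 0, 0, 0, 1, 1, 1, 1, 1], [0, 0, 0, 0, 0, 0, 0, 0, 0, 0, 0, 0, 0, 0, 0, 0, 0, 0, 0, 0, -1], [0, 0, 0, 0, 0, 0, 0, 0, 0, 0, 0, 0, 0, 0, 0, 0, 0, 1], [0, 0, 0, 0, 0, 0, 0, 0, 0, 0, 0, 0, 0, 0, -1], [0, 0, 0, 0, 0, 0, 0, 0, 0, 0, 0, 0, -1, -1, -1, -1, -1], [0, 0, 0, 0, 0, 0, 0, 0, 0, 0, 0, 1], [0, 0, 0, 0, 0, 0, 0, 0, 0, 1, 1, 1, 1, 1], [0, 0, 0, 0, 0, 0, 0, 0, -1], [0, 0, 0, 0, 0, 1], [-1, -1, -1, -1, -1]] : List (List ℤ)).getD c []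
  steps := []
  dn := (let yq99 : List ℤ := (let yq100 : List ℤ := (let yq101 : List ℤ := %[3, -1, 1, -1, 1 | []];
  %[-6, 6, -4, 5, -3 | yq101]);
  (let yq102 : type_of% yq100 := %[11, -9, 11, -7, 9 | yq100];
  %[-9, 13, -10, 13, -9 | yq102]));
  (let yq103 : type_of% yq99 := (let yq104 : type_of% yq99 := %[9, -7, 11, -9, 11 | yq99];
  %[-3, 5, -4, 6, -6 | yq104]);
  (let yq105 : type_of% yq103 := %[1, -1, 1, -1, 3 | yq103];
  %[0, 0, 0, 0 | yq105])))
  den := 2

/-- degree `1*q^4*P2^4*P5*P6^2*P9*P10*P14*P18 / 2` -/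
def c7 : Crt 10 where
  th := [-1, 0, -1, -1, -1, 1, 1, 2, 1]
  nu c := ([(let yq106 : List ℤ := (let yq107 : List ℤ := (let yq108 : List ℤ := %[7, 5, 3, 2, 1 | []];
  %[8, 9, 9, 8 | yq108]);
  (let yq109 : type_of% yq107 := %[1, 2, 3, 5, 7 | yq107];
  %[0, 0, 0, 0 | yq109]));
  (let yq110 : type_of% yq106 := (let yq111 : type_of% yq106 := %[0, 0, 0, 0, 0 | yq106];
  %[0, 0, 0, 0 | yq111]);
  (let yq112 : type_of% yq110 := %[0, 0, 0, 0 | yq110];
  %[0, 0, 0, 0 | yq112]))), [0, 0, 0, 0, 0, 0, 0, 0, 0, 0, 0, 0, 0, 0, 0, 0, 0, 0, 0, 0, -1, -1, -1, -2, -2, 0, 2, 3, 3, 1], [0, 0, 0, 0, 0, 0, 0, 0, 0, 0, 0, 0, 0, 0, 0, 0, 0, 1, 1, 1, 0, -2, -4, -4, -1, 1, 1], [0, 0, 0, 0, 0, 0, 0, 0, 0, 0, 0, 0, 0, 0, -1, -1, 1, 4, 4, 2, -2, -3, -1, 1], [0, 0, 0, 0, 0, 0, 0, 0, 0, 0, 0, 0, -1, 0, 1, 1, 1, 2, 1, -1, -2, -3, -3, -3, -2, -1], [0, 0, 0, 0, 0, 0, 0, 0, 0, 0, 0, 1, -1, -3, -2, 2, 4, 4, 1, -1, -1], [0, 0, 0, 0, 0, 0, 0, 0, 0, -1, -2, -3,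 -3, -3, -2, -1, 1, 2, 1, 1, 1, 0, -1], [0, 0, 0, 0, 0, 0, 0, 0, 1, 1, -1, -4, -4, -2, 0, 1, 1, 1], [0, 0, 0, 0, 0, 1, 3, 3, 2, 0, -2, -2, -1, -1, -1], [1, 2, 3, 5, 7, 8, 9, 9, 8, 7, 5, 3, 2, 1]] : List (List ℤ)).getD c []
  steps := []
  dn := (let yq113 : List ℤ := (let yq114 : List ℤ := (let yq115 : List ℤ := %[3, 3, 1, 1, 1 | []];
  %[8, 6, 6, 5, 3 | yq115]);
  (let yq116 : type_of% yq114 := %[11, 11, 11, 9, 9 | yq114];
  %[13, 13, 12, 13, 13 | yq116]));
  (let yq117 : type_of% yq113 := (let yq118 : type_of% yq113 := %[9, 9, 11, 11, 11 | yq113];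
  %[3, 5, 6, 6, 8 | yq118]);
  (let yq119 : type_of% yq117 := %[1, 1, 1, 3, 3 | yq117];
  %[0, 0, 0, 0 | yq119])))
  den := 2

/-- degree `1*q^5*P3^2*P6^2*P7*P9*P12*P14*P18 / 1` -/
def c8 : Crt 10 where
  th := [-1, 0, -1, -1, -1, 0, 0, 1]
  nu c := ([(let yq120 : List ℤ := (let yq121 : List ℤ := (let yq122 : List ℤ := %[9, 6, 4, 2, 1 | []];
  %[11, 13, 13, 13, 11 | yq122]);
  (let yq123 : type_of% yq121 := %[1, 2, 4, 6, 9 | yq121];
  %[0, 0, 0, 0 | yq123]));
  (let yq124 : type_of% yq120 := (let yq125 : type_of% yq120 := %[0, 0, 0, 0, 0 | yq120];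
  %[0, 0, 0, 0, 0 | yq125]);
  (let yq126 : type_of% yq124 := %[0, 0, 0, 0, 0 | yq124];
  %[0, 0, 0, 0 | yq126]))), [0, 0, 0, 0, 0, 0, 0, 0, 0, 0, 0, 0, 0, 0, 0, 0, 0, 0, 0, 0, 0, 0, -1, -1, -2, -2, -3, -2, -1, 1, 1, 1], [0, 0, 0, 0, 0, 0, 0, 0, 0, 0, 0, 0, 0, 0, 0, 0, 0, 0, 0, 1, 1, 2, 1, 1, -1, -2, -2], [0, 0, 0, 0, 0, 0, 0, 0, 0, 0, 0, 0, 0, 0, 0, 0, -1, -1, -1, 1, 2, 3, 1, 0, -1], [0, 0, 0, 0, 0, 0, 0, 0, 0, 0, 0, 0, 0, 0, -1, -1, -1, 0, 0, 2, 3, 4, 3, 3, 2, 1], [0, 0, 0, 0, 0, 0, 0, 0, 0, 0, 0, 0, 0, 1, 0, -1, -3, -2, -1, 1, 1, 1], [0, 0, 0, 0, 0, 0, 0, 0, 0, 0, 0, 0, -1, -2, -3, -3, -4, -3, -2, 0, 0, 1, 1, 1], [0, 0, 0, 0, 0, 0, 0, 0, 0, 0, 0, 2, 2, 1, -1, -1, -2, -1, -1], [0, 0, 0, 0, 0, 0, -1, -1, -1, 1, 2, 3, 2, 2, 1, 1], [-1, -2, -4, -6, -9, -11, -13, -13, -13, -11, -9, -6, -4, -2, -1]] : List (List ℤ)).getD c []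
  steps := []
  dn := (let yq127 : List ℤ := (let yq128 : List ℤ := (let yq129 : List ℤ := %[0, 4, 0, 2, 0, 1 | []];
  %[12, 0, 9, 0, 6 | yq129]);
  (let yq130 : type_of% yq128 := %[0, 17, 0, 15, 0 | yq128];
  %[19, 0, 19, 0, 19 | yq130]));
  (let yq131 : type_of% yq127 := (let yq132 : type_of% yq127 := %[12, 0, 15, 0, 17, 0 | yq127];
  %[0, 6, 0, 9, 0 | yq132]);
  (let yq133 : type_of% yq131 := %[1, 0, 2, 0, 4 | yq131];
  %[0, 0, 0, 0, 0 | yq133])))
  den := 1

/-- degree `1*q^6*P5*P7*P9*P10*P12*P14*P18 / 1` -/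
def c9 : Crt 10 where
  th := [-1, 0, -1, -1, -1, 0, -1]
  nu c := ([(let yq134 : List ℤ := (let yq135 : List ℤ := (let yq136 : List ℤ := %[5, 4, 3, 2, 1 | []];
  %[3, 4, 5, 5 | yq136]);
  (let yq137 : type_of% yq135 := %[0, 0, 0, 1, 2 | yq135];
  %[0, 0, 0, 0 | yq137]));
  (let yq138 : type_of% yq134 := (let yq139 : type_of% yq134 := %[0, 0, 0, 0, 0 | yq134];
  %[0, 0, 0, 0 | yq139]);
  (let yq140 : type_of% yq138 := %[0, 0, 0, 0 | yq138];
  %[0, 0, 0, 0 | yq140]))), [0, 0, 0, 0, 0, 0, 0, 0, 0, 0, 0, 0, 0, 0, 0, 0, 0, 0, 0, 0, 0, 0, 0, -1, -1, -1, -1, -1], [0, 0, 0, 0, 0, 0, 0, 0, 0, 0, 0, 0, 0, 0, 0, 0, 0, 0, 0, 0, 1, 1, 1], [0, 0, 0, 0, 0, 0, 0, 0, 0, 0, 0, 0, 0, 0, 0, 0, 0, -1, -1, 0, 1], [0, 0, 0, 0, 0, 0, 0, 0, 0, 0, 0, 0, 0, 0, 0, -1, -1, -1, -1, -1], [0, 0, 0, 0, 0, 0, 0, 0, 0, 0, 0, 0, 0, 0, 1, 0, -1, -1], [0, 0, 0, 0, 0, 0, 0, 0, 0, 0, 0, 0, 0, 0, 0, -1, -1, -1, -1, -1], [0, 0, 0, 0, 0, 0, 0, 0, 0, 0, 0, 0, 1, 1,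 1], [0, 0, 0, 0, 0, 0, 0, -1, -1, -1, -1, -1], [1, 2, 3, 4, 5, 5, 5, 4, 3, 2, 1]] : List (List ℤ)).getD c []
  steps := []
  dn := (let yq141 : List ℤ := (let yq142 : List ℤ := (let yq143 : List ℤ := %[0, 2, 0, 1, 0, 1 | []];
  %[6, 0, 5, 0, 4 | yq143]);
  (let yq144 : type_of% yq142 := %[10, 0, 9, 0, 9, 0 | yq142];
  %[0, 10, 0, 11, 0 | yq144]));
  (let yq145 : type_of% yq141 := (let yq146 : type_of% yq141 := %[0, 6, 0, 9, 0, 9 | yq141];
  %[2, 0, 4, 0, 5 | yq146]);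
  (let yq147 : type_of% yq145 := %[0, 1, 0, 1, 0 | yq145];
  %[0, 0, 0, 0, 0 | yq147])))
  den := 1

/-- the certificates -/
def C (i : Fin 10) : Crt 10 := ([c0, c1, c2, c3, c4, c5, c6, c7, c8, c9] : List (Crt 10)).getD i c0

theorem okA0 : ok1 c0 (TabE7c.data.t.cls TabE7c.data.t.o) TabE7c.data.bb TabE7c.data.kk := by (delta Cfsg.Agent.H996.PQ.ok1; simp only [Cfsg.Agent.H996.Eight.Kq.pEq_eq, Cfsg.Agent.H996.Eight.Kq.pZero_eq, Cfsg.Agent.H996.Eight.Kq.pPos_eq]; decide +kernel)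

theorem okA1 : ok1 c1 (TabE7c.data.t.cls TabE7c.data.t.o) TabE7c.data.bb TabE7c.data.kk := by (delta Cfsg.Agent.H996.PQ.ok1; simp only [Cfsg.Agent.H996.Eight.Kq.pEq_eq, Cfsg.Agent.H996.Eight.Kq.pZero_eq, Cfsg.Agent.H996.Eight.Kq.pPos_eq]; decide +kernel)

theorem okA2 : ok1 c2 (TabE7c.data.t.cls TabE7c.data.t.o) TabE7c.data.bb TabE7c.data.kk := by (delta Cfsg.Agent.H996.PQ.ok1; simp only [Cfsg.Agent.H996.Eight.Kq.pEq_eq, Cfsg.Agent.H996.Eight.Kq.pZero_eq, Cfsg.Agent.H996.Eight.Kq.pPos_eq]; decide +kernel)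

theorem okA3 : ok1 c3 (TabE7c.data.t.cls TabE7c.data.t.o) TabE7c.data.bb TabE7c.data.kk := by (delta Cfsg.Agent.H996.PQ.ok1; simp only [Cfsg.Agent.H996.Eight.Kq.pEq_eq, Cfsg.Agent.H996.Eight.Kq.pZero_eq, Cfsg.Agent.H996.Eight.Kq.pPos_eq]; decide +kernel)

theorem okA4 : ok1 c4 (TabE7c.data.t.cls TabE7c.data.t.o) TabE7c.data.bb TabE7c.data.kk := by (delta Cfsg.Agent.H996.PQ.ok1; simp only [Cfsg.Agent.H996.Eight.Kq.pEq_eq, Cfsg.Agent.H996.Eight.Kq.pZero_eq, Cfsg.Agent.H996.Eight.Kq.pPos_eq]; decide +kernel)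

theorem okA5 : ok1 c5 (TabE7c.data.t.cls TabE7c.data.t.o) TabE7c.data.bb TabE7c.data.kk := by (delta Cfsg.Agent.H996.PQ.ok1; simp only [Cfsg.Agent.H996.Eight.Kq.pEq_eq, Cfsg.Agent.H996.Eight.Kq.pZero_eq, Cfsg.Agent.H996.Eight.Kq.pPos_eq]; decide +kernel)

theorem okA6 : ok1 c6 (TabE7c.data.t.cls TabE7c.data.t.o) TabE7c.data.bb TabE7c.data.kk := by (delta Cfsg.Agent.H996.PQ.ok1; simp only [Cfsg.Agent.H996.Eight.Kq.pEq_eq, Cfsg.Agent.H996.Eight.Kq.pZero_eq, Cfsg.Agent.H996.Eight.Kq.pPos_eq]; decide +kernel)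

theorem okA7 : ok1 c7 (TabE7c.data.t.cls TabE7c.data.t.o) TabE7c.data.bb TabE7c.data.kk := by (delta Cfsg.Agent.H996.PQ.ok1; simp only [Cfsg.Agent.H996.Eight.Kq.pEq_eq, Cfsg.Agent.H996.Eight.Kq.pZero_eq, Cfsg.Agent.H996.Eight.Kq.pPos_eq]; decide +kernel)

theorem okA8 : ok1 c8 (TabE7c.data.t.cls TabE7c.data.t.o) TabE7c.data.bb TabE7c.data.kk := by (delta Cfsg.Agent.H996.PQ.ok1; simp only [Cfsg.Agent.H996.Eight.Kq.pEq_eq, Cfsg.Agent.H996.Eight.Kq.pZero_eq, Cfsg.Agent.H996.Eight.Kq.pPos_eq]; decide +kernel)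

theorem okA9 : ok1 c9 (TabE7c.data.t.cls TabE7c.data.t.o) TabE7c.data.bb TabE7c.data.kk := by (delta Cfsg.Agent.H996.PQ.ok1; simp only [Cfsg.Agent.H996.Eight.Kq.pEq_eq, Cfsg.Agent.H996.Eight.Kq.pZero_eq, Cfsg.Agent.H996.Eight.Kq.pPos_eq]; decide +kernel)

theorem okA (i : Fin 10) : ok1 (C i) (TabE7c.data.t.cls TabE7c.data.t.o) TabE7c.data.bb TabE7c.data.kk :=
  match i with
  | 0 => okA0
  | 1 => okA1
  | 2 => okA2
  | 3 => okA3
  | 4 => okA4
  | 5 => okA5
  | 6 => okA6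
  | 7 => okA7
  | 8 => okA8
  | 9 => okA9

theorem dvdA : ∀ i, pDvd (C i).den (C i).dn := by decide +kernel

theorem neA : ∀ i k, i < k → pNV (pAdd (C i).th (pNeg (C k).th)) = true := by (simp only [Cfsg.Agent.H996.Eight.Kq.pNV_eq]; decide +kernel)


/-- the polynomials -/
def pol : Pol 10 where
  N := (let yq148 : List ℤ := (let yq149 : List ℤ := (let yq150 : List ℤ := %[4, 3, 2, 1, 1, 1 | []];
  %[12, 10, 8, 7, 5 | yq150]);
  (let yq151 : type_of% yq149 := %[24, 22, 20, 18, 16, 14 | yq149];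
  %[28, 28, 27, 26, 25 | yq151]));
  (let yq152 : type_of% yq148 := (let yq153 : type_of% yq148 := %[22, 24, 25, 26, 27, 28 | yq148];
  %[12, 14, 16, 18, 20 | yq153]);
  (let yq154 : type_of% yq152 := %[4, 5, 7, 8, 10 | yq152];
  %[1, 1, 1, 2, 3 | yq154])))
  dn i := (C i).dn
  den i := (C i).den
  D i := ([[], (let yq155 : List ℤ := (let yq156 : List ℤ := (let yq157 : List ℤ := %[1, 1, 1, 1, 1 | []];
  %[1, 1, 1, 1 | yq157]);
  (let yq158 : type_of% yq156 := %[1, 1, 1, 1 | yq156];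
  %[1, 1, 1, 1 | yq158]));
  (let yq159 : type_of% yq155 := (let yq160 : type_of% yq155 := %[0, 0, 0, 0, 1 | yq155];
  %[0, 0, 0, 0 | yq160]);
  (let yq161 : type_of% yq159 := %[0, 0, 0, 0 | yq159];
  %[0, 0, 0, 0 | yq161]))), (let yq162 : List ℤ := (let yq163 : List ℤ := (let yq164 : List ℤ := %[2, 1, 1, 1, 1 | []];
  %[2, 2, 2, 2 | yq164]);
  (let yq165 : type_of% yq163 := %[2, 2, 2, 2 | yq163];
  %[1, 1, 1, 2 | yq165]));
  (let yq166 : type_of% yq162 := (let yq167 : type_of% yq162 := %[0, 0, 0, 0, 1 | yq162];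
  %[0, 0, 0, 0 | yq167]);
  (let yq168 : type_of% yq166 := %[0, 0, 0, 0 | yq166];
  %[0, 0, 0, 0 | yq168]))), (let yq169 : List ℤ := (let yq170 : List ℤ := (let yq171 : List ℤ := %[2, 1, 1, 1, 1 | []];
  %[3, 2, 2, 2 | yq171]);
  (let yq172 : type_of% yq170 := %[2, 2, 2, 3 | yq170];
  %[1, 1, 1, 2 | yq172]));
  (let yq173 : type_of% yq169 := (let yq174 : type_of% yq169 := %[0, 0, 0, 0, 1 | yq169];
  %[0, 0, 0, 0 | yq174]);
  (let yq175 : type_of% yq173 := %[0, 0, 0, 0 | yq173];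
  %[0, 0, 0, 0 | yq175]))), (let yq176 : List ℤ := (let yq177 : List ℤ := (let yq178 : List ℤ := %[2, 1, 1, 1, 1 | []];
  %[3, 3, 3, 2 | yq178]);
  (let yq179 : type_of% yq177 := %[3, 3, 3, 4 | yq177];
  %[1, 1, 2, 2 | yq179]));
  (let yq180 : type_of% yq176 := (let yq181 : type_of% yq176 := %[0, 0, 0, -1, 1 | yq176];
  %[0, 0, 0, 0 | yq181]);
  (let yq182 : type_of% yq180 := %[0, 0, 0, 0 | yq180];
  %[0, 0, 0, 0 | yq182]))), (let yq183 : List ℤ := (let yq184 : List ℤ := (let yq185 : List ℤ := %[2, 1, 1, 1, 1 | []];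
  %[3, 3, 3, 2 | yq185]);
  (let yq186 : type_of% yq184 := %[3, 3, 3, 2 | yq184];
  %[1, 1, 2, 2 | yq186]));
  (let yq187 : type_of% yq183 := (let yq188 : type_of% yq183 := %[0, 0, 0, 1, 1 | yq183];
  %[0, 0, 0, 0 | yq188]);
  (let yq189 : type_of% yq187 := %[0, 0, 0, 0 | yq187];
  %[0, 0, 0, 0 | yq189]))), (let yq190 : List ℤ := (let yq191 : List ℤ := (let yq192 : List ℤ := %[2, 1, 1, 1, 1 | []];
  %[4, 3, 3, 2 | yq192]);
  (let yq193 : type_of% yq191 := %[4, 5, 5, 5 | yq191];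
  %[0, 1, 2, 3 | yq193]));
  (let yq194 : type_of% yq190 := (let yq195 : type_of% yq190 := %[0, 0, 0, -1, 0 | yq190];
  %[0, 0, 0, 0 | yq195]);
  (let yq196 : type_of% yq194 := %[0, 0, 0, 0 | yq194];
  %[0, 0, 0, 0 | yq196]))), (let yq197 : List ℤ := (let yq198 : List ℤ := (let yq199 : List ℤ := %[2, 1, 1, 1, 1 | []];
  %[4, 3, 3, 2 | yq199]);
  (let yq200 : type_of% yq198 := %[4, 3, 3, 3 | yq198];
  %[2, 1, 2, 3 | yq200]));
  (let yq201 : type_of% yq197 := (let yq202 : type_of% yq197 := %[0, 0, 0, 1, 2 | yq197];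
  %[0, 0, 0, 0 | yq202]);
  (let yq203 : type_of% yq201 := %[0, 0, 0, 0 | yq201];
  %[0, 0, 0, 0 | yq203]))), (let yq204 : List ℤ := (let yq205 : List ℤ := (let yq206 : List ℤ := %[2, 1, 1, 1, 1 | []];
  %[4, 3, 3, 2 | yq206]);
  (let yq207 : type_of% yq205 := %[4, 4, 4, 4 | yq205];
  %[2, 2, 2, 4 | yq207]));
  (let yq208 : type_of% yq204 := (let yq209 : type_of% yq204 := %[0, 0, 0, 0, 2 | yq204];
  %[0, 0, 0, 0 | yq209]);
  (let yq210 : type_of% yq208 := %[0, 0, 0, 0 | yq208];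
  %[0, 0, 0, 0 | yq210]))), (let yq211 : List ℤ := (let yq212 : List ℤ := (let yq213 : List ℤ := %[2, 1, 1, 1, 1 | []];
  %[4, 3, 3, 2 | yq213]);
  (let yq214 : type_of% yq212 := %[4, 5, 5, 4 | yq212];
  %[1, 3, 3, 4 | yq214]));
  (let yq215 : type_of% yq211 := (let yq216 : type_of% yq211 := %[0, 0, 0, 0, 1 | yq211];
  %[0, 0, 0, 0 | yq216]);
  (let yq217 : type_of% yq215 := %[0, 0, 0, 0 | yq215];
  %[0, 0, 0, 0 | yq217])))] : List (List ℤ)).getD i []
  o := 0
  nu i := (C i).nu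

/-- the long roots -/
def rt : RTab 7 63 where
  V := 3873222968231703687278468810929741583741972455588405215650574477141682445634109645232793080414578078382140457859352902091769555428435338825587286911464856346009055822631901228400418115201692206499984534956441838125702133155515309457348364193267527849698834153963741964674951477010240601422731008495874235556679444799854235633039872214343780233544844633264963031644469422154680185925807065313062813427547062475836564726560506556879601674692505769316110845403252345113773268190252749750267524645637589842698024276020512899874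
  S := 262830772539133951542118485302570572268192502568423075016101281014802815484560926336030777964425719769816343674964634083764231163191436476679459619640584184383710587909692491222942435524164012072366289069702157292987401403765973845563714239623199269306911802699327953186992198403127691107964027654120999454666792819241422505086613043557037480421995280423800938761378540139727681900060777149752595936330820070610382473905677507593588709600248759903168928397688204939514523119586838938702628177241332087914949891881464003846947368472051598679963765497055049419711663403505467744507466602180424809232507897439207779600283933018190741817978874445648436339707568385738300378025285300150814798711513083427562875943157695382050105390591644564739951573029878653358263416465273984085874504479826298475271883573339639841429287115950093113963785332110937917811656333457322112732891365845224071508801616433915813043885355882462825073474510733128379770766731913693668760174371680374179801900075734708541816401724641845315274850468421487235880446818127251513580576020763770881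
  P := 7237005550492136888816159464980983237289113347922155751814053495367898764064
  Q := 32164456531457402204468303681508422296660100604734339836290737793386151936

/-- the sums for the long roots -/
def Z2 : ℕ := 0x1004010080200c0300c0300c030080200401004000000000000000000000000000000000000000000000000000000000000000000000000000000040100804014070240b0300e0380e0380c02c0901c05010020040100000000000000000000000000000000000000000000000000000000000000000000000040200c0501c0a0340f0481505c18064190601805814048100380c0280801c05010030080100401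

/-- the classes of the long root elements -/
def kap (n : ℕ) : Fin 10 := ([0, 1, 6] : List (Fin 10)).getD n 0

def al (k : Fin 7) : ℕ := ([2, 2, 3, 4, 3, 2, 1] : List ℕ).getD k 0

def VV (c : Fin 10) : List ℤ := ([[1, 1, 1, 2, 3, 4, 5, 7, 8, 10, 12, 14, 16, 18, 20, 22, 24, 24, 25, 25, 24, 23, 21, 18, 15, 13, 10, 7, 5, 3, 2, 1], (let yq218 : List ℤ := (let yq219 : List ℤ := (let yq220 : List ℤ := %[5, 4, 2, 1, 1 | []];
  %[14, 12, 11, 9, 7 | yq220]);
  (let yq221 : type_of% yq219 := %[11, 12, 14, 14, 14 | yq219];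
  %[2, 4, 5, 7, 9 | yq221]));
  (let yq222 : type_of% yq218 := (let yq223 : type_of% yq218 := %[0, 0, 0, 1, 1 | yq218];
  %[0, 0, 0, 0, 0 | yq223]);
  (let yq224 : type_of% yq222 := %[0, 0, 0, 0, 0 | yq222];
  %[0, 0, 0, 0 | yq224]))), [], [], [], [], (let yq225 : List ℤ := (let yq226 : List ℤ := (let yq227 : List ℤ := %[3, 2, 2, 1, 1, 1 | []];
  %[3, 3, 3, 3, 3 | yq227]);
  (let yq228 : type_of% yq226 := %[0, 1, 1, 1, 2, 2 | yq226];
  %[0, 0, 0, 0, 0 | yq228]));
  (let yq229 : type_of% yq225 := (let yq230 : type_of% yq225 := %[0, 0, 0, 0, 0, 0 | yq225];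
  %[0, 0, 0, 0, 0 | yq230]);
  (let yq231 : type_of% yq229 := %[0, 0, 0, 0, 0 | yq229];
  %[0, 0, 0, 0, 0 | yq231]))), [], [], []] : List (List ℤ)).getD c []

theorem hV : TabE7c.B.cV 10 10 43 al 136 3 Z2 = true := by decide +kernel

theorem hVV : ChkC (rclL TabE7c.data.t ![2, 2, 3, 4, 3, 2, 1] kap) TabE7c.data.wl VV :=
  TabE7c.okB.chkC (by decide) (by decide) TabE7c.hZ TabE7c.hA2 (al := al) (by decide +kernel) (T0 := 136) (D := 3)
    (by decide +kernel) hV (o := 0) (by decide +kernel) (by decide +kernel)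

/-- **The full certificate.** -/
noncomputable def full : Full TabE7c.A 1 576 10 ![2, 2, 3, 4, 3, 2, 1] where
  Da := TabE7c.data
  C := C
  i₀ := 0
  P := pol
  hP := ⟨rfl, rfl, rfl, by decide +kernel⟩
  hN := by (simp only [Cfsg.Agent.H996.Eight.Kq.pEq_eq]; decide +kernel)
  triv := ⟨by decide +kernel, rfl, rfl⟩
  ok i _ := ⟨okA i, dvdA i⟩
  uq i _ := uq_of_spec C _ _ (fun i => (okA i).1) (fun i => (okA i).2.2.1) neA i
  FF := [0, 0, 0, 0, 0, 0, 0, 0, 0, 0, 0, 0, 0, 0, 0, 0, 0, 0, 1, 2, 3, 4, 5, 5, 5, 4, 3, 2, 1]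
  LL := 2
  cf i := ([[0, 0, 0, 0, 0, 0, 0, 0, 0, 0, 0, 0, 0, 0, 0, 0, 0, 0, 2, 4, 6, 8, 10, 10, 10, 8, 6, 4, 2], [0, 0, 0, 0, 0, 0, 0, 0, 0, 0, 2, 2, 2, 2, 4, 2, 4, 4, 6, 4, 6, 4, 6, 4, 4, 2, 4, 2, 2, 2, 2], [0, 0, 0, 0, 0, 0, 2, 2, 2, 2, 4, 2, 4, 4, 6, 4, 6, 4, 6, 4, 6, 4, 6, 4, 4, 2, 4, 2, 2, 2, 2], (let yq232 : List ℤ := (let yq233 : List ℤ := (let yq234 : List ℤ := %[6, 4, 4, 2, 2 | []];
  %[10, 6, 8, 4 | yq234]);
  (let yq235 : type_of% yq233 := %[10, 14, 8, 12, 8 | yq233];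
  %[8, 14, 10, 14 | yq235]));
  (let yq236 : type_of% yq232 := (let yq237 : type_of% yq232 := %[8, 6, 10, 8, 12 | yq232];
  %[4, 4, 6, 4 | yq237]);
  (let yq238 : type_of% yq236 := %[0, 0, 2, 2 | yq236];
  %[0, 0, 0, 0 | yq238]))), (let yq239 : List ℤ := (let yq240 : List ℤ := (let yq241 : List ℤ := %[2, 0, 1, 1, 1 | []];
  %[4, 1, 3, 1 | yq241]);
  (let yq242 : type_of% yq240 := %[6, 1, 5, 1 | yq240];
  %[6, 0, 6, 2 | yq242]));
  (let yq243 : type_of% yq239 := (let yq244 : type_of% yq239 := %[1, 5, 1, 6, 2 | yq239];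
  %[1, 3, 1, 4 | yq244]);
  (let yq245 : type_of% yq243 := %[1, 1, 0, 2 | yq243];
  %[0, 0, 0, 1 | yq245]))), [0, 0, 0, 1, 1, 1, 1, 1, 2, 2, 2, 2, 3, 3, 3, 3, 3, 3, 3, 3, 3, 3, 2, 2, 2, 2, 1, 1, 1, 1, 1], (let yq246 : List ℤ := (let yq247 : List ℤ := (let yq248 : List ℤ := %[0, 3, 0, 1, 0, 1 | []];
  %[10, 0, 7, 0, 5 | yq248]);
  (let yq249 : type_of% yq247 := %[0, 15, 0, 14, 0 | yq247];
  %[20, 0, 20, 0, 19 | yq249]));
  (let yq250 : type_of% yq246 := (let yq251 : type_of% yq246 := %[15, 0, 19, 0, 20, 0 | yq246];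
  %[0, 10, 0, 14, 0 | yq251]);
  (let yq252 : type_of% yq250 := %[3, 0, 5, 0, 7 | yq250];
  %[0, 1, 0, 1, 0 | yq252]))), (let yq253 : List ℤ := (let yq254 : List ℤ := (let yq255 : List ℤ := %[2, 2, 1, 1, 1 | []];
  %[4, 4, 3, 2 | yq255]);
  (let yq256 : type_of% yq254 := %[6, 5, 5, 5 | yq254];
  %[7, 7, 6, 6 | yq256]));
  (let yq257 : type_of% yq253 := (let yq258 : type_of% yq253 := %[5, 6, 6, 6 | yq253];
  %[4, 4, 5, 5 | yq258]);
  (let yq259 : type_of% yq257 := %[2, 2, 2, 3 | yq257];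
  %[0, 1, 1, 1 | yq259]))), (let yq260 : List ℤ := (let yq261 : List ℤ := (let yq262 : List ℤ := %[4, 0, 2, 0, 2 | []];
  %[8, 0, 6, 0 | yq262]);
  (let yq263 : type_of% yq261 := %[12, 0, 10, 0 | yq261];
  %[14, 0, 12, 0 | yq263]));
  (let yq264 : type_of% yq260 := (let yq265 : type_of% yq260 := %[12, 0, 12, 0 | yq260];
  %[8, 0, 10, 0 | yq265]);
  (let yq266 : type_of% yq264 := %[4, 0, 6, 0 | yq264];
  %[2, 0, 2, 0 | yq266]))), (let yq267 : List ℤ := (let yq268 : List ℤ := (let yq269 : List ℤ := %[4, 0, 2, 0, 2 | []];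
  %[0, 10, 0, 8, 0 | yq269]);
  (let yq270 : type_of% yq268 := %[18, 0, 18, 0, 12 | yq268];
  %[22, 0, 20, 0 | yq270]));
  (let yq271 : type_of% yq267 := (let yq272 : type_of% yq267 := %[0, 18, 0, 20, 0 | yq267];
  %[0, 12, 0, 18 | yq272]);
  (let yq273 : type_of% yq271 := %[4, 0, 8, 0, 10 | yq271];
  %[2, 0, 2, 0 | yq273])))] : List (List ℤ)).getD i []
  hF := by decide +kernel
  hcf := by (simp only [Cfsg.Agent.H996.Eight.Kq.pEq_eq]; decide +kernel)
  hsum := by (simp only [Cfsg.Agent.H996.Eight.Kq.pEq_eq, Cfsg.Agent.H996.Eight.Kq.pZero_eq]; decide +kernel)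
  hne := by (simp only [Cfsg.Agent.H996.Eight.Kq.pNV_eq]; decide +kernel)
  NL := (let yq274 : List ℤ := (let yq275 : List ℤ := (let yq276 : List ℤ := %[2, 1, 1, 1, 1 | []];
  %[4, 3, 3, 2 | yq276]);
  (let yq277 : type_of% yq275 := %[6, 5, 5, 4 | yq275];
  %[7, 6, 6, 6 | yq277]));
  (let yq278 : type_of% yq274 := (let yq279 : type_of% yq274 := %[6, 6, 6, 6, 7 | yq274];
  %[4, 4, 5, 5 | yq279]);
  (let yq280 : type_of% yq278 := %[2, 2, 3, 3 | yq278];
  %[1, 1, 1, 1 | yq280])))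
  nr := 63
  nz := ⟨by decide⟩
  Z := rt
  hZ := ⟨by decide +kernel, by decide +kernel, by decide +kernel⟩
  kap := kap
  hkap := by decide +kernel
  VV := VV
  hVV := hVV
  hD := by (simp only [Cfsg.Agent.H996.Eight.Kq.pEq_eq]; decide +kernel)

end Cfsg.Agent.H996.PQ.FullE7c
end

-- part: H996/PQ/RowE7c
section
/-!
# The separation theorem and the polynomials: `E₇(q)`, node `1` (helper996, for S4612; made by a program)
-/

set_option autoImplicit false
set_option maxRecDepth 20000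

namespace Cfsg.Agent.H996.PQ.FullE7c

open Cfsg Cfsg.Agent.H317.PQ Cfsg.Agent.H64.Dl.Sph Cfsg.Agent.H996.Eight Cfsg.Agent.H996.Eight.Cert Cfsg.Agent.H35.ExcIdx
open Cfsg.Lie Cfsg.Agent.ChevalleyStructure.CoxeterGeomTypes Cfsg.Agent.Nodes.RGDChev

universe u

theorem evdn9 (x : ℤ) : evZ x (pol.dn 9) = x ^ 6 * (x ^ 4 + x ^ 3 + x ^ 2 + x + 1) * (x ^ 6 + x ^ 5 + x ^ 4 + x ^ 3 + x ^ 2 + x + 1) * (x ^ 6 + x ^ 3 + 1) * (x ^ 4 - x ^ 3 + x ^ 2 - x + 1) * (x ^ 4 - x ^ 2 + 1) * (x ^ 6 - x ^ 5 + x ^ 4 - x ^ 3 + x ^ 2 - x + 1) * (x ^ 6 - x ^ 3 + 1) := by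
  show evZ x (let yq281 : List ℤ := (let yq282 : List ℤ := (let yq283 : List ℤ := %[0, 2, 0, 1, 0, 1 | []];
  %[6, 0, 5, 0, 4 | yq283]);
  (let yq284 : type_of% yq282 := %[10, 0, 9, 0, 9, 0 | yq282];
  %[0, 10, 0, 11, 0 | yq284]));
  (let yq285 : type_of% yq281 := (let yq286 : type_of% yq281 := %[0, 6, 0, 9, 0, 9 | yq281];
  %[2, 0, 4, 0, 5 | yq286]);
  (let yq287 : type_of% yq285 := %[0, 1, 0, 1, 0 | yq285];
  %[0, 0, 0, 0, 0 | yq287]))) = _
  simp only [evZ]
  ring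

/-- the degrees: `evdn` -/
theorem deg {x : ℕ} (hx : 2 ≤ x) (i : Fin 10) : (pol.den i : ℤ) * (pol.deg x i : ℤ) = evZ x (pol.dn i) :=
  full.degZ hx i

theorem hA : cartanOf chevE7 7 = TabE7c.A := by
  funext i k
  revert i k
  decide +kernel

/-- the eigenvalues of the double cosets: row `i` (constituent), column `c` (double coset) -/
def lamL : List (List (List ℤ)) :=
  [[[1], [0, 1, 1, 2, 3, 4, 4, 5, 4, 4, 3, 2, 1, 1], [0, 0, 0, 0, 0, 0, 1, 2, 4, 6, 9, 11, 13, 13, 13, 11, 9, 6, 4, 2, 1], [0, 0, 0, 0, 0, 0, 0, 0, 0, 0, 0, 1, 2, 4, 7, 10, 13, 16, 17, 17, 16, 13, 10, 7, 4, 2, 1], [0, 0, 0, 0, 0, 0, 0, 0, 0, 0, 0, 0, 0, 0, 0, 1, 1, 1, 1, 1, 1, 1], [0, 0, 0, 0, 0, 0, 0, 0, 0, 0, 0, 0, 0, 0, 0, 0, 1, 2, 4, 7, 10, 13, 16, 17, 17, 16, 13, 10, 7, 4, 2, 1], [0, 0, 0, 0, 0, 0, 0, 0, 0, 0, 0, 0, 0, 0, 0, 0, 0, 0, 0, 0, 0, 1, 1, 1, 1, 1, 1, 1], (let yq288 : List ℤ := (let yq289 : List ℤ := (let yq290 : List ℤ := %[9, 6, 4, 2, 1 | []];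
  %[11, 13, 13, 13, 11 | yq290]);
  (let yq291 : type_of% yq289 := %[1, 2, 4, 6, 9 | yq289];
  %[0, 0, 0, 0 | yq291]));
  (let yq292 : type_of% yq288 := (let yq293 : type_of% yq288 := %[0, 0, 0, 0, 0 | yq288];
  %[0, 0, 0, 0 | yq293]);
  (let yq294 : type_of% yq292 := %[0, 0, 0, 0, 0 | yq292];
  %[0, 0, 0, 0 | yq294]))), (let yq295 : List ℤ := (let yq296 : List ℤ := (let yq297 : List ℤ := %[4, 4, 3, 2, 1, 1 | []];
  %[2, 3, 4, 4, 5 | yq297]);
  (let yq298 : type_of% yq296 := %[0, 0, 0, 1, 1 | yq296];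
  %[0, 0, 0, 0, 0 | yq298]));
  (let yq299 : type_of% yq295 := (let yq300 : type_of% yq295 := %[0, 0, 0, 0, 0, 0 | yq295];
  %[0, 0, 0, 0, 0 | yq300]);
  (let yq301 : type_of% yq299 := %[0, 0, 0, 0, 0 | yq299];
  %[0, 0, 0, 0, 0 | yq301]))), (let yq302 : List ℤ := (let yq303 : List ℤ := (let yq304 : List ℤ := %[0, 0, 0, 0, 0, 1 | []];
  %[0, 0, 0, 0, 0 | yq304]);
  (let yq305 : type_of% yq303 := %[0, 0, 0, 0, 0, 0 | yq303];
  %[0, 0, 0, 0, 0 | yq305]));
  (let yq306 : type_of% yq302 := (let yq307 : type_of% yq302 := %[0, 0, 0, 0, 0, 0 | yq302];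
  %[0, 0, 0, 0, 0 | yq307]);
  (let yq308 : type_of% yq306 := %[0, 0, 0, 0, 0 | yq306];
  %[0, 0, 0, 0, 0 | yq308])))],
   [[1], [-1, 0, 0, 1, 2, 4, 4, 5, 4, 3, 2, 1], [0, 0, 0, -1, -2, -4, -4, -4, -1, 2, 7, 10, 12, 11, 9, 6, 3, 1], [0, 0, 0, 0, 0, 0, 0, -1, -3, -5, -8, -9, -8, -5, 0, 6, 10, 12, 12, 9, 6, 3, 1], [0, 0, 0, 0, 0, 0, 0, 0, 0, 0, -1, -1, -1, 0, 0, 1, 1, 1, 1], [0, 0, 0, 0, 0, 0, 0, 0, 0, 0, 0, -1, -3, -6, -9, -12, -12, -10, -6, 0, 5, 8, 9, 8, 5, 3, 1], [0, 0, 0, 0, 0, 0, 0, 0, 0, 0, 0, 0, 0, 0, 0, -1, -1, -1, -1, 0, 0, 1, 1, 1], [0, 0, 0, 0, 0, 0, 0, 0, 0, 0, 0, 0, 0, 0, 0, 0, -1, -3, -6, -9, -11, -12, -10, -7, -2, 1, 4, 4, 4, 2, 1], (let yq309 : List ℤ := (let yq310 : List ℤ := (let yq311 : List ℤ := %[-2, -1, 0, 0, 1 | []];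
  %[-4, -5, -4, -4 | yq311]);
  (let yq312 : type_of% yq310 := %[0, -1, -2, -3 | yq310];
  %[0, 0, 0, 0 | yq312]));
  (let yq313 : type_of% yq309 := (let yq314 : type_of% yq309 := %[0, 0, 0, 0, 0 | yq309];
  %[0, 0, 0, 0 | yq314]);
  (let yq315 : type_of% yq313 := %[0, 0, 0, 0 | yq313];
  %[0, 0, 0, 0 | yq315]))), (let yq316 : List ℤ := (let yq317 : List ℤ := (let yq318 : List ℤ := %[0, 0, 0, 0, -1 | []];
  %[0, 0, 0, 0 | yq318]);
  (let yq319 : type_of% yq317 := %[0, 0, 0, 0 | yq317];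
  %[0, 0, 0, 0 | yq319]));
  (let yq320 : type_of% yq316 := (let yq321 : type_of% yq316 := %[0, 0, 0, 0, 0 | yq316];
  %[0, 0, 0, 0 | yq321]);
  (let yq322 : type_of% yq320 := %[0, 0, 0, 0 | yq320];
  %[0, 0, 0, 0 | yq322])))],
   [[1], [-1, 0, -1, 0, 1, 3, 3, 4, 3, 2, 1], [0, 0, 1, 0, -1, -4, -5, -7, -5, -2, 3, 6, 7, 6, 4, 2], [0, 0, 0, 0, 0, 1, 2, 2, 1, -2, -7, -10, -11, -9, -4, 1, 4, 5, 4, 2, 1], [0, 0, 0, 0, 0, 0, 0, 1, 0, 0, -1, -1, -1, -1, 0, 1, 1], [0, 0, 0, 0, 0, 0, 0, 0, 1, 2, 4, 5, 4, 1, -4, -9, -11, -10, -7, -2, 1, 2, 2, 1], [0, 0, 0, 0, 0, 0, 0, 0, 0, 0, 0, 0, 1, 1, 0, -1, -1, -1, -1, 0, 0, 1], [0, 0, 0, 0, 0, 0, 0, 0, 0, 0, 0, 0, 0, 2, 4, 6, 7, 6, 3, -2, -5, -7, -5, -4, -1, 0, 1], [0, 0, 0, 0, 0, 0, 0, 0, 0, 0, 0, 0, 0, 0, 0, 0, 0, 0, 1, 2, 3, 4, 3, 3, 1, 0, -1, 0, -1], [0, 0, 0, 0, 0, 0, 0, 0, 0, 0, 0, 0, 0, 0, 0, 0, 0, 0, 0, 0, 0, 0, 0, 0, 0, 0, 0, 0, 1]],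
   [[1], [-1, 0, -1, 0, 0, 1, 1, 2, 1, 1, 1], [0, 0, 1, 0, 0, -2, -2, -4, -4, -4, -2, -1, 0, 1, 1, 1], [0, 0, 0, 0, 0, 1, 2, 3, 4, 4, 3, 2, 0, -1, -1, -1, 0, 1, 1, 1, 1], [0, 0, 0, 0, 0, 0, -1, 0, 0, 0, -1, -1, -1, -1, -1, -1], [0, 0, 0, 0, 0, 0, 0, -1, -1, -1, -1, 0, 1, 1, 1, 0, -2, -3, -4, -4, -3, -2, -1], [0, 0, 0, 0, 0, 0, 0, 0, 0, 0, 0, 0, 1, 1, 1, 1, 1, 1, 0, 0, 0, 1], [0, 0, 0, 0, 0, 0, 0, 0, 0, 0, 0, 0, -1, -1, -1, 0, 1, 2, 4, 4, 4, 2, 2, 0, 0, -1], [0, 0, 0, 0, 0, 0, 0, 0, 0, 0, 0, 0, 0, 0, 0, 0, 0, -1, -1, -1, -2, -1, -1, 0, 0, 1, 0, 1], [0, 0, 0, 0, 0, 0, 0, 0, 0, 0, 0, 0, 0, 0, 0, 0, 0, 0, 0, 0, 0, 0, 0, 0, 0, 0, 0, -1]],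
   [[1], [-1, 0, -1, -1, 0, 0, 0, 1, 0, 1], [0, 0, 1, 1, 1, 0, 0, -1, -2, -2, -1, -1, 0, 0, 1], [0, 0, 0, 0, -1, 0, 0, 0, 2, 1, 1, 1, -1, -1, -2, -2, -1, -1], [0, 0, 0, 0, 0, 0, 0, 1, 1, 1, 1, 1, 1, 0, 0, 1], [0, 0, 0, 0, 0, 0, 0, -1, -1, -2, -2, -1, -1, 1, 1, 1, 2, 0, 0, 0, -1], [0, 0, 0, 0, 0, 0, 0, 0, 0, 1, 0, 0, 1, 1, 1, 1, 1, 1], [0, 0, 0, 0, 0, 0, 0, 0, 0, 0, 1, 0, 0, -1, -1, -2, -2, -1, 0, 0, 1, 1, 1], [0, 0, 0, 0, 0, 0, 0, 0, 0, 0, 0, 0, 0, 0, 0, 1, 0, 1, 0, 0, 0, -1, -1, 0, -1], [0, 0, 0, 0, 0, 0, 0, 0, 0, 0, 0, 0, 0, 0, 0, 0, 0, 0, 0, 0, 0, 0, 0, 0, 1]],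
   [[1], [-1, 0, -1, -1, 0, 2, 2, 3, 2, 1], [0, 0, 1, 1, 1, -2, -4, -7, -6, -4, 1, 3, 4, 2, 1], [0, 0, 0, 0, -1, 0, 2, 4, 4, 3, -3, -7, -9, -7, -4, 0, 1, 1], [0, 0, 0, 0, 0, 0, 0, 1, 1, 1, -1, -1, -1, 0, 0, 1], [0, 0, 0, 0, 0, 0, 0, -1, -1, 0, 4, 7, 9, 7, 3, -3, -4, -4, -2, 0, 1], [0, 0, 0, 0, 0, 0, 0, 0, 0, -1, 0, 0, 1, 1, 1, -1, -1, -1], [0, 0, 0, 0, 0, 0, 0, 0, 0, 0, -1, -2, -4, -3, -1, 4, 6, 7, 4, 2, -1, -1, -1], [0, 0, 0, 0, 0, 0, 0, 0, 0, 0, 0, 0, 0, 0, 0, -1, -2, -3, -2, -2, 0, 1, 1, 0, 1], [0, 0, 0, 0, 0, 0, 0, 0, 0, 0, 0, 0, 0, 0, 0, 0, 0, 0, 0, 0, 0, 0, 0, 0, -1]],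
   [[1], [-1, 0, -1, -1, -1, -1, -1, 0, -1], [0, 0, 1, 1, 2, 2, 3, 3, 3, 2, 2, 1, 1], [0, 0, 0, 0, -1, -1, -2, -3, -3, -4, -4, -3, -3, -2, -1, -1], [0, 0, 0, 0, 0, 0, -1, -1, -1, -1, -1, -1, -1], [0, 0, 0, 0, 0, 0, 1, 1, 2, 3, 3, 4, 4, 3, 3, 2, 1, 1], [0, 0, 0, 0, 0, 0, 0, 0, 0, 1, 1, 1, 1, 1, 1, 1], [0, 0, 0, 0, 0, 0, 0, 0, 0, -1, -1, -2, -2, -3, -3, -3, -2, -2, -1, -1], [0, 0, 0, 0, 0, 0, 0, 0, 0, 0, 0, 0, 0, 1, 0, 1, 1, 1, 1, 1, 0, 1], [0, 0, 0, 0, 0, 0, 0, 0, 0, 0, 0, 0, 0, 0, 0, 0, 0, 0, 0, 0, 0, -1]],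
   [[1], [-1, 0, -1, -1, -1, 1, 1, 2, 1], [0, 0, 1, 1, 2, 0, -1, -5, -5, -4, 0, 1, 1], [0, 0, 0, 0, -1, -1, 0, 3, 5, 6, 2, -1, -3, -2, -1, 1], [0, 0, 0, 0, 0, 0, -1, 1, 1, 1, -1, -1, -1], [0, 0, 0, 0, 0, 0, 1, -1, -2, -3, -1, 2, 6, 5, 3, 0, -1, -1], [0, 0, 0, 0, 0, 0, 0, 0, 0, -1, -1, -1, 1, 1, 1, -1], [0, 0, 0, 0, 0, 0, 0, 0, 0, 1, 1, 0, -4, -5, -5, -1, 0, 2, 1, 1], [0, 0, 0, 0, 0, 0, 0, 0, 0, 0, 0, 0, 0, 1, 2, 1, 1, -1, -1, -1, 0, -1], [0, 0, 0, 0, 0, 0, 0, 0, 0, 0, 0, 0, 0, 0, 0, 0, 0, 0, 0, 0, 0, 1]],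
   [[1], [-1, 0, -1, -1, -1, 0, 0, 1], [0, 0, 1, 1, 2, 1, 1, -1, -2, -2], [0, 0, 0, 0, -1, -1, -1, 0, 2, 3, 2, 1, 0, -1], [0, 0, 0, 0, 0, 0, -1, 0, 1, 1], [0, 0, 0, 0, 0, 0, 1, 0, -1, -2, -3, -2, 0, 1, 1, 1], [0, 0, 0, 0, 0, 0, 0, 0, 0, 0, -1, -1, 0, 1], [0, 0, 0, 0, 0, 0, 0, 0, 0, 0, 2, 2, 1, -1, -1, -2, -1, -1], [0, 0, 0, 0, 0, 0, 0, 0, 0, 0, 0, 0, -1, 0, 0, 1, 1, 1, 0, 1], [0, 0, 0, 0, 0, 0, 0, 0, 0, 0, 0, 0, 0, 0, 0, 0, 0, 0, 0, -1]],
   [[1], [-1, 0, -1, -1, -1, 0, -1], [0, 0, 1, 1, 2, 1, 2, 1, 1], [0, 0, 0, 0, -1, -1, -1, -1, -1, 0, 0, 0, 1], [0, 0, 0, 0, 0, 0, -1], [0, 0, 0, 0, 0, 0, 1, 0, 0, 0, -1, -1, -1, -1, -1], [0, 0, 0, 0, 0, 0, 0, 0, 0, 0, 0, 0, -1], [0, 0, 0, 0, 0, 0, 0, 0, 0, 0, 1, 1, 2, 1, 2, 1, 1], [0, 0, 0, 0, 0, 0, 0, 0, 0, 0, 0, 0, -1, 0, -1, -1, -1, 0, -1], [0, 0, 0, 0, 0, 0, 0, 0, 0, 0, 0, 0, 0, 0, 0, 0, 0, 0, 1]]]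

/-- the eigenvalue of the double coset `c` on the constituent `i` -/
def lam (i c : Fin 10) : List ℤ := (lamL.getD i []).getD c []

theorem lam_ok : full.Lam lam := by
  show ∀ i c, pEq (pMul (lam i c) (full.P.nu i full.P.o)) (pMul (full.Da.kk c) (full.P.nu i c)) = true
  (simp only [Cfsg.Agent.H996.Eight.Kq.pEq_eq]; decide +kernel)

/-- **The extended theorem.** -/
theorem sepX {K : Type u} [Field K] [Fintype K] {p l : ℕ} (hp : p.Prime) (hl : l.Prime)
    (hS : Same p l ↥(chevE7.group K)) : SepX pol lam (Fintype.card K) p l (Nat.card ↥(chevE7.group K)) 0 :=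
  split_sepX hpE7 K hA full lam_ok (by decide +kernel)
    H241.PQ.hi_E7 TabE7b.data (by decide +kernel) (by decide +kernel) hp hl hS

end Cfsg.Agent.H996.PQ.FullE7c
end
end

-- part: H996/PQ/RowG2
section
set_option linter.all false

-- part: H996/PQ/TabG2a
section
/-!
# The table of the spherical machine: `G₂`, node `0` (helper996, for S4612; made by a program)

6 states, 4 classes.
-/

set_option autoImplicit false
set_option maxRecDepth 20000

namespace Cfsg.Agent.H996.PQ.TabG2a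

open Cfsg.Agent.H967.Sph Cfsg.Agent.H64.Dl.Sph Cfsg.Agent.H996.Eight.Cert Cfsg.Agent.H996.Eight.En

/-- the Cartan matrix -/
def A (i k : Fin 2) : ℤ := (([[2, -3], [-1, 2]] : List (List ℤ)).getD i []).getD k 0

/-- the encoded table -/
def enc : Enc 2 6 4 where
  j := 0
  V := 148819381237641
  S := 6495445395438919080938157243367425
  C := 102827040
  P := 4506900310786048
  Q := 65792
  CP := 1151800001674870783
  CQ := 65792
  R := 5371855872
  W := 5514788471040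

/-- the table -/
def tab : Tab A 0 6 4 :=
  enc.tab A (by decide +kernel) (Cfsg.Agent.H996.Eight.Kq.t1 7 (by decide +kernel)) (Cfsg.Agent.H996.Eight.Kq.act_of (by decide +kernel)) (Cfsg.Agent.H996.Eight.Kq.t3 (by decide +kernel)) (by decide +kernel)
    (Cfsg.Agent.H996.Eight.Kq.t5 (by decide +kernel)) (Cfsg.Agent.H996.Eight.Kq.t6 (r := fun a => enc.crep (enc.cls a)) (by decide +kernel))

/-- the exponents of the parameters -/
def e (i : Fin 2) : ℕ := ([1, 1] : List ℕ).getD i 0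

def matL : List (List (List ℤ)) := [[[], [0, 1], [], []], [[0, 1], [0, -1, 1], [0, 0, 0, 1], []], [[], [0, 0, 0, 1], [0, 0, 0, -1, 1], [0, 0, 0, 0, 0, 1]], [[], [], [0, 0, 0, 0, 0, 1], [0, 0, 0, 0, 0, -1, 1]]]

def bbL : List (List (List ℤ)) := [[[], [0, 1, 1], [], []], [[1], [-1, 1], [0, 0, 1], []], [[], [1], [-1, 1], [0, 0, 1]], [[], [], [1, 1], [-1, 0, 1]]]

def kL : List (List ℤ) := [[1], [0, 1, 1], [0, 0, 0, 1, 1], [0, 0, 0, 0, 0, 1]]

/-- the data -/
def data : Data A 0 6 4 where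
  t := tab
  e := e
  wl := enc.wl
  mat c c' := (matL.getD c []).getD c' []
  kk c := kL.getD c []
  ff := [1, 1]
  bb c c' := (bbL.getD c []).getD c' []
  chkM := by (delta Cfsg.Agent.H996.Eight.Cert.ChkM Cfsg.Agent.H996.Eight.Cert.ctr; simp only [Cfsg.Agent.H996.Eight.Kq.pEq_eq]; decide +kernel)
  chkK := by (delta Cfsg.Agent.H64.Dl.Sph.ChkK; simp only [Cfsg.Agent.H996.Eight.Kq.pEq_eq]; decide +kernel)
  chkF := by decide +kernel
  chkP := by (simp only [Cfsg.Agent.H996.Eight.Kq.pPos_eq]; decide +kernel)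
  chkB := by (simp only [Cfsg.Agent.H996.Eight.Kq.pEq_eq]; decide +kernel)
  wo := by decide +kernel
  ws := by decide +kernel

end Cfsg.Agent.H996.PQ.TabG2a
end

-- part: H996/PQ/FullG2a
section
/-!
# Full certificate: `G₂`, node `0` (helper996, for S4612; made by a program)

`|G : P| = 1*q^0*P2*P3*P6`, number of the long root subgroups `1*q^0*P2*P3*P6` (`Pn` the cyclotomic
polynomials at `q`). Constituents (degree, `D`):
* `0`: degree `1*q^0 / 1`, `D = 0`
* `1`: degree `1*q^1*P3*P6 / 3`, `D = 1*q^2*P1*P2^2`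
* `2`: degree `1*q^1*P2^2*P6 / 2`, `D = 1*q^3*P3`
* `3`: degree `1*q^1*P2^2*P3 / 6`, `D = 1*q^2*P6*(2 + 1*q)`
-/

set_option autoImplicit false
set_option maxRecDepth 20000

namespace Cfsg.Agent.H996.PQ.FullG2a

open Cfsg.Agent.H967.Sph Cfsg.Agent.H64.Dl.Sph Cfsg.Agent.H996.Eight Cfsg.Agent.H996.Eight.Cert Cfsg.Agent.H996.Eight.En

/-- degree `1*q^0 / 1` -/
def c0 : Crt 4 where
  th := [0, 1, 1]
  nu c := ([[1], [1], [1], [1]] : List (List ℤ)).getD c []
  steps := []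
  dn := [1]
  den := 1

/-- degree `1*q^1*P3*P6 / 3` -/
def c1 : Crt 4 where
  th := [-1, -1]
  nu c := ([[0, 0, 0, 1], [0, 0, -1], [0, 1], [-1]] : List (List ℤ)).getD c []
  steps := []
  dn := [0, 1, 0, 1, 0, 1]
  den := 3

/-- degree `1*q^1*P2^2*P6 / 2` -/
def c2 : Crt 4 where
  th := [-1]
  nu c := ([[0, 0, 0, 1, 1], [0, 0, -1], [0, 0, -1], [1, 1]] : List (List ℤ)).getD c []
  steps := []
  dn := [0, 1, 1, 0, 1, 1]
  den := 2

/-- degree `1*q^1*P2^2*P3 / 6` -/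
def c3 : Crt 4 where
  th := [-1, 2]
  nu c := ([[0, 0, 0, 1, 1], [0, 0, -1, 2], [0, -2, 1], [-1, -1]] : List (List ℤ)).getD c []
  steps := []
  dn := [0, 1, 3, 4, 3, 1]
  den := 6

/-- the certificates -/
def C (i : Fin 4) : Crt 4 := ([c0, c1, c2, c3] : List (Crt 4)).getD i c0

theorem okA : ∀ i, ok1 (C i) (TabG2a.data.t.cls TabG2a.data.t.o) TabG2a.data.bb TabG2a.data.kk := by decide +kernel

theorem dvdA : ∀ i, pDvd (C i).den (C i).dn := by decide +kernel

theorem neA : ∀ i k, i < k → pNV (pAdd (C i).th (pNeg (C k).th)) = true := by (simp only [Cfsg.Agent.H996.Eight.Kq.pNV_eq]; decide +kernel)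


/-- the polynomials -/
def pol : Pol 4 where
  N := [1, 1, 1, 1, 1, 1]
  dn i := (C i).dn
  den i := (C i).den
  D i := ([[], [0, 0, -1, -1, 1, 1], [0, 0, 0, 1, 1, 1], [0, 0, 2, -1, 1, 1]] : List (List ℤ)).getD i []
  o := 0
  nu i := (C i).nu

/-- the long roots -/
def rt : RTab 2 3 where
  V := 1053475
  S := 2203318354176
  P := 3841
  Q := 256

/-- **The full certificate.** -/
def full : Full TabG2a.A 0 6 4 ![3, 2] where
  Da := TabG2a.data
  C := C
  i₀ := 0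
  P := pol
  hP := ⟨rfl, rfl, rfl, by decide +kernel⟩
  hN := by (simp only [Cfsg.Agent.H996.Eight.Kq.pEq_eq]; decide +kernel)
  triv := ⟨by decide +kernel, rfl, rfl⟩
  ok i _ := ⟨okA i, dvdA i⟩
  uq i _ := uq_of_spec C _ _ (fun i => (okA i).1) (fun i => (okA i).2.2.1) neA i
  FF := [0, 0, 1]
  LL := 6
  cf i := ([[0, 0, 6], [2, 0, 2, 0, 2], [3, 0, 0, 3], [1, 2, 2, 1]] : List (List ℤ)).getD i []
  hF := by decide +kernel
  hcf := by (simp only [Cfsg.Agent.H996.Eight.Kq.pEq_eq]; decide +kernel)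
  hsum := by (simp only [Cfsg.Agent.H996.Eight.Kq.pEq_eq, Cfsg.Agent.H996.Eight.Kq.pZero_eq]; decide +kernel)
  hne := by (simp only [Cfsg.Agent.H996.Eight.Kq.pNV_eq]; decide +kernel)
  NL := [1, 1, 1, 1, 1, 1]
  nr := 3
  nz := ⟨by decide⟩
  Z := rt
  hZ := ⟨by decide +kernel, by decide +kernel, by decide +kernel⟩
  kap n := ([0, 0, 0, 2] : List (Fin 4)).getD n 0
  hkap := by decide +kernel
  VV c := ([[1, 1, 1, 1], [], [0, 0, 0, 0, 1, 1], []] : List (List ℤ)).getD c []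
  hVV := by (delta Cfsg.Agent.H996.PQ.ChkC; simp only [Cfsg.Agent.H996.Eight.Kq.pEq_eq]; decide +kernel)
  hD := by (simp only [Cfsg.Agent.H996.Eight.Kq.pEq_eq]; decide +kernel)

end Cfsg.Agent.H996.PQ.FullG2a
end

-- part: H996/PQ/TabG2b
section
/-!
# The table of the spherical machine: `G₂`, node `1` (helper996, for S4612; made by a program)

6 states, 4 classes.
-/

set_option autoImplicit false
set_option maxRecDepth 20000

namespace Cfsg.Agent.H996.PQ.TabG2b

open Cfsg.Agent.H967.Sph Cfsg.Agent.H64.Dl.Sph Cfsg.Agent.H996.Eight.Cert Cfsg.Agent.H996.Eight.En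

/-- the Cartan matrix -/
def A (i k : Fin 2) : ℤ := (([[2, -3], [-1, 2]] : List (List ℤ)).getD i []).getD k 0

/-- the encoded table -/
def enc : Enc 2 6 4 where
  j := 1
  V := 132591707978136
  S := 5198641304865308459589494349235200
  C := 102827040
  P := 4506900310786048
  Q := 1052688
  CP := 1151800001674870783
  CQ := 0
  R := 5371855872
  W := 5514788471040

/-- the table -/
def tab : Tab A 1 6 4 :=
  enc.tab A (by decide +kernel) (Cfsg.Agent.H996.Eight.Kq.t1 7 (by decide +kernel)) (Cfsg.Agent.H996.Eight.Kq.act_of (by decide +kernel)) (Cfsg.Agent.H996.Eight.Kq.t3 (by decide +kernel)) (by decide +kernel)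
    (Cfsg.Agent.H996.Eight.Kq.t5 (by decide +kernel)) (Cfsg.Agent.H996.Eight.Kq.t6 (r := fun a => enc.crep (enc.cls a)) (by decide +kernel))

/-- the exponents of the parameters -/
def e (i : Fin 2) : ℕ := ([1, 1] : List ℕ).getD i 0

def matL : List (List (List ℤ)) := [[[], [0, 1], [], []], [[0, 1], [0, -1, 1], [0, 0, 0, 1], []], [[], [0, 0, 0, 1], [0, 0, 0, -1, 1], [0, 0, 0, 0, 0, 1]], [[], [], [0, 0, 0, 0, 0, 1], [0, 0, 0, 0, 0, -1, 1]]]

def bbL : List (List (List ℤ)) := [[[], [0, 1, 1], [], []], [[1], [-1, 1], [0, 0, 1], []], [[], [1], [-1, 1], [0, 0, 1]], [[], [], [1, 1], [-1, 0, 1]]]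

def kL : List (List ℤ) := [[1], [0, 1, 1], [0, 0, 0, 1, 1], [0, 0, 0, 0, 0, 1]]

/-- the data -/
def data : Data A 1 6 4 where
  t := tab
  e := e
  wl := enc.wl
  mat c c' := (matL.getD c []).getD c' []
  kk c := kL.getD c []
  ff := [1, 1]
  bb c c' := (bbL.getD c []).getD c' []
  chkM := by (delta Cfsg.Agent.H996.Eight.Cert.ChkM Cfsg.Agent.H996.Eight.Cert.ctr; simp only [Cfsg.Agent.H996.Eight.Kq.pEq_eq]; decide +kernel)
  chkK := by (delta Cfsg.Agent.H64.Dl.Sph.ChkK; simp only [Cfsg.Agent.H996.Eight.Kq.pEq_eq]; decide +kernel)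
  chkF := by decide +kernel
  chkP := by (simp only [Cfsg.Agent.H996.Eight.Kq.pPos_eq]; decide +kernel)
  chkB := by (simp only [Cfsg.Agent.H996.Eight.Kq.pEq_eq]; decide +kernel)
  wo := by decide +kernel
  ws := by decide +kernel

end Cfsg.Agent.H996.PQ.TabG2b
end

-- part: H996/PQ/FullG2b
section
/-!
# Full certificate: `G₂`, node `1` (helper996, for S4612; made by a program)

`|G : P| = 1*q^0*P2*P3*P6`, number of the long root subgroups `1*q^0*P2*P3*P6` (`Pn` the cyclotomic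
polynomials at `q`). Constituents (degree, `D`):
* `0`: degree `1*q^0 / 1`, `D = 0`
* `1`: degree `1*q^1*P3*P6 / 3`, `D = 1*q^2*P2*(2 + 1*q^2)`
* `2`: degree `1*q^1*P2^2*P6 / 2`, `D = 1*q^3*P3`
* `3`: degree `1*q^1*P2^2*P3 / 6`, `D = 1*q^2*P6*(2 + 1*q)`
-/

set_option autoImplicit false
set_option maxRecDepth 20000

namespace Cfsg.Agent.H996.PQ.FullG2b

open Cfsg.Agent.H967.Sph Cfsg.Agent.H64.Dl.Sph Cfsg.Agent.H996.Eight Cfsg.Agent.H996.Eight.Cert Cfsg.Agent.H996.Eight.En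

/-- degree `1*q^1*P2^2*P6 / 2` -/
def c2 : Crt 4 where
  th := [-1]
  nu c := ([[0, 0, 0, 1, 1], [0, 0, -1], [0, 0, -1], [1, 1]] : List (List ℤ)).getD c []
  steps := []
  dn := [0, 1, 1, 0, 1, 1]
  den := 2


end Cfsg.Agent.H996.PQ.FullG2b
end

-- part: H996/PQ/RowG2
section
/-!
# The separation theorem and the polynomials: `G₂(q)` (helper996, for S4612; made by a program)
-/

set_option autoImplicit false

namespace Cfsg.Agent.H996.PQ.FullG2a

open Cfsg Cfsg.Agent.H317.PQ Cfsg.Agent.H996.Eight Cfsg.Agent.H996.Eight.Cert Cfsg.Agent.H35.ExcIdx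
open Cfsg.Lie Cfsg.Agent.ChevalleyStructure.CoxeterGeomTypes Cfsg.Agent.Nodes.RGDChev

universe u

/-- the degrees: `evdn` -/
theorem deg {x : ℕ} (hx : 2 ≤ x) (i : Fin 4) : (pol.den i : ℤ) * (pol.deg x i : ℤ) = evZ x (pol.dn i) :=
  full.degZ hx i

theorem hA : cartanOf chevG2 2 = TabG2a.A := by
  funext i k
  revert i k
  decide +kernel

/-- **The same set `S` of constituents passes the tests for both primes.** -/
theorem sep {K : Type u} [Field K] [Fintype K] {p l : ℕ} (hp : p.Prime) (hl : l.Prime)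
    (hS : Same p l ↥(chevG2.group K)) : Sep pol (Fintype.card K) p l 0 :=
  split_sep (show IsType chevG2 2 CoxeterMatrix.G₂ by simp [IsType, typeList]) K hA full (by decide +kernel) H241.PQ.hi_G2 TabG2b.data (by decide +kernel)
    (by decide +kernel) hp hl hS

end Cfsg.Agent.H996.PQ.FullG2a

namespace Cfsg.Agent.H996.PQ.FullG2b

open Cfsg Cfsg.Agent.H317.PQ Cfsg.Agent.H996.Eight Cfsg.Agent.H996.Eight.Cert Cfsg.Agent.H35.ExcIdx
open Cfsg.Lie Cfsg.Agent.ChevalleyStructure.CoxeterGeomTypes Cfsg.Agent.Nodes.RGDChev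

universe u

end Cfsg.Agent.H996.PQ.FullG2b
end
end

-- part: H315/PQ/CenTw
section
set_option linter.all false
open scoped Cfsg.Agent.FastGrp

/-!
# The highest root group of `³D₄(q)`, `²E₆(q)` (helper315, for S4612, [X5])

* `cen_fold` : folded root data: if the relative root `α₀` is the image of one root `s` and the commutators of `x_s` with
  all positive roots are trivial, then `X α₀` is centralised by the positive root groups;
* `cen_TwD4`, `cen_TwE6`, `hi_TwD4`, `hi_TwE6`.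
-/

set_option autoImplicit false

namespace Cfsg.Agent.H315.PQ

open CoxeterSystem Cfsg.Agent.ChevalleyStructure.CoxeterGeom Cfsg.Agent.Tits.Roots Cfsg.Agent.Nodes.RGDTwGen
  Cfsg.Agent.Nodes.RGDChev Cfsg.Agent.Nodes.RGDFold
open Cfsg.Lie Cfsg.Agent.ChevalleyStructure Cfsg.Agent.ChevalleyStructure.CoxeterGeomTypes
  Cfsg.Agent.ChevalleyStructure.TwistedU
open Cfsg.Agent.H996.PQ (Hi Cen)

universe u

theorem cen_fold {D : ChevalleyDatum} {l m : ℕ} {M' : CoxeterMatrix (Fin l)} (hp : IsType D l M') {K : Type u} [Field K]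
    {M : CoxeterMatrix (Fin m)} {A : Fin m → Fin m → ℤ} {W : Type*} [Group W] (cs : CoxeterSystem M W)
    (h : IsCartan M A) {J : Fin m → List (Fin l)} {L : List (List ℕ)} (FD : FoldData D M A J L)
    (σ : GL D.Idx K →* GL D.Idx K) (G : Subgroup (GL D.Idx K)) {s : ℕ} (hs : s < D.nroots) {α₀ : Fin m → ℤ}
    (h1 : ∀ k < D.nroots, V D J k = α₀ → k = s)
    (h2 : ∀ k ∈ L.flatten, k = s ∨ (s ≠ k ∧ s ≠ D.neg k ∧ D.commTerms k s = [])) :
    Cen cs h (fun z => (R D hp K J σ z).subgroupOf G) α₀ := by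
  intro x hx hx0 a ha b hb
  apply Subtype.ext
  have ha' : (a : GL D.Idx K) ∈ rspan (Elts.xG (F := K) hp.inList) {k | k < D.nroots ∧ V D J k = x} :=
    (Subgroup.mem_subgroupOf.1 ha).1
  have hb' : (b : GL D.Idx K) ∈ rspan (Elts.xG (F := K) hp.inList) {k | k < D.nroots ∧ V D J k = α₀} :=
    (Subgroup.mem_subgroupOf.1 hb).1
  have key : ∀ r < D.nroots, V D J r = x → ∀ t : K, ∀ u : K,
      Commute (Elts.xG hp.inList r t) (Elts.xG (F := K) hp.inList s u) := by
    intro r hr hrx t u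
    have hrL : r ∈ L.flatten := (FD.posL r hr).2 fun i => by rw [hrx]; exact hx0 i
    rcases h2 r hrL with rfl | ⟨e1, e2, e3⟩
    · show _ * _ = _ * _
      rw [Elts.xG_add, Elts.xG_add, add_comm]
    · exact commute_of_nil hp hr hs e1 e2 e3 t u
  have h3 : ∀ r < D.nroots, V D J r = x → ∀ t : K, Commute (Elts.xG hp.inList r t) (b : GL D.Idx K) := by
    intro r hr hrx t
    have h4 : rspan (Elts.xG (F := K) hp.inList) {k | k < D.nroots ∧ V D J k = α₀} ≤
        Subgroup.centralizer {Elts.xG hp.inList r t} := by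
      refine rspan_le _ fun k hk u => ?_
      rw [Subgroup.mem_centralizer_singleton_iff]
      rw [h1 k hk.1 hk.2]
      exact (key r hr hrx t u).symm
    exact (Subgroup.mem_centralizer_singleton_iff.1 (h4 hb')).symm
  have h5 : rspan (Elts.xG (F := K) hp.inList) {k | k < D.nroots ∧ V D J k = x} ≤
      Subgroup.centralizer {(b : GL D.Idx K)} := by
    refine rspan_le _ fun k hk u => ?_
    rw [Subgroup.mem_centralizer_singleton_iff]
    exact h3 k hk.1 hk.2 u
  exact Subgroup.mem_centralizer_singleton_iff.1 (h5 ha')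

theorem cen_TwD4 {K : Type u} [Field K] [Fintype K] {q : ℕ} {W : Type*} [Group W]
    (cs : CoxeterSystem CoxeterMatrix.G₂ W) (φ : K →+* K) :
    Cen cs Nodes.RGDTwD4.isCartan (Nodes.RGDTwD4.X φ q) ![2, 3] :=
  cen_fold Nodes.RGDTwD4.hp cs Nodes.RGDTwD4.isCartan Nodes.RGDTwD4.foldData _ _ (s := 23) (by decide +kernel)
    (by decide +kernel) (by decide +kernel)

theorem cen_TwE6 {K : Type u} [Field K] [Fintype K] {q : ℕ} {W : Type*} [Group W]
    (cs : CoxeterSystem CoxeterMatrix.F₄ W) (φ : K →+* K) :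
    Cen cs Nodes.RGDTwE6.isCartan (Nodes.RGDTwE6.X φ q) ![2, 3, 4, 2] :=
  cen_fold Nodes.RGDTwE6.hp cs Nodes.RGDTwE6.isCartan Nodes.RGDTwE6.foldData _ _ (s := 71) (by decide +kernel)
    (by decide +kernel) (by decide +kernel)

theorem hi_TwD4 : Hi Nodes.RGDTwD4.A 0 ![2, 3] ![3, 1] where
  sym := by decide +kernel
  pos := by decide +kernel
  nonneg := by decide +kernel
  orth := by decide +kernel
  top := by decide +kernel

theorem hi_TwE6 : Hi Nodes.RGDTwE6.A 0 ![2, 3, 4, 2] ![2, 2, 1, 1] where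
  sym := by decide +kernel
  pos := by decide +kernel
  nonneg := by decide +kernel
  orth := by decide +kernel
  top := by decide +kernel

/-- the highest roots are roots -/
theorem isRoot_TwD4 {W : Type*} [Group W] (cs : CoxeterSystem CoxeterMatrix.G₂ W) :
    IsRoot cs Nodes.RGDTwD4.isCartan ![2, 3] :=
  (Nodes.RGDTwD4.foldData.isRoot_iff Nodes.RGDTwD4.hp.checked
    (fun i r hr => wp_lt Nodes.RGDTwD4.hp (Nodes.RGDTwD4.J i) hr) _).2 ⟨23, by decide +kernel, by decide +kernel⟩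

theorem isRoot_TwE6 {W : Type*} [Group W] (cs : CoxeterSystem CoxeterMatrix.F₄ W) :
    IsRoot cs Nodes.RGDTwE6.isCartan ![2, 3, 4, 2] :=
  (Nodes.RGDTwE6.foldData.isRoot_iff Nodes.RGDTwE6.hp.checked
    (fun i r hr => wp_lt Nodes.RGDTwE6.hp (Nodes.RGDTwE6.J i) hr) _).2 ⟨71, by decide +kernel, by decide +kernel⟩

end Cfsg.Agent.H315.PQ
end

-- part: H996/PQ/RowTwE
section
prune_inst 0x4010000
set_option linter.all false

/-!
# The separation theorem and the polynomials: `²E₆(q)` (helper996, for S4612; made by a program)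
-/

set_option autoImplicit false

namespace Cfsg.Agent.H996.PQ.TwE

open Cfsg Cfsg.Agent.H967.Sph Cfsg.Agent.H317.PQ Cfsg.Agent.H64.Dl.Sph Cfsg.Agent.H996.Eight.Cert
open CoxeterSystem Cfsg.Agent.ChevalleyStructure.CoxeterGeom Cfsg.Agent.Tits.Roots Cfsg.Agent.Tits.Core
  Cfsg.Agent.Nodes.Reps Cfsg.Agent.Nodes.BNOf Cfsg.Agent.Nodes.Bruhat Cfsg.Agent.Nodes.LeviDec
open Cfsg.Lie Cfsg.Agent.H35.ExcIdx Cfsg.Agent.Nodes

universe u

theorem exists_prime_pow' (F : Type u) [Field F] [Fintype F] :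
    ∃ (r f : ℕ), r.Prime ∧ f ≠ 0 ∧ Fintype.card F = r ^ f ∧ CharP F r := by
  obtain ⟨r, hr⟩ := CharP.exists F
  obtain ⟨f, hp, hf⟩ := FiniteField.card F r
  exact ⟨r, f, hp, f.ne_zero, hf, hr⟩

end Cfsg.Agent.H996.PQ.TwE

namespace Cfsg.Agent.H996.PQ.FullTwEa

open Cfsg Cfsg.Agent.H317.PQ Cfsg.Agent.H996.Eight Cfsg.Agent.H996.Eight.Cert

universe u

theorem evdn1 (x : ℤ) : evZ x (pol.dn 1) = x * (x ^ 4 + 1) * (x ^ 6 - x ^ 3 + 1) := by
  show evZ x [0, 1, 0, 0, -1, 1, 0, 1, -1, 0, 0, 1] = _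
  simp only [evZ]
  ring

theorem evdn2 (x : ℤ) : evZ x (pol.dn 2) = x ^ 2 * (x ^ 2 + 1) * (x ^ 4 + 1) * (x ^ 4 - x ^ 3 + x ^ 2 - x + 1) * (x ^ 4 - x ^ 2 + 1) := by
  show evZ x [0, 0, 1, -1, 1, -1, 2, -1, 2, -2, 2, -1, 2, -1, 1, -1, 1] = _
  simp only [evZ]
  ring

theorem evdn4 (x : ℤ) : evZ x (pol.dn 4) = x ^ 3 * (x ^ 2 + x + 1) ^ 2 * (x ^ 4 + 1) * (x ^ 4 - x ^ 3 + x ^ 2 - x + 1) * (x ^ 6 - x ^ 3 + 1) := by
  show evZ x [0, 0, 0, 1, 1, 2, -1, 1, -1, 5, 0, 3, -4, 3, 0, 5, -1, 1, -1, 2, 1, 1] = _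
  simp only [evZ]
  ring

/-- the degrees: `evdn` -/
theorem deg {x : ℕ} (hx : 2 ≤ x) (i : Fin 5) : (pol.den i : ℤ) * (pol.deg x i : ℤ) = evZ x (pol.dn i) :=
  full.degZ hx i

theorem hA : Cfsg.Agent.Nodes.RGDTwE6.A = TabTwEa.A := by
  funext i k
  revert i k
  decide +kernel

theorem hw : ∀ r, (∀ k, full.Z.vec r k = (![2, 3, 4, 2] : Fin 4 → ℤ) k) → ∃ w i, full.Z.word 64 r = some (w, i) ∧ full.Da.e i = 1 := by
  have h : ∀ r, (∀ k, full.Z.vec r k = (![2, 3, 4, 2] : Fin 4 → ℤ) k) →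
      (match full.Z.word 64 r with
        | some (_, i) => full.Da.e i == 1
        | none => false) = true := by decide +kernel
  intro r hr
  have h1 := h r hr
  split at h1
  · next w i h2 => exact ⟨w, i, h2, by simpa using h1⟩
  · cases h1

end Cfsg.Agent.H996.PQ.FullTwEa

namespace Cfsg.Agent.H996.PQ.FullTwEb

open Cfsg Cfsg.Agent.H317.PQ Cfsg.Agent.H996.Eight Cfsg.Agent.H996.Eight.Cert

universe u

/-- the degrees: `evdn` -/
theorem deg {x : ℕ} (hx : 2 ≤ x) (i : Fin 5) : (pol.den i : ℤ) * (pol.deg x i : ℤ) = evZ x (pol.dn i) :=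
  full.degZ hx i

theorem hA : Cfsg.Agent.Nodes.RGDTwE6.A = TabTwEb.A := by
  funext i k
  revert i k
  decide +kernel

theorem hw : ∀ r, (∀ k, full.Z.vec r k = (![2, 3, 4, 2] : Fin 4 → ℤ) k) → ∃ w i, full.Z.word 64 r = some (w, i) ∧ full.Da.e i = 1 := by
  have h : ∀ r, (∀ k, full.Z.vec r k = (![2, 3, 4, 2] : Fin 4 → ℤ) k) →
      (match full.Z.word 64 r with
        | some (_, i) => full.Da.e i == 1
        | none => false) = true := by decide +kernel
  intro r hr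
  have h1 := h r hr
  split at h1
  · next w i h2 => exact ⟨w, i, h2, by simpa using h1⟩
  · cases h1

end Cfsg.Agent.H996.PQ.FullTwEb
end
end
end
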