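import Cfsg.Agent.Characters.Linear
import Cfsg.Agent.S0157
import Cfsg.Agent.H477.HC.Levi
import Cfsg.Agent.H950.Count
import Cfsg.Agent.H766.PQ.A01_m3
import Cfsg.Agent.Blocks.Osima
import Cfsg.Agent.Blocks.PrincipalSection
import Cfsg.Agent.Blocks.ExistsModular
import Mathlib
import Cfsg.Agent.OddOrderCharacters.Clifford
import Cfsg.Agent.OddOrderCharacters.IndRes
import Cfsg.Agent.OddOrderCharacters.FeitCoherence
import Cfsg.Agent.OddOrderCharacters.VirtualNormTwo
import Cfsg.Agent.H154.PQE.Opp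
import Cfsg.Agent.H734.Fx.GL
import Cfsg.Agent.H514.DP.Cyc_m3
import Cfsg.Agent.H411.Six.EmbN
import Cfsg.Agent.H150.Fpf
import Cfsg.Agent.Blocks.RegularCount
import Cfsg.Agent.Classification.InvCent.WreathedGram
import Cfsg.Prelude.Def_ChevE7
import Cfsg.Agent.H996.PQ.BigSum_m3
import Cfsg.Agent.H594.PQ.LinkE8b
import Cfsg.Agent.H906.PQ.KqA
import Cfsg.Agent.H990.PQ.Core
import Cfsg.Agent.H61.PQ.Cd2_m3
import Cfsg.Agent.H734.RB.Cyc
import Cfsg.Agent.Blocks.CentralProduct
import Cfsg.Agent.Blocks.Knorr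
import Cfsg.Agent.H113.PSU.Rank3_m3
import Cfsg.Agent.H101.PQ.MHecke
import Cfsg.Agent.FastGrp
import Cfsg.Agent.Prune
set_option linter.all false

section
prune_inst 0x7fbcacf8aba801dfdfff7e3da6dccdf810800fffa4dff9437fe0619f0b9f030009c5638509e010fe0e56c21410a87803f97eceffe06bd87ffffd17b41ffbee0fa5e73508119488240e200ff603f067086f3ffdfffffffffffffffff7ffffffbeffbdf3feffff

-- part: H61/PQ/NegOne
section
set_option linter.all false
open scoped Cfsg.Agent.FastGrp

/-!
# Characters of degree `-1` modulo the order, small off the identity (helper61, S4612)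

* `val_neg_one` : `χ(1) + 1 = k |A|`, `|χ| ≤ 1` off the identity, `χ` invariant under a fixed point free automorphism:
  `χ = -1` off the identity.
-/

set_option autoImplicit false
set_option linter.unusedSectionVars false

open Cfsg

namespace Cfsg.Agent.H61.PQ

open Cfsg.Agent.Characters.Core Cfsg.Agent.Characters.Linear
open scoped ComplexConjugate

universe u

variable {A : Type u} [Group A] [Finite A]

/-- the regular character -/
theorem isCharacter_reg (k : ℕ) : ∃ ρ : A → ℂ, IsCharacter A ρ ∧ ρ 1 = k * Nat.card A ∧ ∀ u : A, u ≠ 1 → ρ u = 0 := by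
  classical
  have h1 := Cfsg.Agent.S0157.isCharacter_fixedBy (G := A) A
  refine ⟨k • (fun g : A => (Nat.card (MulAction.fixedBy A g) : ℂ)), isCharacter_nsmul k h1, ?_, fun u hu => ?_⟩
  · rw [Pi.smul_apply, MulAction.fixedBy_one_eq_univ, Nat.card_univ, nsmul_eq_mul]
  · have h2 : IsEmpty (MulAction.fixedBy A u) := by
      refine ⟨fun x => hu ?_⟩
      have h3 : u * x.1 = x.1 := x.2
      exact mul_eq_right.1 h3
    rw [Pi.smul_apply, Nat.card_of_isEmpty, Nat.cast_zero, smul_zero]

/-- `k ρ - χ` is a linear character -/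
theorem exists_lin_of_le {f : A → ℂ} (hf : IsCharacter A f) {k : ℕ} (h1 : f 1 + 1 = k * Nat.card A)
    (hle : ∀ u : A, u ≠ 1 → ‖f u‖ ≤ 1) : ∃ l : A →* ℂˣ, ∀ u : A, u ≠ 1 → f u = -(l u : ℂ) := by
  classical
  have := Fintype.ofFinite A
  obtain ⟨ρ, hρ, hρ1, hρu⟩ := isCharacter_reg (A := A) k
  have hgen : IsGeneralizedCharacter A (ρ - f) := ⟨ρ, f, hρ, hf, rfl⟩
  have hθ1 : (ρ - f) 1 = 1 := by
    rw [Pi.sub_apply, hρ1, ← h1]
    ring
  have hθu : ∀ u : A, u ≠ 1 → (ρ - f) u = - f u := fun u hu => by rw [Pi.sub_apply, hρu u hu, zero_sub]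
  have hθle : ∀ u : A, ‖(ρ - f) u‖ ≤ 1 := by
    intro u
    by_cases hu : u = 1
    · rw [hu, hθ1, norm_one]
    · rw [hθu u hu, norm_neg]
      exact hle u hu
  -- the norm
  have hN : classInner (ρ - f) (ρ - f) = 1 := by
    have := finite_irr (G := A)
    have := Fintype.ofFinite (IrrCharacter A)
    obtain ⟨m, hm⟩ := isGeneralizedCharacter_iff.mp hgen
    have h2 := classInner_sum_smul_sum_smul (fun ψ : IrrCharacter A => (m ψ : ℂ)) (fun ψ => (m ψ : ℂ))
    simp only [Int.cast_smul_eq_zsmul] at h2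
    rw [← hm] at h2
    simp only [map_intCast, ← pow_two] at h2
    have h3 : classInner (ρ - f) (ρ - f) = ((∑ ψ : IrrCharacter A, (m ψ) ^ 2 : ℤ) : ℂ) := by
      rw [h2]
      push_cast
      rfl
    -- upper bound
    have h4 : classInner (ρ - f) (ρ - f) = (((Nat.card A : ℝ)⁻¹ * ∑ u : A, ‖(ρ - f) u‖ ^ 2 : ℝ) : ℂ) := by
      rw [classInner_def]
      push_cast
      congr 1
      refine Finset.sum_congr rfl fun u _ => ?_
      rw [Complex.mul_conj, Complex.normSq_eq_norm_sq]
      push_cast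
      rfl
    have hc : (0 : ℝ) < Nat.card A := by exact_mod_cast Nat.card_pos
    have h5 : (Nat.card A : ℝ)⁻¹ * ∑ u : A, ‖(ρ - f) u‖ ^ 2 ≤ 1 := by
      have h6 : ∑ u : A, ‖(ρ - f) u‖ ^ 2 ≤ ∑ u : A, (1 : ℝ) :=
        Finset.sum_le_sum fun u _ => by
          have h7 := hθle u
          have h8 := norm_nonneg ((ρ - f) u)
          nlinarith
      rw [Finset.sum_const, Finset.card_univ, nsmul_eq_mul, mul_one, ← Nat.card_eq_fintype_card] at h6
      rw [inv_mul_le_iff₀ hc, mul_one]
      exact h6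
    have h6 : 0 < (Nat.card A : ℝ)⁻¹ * ∑ u : A, ‖(ρ - f) u‖ ^ 2 := by
      refine mul_pos (inv_pos.2 hc) (Finset.sum_pos' (fun u _ => by positivity) ⟨1, Finset.mem_univ _, ?_⟩)
      rw [hθ1, norm_one]
      norm_num
    have h7 : ((∑ ψ : IrrCharacter A, (m ψ) ^ 2 : ℤ) : ℝ) = (Nat.card A : ℝ)⁻¹ * ∑ u : A, ‖(ρ - f) u‖ ^ 2 := by
      have h8 := h3.symm.trans h4
      exact_mod_cast h8
    rw [← h7] at h5 h6
    have h8 : (∑ ψ : IrrCharacter A, (m ψ) ^ 2 : ℤ) ≤ 1 := by exact_mod_cast h5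
    have h9 : 0 < (∑ ψ : IrrCharacter A, (m ψ) ^ 2 : ℤ) := by exact_mod_cast h6
    have h10 : (∑ ψ : IrrCharacter A, (m ψ) ^ 2 : ℤ) = 1 := by omega
    rw [h3, h10, Int.cast_one]
  have hirr : IsIrrCharacter A (ρ - f) := by
    rcases isIrr_of_generalized hgen hN with h | h
    · exact h
    · exfalso
      obtain ⟨n, hn0, hn⟩ := isIrr_apply_one h
      rw [Pi.neg_apply, hθ1] at hn
      have h2 : ((n : ℤ) : ℂ) = ((-1 : ℤ) : ℂ) := by push_cast; exact hn.symm
      have h3 : (n : ℤ) = -1 := by exact_mod_cast h2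
      omega
  obtain ⟨l, hl⟩ := exists_hom_of_isIrrCharacter hirr hθ1
  refine ⟨l, fun u hu => ?_⟩
  have h2 := congrFun hl u
  rw [hθu u hu] at h2
  rw [← h2, neg_neg]

/-- **`χ = -1` off the identity** -/
theorem val_neg_one {f : A → ℂ} (hf : IsCharacter A f) {k : ℕ} (h1 : f 1 + 1 = k * Nat.card A)
    (hle : ∀ u : A, u ≠ 1 → ‖f u‖ ≤ 1) (σ : A ≃* A) (hinv : ∀ u, f (σ u) = f u) (hfp : ∀ u, σ u = u → u = 1) {u : A}
    (hu : u ≠ 1) : f u = -1 := by
  obtain ⟨l, hl⟩ := exists_lin_of_le hf h1 hle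
  have h2 : ∀ v : A, l (σ v) = l v := by
    intro v
    by_cases hv : v = 1
    · rw [hv, map_one]
    · have h3 : σ v ≠ 1 := fun h => hv (σ.injective (h.trans (map_one σ).symm))
      have h4 := hl v hv
      have h5 := hl (σ v) h3
      rw [hinv, h4] at h5
      exact Units.ext (neg_injective h5).symm
  have hinj : Function.Injective (fun v : A => v⁻¹ * σ v) := by
    intro v w hvw
    have h3 : v⁻¹ * σ v = w⁻¹ * σ w := hvw
    have h4 : σ (v * w⁻¹) = v * w⁻¹ := by
      have h5 : σ v = v * (v⁻¹ * σ v) := by group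
      have h6 : σ w = w * (w⁻¹ * σ w) := by group
      rw [map_mul, map_inv, h5, h6, ← h3]
      group
    exact mul_inv_eq_one.1 (hfp _ h4)
  obtain ⟨v, hv⟩ := (Finite.injective_iff_surjective.1 hinj) u
  have h3 : l u = 1 := by
    have h4 : v⁻¹ * σ v = u := hv
    rw [← h4, map_mul, map_inv, h2, inv_mul_cancel]
  rw [hl u hu, h3, Units.val_one]

end Cfsg.Agent.H61.PQ
end

-- part: H47/DP/Adj
section
prune_inst 0x353071447f0002000018209023005e72ba000002004b880020a00f060fc9a84289438e218e80051a100200c408340008121000800040000004840000011d05810000140400010011020088001108200000200000000000000000000000000004200000000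
set_option linter.all false
open scoped Cfsg.Agent.FastGrp

-- part: H47/DP/Perp
section
/-!
# S4612: maximal totally singular subspaces of a `CForm` (helper47)

* `finrank_perp`, `mem_of_perp`, `finrank_inf_perp`;
* `card_hyps` : the number of hyperplanes of `M` containing `U`.
-/

set_option autoImplicit false
set_option linter.unusedSectionVars false

open Cfsg

namespace Cfsg.Agent.H47.DP

open Cfsg.Agent.H477.HC Cfsg.Agent.H477.HC.CForm Cfsg.Agent.H53.HC Module

universe u v

variable {K : Type u} [Field K] {V : Type v} [AddCommGroup V] [Module K V] [FiniteDimensional K V] (F : CForm K V)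

theorem finrank_perp (W : Submodule K V) : finrank K (F.perp W) + finrank K W = finrank K V := by
  obtain ⟨C, hC⟩ := (F.perp W).exists_isCompl
  have h1 := Submodule.finrank_add_eq_of_isCompl hC
  have h2 : finrank K C ≤ finrank K W := F.finrank_le_of_opp (by rw [inf_comm]; exact hC.inf_eq_bot)
  have h3 : finrank K W ≤ finrank K C := by
    apply F.finrank_le_of_opp
    rw [Submodule.eq_bot_iff]
    rintro x ⟨hx, hx'⟩
    refine F.nondeg x fun v => ?_
    have hv : v ∈ F.perp W ⊔ C := by rw [hC.sup_eq_top]; trivial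
    obtain ⟨a, ha, c, hc, rfl⟩ := Submodule.mem_sup.1 hv
    rw [F.B_add_right, F.B_eq_zero (ha x hx), hx' c hc, add_zero]
  omega

theorem perp_sup (W W' : Submodule K V) : F.perp (W ⊔ W') = F.perp W ⊓ F.perp W' := by
  apply le_antisymm
  · exact le_inf (F.perp_anti le_sup_left) (F.perp_anti le_sup_right)
  · rintro x ⟨hx, hx'⟩ w hw
    obtain ⟨a, ha, b, hb, rfl⟩ := Submodule.mem_sup.1 hw
    rw [F.B_add_right, hx a ha, hx' b hb, add_zero]

theorem TS_bot : F.TS ⊥ := by
  refine ⟨fun w hw => ?_, fun w hw w' hw' => ?_⟩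
  · rw [(Submodule.mem_bot K).1 hw, F.Q_zero]
  · rw [(Submodule.mem_bot K).1 hw, F.B_zero_left]

variable {F} {m : ℕ} (hmax : ∀ W : Submodule K V, F.TS W → finrank K W ≤ m)

section
include hmax

theorem le_of_perp {M : Submodule K V} (hM : M ∈ F.Om m) {W : Submodule K V} (hW : F.TS W) (h : W ≤ F.perp M) :
    W ≤ M := by
  have h1 : F.TS (M ⊔ W) := F.TS_sup hM.1 hW fun x hx w hw => F.B_eq_zero (h hw x hx)
  have h2 := hmax _ h1
  have h3 : M = M ⊔ W := Submodule.eq_of_le_of_finrank_le le_sup_left (by rw [hM.2]; exact h2)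
  exact le_sup_right.trans h3.ge

theorem mem_of_perp {M : Submodule K V} (hM : M ∈ F.Om m) {v : V} (hv : F.Sing v) (h : v ∈ F.perp M) : v ∈ M := by
  have h1 : F.TS (K ∙ v) := by
    refine ⟨fun w hw => ?_, fun w hw w' hw' => ?_⟩
    · obtain ⟨a, rfl⟩ := Submodule.mem_span_singleton.1 hw
      rw [F.Q_smul, hv.1, mul_zero]
    · obtain ⟨a, rfl⟩ := Submodule.mem_span_singleton.1 hw
      obtain ⟨b, rfl⟩ := Submodule.mem_span_singleton.1 hw'
      rw [F.B_smul_left, F.B_smul_right, hv.2, mul_zero, mul_zero]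
  exact le_of_perp hmax hM h1 ((Submodule.span_singleton_le_iff_mem _ _).2 h) (Submodule.mem_span_singleton_self v)

theorem perp_inf {M U : Submodule K V} (hM : M ∈ F.Om m) (hU : F.TS U) : F.perp M ⊓ U = M ⊓ U := by
  apply le_antisymm
  · rintro x ⟨hx, hxU⟩
    exact ⟨mem_of_perp hmax hM (hU.sing hxU) hx, hxU⟩
  · exact inf_le_inf_right _ hM.1.le_perp

theorem finrank_inf_perp {M U : Submodule K V} (hM : M ∈ F.Om m) (hU : F.TS U) :
    finrank K (M ⊓ F.perp U : Submodule K V) + finrank K U = m + finrank K (M ⊓ U : Submodule K V) := by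
  have h1 : M ⊓ F.perp U = F.perp (F.perp M ⊔ U) := by rw [perp_sup, F.perp_perp]
  have h2 := finrank_perp F (F.perp M ⊔ U)
  have h3 := Submodule.finrank_sup_add_finrank_inf_eq (F.perp M) U
  have h4 := finrank_perp F M
  rw [perp_inf hmax hM hU] at h3
  rw [h1]
  have h5 := hM.2
  omega

theorem proj_mem {M U : Submodule K V} (hM : M ∈ F.Om m) (hU : F.TS U) : (M ⊓ F.perp U) ⊔ U ∈ F.Om m := by
  refine ⟨F.TS_sup (hM.1.mono inf_le_left) hU inf_le_right, ?_⟩
  have h1 := Submodule.finrank_sup_add_finrank_inf_eq (M ⊓ F.perp U) U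
  have h2 := finrank_inf_perp hmax hM hU
  have h3 : M ⊓ F.perp U ⊓ U = M ⊓ U := by
    rw [inf_assoc]
    congr 1
    exact inf_eq_right.2 hU.le_perp
  rw [h3] at h1
  omega

end

/-! ### hyperplanes -/

/-- the number of points of a projective space -/
def gn (Q n : ℕ) : ℕ := ∑ i ∈ Finset.range n, Q ^ i

theorem gn_zero (Q : ℕ) : gn Q 0 = 0 := rfl

theorem gn_succ (Q n : ℕ) : gn Q (n + 1) = gn Q n + Q ^ n := Finset.sum_range_succ _ _

theorem gn_one (Q : ℕ) : gn Q 1 = 1 := by rw [gn_succ, gn_zero, pow_zero, zero_add]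

theorem gn_pos (Q : ℕ) {n : ℕ} (hn : 0 < n) : 0 < gn Q n := by
  obtain ⟨n, rfl⟩ := Nat.exists_eq_succ_of_ne_zero hn.ne'
  unfold gn
  rw [Finset.sum_range_succ', pow_zero]
  exact Nat.succ_pos _

theorem gn_mul (Q n : ℕ) (hQ : 1 ≤ Q) : gn Q n * (Q - 1) = Q ^ n - 1 := by
  induction n with
  | zero => simp [gn_zero]
  | succ n ih =>
    rw [gn_succ, add_mul, ih]
    have h1 : 1 ≤ Q ^ n := Nat.one_le_pow _ _ hQ
    have h2 : Q ^ n ≤ Q ^ (n + 1) := Nat.pow_le_pow_right hQ (Nat.le_succ _)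
    zify [hQ, h1, h1.trans h2]
    ring

theorem card_hyps_top [Finite K] {W : Type*} [AddCommGroup W] [Module K W] [FiniteDimensional K W] :
    Nat.card {H : Submodule K W // finrank K H + 1 = finrank K W} = gn (Nat.card K) (finrank K W) := by
  classical
  have := Fintype.ofFinite K
  rcases Nat.eq_zero_or_pos (finrank K W) with h0 | hpos
  · rw [h0, gn_zero]
    refine @Nat.card_of_isEmpty _ ⟨fun H => ?_⟩
    have := H.2
    omega
  · have h1 := H950.card_subspaces_symm (F := K) (V := W) (n := finrank K W) rfl (k := 1) hpos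
    have h2 := H950.card_subspaces_eq (F := K) (V := W) (n := finrank K W) rfl (k := 1) hpos rfl
    have h3 : Nat.card {H : Submodule K W // finrank K H + 1 = finrank K W} =
        Nat.card {H : Submodule K W // finrank K H = finrank K W - 1} :=
      Nat.card_congr (Equiv.subtypeEquivRight fun H => by omega)
    rw [h3, h1]
    rw [Fin.prod_univ_one, Fin.prod_univ_one] at h2
    simp only [Fin.val_zero, Nat.sub_zero, pow_one] at h2
    rw [Fintype.card_eq_nat_card] at h2
    have hQ : 1 < Nat.card K := Finite.one_lt_card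
    rw [← gn_mul _ _ hQ.le] at h2
    exact Nat.eq_of_mul_eq_mul_right (Nat.sub_pos_of_lt hQ) h2

theorem card_hyps_le [Finite K] {M : Submodule K V} :
    Nat.card {H : Submodule K V // H ≤ M ∧ finrank K H + 1 = finrank K M} = gn (Nat.card K) (finrank K M) := by
  rw [← card_hyps_top (K := K) (W := M)]
  refine Nat.card_congr
    { toFun := fun H => ⟨H.1.comap M.subtype, ?_⟩
      invFun := fun H => ⟨H.1.map M.subtype, Submodule.map_subtype_le _ _, ?_⟩
      left_inv := fun H => Subtype.ext ?_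
      right_inv := fun H => Subtype.ext ?_ }
  · rw [(Submodule.comapSubtypeEquivOfLe H.2.1).finrank_eq]
    exact H.2.2
  · rw [← (Submodule.equivMapOfInjective _ M.subtype_injective H.1).finrank_eq]
    exact H.2
  · exact (Submodule.map_comap_subtype _ _).trans (inf_eq_right.2 H.2.1)
  · exact Submodule.comap_map_eq_of_injective M.subtype_injective _

/-- hyperplanes containing a subspace -/
theorem card_hyps_ge [Finite K] {W : Type*} [AddCommGroup W] [Module K W] [FiniteDimensional K W] (U : Submodule K W) :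
    Nat.card {H : Submodule K W // U ≤ H ∧ finrank K H + 1 = finrank K W} =
      gn (Nat.card K) (finrank K W - finrank K U) := by
  have hq : finrank K (W ⧸ U) = finrank K W - finrank K U := by
    have := Submodule.finrank_quotient_add_finrank U
    omega
  have hle := Submodule.finrank_le U
  rw [← hq, ← card_hyps_top (K := K) (W := W ⧸ U)]
  have key : ∀ H : Submodule K (W ⧸ U), finrank K (H.comap U.mkQ) = finrank K H + finrank K U := by
    intro H
    have h1 := Submodule.finrank_quotient_add_finrank (H.comap U.mkQ)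
    have h2 := Submodule.finrank_quotient_add_finrank H
    have h3 : finrank K (W ⧸ H.comap U.mkQ) = finrank K ((W ⧸ U) ⧸ H) := by
      refine LinearEquiv.finrank_eq (LinearEquiv.ofBijective
        (Submodule.mapQ (H.comap U.mkQ) H U.mkQ le_rfl) ⟨?_, ?_⟩)
      · rw [← LinearMap.ker_eq_bot, Submodule.mapQ, Submodule.ker_liftQ, LinearMap.ker_comp, Submodule.ker_mkQ,
          Submodule.mkQ_map_self]
      · intro x
        obtain ⟨x, rfl⟩ := H.mkQ_surjective x
        obtain ⟨x, rfl⟩ := U.mkQ_surjective x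
        exact ⟨(H.comap U.mkQ).mkQ x, rfl⟩
    have h4 := Submodule.finrank_le (H.comap U.mkQ)
    have h5 := Submodule.finrank_le H
    omega
  refine Nat.card_congr
    { toFun := fun H => ⟨H.1.map U.mkQ, ?_⟩
      invFun := fun H => ⟨H.1.comap U.mkQ, ?_, ?_⟩
      left_inv := fun H => Subtype.ext ?_
      right_inv := fun H => Subtype.ext ?_ }
  · have h1 := key (H.1.map U.mkQ)
    have h2 : (H.1.map U.mkQ).comap U.mkQ = H.1 := by
      rw [Submodule.comap_map_eq, Submodule.ker_mkQ]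
      exact sup_eq_left.2 H.2.1
    rw [h2] at h1
    have := H.2.2
    omega
  · intro x hx
    rw [Submodule.mem_comap, Submodule.mkQ_apply, (Submodule.Quotient.mk_eq_zero U).2 hx]
    exact H.1.zero_mem
  · rw [key]
    have := H.2
    omega
  · change (H.1.map U.mkQ).comap U.mkQ = H.1
    rw [Submodule.comap_map_eq, Submodule.ker_mkQ]
    exact sup_eq_left.2 H.2.1
  · exact Submodule.map_comap_eq_of_surjective U.mkQ_surjective _

theorem card_hyps [Finite K] {U M : Submodule K V} (hUM : U ≤ M) :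
    Nat.card {H : Submodule K V // U ≤ H ∧ H ≤ M ∧ finrank K H + 1 = finrank K M} =
      gn (Nat.card K) (finrank K M - finrank K U) := by
  have h1 : finrank K (U.comap M.subtype) = finrank K U := (Submodule.comapSubtypeEquivOfLe hUM).finrank_eq
  rw [← h1, ← card_hyps_ge (K := K) (W := M)]
  refine Nat.card_congr
    { toFun := fun H => ⟨H.1.comap M.subtype, Submodule.comap_mono H.2.1, ?_⟩
      invFun := fun H => ⟨H.1.map M.subtype, ?_, Submodule.map_subtype_le _ _, ?_⟩
      left_inv := fun H => Subtype.ext ?_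
      right_inv := fun H => Subtype.ext ?_ }
  · rw [(Submodule.comapSubtypeEquivOfLe H.2.2.1).finrank_eq]
    exact H.2.2.2
  · have h2 := Submodule.map_mono (f := M.subtype) H.2.1
    rwa [Submodule.map_comap_subtype, inf_eq_right.2 hUM] at h2
  · rw [← (Submodule.equivMapOfInjective _ M.subtype_injective H.1).finrank_eq]
    exact H.2.2
  · exact (Submodule.map_comap_subtype _ _).trans (inf_eq_right.2 H.2.2.1)
  · exact Submodule.comap_map_eq_of_injective M.subtype_injective _

end Cfsg.Agent.H47.DP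
end

-- part: H47/DP/Alg
section
/-!
# S4612: the Hecke test (helper47)

`ρ` a representation of `G`, `A` an operator commuting with `ρ`, `one` a fixed vector, `v` a vector with
`∏ (A - θ j) v = c₀ • one`. If `B0 p G ⊆ B0 q G` then the `B0(p)`-part of `v` is determined up to the indices `j` for which
no central element of `ℤ[G]` separates `θ j` from `θ 0` modulo `q`.
-/

set_option autoImplicit false
set_option linter.unusedSectionVars false

open Cfsg Cfsg.Agent

namespace Cfsg.Agent.H47.DP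

open Cfsg.Agent.H317.PQ Cfsg.Agent.Blocks.Osima Cfsg.Agent.Blocks.Central Cfsg.Agent.Blocks.LocalRing
open Polynomial

universe u v

section key

variable {p q : ℕ} {G : Type u} [Group G] [Finite G] {M : Ideal AlgInt}
  {M0 : Type v} [AddCommGroup M0] [Module ℂ M0]

theorem one_mem_B0 (G : Type u) [Group G] [Finite G] (hp : p.Prime) :
    (⟨fun _ : G => (1 : ℂ), Cfsg.Agent.Blocks.Basic.isIrrCharacter_one⟩ : IrrCharacter G) ∈ B0 p G := by
  have : Fact p.Prime := ⟨hp⟩
  intro M hM
  have : M.IsPrime := isPrime hM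
  intro g
  rw [sub_self]
  exact memLocalIdeal_zero hM

/-- `z e_χ = ω_χ(z) e_χ` -/
theorem center_mul_irrIdem {z : MonoidAlgebra ℂ G} (hz : z ∈ Subalgebra.center ℂ (MonoidAlgebra ℂ G))
    (χ : IrrCharacter G) : z * irrIdem {χ} = omegaL (χ : G → ℂ) z • irrIdem {χ} := by
  classical
  refine eq_of_omegaL_eq (Subalgebra.mul_mem _ hz (irrIdem_mem_center _))
    (Subalgebra.smul_mem _ (irrIdem_mem_center _) _) fun ψ => ?_
  rw [omegaL_mul ψ.2 hz, map_smul, omegaL_irrIdem, smul_eq_mul]
  by_cases h : ψ = χ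
  · subst h; rfl
  · rw [if_neg (by simpa using h), mul_zero, mul_zero]

theorem omegaL_one_char {z : MonoidAlgebra ℂ G} (ρ : Representation ℂ G M0) {one : M0} (h1 : ∀ g, ρ g one = one) :
    ρ.asAlgebraHom z one = omegaL (fun _ : G => (1 : ℂ)) z • one := by
  induction z using MonoidAlgebra.induction_linear with
  | zero => simp
  | add x y hx hy => rw [map_add, LinearMap.add_apply, hx, hy, map_add, add_smul]
  | single x c =>
    rw [Representation.asAlgebraHom_single, LinearMap.smul_apply, h1, omegaL_eq, chExt_single, mul_one, div_one]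

theorem commute_asAlgebraHom (ρ : Representation ℂ G M0) {A : Module.End ℂ M0} (hA : ∀ g, Commute A (ρ g))
    (z : MonoidAlgebra ℂ G) : Commute A (ρ.asAlgebraHom z) := by
  induction z using MonoidAlgebra.induction_linear with
  | zero => rw [map_zero]; exact Commute.zero_right _
  | add x y hx hy => rw [map_add]; exact hx.add_right hy
  | single x c => rw [Representation.asAlgebraHom_single]; exact (hA x).smul_right c

theorem commute_aeval {R : Type*} [Ring R] [Algebra ℂ R] {A B : R} (h : Commute A B) (f : ℂ[X]) :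
    Commute (aeval A f) B := by
  induction f using Polynomial.induction_on' with
  | add f g hf hg => rw [map_add]; exact hf.add_left hg
  | monomial n c =>
    rw [aeval_monomial]
    exact (Algebra.commute_algebraMap_left c B).mul_left (h.pow_left n)

theorem aeval_apply_of_eigen {A : Module.End ℂ M0} {w : M0} {a : ℂ} (h : A w = a • w) (f : ℂ[X]) :
    aeval A f w = f.eval a • w := by
  induction f using Polynomial.induction_on' with
  | add f g hf hg => rw [map_add, LinearMap.add_apply, hf, hg, eval_add, add_smul]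
  | monomial n c =>
    have : ∀ n : ℕ, (A ^ n) w = a ^ n • w := by
      intro n
      induction n with
      | zero => simp
      | succ n ih => rw [pow_succ', Module.End.mul_apply, ih, map_smul, h, smul_smul, pow_succ, mul_comm]
    rw [aeval_monomial, Module.End.mul_apply, this, Module.algebraMap_end_apply, eval_monomial, smul_smul]

/-- a central element separates `θ j` and `θ 0` modulo `q` -/
def Sep (q : ℕ) (ρ : Representation ℂ G M0) (A : Module.End ℂ M0) (a b : ℤ) : Prop :=
  ∃ (z : MonoidAlgebra ℂ G) (f : ℤ[X]), z ∈ Subalgebra.center ℂ (MonoidAlgebra ℂ G) ∧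
    (∀ g, ∃ n : ℤ, z.coeff g = n) ∧ ρ.asAlgebraHom z = aeval A (f.map (Int.castRingHom ℂ)) ∧
    ¬ (q : ℤ) ∣ f.eval a - f.eval b

theorem inj_of_sep (hM : IsPModular q M) (ρ : Representation ℂ G M0) (A : Module.End ℂ M0)
    {one : M0} (h1 : ∀ g, ρ g one = one) (hone : one ≠ 0) {a b : ℤ} (hA1 : A one = (b : ℂ) • one)
    (hs : Sep q ρ A a b) {χ : IrrCharacter G} (hχ : χ ∈ B0 q G) {w : M0}
    (hw : ρ.asAlgebraHom (irrIdem {χ}) w = w) (hAw : A w = (a : ℂ) • w) : w = 0 := by
  obtain ⟨z, f, hz, hzc, hzf, hdvd⟩ := hs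
  by_contra hw0
  apply hdvd
  have e1 : ρ.asAlgebraHom z w = omegaL (χ : G → ℂ) z • w := by
    conv_lhs => rw [← hw]
    rw [← Module.End.mul_apply, ← map_mul, center_mul_irrIdem hz, map_smul, LinearMap.smul_apply, hw]
  have e2 : ρ.asAlgebraHom z w = ((f.eval a : ℤ) : ℂ) • w := by
    rw [hzf, aeval_apply_of_eigen hAw]
    congr 1
    rw [eval_map, eval₂_at_intCast, eq_intCast, Int.cast_id]
  have e3 : omegaL (fun _ : G => (1 : ℂ)) z • one = ((f.eval b : ℤ) : ℂ) • one := by
    rw [← omegaL_one_char ρ h1, hzf, aeval_apply_of_eigen hA1]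
    congr 1
    rw [eval_map, eval₂_at_intCast, eq_intCast, Int.cast_id]
  have e4 : omegaL (χ : G → ℂ) z = ((f.eval a : ℤ) : ℂ) := smul_left_injective ℂ hw0 (e1.symm.trans e2)
  have e5 : omegaL (fun _ : G => (1 : ℂ)) z = ((f.eval b : ℤ) : ℂ) := smul_left_injective ℂ hone e3
  have hb : SameBlock M (χ : G → ℂ) (fun _ : G => (1 : ℂ)) := by
    intro g
    exact memLocalIdeal_sub_comm.1 (hχ M hM g)
  have h := memLocalIdeal_omegaL_sub hM χ.2 Cfsg.Agent.Blocks.Basic.isIrrCharacter_one hb (a := z)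
    ⟨hz, fun g => by obtain ⟨n, hn⟩ := hzc g; rw [hn]; exact memLocalRing_intCast hM n⟩
  rw [e4, e5, ← Int.cast_sub] at h
  exact (memLocalIdeal_intCast_iff hM _).1 h

theorem irrIdem_finset (s : Finset (IrrCharacter G)) :
    irrIdem (s : Set (IrrCharacter G)) = ∑ χ ∈ s, irrIdem {χ} := by
  classical
  refine eq_of_omegaL_eq (irrIdem_mem_center _) (Subalgebra.sum_mem _ fun χ _ => irrIdem_mem_center _) fun ψ => ?_
  rw [map_sum, omegaL_irrIdem]
  simp only [omegaL_irrIdem, Set.mem_singleton_iff, Finset.mem_coe]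
  rw [Finset.sum_ite_eq]

theorem eq_zero_of_parts (ρ : Representation ℂ G M0) {w : M0}
    (h : ∀ χ : IrrCharacter G, ρ.asAlgebraHom (irrIdem {χ}) w = 0) : w = 0 := by
  classical
  have : Finite (IrrCharacter G) := Cfsg.Agent.Characters.Core.finite_irr
  have := Fintype.ofFinite (IrrCharacter G)
  have e1 : (1 : MonoidAlgebra ℂ G) = ∑ χ : IrrCharacter G, irrIdem {χ} := by
    rw [← irrIdem_univ, ← irrIdem_finset, Finset.coe_univ]
  have e2 : w = ρ.asAlgebraHom (1 : MonoidAlgebra ℂ G) w := by rw [map_one, Module.End.one_apply]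
  rw [e2, e1, map_sum, LinearMap.sum_apply]
  exact Finset.sum_eq_zero fun χ _ => h χ

theorem inj_prod (hM : IsPModular q M) (ρ : Representation ℂ G M0) (A : Module.End ℂ M0)
    (hA : ∀ g, Commute A (ρ g)) {one : M0} (h1 : ∀ g, ρ g one = one) (hone : one ≠ 0) {θ : ℕ → ℤ} {b : ℤ}
    (hA1 : A one = (b : ℂ) • one) {T : Finset ℕ} (hs : ∀ j ∈ T, Sep q ρ A (θ j) b) {χ : IrrCharacter G}
    (hχ : χ ∈ B0 q G) {w : M0} (hw : ρ.asAlgebraHom (irrIdem {χ}) w = w)
    (hAw : aeval A (∏ j ∈ T, (X - C (θ j : ℂ))) w = 0) : w = 0 := by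
  classical
  induction T using Finset.induction_on generalizing w with
  | empty => simpa only [_root_.map_intCast, _root_.Finset.prod_empty, _root_.map_one, _root_.Module.End.one_apply] using hAw
  | insert j T hj ih =>
    rw [Finset.prod_insert hj, map_mul, Module.End.mul_apply] at hAw
    refine ih (fun i hi => hs i (Finset.mem_insert_of_mem hi)) hw ?_
    refine inj_of_sep hM ρ A h1 hone hA1 (hs j (Finset.mem_insert_self _ _)) hχ ?_ ?_
    · have h2 := (commute_aeval (commute_asAlgebraHom ρ hA (irrIdem {χ}))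
        (∏ j ∈ T, (X - C (θ j : ℂ)))).eq
      have h3 := congrArg (fun F : Module.End ℂ M0 => F w) h2
      simp only [Module.End.mul_apply] at h3
      rw [hw] at h3
      exact h3.symm
    · rw [map_sub, aeval_X, aeval_C, LinearMap.sub_apply, Module.algebraMap_end_apply, sub_eq_zero] at hAw
      exact hAw

/-- **the Hecke test**, module form -/
theorem key (hp : p.Prime) (hM : IsPModular q M) (hpq : B0 p G ⊆ B0 q G) (ρ : Representation ℂ G M0)
    (A : Module.End ℂ M0) (hA : ∀ g, Commute A (ρ g)) {one v : M0} (h1 : ∀ g, ρ g one = one) (hone : one ≠ 0)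
    {θ : ℕ → ℤ} {b : ℤ} (hA1 : A one = (b : ℂ) • one) {S K : Finset ℕ} (hK : K ⊆ S) {c₀ : ℂ}
    (hv : aeval A (∏ j ∈ S, (X - C (θ j : ℂ))) v = c₀ • one) (hθ : ∀ j ∈ S, b ≠ θ j)
    (hs : ∀ j ∈ S, j ∉ K → Sep q ρ A (θ j) b) :
    aeval A (∏ j ∈ K, (X - C (θ j : ℂ))) (ρ.asAlgebraHom (irrIdem (B0 p G)) v) =
      (c₀ / ∏ j ∈ S \ K, ((b - θ j : ℤ) : ℂ)) • one := by
  classical
  have hE1 : ρ.asAlgebraHom (irrIdem (B0 p G)) one = one := by
    rw [omegaL_one_char ρ h1]
    have := omegaL_irrIdem_of_mem (one_mem_B0 G hp)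
    change omegaL (fun _ : G => (1 : ℂ)) _ = 1 at this
    rw [this, one_smul]
  have hev : ∀ T : Finset ℕ, aeval A (∏ j ∈ T, (X - C (θ j : ℂ))) one = (∏ j ∈ T, ((b - θ j : ℤ) : ℂ)) • one := by
    intro T
    rw [aeval_apply_of_eigen hA1, eval_prod]
    congr 1
    refine Finset.prod_congr rfl fun j _ => ?_
    rw [eval_sub, eval_X, eval_C, Int.cast_sub]
  have hne : ∀ T : Finset ℕ, T ⊆ S → (∏ j ∈ T, ((b - θ j : ℤ) : ℂ)) ≠ 0 := by
    intro T hT
    rw [Finset.prod_ne_zero_iff]
    intro j hj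
    rw [Int.cast_ne_zero, sub_ne_zero]
    exact hθ j (hT hj)
  obtain ⟨y, hy⟩ : ∃ y, y = ρ.asAlgebraHom (irrIdem (B0 p G)) v - (c₀ / ∏ j ∈ S, ((b - θ j : ℤ) : ℂ)) • one := ⟨_, rfl⟩
  have hEy : ρ.asAlgebraHom (irrIdem (B0 p G)) y = y := by
    rw [hy, map_sub, map_smul, hE1, ← Module.End.mul_apply, ← map_mul, irrIdem_mul_self]
  have hSy : aeval A (∏ j ∈ S, (X - C (θ j : ℂ))) y = 0 := by
    have h2 := (commute_aeval (commute_asAlgebraHom ρ hA (irrIdem (B0 p G))) (∏ j ∈ S, (X - C (θ j : ℂ)))).eq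
    have h3 := congrArg (fun F : Module.End ℂ M0 => F v) h2
    simp only [Module.End.mul_apply] at h3
    rw [hy, map_sub, h3, hv, map_smul, map_smul, hE1, hev, smul_smul, div_mul_cancel₀ _ (hne S subset_rfl), sub_self]
  have hKy : aeval A (∏ j ∈ K, (X - C (θ j : ℂ))) y = 0 := by
    refine eq_zero_of_parts ρ fun χ => ?_
    have hcomm := fun f : ℂ[X] => (commute_aeval (commute_asAlgebraHom ρ hA (irrIdem {χ})) f).eq
    have hcomm' : ∀ (f : ℂ[X]) (w : M0), aeval A f (ρ.asAlgebraHom (irrIdem {χ}) w) =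
        ρ.asAlgebraHom (irrIdem {χ}) (aeval A f w) := by
      intro f w
      have h3 := congrArg (fun F : Module.End ℂ M0 => F w) (hcomm f)
      simpa only [Module.End.mul_apply] using h3
    by_cases hχ : χ ∈ B0 p G
    · refine inj_prod hM ρ A hA h1 hone hA1 (T := S \ K)
        (fun j hj => hs j (Finset.mem_sdiff.1 hj).1 (Finset.mem_sdiff.1 hj).2) (hpq hχ) ?_ ?_
      · rw [← Module.End.mul_apply, ← map_mul, irrIdem_mul_self]
      · rw [hcomm', ← Module.End.mul_apply (aeval A _), ← map_mul, Finset.prod_sdiff hK, hSy, map_zero]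
    · have e1 : ρ.asAlgebraHom (irrIdem {χ}) y = 0 := by
        rw [← hEy, ← Module.End.mul_apply, ← map_mul, irrIdem_mul_irrIdem]
        have : ({χ} : Set (IrrCharacter G)) ∩ B0 p G = ∅ := by
          rw [Set.singleton_inter_eq_empty]
          exact hχ
        have h0 : irrIdem (∅ : Set (IrrCharacter G)) = 0 := by
          have := irrIdem_finset (∅ : Finset (IrrCharacter G))
          rwa [Finset.coe_empty, Finset.sum_empty] at this
        rw [this, h0, map_zero, LinearMap.zero_apply]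
      rw [← hcomm', e1, map_zero]
  have h4 : ρ.asAlgebraHom (irrIdem (B0 p G)) v = y + (c₀ / ∏ j ∈ S, ((b - θ j : ℤ) : ℂ)) • one := by
    rw [hy, sub_add_cancel]
  rw [h4, map_add, hKy, zero_add, map_smul, hev, smul_smul]
  congr 1
  rw [div_mul_eq_mul_div, ← Finset.prod_sdiff hK, mul_div_mul_right _ _ (hne K hK)]

end key

end Cfsg.Agent.H47.DP
end

-- part: H47/DP/Fn
section
/-!
# S4612: the Hecke test on functions on a finite `G`-set (helper47)
-/

set_option autoImplicit false
set_option linter.unusedSectionVars false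

open Cfsg Cfsg.Agent

namespace Cfsg.Agent.H47.DP

open Cfsg.Agent.H317.PQ Cfsg.Agent.Blocks.Osima Cfsg.Agent.Blocks.Central Cfsg.Agent.Blocks.LocalRing
open Polynomial

universe u v

section

variable {p q : ℕ} {G : Type u} [Group G] {X : Type v} [MulAction G X]

/-- the functions on `X` -/
noncomputable def fnRep (G : Type u) [Group G] (X : Type v) [MulAction G X] : Representation ℂ G (X → ℂ) where
  toFun g := LinearMap.funLeft ℂ ℂ (fun x => g⁻¹ • x)
  map_one' := by
    refine LinearMap.ext fun f => _root_.funext fun x => ?_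
    change f ((1 : G)⁻¹ • x) = f x
    rw [inv_one, one_smul]
  map_mul' g h := by
    refine LinearMap.ext fun f => _root_.funext fun x => ?_
    change f ((g * h)⁻¹ • x) = f (h⁻¹ • g⁻¹ • x)
    rw [mul_inv_rev, mul_smul]

theorem fnRep_apply (g : G) (f : X → ℂ) (x : X) : fnRep G X g f x = f (g⁻¹ • x) := rfl

variable [Fintype X]

/-- the operator of an integral matrix -/
noncomputable def op (a : X → X → ℤ) : Module.End ℂ (X → ℂ) where
  toFun f := fun x => ∑ y, (a x y : ℂ) * f y
  map_add' f g := by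
    funext x
    simp only [Pi.add_apply, mul_add, Finset.sum_add_distrib]
  map_smul' c f := by
    funext x
    simp only [Pi.smul_apply, smul_eq_mul, RingHom.id_apply, Finset.mul_sum]
    exact Finset.sum_congr rfl fun y _ => by ring

theorem op_apply (a : X → X → ℤ) (f : X → ℂ) (x : X) : op a f x = ∑ y, (a x y : ℂ) * f y := rfl

theorem commute_op {a : X → X → ℤ} (ha : ∀ (g : G) (x y : X), a (g • x) (g • y) = a x y) (g : G) :
    Commute (op a) (fnRep G X g) := by
  refine LinearMap.ext fun f => _root_.funext fun x => ?_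
  change op a (fnRep G X g f) x = fnRep G X g (op a f) x
  rw [op_apply, fnRep_apply, op_apply]
  refine Fintype.sum_equiv (MulAction.toPerm g⁻¹) _ _ fun y => ?_
  rw [fnRep_apply, MulAction.toPerm_apply, ha]

variable [Fintype G]

theorem asAlgebraHom_fn (z : MonoidAlgebra ℂ G) (f : X → ℂ) (x : X) :
    (fnRep G X).asAlgebraHom z f x = ∑ g : G, z.coeff g * f (g⁻¹ • x) := by
  classical
  induction z using MonoidAlgebra.induction_linear with
  | zero => simp only [_root_.map_zero, _root_.LinearMap.zero_apply, _root_.Pi.zero_apply, _root_.MonoidAlgebra.coeff_zero, _root_.Finsupp.coe_zero, _root_.MulZeroClass.zero_mul, _root_.Finset.sum_const_zero]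
  | add a b ha hb =>
    rw [map_add, LinearMap.add_apply, Pi.add_apply, ha, hb, ← Finset.sum_add_distrib]
    refine Finset.sum_congr rfl fun g _ => ?_
    rw [MonoidAlgebra.coeff_add, Finsupp.add_apply, add_mul]
  | single h c =>
    rw [Representation.asAlgebraHom_single, LinearMap.smul_apply, Pi.smul_apply, fnRep_apply, smul_eq_mul]
    rw [Finset.sum_eq_single h]
    · rw [MonoidAlgebra.coeff_single, Finsupp.single_apply, if_pos rfl]
    · intro g _ hg
      rw [MonoidAlgebra.coeff_single, Finsupp.single_apply, if_neg hg.symm, zero_mul]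
    · intro h'; exact absurd (Finset.mem_univ _) h'

/-- integral functions at `M` -/
def Loc (M : Ideal AlgInt) (f : X → ℂ) : Prop := ∀ x, MemLocalRing M (f x)

theorem loc_op {M : Ideal AlgInt} (hM : IsPModular p M) (a : X → X → ℤ) {f : X → ℂ} (hf : Loc M f) :
    Loc M (op a f) := fun x => by
  rw [op_apply]
  exact memLocalRing_sum hM _ _ fun y _ => memLocalRing_mul hM (memLocalRing_intCast hM _) (hf y)

theorem loc_prod {M : Ideal AlgInt} (hM : IsPModular p M) (a : X → X → ℤ) (θ : ℕ → ℤ) (K : Finset ℕ) {f : X → ℂ}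
    (hf : Loc M f) : Loc M (aeval (op a) (∏ j ∈ K, (Polynomial.X - C (θ j : ℂ))) f) := by
  classical
  induction K using Finset.induction_on with
  | empty => simpa only [_root_.map_intCast, _root_.Finset.prod_empty, _root_.map_one, _root_.Module.End.one_apply] using hf
  | insert j K hj ih =>
    rw [Finset.prod_insert hj, map_mul, Module.End.mul_apply, map_sub, aeval_X, aeval_C, LinearMap.sub_apply,
      Module.algebraMap_end_apply]
    intro x
    rw [Pi.sub_apply, Pi.smul_apply, smul_eq_mul]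
    exact memLocalRing_sub hM (loc_op hM a ih x) (memLocalRing_mul hM (memLocalRing_intCast hM _) (ih x))

theorem loc_alg {M : Ideal AlgInt} (hM : IsPModular p M) {f : X → ℂ} (hf : Loc M f) {z : MonoidAlgebra ℂ G}
    (hz : ∀ g, MemLocalRing M (z.coeff g)) : Loc M ((fnRep G X).asAlgebraHom z f) := fun x => by
  rw [asAlgebraHom_fn]
  exact memLocalRing_sum hM _ _ fun g _ => memLocalRing_mul hM (hz g) (hf _)

theorem B0_coeff (hp : p.Prime) {M : Ideal AlgInt} (hM : IsPModular p M) (g : G) :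
    MemLocalRing M ((irrIdem (B0 p G)).coeff g) := by
  have : Fact p.Prime := ⟨hp⟩
  rw [coeff_irrIdem, B0_eq hp hM]
  exact memLocalRing_blockCoeff hM Cfsg.Agent.Blocks.PrincipalSection.isPBlock_principalBlock g

/-- a rational number which is a local integer -/
theorem dvd_of_local {M : Ideal AlgInt} (hM : IsPModular p M) {n m : ℤ} {k : ℕ} (hm : m ≠ 0)
    (h : MemLocalRing M ((n : ℂ) / (m : ℂ))) (hk : (p : ℤ) ^ k ∣ m) : (p : ℤ) ^ k ∣ n := by
  have hp : p.Prime := prime hM
  obtain ⟨m', rfl⟩ := hk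
  have hpz : (p : ℤ) ≠ 0 := by exact_mod_cast hp.ne_zero
  rcases eq_or_ne n 0 with rfl | hn
  · exact dvd_zero _
  by_contra hcon
  obtain ⟨j, a, ha, rfl⟩ : ∃ (j : ℕ) (a : ℤ), ¬ (p : ℤ) ∣ a ∧ n = (p : ℤ) ^ j * a :=
    (Int.finiteMultiplicity_iff.2 ⟨by simpa using hp.one_lt.ne', hn⟩).exists_eq_pow_mul_and_not_dvd.elim
      fun a h => ⟨_, a, h.2, h.1⟩
  have hjk : j < k := by
    by_contra hjk
    exact hcon ((pow_dvd_pow _ (not_lt.1 hjk)).mul_right a)
  obtain ⟨i, rfl⟩ : ∃ i, k = j + 1 + i := ⟨k - (j + 1), by omega⟩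
  have hp0 : (p : ℂ) ≠ 0 := by exact_mod_cast hp.ne_zero
  have hm' : (m' : ℂ) ≠ 0 := by
    intro h0
    apply hm
    rw [Int.cast_eq_zero.1 h0, mul_zero]
  apply ha
  rw [← memLocalIdeal_intCast_iff hM]
  have e1 : (a : ℂ) = ((((p : ℤ) ^ j * a : ℤ) : ℂ) / (((p : ℤ) ^ (j + 1 + i) * m' : ℤ) : ℂ)) * (((p : ℤ) ^ i * m' : ℤ) : ℂ) * (p : ℂ) := by
    push_cast
    rw [eq_comm, div_mul_eq_mul_div, div_mul_eq_mul_div, div_eq_iff (mul_ne_zero (pow_ne_zero _ hp0) hm')]
    ring
  rw [e1]
  exact memLocalIdeal_mul_left hM (memLocalRing_mul hM h (memLocalRing_intCast hM _)) (memLocalIdeal_prime hM)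

/-- **the Hecke test** for functions on a `G`-set -/
theorem key_fn (hp : p.Prime) (hq : q.Prime) (hpq : B0 p G ⊆ B0 q G) [Nonempty X]
    {a : X → X → ℤ} (ha : ∀ (g : G) (x y : X), a (g • x) (g • y) = a x y) {θ : ℕ → ℤ} {b : ℤ}
    (hab : ∀ x, ∑ y, a x y = b) {v : X → ℤ} {S K : Finset ℕ} (hK : K ⊆ S) {c₀ : ℤ}
    (hv : aeval (op a) (∏ j ∈ S, (Polynomial.X - C (θ j : ℂ))) (fun x => (v x : ℂ)) = fun _ => (c₀ : ℂ))
    (hθ : ∀ j ∈ S, b ≠ θ j) (hs : ∀ j ∈ S, j ∉ K → Sep q (fnRep G X) (op a) (θ j) b)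
    {k : ℕ} (hk : (p : ℤ) ^ k ∣ ∏ j ∈ S \ K, (b - θ j)) : (p : ℤ) ^ k ∣ c₀ := by
  obtain ⟨M, hM⟩ := Cfsg.Agent.Blocks.ExistsModular.exists_isPModular hq
  obtain ⟨M', hM'⟩ := Cfsg.Agent.Blocks.ExistsModular.exists_isPModular hp
  obtain ⟨x₀⟩ := ‹Nonempty X›
  have h1 := key hp hM hpq (fnRep G X) (op a) (commute_op ha) (one := fun _ : X => (1 : ℂ))
    (v := fun x => (v x : ℂ)) (fun g => rfl) (fun h => one_ne_zero (congrFun h x₀)) (b := b)
    (by
      funext x
      rw [op_apply, Pi.smul_apply, smul_eq_mul, ← hab x, Int.cast_sum, Finset.sum_mul]) hK (c₀ := (c₀ : ℂ))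
    (by
      rw [hv]
      funext x
      rw [Pi.smul_apply, smul_eq_mul, mul_one]) hθ hs
  have h2 : Loc M' (aeval (op a) (∏ j ∈ K, (Polynomial.X - C (θ j : ℂ)))
      ((fnRep G X).asAlgebraHom (irrIdem (B0 p G)) fun x => (v x : ℂ))) :=
    loc_prod hM' a θ K (loc_alg hM' (fun x => memLocalRing_intCast hM' _) (B0_coeff hp hM'))
  have h3 := h2 x₀
  rw [h1, Pi.smul_apply, smul_eq_mul, mul_one, ← Int.cast_prod] at h3
  refine dvd_of_local hM' ?_ h3 hk
  rw [Finset.prod_ne_zero_iff]
  intro j hj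
  exact sub_ne_zero.2 (hθ j (Finset.mem_sdiff.1 hj).1)

end

end Cfsg.Agent.H47.DP
end

-- part: H47/DP/Adj
section
/-!
# S4612: the dual polar graph (helper47)

`F : CForm K V` with Witt index `m`, every totally singular subspace of dimension `m - 1` lies in `E + 1` maximal ones.
`A v_U = θ_k v_U + ∑ v_U'` (`k = dim U`, `U'` the hyperplanes of `U`), `θ_k = E [m-k] - [k]`.
-/

set_option autoImplicit false
set_option linter.unusedSectionVars false

open Cfsg

namespace Cfsg.Agent.H47.DP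

open Cfsg.Agent.H477.HC Cfsg.Agent.H477.HC.CForm Cfsg.Agent.H53.HC Module

universe u v

variable {K : Type u} [Field K] {V : Type v} [AddCommGroup V] [Module K V] [FiniteDimensional K V] {F : CForm K V}

/-- adjacency -/
def Adj (m : ℕ) (M N : Submodule K V) : Prop := finrank K (M ⊓ N : Submodule K V) + 1 = m

theorem Adj.symm {m : ℕ} {M N : Submodule K V} (h : Adj m M N) : Adj m N M := by
  unfold Adj at h ⊢
  rwa [inf_comm]

theorem Adj.ne {m : ℕ} {M N : Submodule K V} (hM : finrank K M = m) (h : Adj m M N) : M ≠ N := by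
  rintro rfl
  unfold Adj at h
  rw [inf_idem] at h
  omega

/-- the data of a polar space of rank `m` -/
structure Pol (F : CForm K V) (m E : ℕ) : Prop where
  max : ∀ W : Submodule K V, F.TS W → finrank K W ≤ m
  ex : ∃ M, M ∈ F.Om m
  card : ∀ H : Submodule K V, F.TS H → finrank K H + 1 = m → Nat.card {N : F.Om m // H ≤ N.1} = E + 1

variable {m E : ℕ}

section

variable [Finite V]

theorem adj_of_ne {M N H : Submodule K V} (hM : finrank K M = m) (hN : finrank K N = m) (hH : finrank K H + 1 = m)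
    (h1 : H ≤ M) (h2 : H ≤ N) (hne : M ≠ N) : M ⊓ N = H := by
  have h3 : H ≤ M ⊓ N := le_inf h1 h2
  have h4 : finrank K (M ⊓ N : Submodule K V) < m := by
    rw [← hM]
    refine Submodule.finrank_lt_finrank_of_lt (lt_of_le_of_ne inf_le_left fun h => hne ?_)
    exact Submodule.eq_of_le_of_finrank_eq (inf_eq_left.1 h) (by rw [hM, hN])
  symm
  exact Submodule.eq_of_le_of_finrank_le h3 (by omega)

theorem card_ne (hP : Pol F m E) {M H : Submodule K V} (hM : M ∈ F.Om m) (hHM : H ≤ M) (hH : finrank K H + 1 = m) :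
    Nat.card {N : F.Om m // H ≤ N.1 ∧ M ≠ N.1} = E := by
  classical
  have := Fintype.ofFinite (F.Om m)
  have h1 := hP.card H (hM.1.mono hHM) hH
  rw [Nat.card_eq_fintype_card, Fintype.card_subtype] at h1 ⊢
  have h2 : (Finset.univ.filter fun N : F.Om m => H ≤ N.1 ∧ M ≠ N.1) =
      (Finset.univ.filter fun N : F.Om m => H ≤ N.1).erase ⟨M, hM⟩ := by
    ext N
    simp only [Finset.mem_filter, Finset.mem_univ, true_and, Finset.mem_erase, ne_eq, Subtype.ext_iff]
    constructor
    · rintro ⟨h, h'⟩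
      exact ⟨fun h0 => h' h0.symm, h⟩
    · rintro ⟨h, h'⟩
      exact ⟨h', fun h0 => h h0.symm⟩
  rw [h2, Finset.card_erase_of_mem (by simp only [hHM, _root_.Finset.mem_filter, _root_.Finset.mem_univ, _root_.and_self]), h1, Nat.add_sub_cancel]

variable [Finite K]

/-- neighbours containing `U ≤ M` -/
theorem card_nbr_le (hP : Pol F m E) {M U : Submodule K V} (hM : M ∈ F.Om m) (hU : U ≤ M) :
    Nat.card {N : F.Om m // Adj m M N.1 ∧ U ≤ N.1} = E * gn (Nat.card K) (m - finrank K U) := by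
  classical
  have := Fintype.ofFinite (F.Om m)
  have := Fintype.ofFinite (Submodule K V)
  have h1 := card_hyps hU
  rw [Nat.card_eq_fintype_card, Fintype.card_subtype, hM.2] at h1
  rw [Nat.card_eq_fintype_card, Fintype.card_subtype, ← h1]
  rw [Finset.card_eq_sum_card_fiberwise (f := fun N : F.Om m => M ⊓ N.1)
    (t := Finset.univ.filter fun H : Submodule K V => U ≤ H ∧ H ≤ M ∧ finrank K H + 1 = m)]
  · rw [Finset.sum_const_nat (m := E), mul_comm]
    intro H hH
    rw [Finset.mem_filter] at hH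
    obtain ⟨-, hUH, hHM, hH⟩ := hH
    rw [← card_ne hP hM hHM hH, Nat.card_eq_fintype_card, Fintype.card_subtype]
    congr 1
    ext N
    simp only [Finset.mem_filter, Finset.mem_univ, true_and]
    constructor
    · rintro ⟨⟨h2, h3⟩, h4⟩
      exact ⟨h4 ▸ inf_le_right, h2.ne hM.2⟩
    · rintro ⟨h2, h3⟩
      have h4 := adj_of_ne hM.2 N.2.2 hH hHM h2 h3
      refine ⟨⟨?_, hUH.trans h2⟩, h4⟩
      unfold Adj
      rw [h4]; exact hH
  · intro N hN
    simp only [Finset.coe_filter, Finset.mem_univ, true_and, Set.mem_ofPred_eq] at hN ⊢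
    exact ⟨le_inf hU hN.2, inf_le_left, hN.1⟩

/-- neighbours containing `U` when `M ∩ U` is a hyperplane of `U` -/
theorem card_nbr_one (hP : Pol F m E) {M U : Submodule K V} (hM : M ∈ F.Om m) (hU : F.TS U)
    (h : finrank K (M ⊓ U : Submodule K V) + 1 = finrank K U) :
    Nat.card {N : F.Om m // Adj m M N.1 ∧ U ≤ N.1} = 1 := by
  have hpm := proj_mem hP.max hM hU
  have hfi := finrank_inf_perp hP.max hM hU
  have key : ∀ N : Submodule K V, N ∈ F.Om m → Adj m M N → U ≤ N → M ⊓ N = M ⊓ F.perp U := by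
    intro N hN hadj hUN
    have h1 : M ⊓ N ≤ M ⊓ F.perp U := le_inf inf_le_left
      (inf_le_right.trans (hN.1.le_perp.trans (F.perp_anti hUN)))
    exact Submodule.eq_of_le_of_finrank_le h1 (by unfold Adj at hadj; omega)
  rw [Nat.card_eq_one_iff_unique]
  refine ⟨⟨fun N N' => ?_⟩, ⟨⟨⟨_, hpm⟩, ?_, le_sup_right⟩⟩⟩
  · have e : ∀ N : {N : F.Om m // Adj m M N.1 ∧ U ≤ N.1}, N.1.1 = (M ⊓ F.perp U) ⊔ U := by
      intro N
      symm
      refine Submodule.eq_of_le_of_finrank_eq (sup_le ?_ N.2.2) (by rw [hpm.2, N.1.2.2])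
      rw [← key N.1.1 N.1.2 N.2.1 N.2.2]
      exact inf_le_right
    exact Subtype.ext (Subtype.ext ((e N).trans (e N').symm))
  · have hne : M ≠ (M ⊓ F.perp U) ⊔ U := by
      intro h0
      have : U ≤ M := by rw [h0]; exact le_sup_right
      rw [inf_eq_right.2 this] at h
      omega
    have h2 := adj_of_ne hM.2 hpm.2 (H := M ⊓ F.perp U) (by omega) inf_le_left le_sup_left hne
    unfold Adj
    rw [h2]
    omega

theorem card_nbr_zero {M U : Submodule K V}
    (h : finrank K (M ⊓ U : Submodule K V) + 1 < finrank K U) :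
    Nat.card {N : F.Om m // Adj m M N.1 ∧ U ≤ N.1} = 0 := by
  refine @Nat.card_of_isEmpty _ ⟨fun N => ?_⟩
  obtain ⟨N, hadj, hUN⟩ := N
  have h1 := Submodule.finrank_sup_add_finrank_inf_eq (M ⊓ N.1) U
  have h2 : finrank K ((M ⊓ N.1) ⊔ U : Submodule K V) ≤ m :=
    (Submodule.finrank_mono (sup_le inf_le_right hUN)).trans N.2.2.le
  have h3 : finrank K (M ⊓ N.1 ⊓ U : Submodule K V) ≤ finrank K (M ⊓ U : Submodule K V) :=
    Submodule.finrank_mono (inf_le_inf_right _ inf_le_left)
  unfold Adj at hadj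
  omega

/-! ### the hyperplanes of `U` inside `M` -/

theorem card_sub_le {M U : Submodule K V} (hU : U ≤ M) :
    Nat.card {H : Submodule K V // (H ≤ U ∧ finrank K H + 1 = finrank K U) ∧ H ≤ M} =
      gn (Nat.card K) (finrank K U) := by
  rw [← card_hyps_le (M := U)]
  exact Nat.card_congr (Equiv.subtypeEquivRight fun H => ⟨fun h => h.1, fun h => ⟨h, h.1.trans hU⟩⟩)

theorem card_sub_one {M U : Submodule K V} (h : finrank K (M ⊓ U : Submodule K V) + 1 = finrank K U) :
    Nat.card {H : Submodule K V // (H ≤ U ∧ finrank K H + 1 = finrank K U) ∧ H ≤ M} = 1 := by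
  rw [Nat.card_eq_one_iff_unique]
  refine ⟨⟨fun H H' => ?_⟩, ⟨⟨M ⊓ U, ⟨inf_le_right, h⟩, inf_le_left⟩⟩⟩
  have e : ∀ H : {H : Submodule K V // (H ≤ U ∧ finrank K H + 1 = finrank K U) ∧ H ≤ M}, H.1 = M ⊓ U := by
    intro H
    exact Submodule.eq_of_le_of_finrank_eq (le_inf H.2.2 H.2.1.1) (by have := H.2.1.2; omega)
  exact Subtype.ext ((e H).trans (e H').symm)

theorem card_sub_zero {M U : Submodule K V} (h : finrank K (M ⊓ U : Submodule K V) + 1 < finrank K U) :
    Nat.card {H : Submodule K V // (H ≤ U ∧ finrank K H + 1 = finrank K U) ∧ H ≤ M} = 0 := by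
  refine @Nat.card_of_isEmpty _ ⟨fun H => ?_⟩
  have h1 : finrank K H.1 ≤ finrank K (M ⊓ U : Submodule K V) :=
    Submodule.finrank_mono (le_inf H.2.2 H.2.1.1)
  have := H.2.1.2
  omega

/-- the eigenvalues -/
def th (Q m E k : ℕ) : ℤ := (E : ℤ) * gn Q (m - k) - gn Q k

theorem card_nbr (hP : Pol F m E) {M U : Submodule K V} (hM : M ∈ F.Om m) (hU : F.TS U) :
    (Nat.card {N : F.Om m // Adj m M N.1 ∧ U ≤ N.1} : ℤ) =
      th (Nat.card K) m E (finrank K U) * (Nat.card {_x : Unit // U ≤ M} : ℤ) +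
      (Nat.card {H : Submodule K V // (H ≤ U ∧ finrank K H + 1 = finrank K U) ∧ H ≤ M} : ℤ) := by
  by_cases h : U ≤ M
  · rw [card_nbr_le hP hM h, card_sub_le h]
    have : Nat.card {_x : Unit // U ≤ M} = 1 := by
      rw [Nat.card_eq_one_iff_unique]
      exact ⟨⟨fun a b => Subtype.ext rfl⟩, ⟨⟨(), h⟩⟩⟩
    rw [this]
    unfold th
    push_cast
    ring
  · have h0 : Nat.card {_x : Unit // U ≤ M} = 0 := @Nat.card_of_isEmpty _ ⟨fun x => h x.2⟩
    rw [h0, Nat.cast_zero, mul_zero, zero_add]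
    have h1 : finrank K (M ⊓ U : Submodule K V) < finrank K U :=
      Submodule.finrank_lt_finrank_of_lt (lt_of_le_of_ne inf_le_right fun h' => h (inf_eq_right.1 h'))
    rcases Nat.lt_or_ge (finrank K (M ⊓ U : Submodule K V) + 1) (finrank K U) with h2 | h2
    · rw [card_nbr_zero h2, card_sub_zero h2]
    · have h3 : finrank K (M ⊓ U : Submodule K V) + 1 = finrank K U := by omega
      rw [card_nbr_one hP hM hU h3, card_sub_one h3]

end

end Cfsg.Agent.H47.DP
end

private theorem dce_95b944a76c8c : _root_.True := by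
  try have : _root_.True := by simp only [_root_.Cfsg.Agent.Blocks.Osima.irrIdem.congr_simp]
  exact _root_.True.intro
end

-- part: H47/DP/El
section
prune_inst 0x343021044f2200000000201002005a32ba0000000040080000a20d0601882042000280410c80041a100280400034006812100000004000000484000000040501000016048049a011c20080000108610000200000000000000000000000000000204010000
set_option linter.all false
open scoped Cfsg.Agent.FastGrp

-- part: H47/DP/Edge
section
/-!
# S4612: the number of maximal subspaces on a totally singular subspace of dimension `m - 1` (helper47)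

`pol_of` : `Pol F m E` with `E = |ker T| * |K| ^ (dim V - 2 m)`.
-/

set_option autoImplicit false
set_option linter.unusedSectionVars false

open Cfsg

namespace Cfsg.Agent.H47.DP

open Cfsg.Agent.H477.HC Cfsg.Agent.H477.HC.CForm Cfsg.Agent.H53.HC Module

universe u v

variable {K : Type u} [Field K] {V : Type v} [AddCommGroup V] [Module K V] [FiniteDimensional K V] {F : CForm K V}

theorem sing_of_Q {v : V} (h : F.Q v = 0) : F.Sing v := ⟨h, F.alt v h⟩

theorem TS_span {v : V} (hv : F.Sing v) : F.TS (K ∙ v) := by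
  refine ⟨fun w hw => ?_, fun w hw w' hw' => ?_⟩
  · obtain ⟨a, rfl⟩ := Submodule.mem_span_singleton.1 hw
    rw [F.Q_smul, hv.1, mul_zero]
  · obtain ⟨a, rfl⟩ := Submodule.mem_span_singleton.1 hw
    obtain ⟨b, rfl⟩ := Submodule.mem_span_singleton.1 hw'
    rw [F.B_smul_left, F.B_smul_right, hv.2, mul_zero, mul_zero]

variable {m : ℕ} (hmax : ∀ W : Submodule K V, F.TS W → finrank K W ≤ m)

theorem exists_sub {M : Submodule K V} {u : ℕ} (hu : u ≤ finrank K M) : ∃ U ≤ M, finrank K U = u := by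
  let b := finBasis K M
  let f : Fin u → V := fun i => (b (Fin.castLE hu i) : V)
  have hli : LinearIndependent K f :=
    (b.linearIndependent.map' M.subtype (Submodule.ker_subtype _)).comp _ (Fin.castLE_injective _)
  refine ⟨Submodule.span K (Set.range f), ?_, ?_⟩
  · rw [Submodule.span_le]
    rintro _ ⟨i, rfl⟩
    exact (b _).2
  · rw [finrank_span_eq_card hli, Fintype.card_fin]

theorem exists_ge (hex : ∃ M, M ∈ F.Om m) {H : Submodule K V} (hH : F.TS H) {k : ℕ} (hk : finrank K H = k)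
    (hkm : k ≤ m) : ∃ M ∈ F.Om m, H ≤ M := by
  obtain ⟨M₀, hM₀⟩ := hex
  obtain ⟨H₀, hH₀, hf⟩ := exists_sub (K := K) (M := M₀) (u := k) (by rw [hM₀.2]; exact hkm)
  obtain ⟨g, hg⟩ := F.trans_Om (k := k) ⟨hM₀.1.mono hH₀, hf⟩ ⟨hH, hk⟩
  exact ⟨_, F.Om_map g M₀ hM₀, by rw [← hg]; exact Submodule.map_mono hH₀⟩

theorem finrank_sup_span {H : Submodule K V} {v : V} (hv : v ∉ H) : finrank K (H ⊔ K ∙ v : Submodule K V) =
    finrank K H + 1 := by
  have h1 := Submodule.finrank_sup_add_finrank_inf_eq H (K ∙ v)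
  have h2 : H ⊓ K ∙ v = ⊥ := by
    rw [Submodule.eq_bot_iff]
    rintro x ⟨hx, hx'⟩
    obtain ⟨a, rfl⟩ := Submodule.mem_span_singleton.1 hx'
    rcases eq_or_ne a 0 with rfl | ha
    · exact zero_smul _ _
    · exact absurd ((Submodule.smul_mem_iff _ ha).1 hx) hv
  have h3 : finrank K (K ∙ v) = 1 := finrank_span_singleton (by rintro rfl; exact hv H.zero_mem)
  rw [h2, finrank_bot, h3] at h1
  omega

/-- a hyperbolic partner of `e` in `Hᗮ` -/
theorem exists_partner {H : Submodule K V} {e : V} (he : F.Sing e) (heH : e ∈ F.perp H) (hne : e ∉ H) :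
    ∃ f, F.Sing f ∧ f ∈ F.perp H ∧ F.B e f = 1 := by
  obtain ⟨f₁, h1, h2⟩ : ∃ f₁ ∈ F.perp H, F.B e f₁ ≠ 0 := by
    by_contra hcon
    push Not at hcon
    apply hne
    rw [← F.perp_perp H]
    exact hcon
  obtain ⟨f₂, h3, h4⟩ : ∃ f₂ ∈ F.perp H, F.B e f₂ = 1 := by
    refine ⟨F.σ (F.B e f₁)⁻¹ • f₁, (F.perp H).smul_mem _ h1, ?_⟩
    rw [F.B_smul_right, F.σσ, inv_mul_cancel₀ h2]
  obtain ⟨c, hc⟩ := F.Q_range f₂
  refine ⟨f₂ + c • e, ?_, (F.perp H).add_mem h3 ((F.perp H).smul_mem _ heH), ?_⟩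
  · apply sing_of_Q
    rw [F.Q_add, F.Q_smul, he.1, mul_zero, add_zero, F.B_smul_right, F.B_symm f₂ e, h4, map_one, mul_one, mul_comm,
      F.T_symm, hc, add_neg_cancel]
  · rw [F.B_add_right, F.B_smul_right, he.2, h4, mul_zero, add_zero]

variable [Finite V] [Finite K]

section
include hmax

theorem card_edge {M H : Submodule K V} (hM : M ∈ F.Om m) (hHM : H ≤ M) (hH : finrank K H + 1 = m) :
    Nat.card {N : F.Om m // H ≤ N.1 ∧ N.1 ≠ M} =
      Nat.card {t : K // F.T t = 0} * Nat.card K ^ (finrank K V - 2 * m) := by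
  classical
  have hHTS := hM.1.mono hHM
  -- `e`
  obtain ⟨e, heM, heH⟩ : ∃ e ∈ M, e ∉ H := by
    by_contra hcon
    push Not at hcon
    have := Submodule.finrank_mono (show M ≤ H from hcon)
    rw [hM.2] at this
    omega
  have he := hM.1.sing heM
  have hMe : H ⊔ K ∙ e = M := by
    refine Submodule.eq_of_le_of_finrank_eq (sup_le hHM ((Submodule.span_singleton_le_iff_mem _ _).2 heM)) ?_
    rw [finrank_sup_span heH, hM.2, hH]
  have hepH : e ∈ F.perp H := fun h hh => hM.1.2 e heM h (hHM hh)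
  obtain ⟨f, hf, hfH, hef⟩ := exists_partner he hepH heH
  have hfe : F.B f e = F.ε := by rw [F.B_symm, hef, map_one, mul_one]
  have hfM : f ∉ M := fun h => one_ne_zero (hef.symm.trans (hM.1.2 e heM f h))
  -- `D`
  obtain ⟨D, hD⟩ : ∃ D, D = F.perp (M ⊔ K ∙ f) := ⟨_, rfl⟩
  have hDm : ∀ d, d ∈ D ↔ d ∈ F.perp H ∧ F.B d e = 0 ∧ F.B d f = 0 := by
    intro d
    rw [hD, perp_sup, ← hMe, perp_sup]
    have hs : ∀ x : V, d ∈ F.perp (K ∙ x) ↔ F.B d x = 0 := by
      intro x
      constructor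
      · intro h; exact h x (Submodule.mem_span_singleton_self x)
      · intro h w hw
        obtain ⟨a, rfl⟩ := Submodule.mem_span_singleton.1 hw
        rw [F.B_smul_right, h, mul_zero]
    rw [Submodule.mem_inf, Submodule.mem_inf, hs, hs, and_assoc]
  have hDf : finrank K D + (m + 1) = finrank K V := by
    have h1 := finrank_perp F (M ⊔ K ∙ f)
    rw [← hD, finrank_sup_span hfM, hM.2] at h1
    exact h1
  have h2m : 2 * m ≤ finrank K V := by
    have h1 := finrank_perp F M
    have h2 := Submodule.finrank_mono hM.1.le_perp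
    rw [hM.2] at h1 h2
    omega
  -- the set `Z`
  let Z := {v : V // v ∈ F.perp H ∧ F.Sing v ∧ F.B e v = 1}
  have hZ1 : Nat.card Z = Nat.card D * Nat.card {t : K // F.T t = 0} := by
    choose α₀ hα₀ using fun d : V => F.Q_range d
    rw [← Nat.card_prod]
    refine Nat.card_congr
      { toFun := fun v => (⟨v.1 - f - F.B v.1 f • e, ?_⟩, ⟨F.B v.1 f - α₀ (v.1 - f - F.B v.1 f • e), ?_⟩)
        invFun := fun x => ⟨f + (x.2.1 + α₀ x.1.1) • e + x.1.1, ?_, ?_, ?_⟩
        left_inv := fun v => Subtype.ext ?_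
        right_inv := fun x => Prod.ext (Subtype.ext ?_) (Subtype.ext ?_) }
    · obtain ⟨v, h1, h2, h3⟩ := v
      have hve : F.B v e = F.ε := by rw [F.B_symm, h3, map_one, mul_one]
      rw [hDm]
      refine ⟨(F.perp H).sub_mem ((F.perp H).sub_mem h1 hfH) ((F.perp H).smul_mem _ hepH), ?_, ?_⟩
      · rw [F.B_sub_left, F.B_sub_left, F.B_smul_left, hve, hfe, he.2, sub_self, mul_zero, sub_zero]
      · rw [F.B_sub_left, F.B_sub_left, F.B_smul_left, hf.2, hef, mul_one, sub_zero, sub_self]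
    · obtain ⟨v, h1, h2, h3⟩ := v
      have hve : F.B v e = F.ε := by rw [F.B_symm, h3, map_one, mul_one]
      rw [F.T_sub, hα₀, sub_neg_eq_add]
      obtain ⟨d, hd⟩ : ∃ d, d = v - f - F.B v f • e := ⟨_, rfl⟩
      have hdv : v = f + F.B v f • e + d := by rw [hd]; abel
      have hde : F.B d e = 0 := by
        rw [hd, F.B_sub_left, F.B_sub_left, F.B_smul_left, hve, hfe, he.2, sub_self, mul_zero, sub_zero]
      have hdf : F.B d f = 0 := by
        rw [hd, F.B_sub_left, F.B_sub_left, F.B_smul_left, hf.2, hef, mul_one, sub_zero, sub_self]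
      have h4 := h2.1
      rw [hdv, F.Q_add, F.Q_add, F.Q_smul, hf.1, he.1, mul_zero, add_zero, zero_add, F.B_smul_right, hfe, F.B_add_left,
        F.B_smul_left, F.B_eq_zero hdf, F.B_eq_zero hde, mul_zero, add_zero, F.T_zero, add_zero, mul_comm,
        F.T_symm] at h4
      change F.T (F.B v f) + F.Q (v - f - F.B v f • e) = 0
      rw [← hd]
      exact h4
    · obtain ⟨⟨d, hd⟩, ⟨t, ht⟩⟩ := x
      exact (F.perp H).add_mem ((F.perp H).add_mem hfH ((F.perp H).smul_mem _ hepH)) ((hDm d).1 hd).1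
    · obtain ⟨⟨d, hd⟩, ⟨t, ht⟩⟩ := x
      have h3 := (hDm d).1 hd
      apply sing_of_Q
      change F.Q (f + (t + α₀ d) • e + d) = 0
      rw [F.Q_add, F.Q_add, F.Q_smul, hf.1, he.1, mul_zero, add_zero, zero_add, F.B_smul_right, hfe, F.B_add_left,
        F.B_smul_left, F.B_eq_zero h3.2.2, F.B_eq_zero h3.2.1, mul_zero, add_zero, F.T_zero, add_zero, mul_comm,
        F.T_symm, F.T_add, ht, hα₀]
      ring
    · obtain ⟨⟨d, hd⟩, ⟨t, ht⟩⟩ := x
      have h3 := (hDm d).1 hd
      change F.B e (f + (t + α₀ d) • e + d) = 1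
      rw [F.B_add_right, F.B_add_right, F.B_smul_right, hef, he.2, F.B_eq_zero h3.2.1, mul_zero, add_zero, add_zero]
    · change f + (F.B v.1 f - α₀ (v.1 - f - F.B v.1 f • e) + α₀ (v.1 - f - F.B v.1 f • e)) • e +
        (v.1 - f - F.B v.1 f • e) = v.1
      rw [sub_add_cancel]
      abel
    · obtain ⟨⟨d, hd⟩, ⟨t, ht⟩⟩ := x
      have h3 := (hDm d).1 hd
      have h5 : F.B (f + (t + α₀ d) • e + d) f = t + α₀ d := by
        rw [F.B_add_left, F.B_add_left, F.B_smul_left, hf.2, hef, h3.2.2, mul_one, zero_add, add_zero]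
      change f + (t + α₀ d) • e + d - f - F.B (f + (t + α₀ d) • e + d) f • e = d
      rw [h5]
      abel
    · obtain ⟨⟨d, hd⟩, ⟨t, ht⟩⟩ := x
      have h3 := (hDm d).1 hd
      have h5 : F.B (f + (t + α₀ d) • e + d) f = t + α₀ d := by
        rw [F.B_add_left, F.B_add_left, F.B_smul_left, hf.2, hef, h3.2.2, mul_one, zero_add, add_zero]
      have h6 : f + (t + α₀ d) • e + d - f - F.B (f + (t + α₀ d) • e + d) f • e = d := by
        rw [h5]; abel
      change F.B (f + (t + α₀ d) • e + d) f - α₀ (f + (t + α₀ d) • e + d - f - F.B (f + (t + α₀ d) • e + d) f • e) = t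
      rw [h6, h5]
      ring
  -- the fibres
  have hZN : ∀ v : V, v ∈ F.perp H → F.Sing v → F.B e v = 1 → (H ⊔ K ∙ v) ∈ F.Om m ∧ (H ⊔ K ∙ v) ≠ M := by
    intro v h1 h2 h3
    have hvM : v ∉ M := fun h => one_ne_zero (h3.symm.trans (hM.1.2 e heM v h))
    refine ⟨⟨F.TS_sup hHTS (TS_span h2) fun h hh w hw => ?_, ?_⟩, ?_⟩
    · obtain ⟨a, rfl⟩ := Submodule.mem_span_singleton.1 hw
      rw [F.B_smul_right, F.B_eq_zero (h1 h hh), mul_zero]
    · rw [finrank_sup_span fun h => hvM (hHM h), hH]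
    · intro h
      apply hvM
      rw [← h]
      exact (le_sup_right : K ∙ v ≤ H ⊔ K ∙ v) (Submodule.mem_span_singleton_self v)
  have hZ2 : Nat.card Z = Nat.card {N : F.Om m // H ≤ N.1 ∧ N.1 ≠ M} * Nat.card H := by
    let π : Z → {N : F.Om m // H ≤ N.1 ∧ N.1 ≠ M} := fun v =>
      ⟨⟨H ⊔ K ∙ v.1, (hZN v.1 v.2.1 v.2.2.1 v.2.2.2).1⟩, le_sup_left, (hZN v.1 v.2.1 v.2.2.1 v.2.2.2).2⟩
    have : Finite Z := inferInstanceAs (Finite {v : V // v ∈ F.perp H ∧ F.Sing v ∧ F.B e v = 1})
    have := Fintype.ofFinite Z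
    have := Fintype.ofFinite {N : F.Om m // H ≤ N.1 ∧ N.1 ≠ M}
    rw [Nat.card_congr (Equiv.sigmaFiberEquiv π).symm, Nat.card_sigma, Finset.sum_congr rfl (g := fun _ => Nat.card H)]
    · rw [Finset.sum_const, smul_eq_mul, Finset.card_univ, ← Nat.card_eq_fintype_card]
    · rintro N -
      obtain ⟨⟨N, hN⟩, hHN, hNM⟩ := N
      -- a base point of the fibre
      obtain ⟨v₁, hv₁, hv₁'⟩ : ∃ v₁ ∈ N, F.B e v₁ ≠ 0 := by
        by_contra hcon
        push Not at hcon
        have h1 : e ∈ N := mem_of_perp hmax hN he hcon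
        apply hNM
        symm
        refine Submodule.eq_of_le_of_finrank_eq ?_ (by rw [hM.2, hN.2])
        rw [← hMe]
        exact sup_le hHN ((Submodule.span_singleton_le_iff_mem _ _).2 h1)
      obtain ⟨v₀, hv₀, hv₀'⟩ : ∃ v₀ ∈ N, F.B e v₀ = 1 := by
        refine ⟨F.σ (F.B e v₁)⁻¹ • v₁, N.smul_mem _ hv₁, ?_⟩
        rw [F.B_smul_right, F.σσ, inv_mul_cancel₀ hv₁']
      have hfib : ∀ v : V, v ∈ F.perp H → F.Sing v → F.B e v = 1 → (H ⊔ K ∙ v = N ↔ v ∈ N) := by
        intro v h1 h2 h3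
        constructor
        · intro h; rw [← h]; exact (le_sup_right : K ∙ v ≤ H ⊔ K ∙ v) (Submodule.mem_span_singleton_self v)
        · intro h
          refine Submodule.eq_of_le_of_finrank_eq (sup_le hHN ((Submodule.span_singleton_le_iff_mem _ _).2 h)) ?_
          rw [(hZN v h1 h2 h3).1.2, hN.2]
      have hdiff : ∀ v ∈ N, F.B e v = 0 → v ∈ H := by
        intro v hv h0
        have hve : F.B v e = 0 := F.B_eq_zero h0
        have h1 : v ∈ F.perp M := by
          rw [← hMe, perp_sup]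
          refine ⟨fun h hh => hN.1.2 v hv h (hHN hh), fun w hw => ?_⟩
          obtain ⟨a, rfl⟩ := Submodule.mem_span_singleton.1 hw
          rw [F.B_smul_right, hve, mul_zero]
        have h2 : v ∈ M := mem_of_perp hmax hM (hN.1.sing hv) h1
        have h3 : M ⊓ N = H := adj_of_ne hM.2 hN.2 hH hHM hHN fun h => hNM h.symm
        rw [← h3]
        exact ⟨h2, hv⟩
      refine Nat.card_congr
        { toFun := fun v => ⟨v.1.1 - v₀, ?_⟩
          invFun := fun h => ⟨⟨h.1 + v₀, ?_, ?_, ?_⟩, ?_⟩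
          left_inv := fun v => Subtype.ext (Subtype.ext ?_)
          right_inv := fun h => Subtype.ext ?_ }
      · obtain ⟨⟨v, h1, h2, h3⟩, h4⟩ := v
        have h5 : H ⊔ K ∙ v = N := congrArg (fun N : {N : F.Om m // H ≤ N.1 ∧ N.1 ≠ M} => N.1.1) h4
        refine hdiff _ (N.sub_mem ((hfib v h1 h2 h3).1 h5) hv₀) ?_
        change F.B e (v - v₀) = 0
        rw [F.B_sub_right, h3, hv₀', sub_self]
      · exact fun w hw => hN.1.2 _ (N.add_mem (hHN h.2) hv₀) w (hHN hw)
      · exact hN.1.sing (N.add_mem (hHN h.2) hv₀)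
      · rw [F.B_add_right, hv₀', hM.1.2 e heM _ (hHM h.2), zero_add]
      · apply Subtype.ext
        apply Subtype.ext
        exact (hfib _ (fun w hw => hN.1.2 _ (N.add_mem (hHN h.2) hv₀) w (hHN hw))
          (hN.1.sing (N.add_mem (hHN h.2) hv₀))
          (by rw [F.B_add_right, hv₀', hM.1.2 e heM _ (hHM h.2), zero_add])).2 (N.add_mem (hHN h.2) hv₀)
      · exact sub_add_cancel _ _
      · exact add_sub_cancel_right _ _
  -- conclusion
  rw [hZ2] at hZ1
  have hcD : Nat.card D = Nat.card K ^ (finrank K V - 2 * m) * Nat.card K ^ (m - 1) := by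
    rw [Module.natCard_eq_pow_finrank (K := K) (V := D), ← pow_add]
    congr 1
    omega
  have hcH : Nat.card H = Nat.card K ^ (m - 1) := by
    rw [Module.natCard_eq_pow_finrank (K := K) (V := H)]
    congr 1
    omega
  rw [hcD, hcH] at hZ1
  have hpos : 0 < Nat.card K ^ (m - 1) := pow_pos Nat.card_pos _
  apply Nat.eq_of_mul_eq_mul_right hpos
  rw [hZ1]
  ring

/-- **the polar space of a form** -/
theorem pol_of (hex : ∃ M, M ∈ F.Om m) :
    Pol F m (Nat.card {t : K // F.T t = 0} * Nat.card K ^ (finrank K V - 2 * m)) := by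
  classical
  refine ⟨hmax, hex, fun H hH hf => ?_⟩
  obtain ⟨M, hM, hHM⟩ := exists_ge hex hH (k := m - 1) (by omega) (by omega)
  have := Fintype.ofFinite (F.Om m)
  rw [← card_edge hmax hM hHM hf, Nat.card_eq_fintype_card, Nat.card_eq_fintype_card, Fintype.card_subtype,
    Fintype.card_subtype]
  have h2 : (Finset.univ.filter fun N : F.Om m => H ≤ N.1 ∧ N.1 ≠ M) =
      (Finset.univ.filter fun N : F.Om m => H ≤ N.1).erase ⟨M, hM⟩ := by
    ext N
    simp only [Finset.mem_filter, Finset.mem_univ, true_and, Finset.mem_erase, ne_eq, Subtype.ext_iff]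
    exact and_comm
  rw [h2, Finset.card_erase_of_mem (by simp only [hHM, _root_.Finset.mem_filter, _root_.Finset.mem_univ, _root_.and_self]), Nat.sub_add_cancel]
  exact Finset.card_pos.2 ⟨⟨M, hM⟩, by simp only [hHM, _root_.Finset.mem_filter, _root_.Finset.mem_univ, _root_.and_self]⟩

end

end Cfsg.Agent.H47.DP
end

-- part: H47/DP/Hecke
section
/-!
# S4612: the Hecke test on the dual polar graph (helper47)
-/

set_option autoImplicit false
set_option linter.unusedSectionVars false

open Cfsg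

namespace Cfsg.Agent.H47.DP

open Cfsg.Agent.H477.HC Cfsg.Agent.H477.HC.CForm Cfsg.Agent.H53.HC Module Cfsg.Agent.H317.PQ
open Polynomial

universe u v w

variable {K : Type u} [Field K] {V : Type v} [AddCommGroup V] [Module K V] [FiniteDimensional K V] {F : CForm K V}
variable {m E : ℕ}

open scoped Classical in
/-- the adjacency matrix -/
noncomputable def adjm (F : CForm K V) (m : ℕ) (M N : F.Om m) : ℤ := if Adj m M.1 N.1 then 1 else 0

open scoped Classical in
/-- the indicator function of the maximal subspaces containing `U` -/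
noncomputable def ind (F : CForm K V) (m : ℕ) (U : Submodule K V) (N : F.Om m) : ℤ := if U ≤ N.1 then 1 else 0

variable [Finite K] [Finite V] [Fintype (F.Om m)]

theorem op_ind (hP : Pol F m E) {U : Submodule K V} (hU : F.TS U) (M : F.Om m) [Fintype (Submodule K V)]
    [DecidablePred fun H : Submodule K V => H ≤ U ∧ finrank K H + 1 = finrank K U] :
    op (adjm F m) (fun N => (ind F m U N : ℂ)) M = (th (Nat.card K) m E (finrank K U) : ℂ) * (ind F m U M : ℂ) +
      ∑ H ∈ Finset.univ.filter (fun H : Submodule K V => H ≤ U ∧ finrank K H + 1 = finrank K U), (ind F m H M : ℂ) := by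
  classical
  have h1 := card_nbr hP M.2 hU
  have e1 : (Nat.card {N : F.Om m // Adj m M.1 N.1 ∧ U ≤ N.1} : ℤ) = ∑ N, adjm F m M N * ind F m U N := by
    rw [Nat.card_eq_fintype_card, Fintype.card_subtype, Finset.card_filter, Nat.cast_sum]
    refine Finset.sum_congr rfl fun N _ => ?_
    unfold adjm ind
    by_cases h : Adj m M.1 N.1 <;> by_cases h' : U ≤ N.1 <;> simp only [h, h', _root_.and_self, ↓ _root_.reduceIte, _root_.Nat.cast_one, _root_.mul_one, _root_.and_false, _root_.CharP.cast_eq_zero, _root_.MulZeroClass.mul_zero, _root_.and_true]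
  have e2 : (Nat.card {_x : Unit // U ≤ M.1} : ℤ) = ind F m U M := by
    unfold ind
    by_cases h : U ≤ M.1
    · rw [if_pos h]
      have : Nat.card {_x : Unit // U ≤ M.1} = 1 := by
        rw [Nat.card_eq_one_iff_unique]
        exact ⟨⟨fun a b => Subtype.ext rfl⟩, ⟨⟨(), h⟩⟩⟩
      rw [this, Nat.cast_one]
    · rw [if_neg h]
      have h0 : Nat.card {_x : Unit // U ≤ M.1} = 0 := @Nat.card_of_isEmpty _ ⟨fun x => h x.2⟩
      rw [h0, Nat.cast_zero]
  have e3 : (Nat.card {H : Submodule K V // (H ≤ U ∧ finrank K H + 1 = finrank K U) ∧ H ≤ M.1} : ℤ) =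
      ∑ H ∈ Finset.univ.filter (fun H : Submodule K V => H ≤ U ∧ finrank K H + 1 = finrank K U), ind F m H M := by
    rw [Nat.card_eq_fintype_card, Fintype.card_subtype, ← Finset.filter_filter, Finset.card_filter, Nat.cast_sum]
    refine Finset.sum_congr rfl fun H _ => ?_
    unfold ind
    by_cases h : H ≤ M.1 <;> simp [h]
  rw [e1, e2, e3] at h1
  rw [op_apply]
  have h2 := congrArg (Int.cast : ℤ → ℂ) h1
  push_cast at h2
  exact h2

/-- `∏ (A - θ_j) v_U` is constant -/
theorem prod_ind (hP : Pol F m E) : ∀ (u : ℕ) (U : Submodule K V), F.TS U → finrank K U = u →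
    aeval (op (adjm F m)) (∏ j ∈ Finset.Icc 1 u, (Polynomial.X - C (th (Nat.card K) m E j : ℂ)))
      (fun N => (ind F m U N : ℂ)) = fun _ => ((∏ j ∈ Finset.Icc 1 u, gn (Nat.card K) j : ℕ) : ℂ) := by
  classical
  have := Fintype.ofFinite (Submodule K V)
  intro u
  induction u with
  | zero =>
    intro U hU hu
    have hb : U = ⊥ := Submodule.finrank_eq_zero.1 hu
    simp only [Nat.reduceLT, Finset.Icc_eq_empty_of_lt, Finset.prod_empty, map_one, Module.End.one_apply, Nat.cast_one]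
    funext N
    rw [hb]
    simp only [ind, _root_.bot_le, ↓ _root_.reduceIte, _root_.Int.cast_one]
  | succ u ih =>
    intro U hU hu
    rw [Finset.prod_Icc_succ_top (by omega), map_mul, Module.End.mul_apply, map_sub, aeval_X, aeval_C,
      LinearMap.sub_apply, Module.algebraMap_end_apply]
    have e1 : (op (adjm F m)) (fun N => (ind F m U N : ℂ)) -
        (th (Nat.card K) m E (u + 1) : ℂ) • (fun N => (ind F m U N : ℂ)) =
        ∑ H ∈ Finset.univ.filter (fun H : Submodule K V => H ≤ U ∧ finrank K H + 1 = finrank K U),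
          fun N => (ind F m H N : ℂ) := by
      funext M
      rw [Pi.sub_apply, Pi.smul_apply, smul_eq_mul, op_ind hP hU, hu, add_sub_cancel_left, Finset.sum_apply]
    rw [e1, map_sum]
    have e2 : ∀ H ∈ Finset.univ.filter (fun H : Submodule K V => H ≤ U ∧ finrank K H + 1 = finrank K U),
        aeval (op (adjm F m)) (∏ j ∈ Finset.Icc 1 u, (Polynomial.X - C (th (Nat.card K) m E j : ℂ)))
          (fun N => (ind F m H N : ℂ)) = fun _ => ((∏ j ∈ Finset.Icc 1 u, gn (Nat.card K) j : ℕ) : ℂ) := by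
      intro H hH
      rw [Finset.mem_filter] at hH
      exact ih H (hU.mono hH.2.1) (by omega)
    rw [Finset.sum_congr rfl e2]
    funext N
    rw [Finset.sum_apply, Finset.sum_const, nsmul_eq_mul, Finset.prod_Icc_succ_top (by omega)]
    have h3 := card_hyps_le (M := U)
    rw [Nat.card_eq_fintype_card, Fintype.card_subtype, hu] at h3
    rw [hu, h3]
    push_cast
    ring

theorem gn_add (Q a b : ℕ) : gn Q (a + b) = gn Q a + Q ^ a * gn Q b := by
  unfold gn
  rw [Finset.sum_range_add, Finset.mul_sum]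
  congr 1
  exact Finset.sum_congr rfl fun i _ => by rw [pow_add]

theorem th_sub {Q j : ℕ} (hj : j ≤ m) : th Q m E 0 - th Q m E j = gn Q j * (E * Q ^ (m - j) + 1) := by
  unfold th
  obtain ⟨i, rfl⟩ := Nat.exists_eq_add_of_le hj
  rw [Nat.sub_zero, gn_zero, Nat.add_sub_cancel_left, add_comm j i, gn_add]
  push_cast
  ring

theorem op_one (hP : Pol F m E) (M : F.Om m) : ∑ N, adjm F m M N = th (Nat.card K) m E 0 := by
  classical
  have := Fintype.ofFinite (Submodule K V)
  have h1 := card_nbr hP M.2 (TS_bot F)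
  rw [finrank_bot] at h1
  have e1 : (Nat.card {N : F.Om m // Adj m M.1 N.1 ∧ ⊥ ≤ N.1} : ℤ) = ∑ N, adjm F m M N := by
    rw [Nat.card_eq_fintype_card, Fintype.card_subtype, Finset.card_filter, Nat.cast_sum]
    refine Finset.sum_congr rfl fun N _ => ?_
    unfold adjm
    by_cases h : Adj m M.1 N.1 <;> simp only [h, _root_.bot_le, _root_.and_self, ↓ _root_.reduceIte, _root_.Nat.cast_one, _root_.and_true, _root_.CharP.cast_eq_zero]
  have e2 : Nat.card {_x : Unit // (⊥ : Submodule K V) ≤ M.1} = 1 := by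
    rw [Nat.card_eq_one_iff_unique]
    exact ⟨⟨fun a b => Subtype.ext rfl⟩, ⟨⟨(), bot_le⟩⟩⟩
  have e3 : Nat.card {H : Submodule K V // (H ≤ ⊥ ∧ finrank K H + 1 = 0) ∧ H ≤ M.1} = 0 :=
    @Nat.card_of_isEmpty _ ⟨fun H => by have := H.2.1.2; omega⟩
  rw [e1, e2, e3] at h1
  simpa only [_root_.Nat.cast_one, _root_.mul_one, _root_.CharP.cast_eq_zero, _root_.add_zero] using h1

/-- cancelling in the `p`-part -/
theorem cancel {p : ℕ} (hp : p.Prime) {a b c : ℕ} (ha : a ≠ 0) (h : ∀ k, p ^ k ∣ a * b → p ^ k ∣ a * c) {k : ℕ}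
    (hk : p ^ k ∣ b) : p ^ k ∣ c := by
  obtain ⟨w, a', ha', rfl⟩ := Nat.exists_eq_pow_mul_and_not_dvd ha p hp.one_lt.ne'
  have h1 := h (w + k) (by
    rw [pow_add, mul_assoc]
    exact mul_dvd_mul_left _ (hk.mul_left _))
  rw [pow_add, mul_assoc] at h1
  have h2 := Nat.dvd_of_mul_dvd_mul_left (pow_pos hp.pos w) h1
  exact (Nat.Coprime.pow_left k ((Nat.Prime.coprime_iff_not_dvd hp).2 ha')).dvd_of_dvd_mul_left h2

/-- **the Hecke test** -/
theorem hecke {p q : ℕ} (hp : p.Prime) (hq : q.Prime) {G : Type w} [Group G] [Fintype G] [MulAction G (F.Om m)]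
    (hP : Pol F m E) (hadj : ∀ (g : G) (M N : F.Om m), Adj m (g • M).1 (g • N).1 ↔ Adj m M.1 N.1)
    (hpq : B0 p G ⊆ B0 q G) {u : ℕ} (hu : u ≤ m) {J : Finset ℕ} (hJ : J ⊆ Finset.Icc 1 u)
    (hs : ∀ j ∈ Finset.Icc 1 u, j ∉ J →
      Sep q (fnRep G (F.Om m)) (op (adjm F m)) (th (Nat.card K) m E j) (th (Nat.card K) m E 0))
    {k : ℕ} (hk : p ^ k ∣ ∏ j ∈ Finset.Icc 1 u \ J, (E * Nat.card K ^ (m - j) + 1)) :
    p ^ k ∣ ∏ j ∈ J, gn (Nat.card K) j := by
  classical
  obtain ⟨M₀, hM₀⟩ := hP.ex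
  have : Nonempty (F.Om m) := ⟨⟨M₀, hM₀⟩⟩
  -- a totally singular subspace of dimension `u`
  obtain ⟨U, hU, hUu⟩ : ∃ U : Submodule K V, F.TS U ∧ finrank K U = u := by
    let b := finBasis K M₀
    let f : Fin u → V := fun i => (b (Fin.castLE (by rw [hM₀.2]; exact hu) i) : V)
    have hli : LinearIndependent K f :=
      (b.linearIndependent.map' M₀.subtype (Submodule.ker_subtype _)).comp _ (Fin.castLE_injective _)
    refine ⟨Submodule.span K (Set.range f), hM₀.1.mono ?_, ?_⟩
    · rw [Submodule.span_le]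
      rintro _ ⟨i, rfl⟩
      exact (b _).2
    · rw [finrank_span_eq_card hli, Fintype.card_fin]
  refine cancel hp (a := ∏ j ∈ Finset.Icc 1 u \ J, gn (Nat.card K) j)
    (Finset.prod_ne_zero_iff.2 fun j hj => (gn_pos _ (by
      have := (Finset.mem_Icc.1 (Finset.mem_sdiff.1 hj).1).1
      omega)).ne') (fun k hk => ?_) hk
  rw [← Finset.prod_mul_distrib] at hk
  rw [Finset.prod_sdiff hJ]
  have hth : ∀ j ∈ Finset.Icc 1 u, th (Nat.card K) m E 0 - th (Nat.card K) m E j =
      ((gn (Nat.card K) j * (E * Nat.card K ^ (m - j) + 1) : ℕ) : ℤ) := by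
    intro j hj
    rw [th_sub ((Finset.mem_Icc.1 hj).2.trans hu)]
    push_cast
    ring
  have h1 := key_fn hp hq hpq (X := F.Om m) (a := adjm F m) (fun g M N => by
      unfold adjm
      by_cases h : Adj m M.1 N.1
      · rw [if_pos h, if_pos ((hadj g M N).2 h)]
      · rw [if_neg h, if_neg fun h' => h ((hadj g M N).1 h')])
    (θ := th (Nat.card K) m E) (op_one hP) (v := ind F m U) hJ
    (c₀ := ((∏ j ∈ Finset.Icc 1 u, gn (Nat.card K) j : ℕ) : ℤ))
    (by rw [prod_ind hP u U hU hUu]; norm_cast)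
    (fun j hj h0 => by
      have h2 := hth j hj
      rw [h0, sub_self] at h2
      have h3 : gn (Nat.card K) j * (E * Nat.card K ^ (m - j) + 1) ≠ 0 :=
        Nat.mul_ne_zero (gn_pos _ (Finset.mem_Icc.1 hj).1).ne' (Nat.succ_ne_zero _)
      exact h3 (by exact_mod_cast h2.symm))
    hs (k := k) (by
      rw [Finset.prod_congr rfl fun j hj => hth j (Finset.mem_sdiff.1 hj).1]
      exact_mod_cast hk)
  exact_mod_cast h1

end Cfsg.Agent.H47.DP
end

-- part: H47/DP/Sum
section
/-!
# S4612: central elements from invariant families (helper47)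
-/

set_option autoImplicit false
set_option linter.unusedSectionVars false

open Cfsg

namespace Cfsg.Agent.H47.DP

open Cfsg.Agent.Blocks.Osima Cfsg.Agent.Blocks.Central Cfsg.Agent.Blocks.LocalRing
open Polynomial

universe u v w

section

variable {G : Type u} [Group G] [Finite G] {M0 : Type v} [AddCommGroup M0] [Module ℂ M0]

/-- the sum of a family of group elements -/
noncomputable def famSum {ι : Type w} [Fintype ι] (s : ι → G) : MonoidAlgebra ℂ G :=
  ∑ i, MonoidAlgebra.single (s i) 1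

theorem famSum_coeff {ι : Type w} [Fintype ι] (s : ι → G) (g : G) : ∃ n : ℤ, (famSum s).coeff g = n := by
  classical
  refine ⟨∑ i, if s i = g then 1 else 0, ?_⟩
  unfold famSum
  rw [← Finsupp.applyAddHom_apply, MonoidAlgebra.coeff_sum, map_sum]
  push_cast
  refine Finset.sum_congr rfl fun i _ => ?_
  rw [Finsupp.applyAddHom_apply, MonoidAlgebra.coeff_single, Finsupp.single_apply]

theorem famSum_center {ι : Type w} [Fintype ι] {s : ι → G} (hs : ∀ g : G, ∃ π : Equiv.Perm ι, ∀ i, g * s i * g⁻¹ = s (π i)) :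
    famSum s ∈ Subalgebra.center ℂ (MonoidAlgebra ℂ G) := by
  rw [Subalgebra.mem_center_iff]
  intro b
  induction b using MonoidAlgebra.induction_linear with
  | zero => rw [zero_mul, mul_zero]
  | add x y hx hy => rw [add_mul, mul_add, hx, hy]
  | single g c =>
    obtain ⟨π, hπ⟩ := hs g
    unfold famSum
    rw [Finset.mul_sum, Finset.sum_mul]
    refine Fintype.sum_equiv π _ _ fun i => ?_
    rw [MonoidAlgebra.single_mul_single, MonoidAlgebra.single_mul_single, mul_one, one_mul, ← hπ, inv_mul_cancel_right]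

theorem famSum_rep {ι : Type w} [Fintype ι] (s : ι → G) (ρ : Representation ℂ G M0) :
    ρ.asAlgebraHom (famSum s) = ∑ i, ρ (s i) := by
  unfold famSum
  rw [map_sum]
  exact Finset.sum_congr rfl fun i _ => by rw [Representation.asAlgebraHom_single, one_smul]

theorem sep_of_fam {q : ℕ} {ρ : Representation ℂ G M0} {A : Module.End ℂ M0} {a b : ℤ} {ι : Type w} [Fintype ι] {s : ι → G}
    (hs : ∀ g : G, ∃ π : Equiv.Perm ι, ∀ i, g * s i * g⁻¹ = s (π i)) (f : ℤ[X])
    (hf : ∑ i, ρ (s i) = aeval A (f.map (Int.castRingHom ℂ))) (hq : ¬ (q : ℤ) ∣ f.eval a - f.eval b) :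
    Sep q ρ A a b :=
  ⟨famSum s, f, famSum_center hs, famSum_coeff s, by rw [famSum_rep, hf], hq⟩

end

section

variable {X : Type v} [Fintype X]

/-- the permutation operator -/
noncomputable def permOp (T : Equiv.Perm X) : Module.End ℂ (X → ℂ) := LinearMap.funLeft ℂ ℂ T.symm

theorem permOp_apply (T : Equiv.Perm X) (f : X → ℂ) (x : X) : permOp T f x = f (T.symm x) := rfl

theorem fnRep_eq_permOp {G : Type u} [Group G] [MulAction G X] (g : G) : fnRep G X g = permOp (MulAction.toPerm g) := rfl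

theorem permOp_mul (S T : Equiv.Perm X) : permOp (S * T) = permOp S * permOp T := rfl

theorem sum_permOp {ι : Type w} [Fintype ι] (T : ι → Equiv.Perm X) (b : X → X → ℤ)
    (h : ∀ x y, (Nat.card {i // T i y = x} : ℤ) = b x y) : ∑ i, permOp (T i) = op b := by
  classical
  refine LinearMap.ext fun f => _root_.funext fun x => ?_
  rw [LinearMap.sum_apply, Finset.sum_apply, op_apply]
  have h1 : ∀ i, permOp (T i) f x = ∑ y, if T i y = x then f y else 0 := by
    intro i
    rw [permOp_apply, Finset.sum_eq_single ((T i).symm x)]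
    · rw [if_pos (Equiv.apply_symm_apply _ _)]
    · intro y _ hy
      rw [if_neg]
      rintro rfl
      exact hy (Equiv.symm_apply_apply _ _).symm
    · intro h'; exact absurd (Finset.mem_univ _) h'
  simp only [h1]
  rw [Finset.sum_comm]
  refine Finset.sum_congr rfl fun y _ => ?_
  rw [← Finset.sum_filter, Finset.sum_const, nsmul_eq_mul, ← h x y, Nat.card_eq_fintype_card, Fintype.card_subtype]
  norm_cast

/-- `a + c A` -/
theorem op_lin [DecidableEq X] (b : X → X → ℤ) (a c : ℤ) :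
    op (fun x y => a * (if x = y then 1 else 0) + c * b x y) =
      aeval (op b) ((C a + C c * Polynomial.X : ℤ[X]).map (Int.castRingHom ℂ)) := by
  refine LinearMap.ext fun f => _root_.funext fun x => ?_
  rw [Polynomial.map_add, Polynomial.map_mul, map_C, map_C, map_X, map_add, map_mul, aeval_C, aeval_C, aeval_X,
    LinearMap.add_apply, Module.End.mul_apply, Module.algebraMap_end_apply, Module.algebraMap_end_apply, Pi.add_apply,
    Pi.smul_apply, Pi.smul_apply, op_apply, op_apply, smul_eq_mul, smul_eq_mul, Finset.mul_sum]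
  push_cast
  simp only [add_mul, Finset.sum_add_distrib]
  congr 1
  · rw [Finset.sum_eq_single x]
    · simp
    · intro y _ hy
      rw [if_neg hy.symm]
      ring
    · intro h'; exact absurd (Finset.mem_univ _) h'
  · refine Finset.sum_congr rfl fun y _ => ?_
    simp only [eq_intCast]
    ring

end

end Cfsg.Agent.H47.DP
end

-- part: H47/DP/Tv
section
/-!
# S4612: transvections and reflections on the dual polar graph (helper47)

`tv κ v : x ↦ x + κ B(x,v) v` for `v` with `Q v = τ`, `T(-κ⁻¹) = τ`.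
-/

set_option autoImplicit false
set_option linter.unusedSectionVars false

open Cfsg

namespace Cfsg.Agent.H47.DP

open Cfsg.Agent.H477.HC Cfsg.Agent.H477.HC.CForm Cfsg.Agent.H53.HC Module

universe u v

variable {K : Type u} [Field K] {V : Type v} [AddCommGroup V] [Module K V] [FiniteDimensional K V] {F : CForm K V}

/-- `x ↦ x + κ B(x,v) v` -/
def tv (F : CForm K V) (κ : K) (v : V) : V →ₗ[K] V where
  toFun x := x + (κ * F.B x v) • v
  map_add' x y := by rw [F.B_add_left]; module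
  map_smul' a x := by rw [F.B_smul_left, RingHom.id_apply]; module

theorem tv_apply (κ : K) (v x : V) : tv F κ v x = x + (κ * F.B x v) • v := rfl

/-- the vectors `v` with `Q v = τ` -/
def Sv (F : CForm K V) (τ : K) : Set V := {v | v ≠ 0 ∧ F.Q v = τ}

variable {m E : ℕ} {κ τ : K}

theorem adj_of_map {N M : Submodule K V} (hN : N ∈ F.Om m) (hM : M ∈ F.Om m) {v : V}
    (h : N.map (tv F κ v) = M) (hne : N ≠ M) : Adj m N M := by
  -- `N ∩ v^⊥` has codimension at most one and lies in `M`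
  let φ : N →ₗ[K] K := (F.lf v).comp N.subtype
  have h1 : (LinearMap.ker φ).map N.subtype ≤ N ⊓ M := by
    rintro _ ⟨x, hx, rfl⟩
    refine ⟨x.2, ?_⟩
    rw [← h]
    refine ⟨x, x.2, ?_⟩
    have hx' : F.B x v = 0 := hx
    rw [tv_apply, hx', mul_zero, zero_smul, add_zero]
    rfl
  have h2 : finrank K (LinearMap.ker φ) + 1 ≥ m := by
    have h3 := LinearMap.finrank_range_add_finrank_ker φ
    have h4 : finrank K (LinearMap.range φ) ≤ 1 := by
      have := Submodule.finrank_le (LinearMap.range φ)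
      rwa [finrank_self] at this
    rw [hN.2] at h3
    omega
  have h5 : finrank K ((LinearMap.ker φ).map N.subtype) = finrank K (LinearMap.ker φ) :=
    (Submodule.equivMapOfInjective _ N.subtype_injective _).finrank_eq.symm
  have h6 := Submodule.finrank_mono h1
  have h7 : finrank K (N ⊓ M : Submodule K V) < m := by
    rw [← hN.2]
    refine Submodule.finrank_lt_finrank_of_lt (lt_of_le_of_ne inf_le_left fun h0 => hne ?_)
    exact Submodule.eq_of_le_of_finrank_eq (inf_eq_left.1 h0) (by rw [hM.2, hN.2])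
  unfold Adj
  omega

variable [Finite V] [Finite K]

/-- the number of `v` moving `N` to its neighbour `M` -/
theorem card_adj (hP : Pol F m E) (hκ : κ ≠ 0) (hT : F.T (-κ⁻¹) = τ)
    (hg : ∀ v ∈ Sv F τ, ∃ g : F.iso, ∀ x, (g : V ≃ₗ[K] V) x = tv F κ v x) {N M : Submodule K V} (hN : N ∈ F.Om m)
    (hM : M ∈ F.Om m) (hadj : Adj m N M) :
    Nat.card {v : V // v ∈ Sv F τ ∧ N.map (tv F κ v) = M} = (Nat.card K - 1) * Nat.card K ^ (m - 1) := by
  classical
  obtain ⟨H, hHd⟩ : ∃ H, H = N ⊓ M := ⟨_, rfl⟩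
  have hHf : finrank K H + 1 = m := by rw [hHd]; exact hadj
  have hHN : H ≤ N := by rw [hHd]; exact inf_le_left
  have hHM : H ≤ M := by rw [hHd]; exact inf_le_right
  obtain ⟨x, hxN, hxM⟩ : ∃ x ∈ N, x ∉ M := by
    by_contra hcon
    push Not at hcon
    have : N ≤ M := hcon
    unfold Adj at hadj
    rw [inf_eq_left.2 this, hN.2] at hadj
    omega
  have hxH : x ∉ H := fun h => hxM (hHM h)
  have hNx : H ⊔ K ∙ x = N := by
    refine Submodule.eq_of_le_of_finrank_eq (sup_le hHN ((Submodule.span_singleton_le_iff_mem _ _).2 hxN)) ?_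
    rw [finrank_sup_span hxH, hN.2, hHf]
  have hx := hN.1.sing hxN
  obtain ⟨y, hyM, hxy⟩ : ∃ y ∈ M, F.B x y = 1 := by
    by_contra hcon
    push Not at hcon
    apply hxM
    refine mem_of_perp hP.max hM hx fun w hw => ?_
    by_contra h0
    refine hcon (F.σ (F.B x w)⁻¹ • w) (M.smul_mem _ hw) ?_
    rw [F.B_smul_right, F.σσ, inv_mul_cancel₀ h0]
  have hyN : y ∉ N := fun h => one_ne_zero (hxy.symm.trans (hN.1.2 x hxN y h))
  have hyH : y ∉ H := fun h => hyN (hHN h)
  have hMy : H ⊔ K ∙ y = M := by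
    refine Submodule.eq_of_le_of_finrank_eq (sup_le hHM ((Submodule.span_singleton_le_iff_mem _ _).2 hyM)) ?_
    rw [finrank_sup_span hyH, hM.2, hHf]
  have hy := hM.1.sing hyM
  -- the form on `α x + β y + h`
  have hB : ∀ (α β : K) (h : V), h ∈ H → F.B x (α • x + β • y + h) = F.σ β := by
    intro α β h hh
    rw [F.B_add_right, F.B_add_right, F.B_smul_right, F.B_smul_right, hx.2, hxy, hN.1.2 x hxN h (hHN hh)]
    ring
  have hQ : ∀ (α β : K) (h : V), h ∈ H → F.Q (α • x + β • y + h) = F.T (α * F.σ β) := by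
    intro α β h hh
    rw [F.Q_add, F.Q_add, F.Q_smul, F.Q_smul, hx.1, hy.1, hN.1.1 h (hHN hh), F.B_smul_left, F.B_smul_right, hxy,
      F.B_add_left, F.B_smul_left, F.B_smul_left, hN.1.2 x hxN h (hHN hh), hM.1.2 y hyM h (hHM hh)]
    simp
  have hκi : -κ⁻¹ ≠ 0 := neg_ne_zero.2 (inv_ne_zero hκ)
  -- `σ` is injective
  have hσ0 : ∀ β, F.σ β = 0 → β = 0 := fun β h => by
    have := congrArg F.σ h
    rwa [F.σσ, map_zero] at this
  have hfwd : ∀ v : V, v ∈ Sv F τ → N.map (tv F κ v) = M → ∃ α : K, α ≠ 0 ∧ ∃ h ∈ H,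
      v = α • x + F.σ (-κ⁻¹ * α⁻¹) • y + h := by
    intro v hv hNM
    have h1 : tv F κ v x ∈ M := by rw [← hNM]; exact ⟨x, hxN, rfl⟩
    rw [tv_apply] at h1
    have h2 : F.B x v ≠ 0 := by
      intro h0
      rw [h0, mul_zero, zero_smul, add_zero] at h1
      exact hxM h1
    have h3 : κ * F.B x v ≠ 0 := mul_ne_zero hκ h2
    have h4 : (κ * F.B x v)⁻¹ • (x + (κ * F.B x v) • v) ∈ M := M.smul_mem _ h1
    rw [← hMy] at h4
    obtain ⟨h, hh, w, hw, he⟩ := Submodule.mem_sup.1 h4
    obtain ⟨β, rfl⟩ := Submodule.mem_span_singleton.1 hw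
    rw [smul_add, smul_smul, inv_mul_cancel₀ h3, one_smul] at he
    have hv' : v = (-(κ * F.B x v)⁻¹) • x + β • y + h := by
      have h9 : v = h + β • y - (κ * F.B x v)⁻¹ • x := by rw [he]; abel
      refine h9.trans ?_
      module
    refine ⟨-(κ * F.B x v)⁻¹, neg_ne_zero.2 (inv_ne_zero h3), h, hh, ?_⟩
    have h5 : F.B x v = F.σ β := by
      conv_lhs => rw [hv']
      exact hB _ _ _ hh
    have h6 : F.σ (-κ⁻¹ * (-(κ * F.B x v)⁻¹)⁻¹) = β := by
      rw [← F.σσ β, ← h5]
      congr 1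
      field_simp
    rw [h6]
    exact hv'
  have hbwd : ∀ (α : K) (h : V), α ≠ 0 → h ∈ H → (α • x + F.σ (-κ⁻¹ * α⁻¹) • y + h) ∈ Sv F τ ∧
      N.map (tv F κ (α • x + F.σ (-κ⁻¹ * α⁻¹) • y + h)) = M := by
    intro α h hα hh
    obtain ⟨v, hv⟩ : ∃ v, v = α • x + F.σ (-κ⁻¹ * α⁻¹) • y + h := ⟨_, rfl⟩
    have h1 : F.B x v = -κ⁻¹ * α⁻¹ := by rw [hv, hB _ _ _ hh, F.σσ]
    rw [← hv]
    have hvs : v ∈ Sv F τ := by
      refine ⟨?_, ?_⟩
      · intro h0
        rw [h0, F.B_zero_right] at h1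
        exact mul_ne_zero hκi (inv_ne_zero hα) h1.symm
      · rw [hv, hQ _ _ _ hh, F.σσ, ← hT]
        congr 1
        field_simp
    refine ⟨hvs, ?_⟩
    have hle : N.map (tv F κ v) ≤ M := by
      rw [← hNx, Submodule.map_sup, Submodule.map_span, Set.image_singleton]
      refine sup_le ?_ ((Submodule.span_singleton_le_iff_mem _ _).2 ?_)
      · rintro _ ⟨h', hh', rfl⟩
        have h2 : F.B h' v = 0 := by
          rw [hv, F.B_add_right, F.B_add_right, F.B_smul_right, F.B_smul_right, hN.1.2 h' (hHN hh') x hxN,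
            hM.1.2 h' (hHM hh') y hyM, hN.1.2 h' (hHN hh') h (hHN hh)]
          ring
        rw [tv_apply, h2, mul_zero, zero_smul, add_zero]
        exact hHM hh'
      · rw [tv_apply, h1]
        have h3 : κ * (-κ⁻¹ * α⁻¹) = -α⁻¹ := by field_simp
        rw [h3]
        have h4 : x + (-α⁻¹) • v = (-α⁻¹) • (F.σ (-κ⁻¹ * α⁻¹) • y + h) := by
          have h5 : x = α⁻¹ • (α • x) := by rw [smul_smul, inv_mul_cancel₀ hα, one_smul]
          conv_lhs => rw [h5, hv]
          module
        rw [h4]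
        exact M.smul_mem _ (M.add_mem (M.smul_mem _ hyM) (hHM hh))
    have hinj : Function.Injective (tv F κ v) := by
      obtain ⟨g, hg'⟩ := hg v hvs
      intro a b hab
      rw [← hg', ← hg'] at hab
      exact (g : V ≃ₗ[K] V).injective hab
    refine Submodule.eq_of_le_of_finrank_eq hle ?_
    rw [← (Submodule.equivMapOfInjective _ hinj N).finrank_eq, hN.2, hM.2]
  have hcH : Nat.card H = Nat.card K ^ (m - 1) := by
    rw [Module.natCard_eq_pow_finrank (K := K) (V := H)]
    congr 1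
    omega
  rw [← hcH, ← Nat.card_units, ← Nat.card_prod]
  symm
  refine Nat.card_congr (Equiv.ofBijective (fun p : Kˣ × H =>
    (⟨(p.1 : K) • x + F.σ (-κ⁻¹ * (p.1 : K)⁻¹) • y + p.2, hbwd p.1 p.2 p.1.ne_zero p.2.2⟩ :
      {v : V // v ∈ Sv F τ ∧ N.map (tv F κ v) = M})) ⟨?_, ?_⟩)
  · rintro ⟨α, h⟩ ⟨α', h'⟩ he
    have he' := congrArg Subtype.val he
    change (α : K) • x + F.σ (-κ⁻¹ * (α : K)⁻¹) • y + (h : V) = (α' : K) • x + F.σ (-κ⁻¹ * (α' : K)⁻¹) • y + (h' : V) at he'
    have h1 := congrArg (F.B x) he'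
    rw [hB _ _ _ h.2, hB _ _ _ h'.2, F.σσ, F.σσ] at h1
    have h2 : (α : K) = α' := inv_injective (mul_left_cancel₀ hκi h1)
    rw [h2] at he'
    exact Prod.ext (Units.ext h2) (Subtype.ext (add_left_cancel he'))
  · rintro ⟨v, hv, hNM⟩
    obtain ⟨α, hα, h, hh, hve⟩ := hfwd v hv hNM
    exact ⟨(Units.mk0 α hα, ⟨h, hh⟩), Subtype.ext hve.symm⟩

end Cfsg.Agent.H47.DP
end

-- part: H47/DP/Act
section
/-!
# S4612: the tests with transvections and with products of two reflections (helper47)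
-/

set_option autoImplicit false
set_option linter.unusedSectionVars false

open Cfsg

namespace Cfsg.Agent.H47.DP

open Cfsg.Agent.H477.HC Cfsg.Agent.H477.HC.CForm Cfsg.Agent.H53.HC Module
open Polynomial

universe u v w

variable {K : Type u} [Field K] {V : Type v} [AddCommGroup V] [Module K V] [FiniteDimensional K V] {F : CForm K V}

/-- the permutations of the totally singular subspaces of dimension `m` -/
noncomputable def omHom (F : CForm K V) (m : ℕ) : F.iso →* Equiv.Perm (F.Om m) :=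
  @MulAction.toPermHom F.iso (F.Om m) _ (subAct F.iso.subtype (F.Om m) F.Om_map)

theorem omHom_val {m : ℕ} (g : F.iso) (M : F.Om m) :
    (omHom F m g M).1 = M.1.map (F.iso.subtype g : V →ₗ[K] V) := rfl

/-- `S` is a quotient of the subgroup `N` of the isometry group, acting on the maximal subspaces -/
structure Act (F : CForm K V) (m : ℕ) {S : Type w} [Group S] [MulAction S (F.Om m)] (N : Subgroup F.iso)
    (φ : N →* S) : Prop where
  surj : Function.Surjective φ
  perm : ∀ n : N, MulAction.toPerm (φ n) = omHom F m n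

theorem adj_map {m : ℕ} (g : F.iso) (M N : F.Om m) :
    Adj m (omHom F m g M).1 (omHom F m g N).1 ↔ Adj m M.1 N.1 := by
  unfold Adj
  have hinj : Function.Injective (F.iso.subtype g : V →ₗ[K] V) := (g : V ≃ₗ[K] V).injective
  rw [omHom_val, omHom_val, ← Submodule.map_inf _ hinj]
  have : finrank K ((M.1 ⊓ N.1 : Submodule K V).map (F.iso.subtype g : V →ₗ[K] V)) = finrank K (M.1 ⊓ N.1 : Submodule K V) :=
    LinearEquiv.finrank_map_eq (g : V ≃ₗ[K] V) _
  rw [this]

theorem Act.adj {m : ℕ} {S : Type w} [Group S] [MulAction S (F.Om m)] {N : Subgroup F.iso} {φ : N →* S}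
    (h : Act F m N φ) (s : S) (M M' : F.Om m) : Adj m (s • M).1 (s • M').1 ↔ Adj m M.1 M'.1 := by
  obtain ⟨n, rfl⟩ := h.surj s
  have e : ∀ M : F.Om m, φ n • M = omHom F m n M := fun M => by rw [← h.perm]; rfl
  rw [e, e, adj_map]

variable {m E : ℕ} {κ τ : K}

variable [Finite V] [Finite K] [Fintype (F.Om m)] [Fintype (Sv F τ)]

open scoped Classical in
theorem tv_matrix (hP : Pol F m E) (hκ : κ ≠ 0) (hT : F.T (-κ⁻¹) = τ) {g : Sv F τ → F.iso}
    (hg : ∀ v x, (g v : V ≃ₗ[K] V) x = tv F κ v x) (M N : F.Om m) :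
    (Nat.card {v : Sv F τ // omHom F m (g v) N = M} : ℤ) =
      ((Fintype.card (Sv F τ) : ℤ) - ((Nat.card K - 1) * Nat.card K ^ (m - 1) : ℕ) * th (Nat.card K) m E 0) *
        (if M = N then 1 else 0) + ((Nat.card K - 1) * Nat.card K ^ (m - 1) : ℕ) * adjm F m M N := by
  have hval : ∀ (v : Sv F τ) (M N : F.Om m), omHom F m (g v) N = M ↔ N.1.map (tv F κ v) = M.1 := by
    intro v M N
    rw [Subtype.ext_iff, omHom_val]
    have : (F.iso.subtype (g v) : V →ₗ[K] V) = tv F κ v := LinearMap.ext fun x => hg v x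
    rw [this]
  -- off the diagonal
  have hoff : ∀ M N : F.Om m, M ≠ N → (Nat.card {v : Sv F τ // omHom F m (g v) N = M} : ℤ) =
      ((Nat.card K - 1) * Nat.card K ^ (m - 1) : ℕ) * adjm F m M N := by
    intro M N hne
    by_cases hadj : Adj m M.1 N.1
    · have h1 := card_adj hP hκ hT (fun v hv => ⟨g ⟨v, hv⟩, hg ⟨v, hv⟩⟩) N.2 M.2 hadj.symm
      have h2 : Nat.card {v : Sv F τ // omHom F m (g v) N = M} =
          Nat.card {v : V // v ∈ Sv F τ ∧ N.1.map (tv F κ v) = M.1} := by
        refine Nat.card_congr ((Equiv.subtypeEquivRight fun v => hval v M N).trans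
          (Equiv.subtypeSubtypeEquivSubtypeInter (fun v => v ∈ Sv F τ) fun v => N.1.map (tv F κ v) = M.1))
      rw [h2, h1]
      unfold adjm
      rw [if_pos hadj, mul_one]
    · unfold adjm
      rw [if_neg hadj, mul_zero]
      have : Nat.card {v : Sv F τ // omHom F m (g v) N = M} = 0 := by
        refine @Nat.card_of_isEmpty _ ⟨fun v => hadj ?_⟩
        exact (adj_of_map N.2 M.2 ((hval v.1 M N).1 v.2) fun h => hne (Subtype.ext h.symm)).symm
      rw [this, Nat.cast_zero]
  by_cases hMN : M = N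
  · subst hMN
    rw [if_pos rfl, mul_one]
    have hself : adjm F m M M = 0 := by
      unfold adjm
      rw [if_neg fun h => h.ne M.2.2 rfl]
    rw [hself, mul_zero, add_zero]
    have htot : ∑ N : F.Om m, (Nat.card {v : Sv F τ // omHom F m (g v) N = M} : ℤ) = Fintype.card (Sv F τ) := by
      have h3 : ∀ N : F.Om m, (Nat.card {v : Sv F τ // omHom F m (g v) N = M} : ℤ) =
          ∑ v : Sv F τ, if omHom F m (g v) N = M then 1 else 0 := by
        intro N
        rw [Nat.card_eq_fintype_card, Fintype.card_subtype, Finset.card_filter, Nat.cast_sum]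
        exact Finset.sum_congr rfl fun v _ => by split_ifs <;> simp
      simp only [h3]
      rw [Finset.sum_comm]
      have h4 : ∀ v : Sv F τ, (∑ N : F.Om m, if omHom F m (g v) N = M then (1 : ℤ) else 0) = 1 := by
        intro v
        rw [Finset.sum_eq_single ((omHom F m (g v)).symm M)]
        · rw [if_pos (Equiv.apply_symm_apply _ _)]
        · intro N _ hN
          rw [if_neg]
          rintro rfl
          exact hN (Equiv.symm_apply_apply _ _).symm
        · intro h'; exact absurd (Finset.mem_univ _) h'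
      simp only [h4]
      rw [Finset.sum_const, Finset.card_univ]
      simp only [_root_.Set.fintypeCard_eq_ncard, _root_.Int.nsmul_eq_mul, _root_.mul_one]
    rw [← Finset.add_sum_erase _ _ (Finset.mem_univ M)] at htot
    have h5 : ∑ N ∈ Finset.univ.erase M, (Nat.card {v : Sv F τ // omHom F m (g v) N = M} : ℤ) =
        ((Nat.card K - 1) * Nat.card K ^ (m - 1) : ℕ) * th (Nat.card K) m E 0 := by
      rw [Finset.sum_congr rfl fun N hN => hoff M N (Finset.ne_of_mem_erase hN).symm, ← Finset.mul_sum, ← op_one hP M,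
        ← Finset.add_sum_erase _ _ (Finset.mem_univ M), hself, zero_add]
    rw [h5] at htot
    linear_combination htot
  · rw [if_neg hMN, mul_zero, zero_add, hoff M N hMN]

/-- the constant term -/
noncomputable def aT (F : CForm K V) (m E : ℕ) (τ : K) [Fintype (Sv F τ)] : ℤ :=
  (Fintype.card (Sv F τ) : ℤ) - ((Nat.card K - 1) * Nat.card K ^ (m - 1) : ℕ) * th (Nat.card K) m E 0

/-- the coefficient of the adjacency operator -/
noncomputable def cT (K : Type u) (m : ℕ) : ℤ := ((Nat.card K - 1) * Nat.card K ^ (m - 1) : ℕ)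

theorem tv_op (hP : Pol F m E) (hκ : κ ≠ 0) (hT : F.T (-κ⁻¹) = τ) {g : Sv F τ → F.iso}
    (hg : ∀ v x, (g v : V ≃ₗ[K] V) x = tv F κ v x) :
    ∑ v, permOp (omHom F m (g v)) =
      aeval (op (adjm F m)) ((C (aT F m E τ) + C (cT K m) * Polynomial.X : ℤ[X]).map (Int.castRingHom ℂ)) := by
  classical
  rw [← op_lin]
  exact sum_permOp _ _ fun M N => tv_matrix hP hκ hT hg M N

/-- conjugation -/
theorem tv_conj {g : Sv F τ → F.iso} (hg : ∀ v x, (g v : V ≃ₗ[K] V) x = tv F κ v x) (n : F.iso) :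
    ∃ π : Equiv.Perm (Sv F τ), ∀ v, n * g v * n⁻¹ = g (π v) := by
  let f : F.iso → Sv F τ → Sv F τ := fun n v => ⟨(n : V ≃ₗ[K] V) v,
    (LinearEquiv.map_ne_zero_iff _).2 v.2.1, (F.iso_Q n v).trans v.2.2⟩
  refine ⟨⟨f n, f n⁻¹, fun v => Subtype.ext ?_, fun v => Subtype.ext ?_⟩, fun v => ?_⟩
  · exact (n : V ≃ₗ[K] V).symm_apply_apply v
  · exact (n : V ≃ₗ[K] V).apply_symm_apply v
  · apply Subtype.ext
    apply LinearEquiv.ext
    intro x
    change (n : V ≃ₗ[K] V) ((g v : V ≃ₗ[K] V) ((n : V ≃ₗ[K] V).symm x)) = (g (f n v) : V ≃ₗ[K] V) x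
    rw [hg, hg, tv_apply, tv_apply, map_add, map_smul, LinearEquiv.apply_symm_apply]
    congr 2
    congr 1
    change F.B _ _ = F.B x ((n : V ≃ₗ[K] V) v)
    rw [← F.iso_B n, LinearEquiv.apply_symm_apply]

section tests

variable {S : Type w} [Group S] [Fintype S] [MulAction S (F.Om m)] {N : Subgroup F.iso} {φ : N →* S}

/-- **test with transvections** -/
theorem sep_tv (hP : Pol F m E) (hA : Act F m N φ) (hκ : κ ≠ 0) (hT : F.T (-κ⁻¹) = τ)
    (hg : ∀ v ∈ Sv F τ, ∃ g : F.iso, g ∈ N ∧ ∀ x, (g : V ≃ₗ[K] V) x = tv F κ v x) {q : ℕ} {a b : ℤ}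
    (hq : ¬ (q : ℤ) ∣ cT K m * (a - b)) : Sep q (fnRep S (F.Om m)) (op (adjm F m)) a b := by
  choose g hgN hg using fun v : Sv F τ => hg v v.2
  refine sep_of_fam (s := fun v : Sv F τ => φ ⟨g v, hgN v⟩) (fun s => ?_)
    (C (aT F m E τ) + C (cT K m) * Polynomial.X) ?_ ?_
  · obtain ⟨n, rfl⟩ := hA.surj s
    obtain ⟨π, hπ⟩ := tv_conj hg (n : F.iso)
    refine ⟨π, fun v => ?_⟩
    rw [← map_mul, ← map_inv, ← map_mul]
    congr 1
    exact Subtype.ext (hπ v)
  · rw [← tv_op hP hκ hT hg]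
    refine Finset.sum_congr rfl fun v _ => ?_
    rw [fnRep_eq_permOp, hA.perm]
  · simp only [eval_add, eval_C, eval_mul, eval_X]
    have : aT F m E τ + cT K m * a - (aT F m E τ + cT K m * b) = cT K m * (a - b) := by ring
    rwa [this]

/-- **test with products of two reflections** -/
theorem sep_sq (hP : Pol F m E) (hA : Act F m N φ) (hκ : κ ≠ 0) (hT : F.T (-κ⁻¹) = τ)
    (hg : ∀ v ∈ Sv F τ, ∃ g : F.iso, ∀ x, (g : V ≃ₗ[K] V) x = tv F κ v x)
    (hN : ∀ v ∈ Sv F τ, ∀ w ∈ Sv F τ, ∀ g g' : F.iso, (∀ x, (g : V ≃ₗ[K] V) x = tv F κ v x) →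
      (∀ x, (g' : V ≃ₗ[K] V) x = tv F κ w x) → g * g' ∈ N) {q : ℕ} {a b : ℤ}
    (hq : ¬ (q : ℤ) ∣ cT K m * ((a - b) * (2 * aT F m E τ + cT K m * (a + b)))) :
    Sep q (fnRep S (F.Om m)) (op (adjm F m)) a b := by
  choose g hg using fun v : Sv F τ => hg v v.2
  have hgN : ∀ v w : Sv F τ, g v * g w ∈ N := fun v w => hN v v.2 w w.2 _ _ (hg v) (hg w)
  refine sep_of_fam (s := fun v : Sv F τ × Sv F τ => φ ⟨g v.1 * g v.2, hgN v.1 v.2⟩) (fun s => ?_)
    ((C (aT F m E τ) + C (cT K m) * Polynomial.X) ^ 2) ?_ ?_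
  · obtain ⟨n, rfl⟩ := hA.surj s
    obtain ⟨π, hπ⟩ := tv_conj hg (n : F.iso)
    refine ⟨Equiv.prodCongr π π, fun v => ?_⟩
    rw [← map_mul, ← map_inv, ← map_mul]
    congr 1
    apply Subtype.ext
    change (n : F.iso) * (g v.1 * g v.2) * (n : F.iso)⁻¹ = g (π v.1) * g (π v.2)
    rw [← hπ, ← hπ]
    group
  · rw [Polynomial.map_pow, map_pow, ← tv_op hP hκ hT hg, sq, Finset.sum_mul_sum, ← Finset.sum_product']
    refine Finset.sum_congr rfl fun v _ => ?_
    rw [fnRep_eq_permOp, hA.perm, ← permOp_mul, ← map_mul]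
  · simp only [eval_add, eval_C, eval_mul, eval_X, eval_pow]
    have : (aT F m E τ + cT K m * a) ^ 2 - (aT F m E τ + cT K m * b) ^ 2 =
        cT K m * ((a - b) * (2 * aT F m E τ + cT K m * (a + b))) := by ring
    rwa [this]

end tests

end Cfsg.Agent.H47.DP
end

-- part: H47/DP/Tp
section
/-!
# S4612: the unipotent radicals of the stabilizers of points, on the dual polar graph (helper47)

`F` quadratic (`σ = id`, `ε = 1`, `T = id`). `sg z y : x ↦ x + B(x,z) y - (B(x,y) + Q(y) B(x,z)) z` (`z` singular, `y ⟂ z`).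
The sum of all these acts as `a₀ + C ((Q-1) A² + (E-1) A)`.
-/

set_option autoImplicit false
set_option linter.unusedSectionVars false

open Cfsg

namespace Cfsg.Agent.H47.DP

open Cfsg.Agent.H477.HC Cfsg.Agent.H477.HC.CForm Cfsg.Agent.H53.HC Module
open Polynomial

universe u v w

variable {K : Type u} [Field K] {V : Type v} [AddCommGroup V] [Module K V] [FiniteDimensional K V] {F : CForm K V}

/-- quadratic forms -/
structure Quad (F : CForm K V) : Prop where
  σ : ∀ a, F.σ a = a
  ε : F.ε = 1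
  T : ∀ a, F.T a = a

theorem Quad.symm (h : Quad F) (u v : V) : F.B u v = F.B v u := by
  rw [F.B_symm, h.ε, h.σ, one_mul]

/-- the Siegel transformation -/
def sg (F : CForm K V) (z y : V) : V →ₗ[K] V where
  toFun x := x + F.B x z • y - (F.B x y + F.Q y * F.B x z) • z
  map_add' a b := by rw [F.B_add_left, F.B_add_left]; module
  map_smul' c a := by rw [F.B_smul_left, F.B_smul_left, RingHom.id_apply]; module

theorem sg_apply (z y x : V) : sg F z y x = x + F.B x z • y - (F.B x y + F.Q y * F.B x z) • z := rfl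

/-- the index set -/
def Pz (F : CForm K V) : Set (V × V) := {p | p.1 ≠ 0 ∧ F.Sing p.1 ∧ F.B p.2 p.1 = 0}

variable {m E : ℕ}

/-- `M_z = (M ∩ z^⊥) + z` -/
def pz (F : CForm K V) (M : Submodule K V) (z : V) : Submodule K V := (M ⊓ F.perp (K ∙ z)) ⊔ K ∙ z

theorem mem_perp_span {x z : V} : x ∈ F.perp (K ∙ z) ↔ F.B x z = 0 := by
  constructor
  · intro h; exact h z (Submodule.mem_span_singleton_self z)
  · intro h w hw
    obtain ⟨a, rfl⟩ := Submodule.mem_span_singleton.1 hw
    rw [F.B_smul_right, h, mul_zero]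

theorem pz_mem (hP : Pol F m E) {M : Submodule K V} (hM : M ∈ F.Om m) {z : V} (hz : F.Sing z) : pz F M z ∈ F.Om m :=
  proj_mem hP.max hM (TS_span hz)

theorem mem_pz_self (M : Submodule K V) (z : V) : z ∈ pz F M z :=
  (le_sup_right : K ∙ z ≤ pz F M z) (Submodule.mem_span_singleton_self z)

variable [Finite V]

/-- `L = M_z` for neighbours `L` of `M` with `z ∈ L`, `z ∉ M` -/
theorem pz_eq_iff (hP : Pol F m E) {M L : Submodule K V} (hM : M ∈ F.Om m) (hL : L ∈ F.Om m) {z : V}
    (hz : F.Sing z) (hzM : z ∉ M) : pz F M z = L ↔ Adj m M L ∧ z ∈ L := by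
  have hz0 : z ≠ 0 := by rintro rfl; exact hzM M.zero_mem
  have hfz : finrank K (K ∙ z) = 1 := finrank_span_singleton hz0
  have hMz : M ⊓ K ∙ z = ⊥ := by
    rw [Submodule.eq_bot_iff]
    rintro x ⟨hx, hx'⟩
    obtain ⟨a, rfl⟩ := Submodule.mem_span_singleton.1 hx'
    rcases eq_or_ne a 0 with rfl | ha
    · exact zero_smul _ _
    · exact absurd ((Submodule.smul_mem_iff _ ha).1 hx) hzM
  have h1 := finrank_inf_perp hP.max hM (TS_span hz)
  rw [hMz, hfz, finrank_bot, add_zero] at h1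
  constructor
  · rintro rfl
    refine ⟨?_, mem_pz_self M z⟩
    have hne : M ≠ pz F M z := fun h => hzM (h ▸ mem_pz_self M z)
    have h2 := adj_of_ne hM.2 hL.2 h1 inf_le_left (le_sup_left : M ⊓ F.perp (K ∙ z) ≤ pz F M z) hne
    unfold Adj
    rw [h2]
    exact h1
  · rintro ⟨hadj, hzL⟩
    have h2 : M ⊓ L ≤ M ⊓ F.perp (K ∙ z) := by
      rintro x ⟨hx, hx'⟩
      exact ⟨hx, mem_perp_span.2 (hL.1.2 x hx' z hzL)⟩
    have h3 : M ⊓ L = M ⊓ F.perp (K ∙ z) := Submodule.eq_of_le_of_finrank_eq h2 (by unfold Adj at hadj; omega)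
    refine Submodule.eq_of_le_of_finrank_eq ?_ (by rw [(pz_mem hP hM hz).2, hL.2])
    unfold pz
    rw [← h3]
    exact sup_le inf_le_right ((Submodule.span_singleton_le_iff_mem _ _).2 hzL)

section count

variable (hQ : Quad F) (hP : Pol F m E) (hg : ∀ p ∈ Pz F, ∃ g : F.iso, ∀ x, (g : V ≃ₗ[K] V) x = sg F p.1 p.2 x)
include hQ hP hg

theorem sg_stab {N : Submodule K V} (hN : N ∈ F.Om m) {z y : V} (hp : (z, y) ∈ Pz F) (hzN : z ∈ N) :
    N.map (sg F z y) = N := by
  obtain ⟨g, hg⟩ := hg _ hp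
  have hinj : Function.Injective (sg F z y) := by
    intro a b hab
    rw [← hg, ← hg] at hab
    exact (g : V ≃ₗ[K] V).injective hab
  refine Submodule.eq_of_le_of_finrank_eq ?_ (Submodule.equivMapOfInjective _ hinj N).finrank_eq.symm
  rintro _ ⟨x, hx, rfl⟩
  rw [sg_apply, hN.1.2 x hx z hzN, zero_smul, add_zero, mul_zero, add_zero]
  exact N.sub_mem hx (N.smul_mem _ hzN)

theorem sg_map_iff {N M : Submodule K V} (hN : N ∈ F.Om m) (hM : M ∈ F.Om m) {z : V} (hz0 : z ≠ 0) (hz : F.Sing z)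
    (hzN : z ∉ N) {y : V} (hyz : F.B y z = 0) (h : N.map (sg F z y) = M) : z ∉ M ∧ pz F M z = pz F N z := by
  obtain ⟨g, hg'⟩ := hg (z, y) ⟨hz0, hz, hyz⟩
  have hgz : sg F z y z = z := by
    rw [sg_apply, hz.2, hQ.symm z y, hyz, zero_smul, mul_zero, add_zero, add_zero, zero_smul, sub_zero]
  have hzM : z ∉ M := by
    intro hzM
    rw [← h] at hzM
    obtain ⟨x, hx, hx'⟩ := hzM
    have h1 : x = z := by
      apply (g : V ≃ₗ[K] V).injective
      rw [hg', hg', hgz]
      exact hx'
    exact hzN (h1 ▸ hx)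
  refine ⟨hzM, ?_⟩
  symm
  refine Submodule.eq_of_le_of_finrank_eq (sup_le ?_ le_sup_right) (by rw [(pz_mem hP hN hz).2, (pz_mem hP hM hz).2])
  rintro x ⟨hx, hxz⟩
  have hxz' : F.B x z = 0 := mem_perp_span.1 hxz
  have h1 : sg F z y x = x - F.B x y • z := by
    rw [sg_apply, hxz', zero_smul, mul_zero, add_zero, add_zero]
  have h2 : x - F.B x y • z ∈ M := by rw [← h1, ← h]; exact ⟨x, hx, rfl⟩
  have h3 : x = (x - F.B x y • z) + F.B x y • z := by abel
  rw [h3]
  refine Submodule.add_mem_sup ⟨h2, mem_perp_span.2 ?_⟩ (Submodule.smul_mem _ _ (Submodule.mem_span_singleton_self z))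
  rw [F.B_sub_left, F.B_smul_left, hxz', hz.2, mul_zero, sub_zero]

variable [Finite K]

/-- the number of `y` for a given `z` -/
theorem card_y {N M : Submodule K V} (hN : N ∈ F.Om m) (hM : M ∈ F.Om m) {z : V} (hz0 : z ≠ 0) (hz : F.Sing z)
    (hzN : z ∉ N) (hzM : z ∉ M) (hL : pz F M z = pz F N z) :
    Nat.card {y : V // F.B y z = 0 ∧ N.map (sg F z y) = M} = Nat.card K ^ m := by
  classical
  have hpz := pz_mem hP hN hz
  -- base points
  have base : ∀ N : Submodule K V, N ∈ F.Om m → z ∉ N → ∃ x ∈ N, F.B x z = 1 := by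
    intro N hN hzN
    by_contra hcon
    push Not at hcon
    apply hzN
    refine mem_of_perp hP.max hN hz fun w hw => ?_
    by_contra h0
    rw [hQ.symm] at h0
    refine hcon ((F.B w z)⁻¹ • w) (N.smul_mem _ hw) ?_
    rw [F.B_smul_left, inv_mul_cancel₀ h0]
  obtain ⟨x₀, hx₀, hx₀z⟩ := base N hN hzN
  obtain ⟨m₀, hm₀, hm₀z⟩ := base M hM hzM
  obtain ⟨L, hLd⟩ : ∃ L, L = pz F N z := ⟨_, rfl⟩
  rw [← hLd] at hpz hL
  have hzL : z ∈ L := by rw [hLd]; exact mem_pz_self N z
  have hLz : ∀ w ∈ L, F.B w z = 0 := fun w hw => hpz.1.2 w hw z hzL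
  have hNL : ∀ x ∈ N, F.B x z = 0 → x ∈ L := fun x hx h => by
    rw [hLd]; exact (le_sup_left : N ⊓ F.perp (K ∙ z) ≤ pz F N z) ⟨hx, mem_perp_span.2 h⟩
  have hML : ∀ x ∈ M, F.B x z = 0 → x ∈ L := fun x hx h => by
    rw [← hL]; exact (le_sup_left : M ⊓ F.perp (K ∙ z) ≤ pz F M z) ⟨hx, mem_perp_span.2 h⟩
  have hLM : ∀ w ∈ L, ∃ m' ∈ M, F.B m' z = 0 ∧ ∃ μ : K, w = m' + μ • z := by
    intro w hw
    rw [← hL] at hw
    obtain ⟨m', ⟨hm', hm'z⟩, s, hs, rfl⟩ := Submodule.mem_sup.1 hw
    obtain ⟨μ, rfl⟩ := Submodule.mem_span_singleton.1 hs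
    exact ⟨m', hm', mem_perp_span.1 hm'z, μ, rfl⟩
  have key : ∀ y : V, (F.B y z = 0 ∧ N.map (sg F z y) = M) ↔ y - (m₀ - x₀) ∈ L := by
    intro y
    constructor
    · rintro ⟨hyz, hNM⟩
      obtain ⟨t, ht⟩ : ∃ t, t = F.B x₀ y + F.Q y * F.B x₀ z := ⟨_, rfl⟩
      have h1 : sg F z y x₀ = x₀ + y - t • z := by
        rw [sg_apply, ← ht, hx₀z, one_smul]
      have h2 : x₀ + y - t • z ∈ M := by rw [← h1, ← hNM]; exact ⟨x₀, hx₀, rfl⟩
      have h3 : x₀ + y - t • z - m₀ ∈ L := by
        refine hML _ (M.sub_mem h2 hm₀) ?_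
        rw [F.B_sub_left, F.B_sub_left, F.B_add_left, F.B_smul_left, hx₀z, hyz, hz.2, hm₀z]
        ring
      have h4 : y - (m₀ - x₀) = (x₀ + y - t • z - m₀) + t • z := by abel
      rw [h4]
      exact L.add_mem h3 (L.smul_mem _ hzL)
    · intro hw
      obtain ⟨w, hwd⟩ : ∃ w, w = y - (m₀ - x₀) := ⟨_, rfl⟩
      have hy : y = m₀ - x₀ + w := by rw [hwd]; abel
      rw [← hwd] at hw
      have hyz : F.B y z = 0 := by
        rw [hy, F.B_add_left, F.B_sub_left, hm₀z, hx₀z, hLz w hw]
        ring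
      refine ⟨hyz, ?_⟩
      obtain ⟨g, hg'⟩ := hg (z, y) ⟨hz0, hz, hyz⟩
      have hinj : Function.Injective (sg F z y) := by
        intro a b hab
        rw [← hg', ← hg'] at hab
        exact (g : V ≃ₗ[K] V).injective hab
      refine Submodule.eq_of_le_of_finrank_eq ?_
        ((Submodule.equivMapOfInjective _ hinj N).finrank_eq.symm.trans (hN.2.trans hM.2.symm))
      -- on `N ∩ z^⊥`
      have hp1 : ∀ x ∈ N, F.B x z = 0 → sg F z y x ∈ M := by
        intro x hx hxz
        obtain ⟨m', hm', hm'z, μ, hxe⟩ := hLM x (hNL x hx hxz)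
        have h1 : F.B x y = μ := by
          rw [hy, F.B_add_right, F.B_sub_right, hN.1.2 x hx x₀ hx₀, hpz.1.2 x (hNL x hx hxz) w hw, hxe, F.B_add_left,
            F.B_smul_left, hM.1.2 m' hm' m₀ hm₀, hQ.symm z m₀, hm₀z]
          ring
        rw [sg_apply, hxz, zero_smul, mul_zero, add_zero, add_zero, h1, hxe, add_sub_cancel_right]
        exact hm'
      have hp2 : sg F z y x₀ ∈ M := by
        obtain ⟨m', hm', hm'z, μ, hwe⟩ := hLM w hw
        obtain ⟨t, ht⟩ : ∃ t, t = F.B x₀ y + F.Q y * F.B x₀ z := ⟨_, rfl⟩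
        have h1 : sg F z y x₀ = (m₀ + m') + (μ - t) • z := by
          rw [sg_apply, ← ht, hx₀z, one_smul, hy, hwe]
          module
        have h2 : F.Q (sg F z y x₀) = 0 := by
          rw [← hg', F.iso_Q]
          exact hN.1.1 x₀ hx₀
        rw [h1, F.Q_add, F.Q_smul, hz.1, hM.1.1 _ (M.add_mem hm₀ hm'), F.B_smul_right, F.B_add_left, hm₀z, hm'z, hQ.T,
          hQ.σ] at h2
        have h3 : μ - t = 0 := by linear_combination h2
        rw [h1, h3, zero_smul, add_zero]
        exact M.add_mem hm₀ hm'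
      rintro _ ⟨x, hx, rfl⟩
      have h5 : x = (x - F.B x z • x₀) + F.B x z • x₀ := by abel
      rw [h5, map_add, map_smul]
      refine M.add_mem (hp1 _ (N.sub_mem hx (N.smul_mem _ hx₀)) ?_) (M.smul_mem _ hp2)
      rw [F.B_sub_left, F.B_smul_left, hx₀z, mul_one, sub_self]
  have hcL : Nat.card L = Nat.card K ^ m := by
    rw [Module.natCard_eq_pow_finrank (K := K) (V := L), hpz.2]
  rw [← hcL]
  refine Nat.card_congr
    { toFun := fun y => ⟨y.1 - (m₀ - x₀), (key y.1).1 y.2⟩
      invFun := fun w => ⟨w.1 + (m₀ - x₀), (key _).2 (by rw [add_sub_cancel_right]; exact w.2)⟩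
      left_inv := fun y => Subtype.ext (sub_add_cancel _ _)
      right_inv := fun w => Subtype.ext (add_sub_cancel_right _ _) }

end count

end Cfsg.Agent.H47.DP
end

-- part: H47/DP/TpB
section
/-!
# S4612: the radicals of the point stabilizers: the matrix (helper47)
-/

set_option autoImplicit false
set_option linter.unusedSectionVars false

open Cfsg

namespace Cfsg.Agent.H47.DP

open Cfsg.Agent.H477.HC Cfsg.Agent.H477.HC.CForm Cfsg.Agent.H53.HC Module
open Polynomial

universe u v w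

variable {K : Type u} [Field K] {V : Type v} [AddCommGroup V] [Module K V] [FiniteDimensional K V] {F : CForm K V}
variable {m E : ℕ} [Finite V] [Finite K]

theorem card_of_finrank {W : Submodule K V} {k : ℕ} (h : finrank K W = k) : Nat.card W = Nat.card K ^ k := by
  rw [Module.natCard_eq_pow_finrank (K := K) (V := W), h]

/-- the vectors of `L` outside `M` and `N` -/
theorem card_out {L M N : Submodule K V} (hL : finrank K L = m) (hM : Adj m M L) (hN : Adj m N L) (hm : 1 ≤ m)
    [Decidable (L ⊓ M = L ⊓ N)] :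
    (Nat.card K : ℤ) * Nat.card {z : V // z ∈ L ∧ z ∉ M ∧ z ∉ N} =
      (Nat.card K : ℤ) ^ (m - 1) * ((Nat.card K : ℤ) - 1) ^ 2 +
        (Nat.card K : ℤ) ^ (m - 1) * ((Nat.card K : ℤ) - 1) * (if L ⊓ M = L ⊓ N then 1 else 0) := by
  classical
  have := Fintype.ofFinite V
  obtain ⟨Q, hQ⟩ : ∃ Q, Q = Nat.card K := ⟨_, rfl⟩
  have cM : finrank K (L ⊓ M : Submodule K V) + 1 = m := by rw [inf_comm]; exact hM
  have cN : finrank K (L ⊓ N : Submodule K V) + 1 = m := by rw [inf_comm]; exact hN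
  -- as finsets
  let s : Submodule K V → Finset V := fun W => Finset.univ.filter fun z => z ∈ W
  have hs : ∀ (W : Submodule K V) (k : ℕ), finrank K W = k → (s W).card = Q ^ k := by
    intro W k hk
    have h1 := card_of_finrank hk
    rw [Nat.card_eq_fintype_card, Fintype.card_subtype] at h1
    rw [hQ]
    exact h1
  have h1 : Nat.card {z : V // z ∈ L ∧ z ∉ M ∧ z ∉ N} = (s L \ (s (L ⊓ M) ∪ s (L ⊓ N))).card := by
    rw [Nat.card_eq_fintype_card, Fintype.card_subtype]
    congr 1
    ext z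
    simp only [s, Finset.mem_filter, Finset.mem_univ, true_and, Finset.mem_sdiff, Finset.mem_union, Submodule.mem_inf]
    (clear * -; itauto)
  have h2 : s (L ⊓ M) ∪ s (L ⊓ N) ⊆ s L := by
    intro z
    simp only [s, Finset.mem_filter, Finset.mem_univ, true_and, Finset.mem_union, Submodule.mem_inf]
    (clear * - K V L M N z; itauto)
  have h3 : (s (L ⊓ M) ∪ s (L ⊓ N)).card + (s (L ⊓ M ⊓ N)).card = (s (L ⊓ M)).card + (s (L ⊓ N)).card := by
    have h30 := Finset.card_union_add_card_inter (s (L ⊓ M)) (s (L ⊓ N))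
    have h31 : s (L ⊓ M) ∩ s (L ⊓ N) = s (L ⊓ M ⊓ N) := by
      ext z
      simp only [s, Finset.mem_filter, Finset.mem_univ, true_and, Finset.mem_inter, Submodule.mem_inf]
      (clear * -; itauto)
    rw [h31] at h30
    exact h30
  have h4 : (s L \ (s (L ⊓ M) ∪ s (L ⊓ N))).card + (s (L ⊓ M) ∪ s (L ⊓ N)).card = (s L).card :=
    Finset.card_sdiff_add_card_eq_card h2
  rw [hs L m hL] at h4
  rw [hs (L ⊓ M) (m - 1) (by omega), hs (L ⊓ N) (m - 1) (by omega)] at h3
  obtain ⟨m', rfl⟩ : ∃ m', m = m' + 1 := ⟨m - 1, by omega⟩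
  rw [Nat.add_sub_cancel] at h3 ⊢
  rw [← hQ, h1]
  by_cases hLMN : L ⊓ M = L ⊓ N
  · rw [if_pos hLMN]
    have h5 : L ⊓ M ⊓ N = L ⊓ M := by
      rw [hLMN, inf_assoc, inf_idem]
    rw [h5, hs (L ⊓ M) m' (by omega)] at h3
    zify at h3 h4
    have h6 : (((s L \ (s (L ⊓ M) ∪ s (L ⊓ N))).card : ℕ) : ℤ) = (Q : ℤ) ^ (m' + 1) - Q ^ m' := by
      linear_combination h4 - h3
    rw [h6]
    ring
  · rw [if_neg hLMN]
    have h7 : finrank K (L ⊓ M ⊓ N : Submodule K V) + 1 = m' := by
      have h8 := Submodule.finrank_sup_add_finrank_inf_eq (L ⊓ M) (L ⊓ N)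
      have h9 : (L ⊓ M) ⊓ (L ⊓ N) = L ⊓ M ⊓ N := by
        rw [inf_inf_inf_comm, inf_idem, inf_assoc]
      have h10 : finrank K ((L ⊓ M) ⊔ (L ⊓ N) : Submodule K V) = m' + 1 := by
        have h11 : finrank K ((L ⊓ M) ⊔ (L ⊓ N) : Submodule K V) ≤ m' + 1 := by
          rw [← hL]
          exact Submodule.finrank_mono (sup_le inf_le_left inf_le_left)
        have h12 : finrank K (L ⊓ M : Submodule K V) < finrank K ((L ⊓ M) ⊔ (L ⊓ N) : Submodule K V) := by
          refine Submodule.finrank_lt_finrank_of_lt (lt_of_le_of_ne le_sup_left fun h => hLMN ?_)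
          have h13 : L ⊓ N ≤ L ⊓ M := by rw [h]; exact le_sup_right
          exact (Submodule.eq_of_le_of_finrank_eq h13 (by omega)).symm
        (clear * - cM h11 h12; omega)
      rw [h9, h10] at h8
      omega
    rw [hs (L ⊓ M ⊓ N) (m' - 1) (by omega)] at h3
    have hm' : Q ^ (m' - 1) * Q = Q ^ m' := by
      rw [← pow_succ]; congr 1; (clear * - h7; omega)
    zify at h3 h4 hm'
    have h6 : (((s L \ (s (L ⊓ M) ∪ s (L ⊓ N))).card : ℕ) : ℤ) = (Q : ℤ) ^ (m' + 1) - 2 * Q ^ m' + Q ^ (m' - 1) := by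
      linear_combination h4 - h3
    rw [h6]
    linear_combination hm'

/-- the points `z` which see `M` and `N` in the same subspace -/
def Zs (F : CForm K V) (M N : Submodule K V) : Set V := {z | F.Sing z ∧ z ∉ M ∧ z ∉ N ∧ pz F M z = pz F N z}

theorem card_common (hP : Pol F m E) {M N : Submodule K V} (hM : M ∈ F.Om m) (hN : N ∈ F.Om m) (hne : M ≠ N)
    [Decidable (Adj m M N)] :
    (Nat.card {L : F.Om m // Adj m M L.1 ∧ Adj m N L.1 ∧ L.1 ⊓ M = L.1 ⊓ N} : ℤ) =
      ((E : ℤ) - 1) * (if Adj m M N then 1 else 0) := by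
  classical
  by_cases hadj : Adj m M N
  · rw [if_pos hadj, mul_one]
    have := Fintype.ofFinite (F.Om m)
    have hcard := hP.card (M ⊓ N) (hM.1.mono inf_le_left) hadj
    rw [Nat.card_eq_fintype_card, Fintype.card_subtype] at hcard ⊢
    have h1 : (Finset.univ.filter fun L : F.Om m => Adj m M L.1 ∧ Adj m N L.1 ∧ L.1 ⊓ M = L.1 ⊓ N) =
        ((Finset.univ.filter fun L : F.Om m => M ⊓ N ≤ L.1).erase ⟨M, hM⟩).erase ⟨N, hN⟩ := by
      ext L
      simp only [Finset.mem_filter, Finset.mem_univ, true_and, Finset.mem_erase, ne_eq, Subtype.ext_iff]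
      constructor
      · rintro ⟨h2, h3, h4⟩
        refine ⟨(h3.ne hN.2).symm, (h2.ne hM.2).symm, ?_⟩
        have h5 : L.1 ⊓ M ≤ M ⊓ N := le_inf inf_le_right (h4 ▸ inf_le_right)
        have h6 : L.1 ⊓ M = M ⊓ N := Submodule.eq_of_le_of_finrank_eq h5 (by
          have h7 := h2.symm
          unfold Adj at h7 hadj
          omega)
        rw [← h6]
        exact inf_le_left
      · rintro ⟨h2, h3, h4⟩
        have h5 := adj_of_ne hM.2 L.2.2 hadj inf_le_left h4 (Ne.symm h3)
        have h6 := adj_of_ne hN.2 L.2.2 hadj inf_le_right h4 (Ne.symm h2)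
        refine ⟨?_, ?_, ?_⟩
        · unfold Adj; rw [h5]; exact hadj
        · unfold Adj; rw [h6]; exact hadj
        · rw [inf_comm L.1 M, inf_comm L.1 N, h5, h6]
    rw [h1, Finset.card_erase_of_mem, Finset.card_erase_of_mem, hcard]
    · have hE : 1 ≤ E := by
        have h8 : 1 < (Finset.univ.filter fun L : F.Om m => M ⊓ N ≤ L.1).card := by
          rw [Finset.one_lt_card]
          exact ⟨⟨M, hM⟩, by simp only [_root_.Finset.mem_filter, _root_.Finset.mem_univ, _root_.inf_le_left, _root_.and_self], ⟨N, hN⟩, by simp only [_root_.Finset.mem_filter, _root_.Finset.mem_univ, _root_.inf_le_right, _root_.and_self], fun h => hne (congrArg Subtype.val h)⟩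
        omega
      omega
    · simp only [_root_.Finset.mem_filter, _root_.Finset.mem_univ, _root_.inf_le_left, _root_.and_self]
    · simp only [Finset.mem_erase, ne_eq, Subtype.ext_iff, Finset.mem_filter, Finset.mem_univ, true_and]
      exact ⟨fun h => hne h.symm, inf_le_right⟩
  · rw [if_neg hadj, mul_zero]
    have : Nat.card {L : F.Om m // Adj m M L.1 ∧ Adj m N L.1 ∧ L.1 ⊓ M = L.1 ⊓ N} = 0 := by
      refine @Nat.card_of_isEmpty _ ⟨fun L => hadj ?_⟩
      obtain ⟨L, h2, h3, h4⟩ := L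
      have h5 : L.1 ⊓ M ≤ M ⊓ N := le_inf inf_le_right (h4 ▸ inf_le_right)
      have h6 := Submodule.finrank_mono h5
      have h7 : finrank K (M ⊓ N : Submodule K V) < m := by
        rw [← hM.2]
        refine Submodule.finrank_lt_finrank_of_lt (lt_of_le_of_ne inf_le_left fun h0 => hne ?_)
        exact Submodule.eq_of_le_of_finrank_eq (inf_eq_left.1 h0) (by rw [hM.2, hN.2])
      have h8 := h2.symm
      unfold Adj at h8 ⊢
      omega
    rw [this, Nat.cast_zero]

theorem card_Zs [Fintype (F.Om m)] (hP : Pol F m E) {M N : F.Om m} (hne : M ≠ N) :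
    (Nat.card K : ℤ) * Nat.card (Zs F M.1 N.1) =
      (Nat.card K : ℤ) ^ (m - 1) * ((Nat.card K : ℤ) - 1) *
        (((Nat.card K : ℤ) - 1) * ∑ L, adjm F m M L * adjm F m L N + ((E : ℤ) - 1) * adjm F m M N) := by
  classical
  have hm : 1 ≤ m := by
    rcases Nat.eq_zero_or_pos m with h0 | h; swap
    · exact h
    exfalso
    apply hne
    apply Subtype.ext
    have h1 : finrank K M.1 = 0 := M.2.2.trans h0
    have h2 : finrank K N.1 = 0 := N.2.2.trans h0
    rw [Submodule.finrank_eq_zero.1 h1, Submodule.finrank_eq_zero.1 h2]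
  -- fibering over `L = M_z`
  have h1 : Nat.card (Zs F M.1 N.1) =
      ∑ L : F.Om m, if Adj m M.1 L.1 ∧ Adj m N.1 L.1 then Nat.card {z : V // z ∈ L.1 ∧ z ∉ M.1 ∧ z ∉ N.1} else 0 := by
    let π : Zs F M.1 N.1 → F.Om m := fun z => ⟨pz F M.1 z.1, pz_mem hP M.2 z.2.1⟩
    rw [Nat.card_congr (Equiv.sigmaFiberEquiv π).symm, Nat.card_sigma]
    refine Finset.sum_congr rfl fun L _ => ?_
    have h2 : ∀ z : V, z ∉ M.1 → z ∉ N.1 → F.Sing z → ((pz F M.1 z = L.1 ∧ pz F N.1 z = L.1) ↔
        (Adj m M.1 L.1 ∧ Adj m N.1 L.1) ∧ z ∈ L.1) := by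
      intro z hz1 hz2 hz
      rw [pz_eq_iff hP M.2 L.2 hz hz1, pz_eq_iff hP N.2 L.2 hz hz2]
      (clear * -; itauto)
    by_cases hadj : Adj m M.1 L.1 ∧ Adj m N.1 L.1
    · rw [if_pos hadj]
      refine Nat.card_congr
        { toFun := fun z => ⟨z.1.1, ?_, z.1.2.2.1, z.1.2.2.2.1⟩
          invFun := fun z => ⟨⟨z.1, L.2.1.sing z.2.1, z.2.2.1, z.2.2.2, ?_⟩, Subtype.ext ?_⟩
          left_inv := fun z => Subtype.ext (Subtype.ext rfl)
          right_inv := fun z => Subtype.ext rfl }
      · obtain ⟨⟨z, hz, hz1, hz2, hz3⟩, hz4⟩ := z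
        have h3 : pz F M.1 z = L.1 := congrArg Subtype.val hz4
        exact ((h2 z hz1 hz2 hz).1 ⟨h3, hz3 ▸ h3⟩).2
      · have h3 := (h2 z.1 z.2.2.1 z.2.2.2 (L.2.1.sing z.2.1)).2 ⟨hadj, z.2.1⟩
        rw [h3.1, h3.2]
      · exact ((h2 z.1 z.2.2.1 z.2.2.2 (L.2.1.sing z.2.1)).2 ⟨hadj, z.2.1⟩).1
    · rw [if_neg hadj]
      refine @Nat.card_of_isEmpty _ ⟨fun z => hadj ?_⟩
      obtain ⟨⟨z, hz, hz1, hz2, hz3⟩, hz4⟩ := z
      have h3 : pz F M.1 z = L.1 := congrArg Subtype.val hz4
      exact ((h2 z hz1 hz2 hz).1 ⟨h3, hz3 ▸ h3⟩).1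
  have h2 := card_common hP M.2 N.2 (fun h => hne (Subtype.ext h))
  have h3 : (Nat.card {L : F.Om m // Adj m M.1 L.1 ∧ Adj m N.1 L.1 ∧ L.1 ⊓ M.1 = L.1 ⊓ N.1} : ℤ) =
      ∑ L : F.Om m, if Adj m M.1 L.1 ∧ Adj m N.1 L.1 ∧ L.1 ⊓ M.1 = L.1 ⊓ N.1 then 1 else 0 := by
    rw [Nat.card_eq_fintype_card, Fintype.card_subtype, Finset.card_filter, Nat.cast_sum]
    exact Finset.sum_congr rfl fun v _ => by split_ifs <;> simp
  rw [h3] at h2
  rw [h1]
  push_cast
  have h4 : adjm F m M N = if Adj m M.1 N.1 then 1 else 0 := by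
    unfold adjm; congr
  rw [h4, ← h2, Finset.mul_sum, Finset.mul_sum, ← Finset.sum_add_distrib, Finset.mul_sum]
  refine Finset.sum_congr rfl fun L _ => ?_
  have h5 : adjm F m M L * adjm F m L N = if Adj m M.1 L.1 ∧ Adj m N.1 L.1 then 1 else 0 := by
    unfold adjm
    by_cases h6 : Adj m M.1 L.1 <;> by_cases h7 : Adj m N.1 L.1
    · rw [if_pos h6, if_pos h7.symm, if_pos ⟨h6, h7⟩, mul_one]
    · rw [if_neg (fun h : Adj m L.1 N.1 => h7 h.symm), if_neg (fun h : Adj m M.1 L.1 ∧ Adj m N.1 L.1 => h7 h.2), mul_zero]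
    · rw [if_neg h6, if_neg (fun h : Adj m M.1 L.1 ∧ Adj m N.1 L.1 => h6 h.1), zero_mul]
    · rw [if_neg h6, if_neg (fun h : Adj m M.1 L.1 ∧ Adj m N.1 L.1 => h6 h.1), zero_mul]
  rw [h5]
  by_cases hadj : Adj m M.1 L.1 ∧ Adj m N.1 L.1
  · rw [if_pos hadj, if_pos hadj, card_out L.2.2 hadj.1 hadj.2 hm]
    by_cases h8 : L.1 ⊓ M.1 = L.1 ⊓ N.1
    · rw [if_pos h8, if_pos ⟨hadj.1, hadj.2, h8⟩]
      ring
    · rw [if_neg h8, if_neg fun h => h8 h.2.2]
      ring
  · rw [if_neg hadj, if_neg hadj, if_neg fun h => hadj ⟨h.1, h.2.1⟩]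
    ring

end Cfsg.Agent.H47.DP
end

-- part: H47/DP/TpC
section
/-!
# S4612: the test with the radicals of the point stabilizers (helper47)
-/

set_option autoImplicit false
set_option linter.unusedSectionVars false

open Cfsg

namespace Cfsg.Agent.H47.DP

open Cfsg.Agent.H477.HC Cfsg.Agent.H477.HC.CForm Cfsg.Agent.H53.HC Module
open Polynomial

universe u v w

section

variable {X : Type v} [Fintype X]

/-- `a + c (d A² + e A)` -/
theorem op_quad [DecidableEq X] (b : X → X → ℤ) (a c d e : ℤ) :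
    op (fun x y => a * (if x = y then 1 else 0) + c * (d * ∑ z, b x z * b z y + e * b x y)) =
      aeval (op b) ((C a + C c * (C d * Polynomial.X ^ 2 + C e * Polynomial.X) : ℤ[X]).map (Int.castRingHom ℂ)) := by
  refine LinearMap.ext fun f => _root_.funext fun x => ?_
  simp only [Polynomial.map_add, Polynomial.map_mul, map_C, map_X, map_add, map_mul, aeval_C,
    aeval_X, sq, LinearMap.add_apply, Module.End.mul_apply, Module.algebraMap_end_apply, Pi.add_apply, Pi.smul_apply,
    op_apply, smul_eq_mul]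
  simp only [eq_intCast]
  have h1 : ∀ y : X, ((a * (if x = y then 1 else 0) + c * (d * ∑ z, b x z * b z y + e * b x y) : ℤ) : ℂ) * f y =
      (if x = y then (a : ℂ) * f y else 0) + (c * (d * ∑ z, (b x z : ℂ) * (b z y * f y)) + c * (e * ((b x y : ℂ) * f y))) := by
    intro y
    push_cast
    have : (∑ z, (b x z : ℂ) * (b z y * f y)) = (∑ z, (b x z : ℂ) * b z y) * f y := by
      rw [Finset.sum_mul]
      exact Finset.sum_congr rfl fun z _ => by ring
    rw [this]
    split_ifs <;> ring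
  rw [Finset.sum_congr rfl fun y _ => h1 y, Finset.sum_add_distrib, Finset.sum_add_distrib, Finset.sum_ite_eq,
    if_pos (Finset.mem_univ x), ← Finset.mul_sum, ← Finset.mul_sum, ← Finset.mul_sum, ← Finset.mul_sum,
    Finset.sum_comm]
  simp only [← Finset.mul_sum]

end

variable {K : Type u} [Field K] {V : Type v} [AddCommGroup V] [Module K V] [FiniteDimensional K V] {F : CForm K V}
variable {m E : ℕ} [Finite V] [Finite K]

/-- the coefficient -/
noncomputable def cP (K : Type u) (m : ℕ) : ℤ := (Nat.card K : ℤ) ^ (m - 1) * (Nat.card K : ℤ) ^ (m - 1) * ((Nat.card K : ℤ) - 1)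

theorem card_Pz_off [Fintype (F.Om m)] (hQ : Quad F) (hP : Pol F m E)
    (hg : ∀ p ∈ Pz F, ∃ g : F.iso, ∀ x, (g : V ≃ₗ[K] V) x = sg F p.1 p.2 x) {M N : F.Om m} (hne : M ≠ N) :
    (Nat.card {p : V × V // p ∈ Pz F ∧ N.1.map (sg F p.1 p.2) = M.1} : ℤ) =
      cP K m * (((Nat.card K : ℤ) - 1) * ∑ L, adjm F m M L * adjm F m L N + ((E : ℤ) - 1) * adjm F m M N) := by
  classical
  have hm : 1 ≤ m := by
    rcases Nat.eq_zero_or_pos m with h0 | h; swap
    · exact h
    exfalso
    apply hne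
    apply Subtype.ext
    have h1 : finrank K M.1 = 0 := M.2.2.trans h0
    have h2 : finrank K N.1 = 0 := N.2.2.trans h0
    rw [Submodule.finrank_eq_zero.1 h1, Submodule.finrank_eq_zero.1 h2]
  have hkey : ∀ z y : V, (z, y) ∈ Pz F → N.1.map (sg F z y) = M.1 → z ∈ Zs F M.1 N.1 := by
    intro z y hp h
    have hzN : z ∉ N.1 := fun hz => hne (Subtype.ext (h.symm.trans (sg_stab hQ hP hg N.2 hp hz)))
    have h1 := sg_map_iff hQ hP hg N.2 M.2 hp.1 hp.2.1 hzN hp.2.2 h
    exact ⟨hp.2.1, h1.1, hzN, h1.2⟩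
  have h1 : Nat.card {p : V × V // p ∈ Pz F ∧ N.1.map (sg F p.1 p.2) = M.1} =
      Nat.card (Σ z : Zs F M.1 N.1, {y : V // F.B y z.1 = 0 ∧ N.1.map (sg F z.1 y) = M.1}) :=
    Nat.card_congr
      { toFun := fun p => ⟨⟨p.1.1, hkey p.1.1 p.1.2 p.2.1 p.2.2⟩, ⟨p.1.2, p.2.1.2.2, p.2.2⟩⟩
        invFun := fun s => ⟨(s.1.1, s.2.1), ⟨fun h : s.1.1 = 0 => s.1.2.2.2.1 (by rw [h]; exact N.1.zero_mem), s.1.2.1, s.2.2.1⟩, s.2.2.2⟩
        left_inv := fun p => rfl
        right_inv := fun s => rfl }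
  have := Fintype.ofFinite (Zs F M.1 N.1)
  rw [h1, Nat.card_sigma, Finset.sum_congr rfl (g := fun _ => Nat.card K ^ m)]
  · rw [Finset.sum_const, smul_eq_mul, Finset.card_univ, ← Nat.card_eq_fintype_card]
    have h2 := card_Zs hP hne
    obtain ⟨m', rfl⟩ : ∃ m', m = m' + 1 := ⟨m - 1, by omega⟩
    unfold cP
    rw [Nat.add_sub_cancel] at h2 ⊢
    push_cast
    linear_combination (Nat.card K : ℤ) ^ m' * h2
  · rintro z -
    exact card_y hQ hP hg N.2 M.2 (fun h => z.2.2.2.1 (h ▸ N.1.zero_mem)) z.2.1 z.2.2.2.1 z.2.2.1 z.2.2.2.2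

variable [Fintype (F.Om m)] [Fintype (Pz F)]

/-- the constant term -/
noncomputable def aP (F : CForm K V) (m E : ℕ) [Fintype (Pz F)] : ℤ :=
  (Fintype.card (Pz F) : ℤ) - cP K m * (((Nat.card K : ℤ) - 1) * (th (Nat.card K) m E 0 * th (Nat.card K) m E 0) +
    ((E : ℤ) - 1) * th (Nat.card K) m E 0)

open scoped Classical in
theorem tp_matrix (hQ : Quad F) (hP : Pol F m E) {g : Pz F → F.iso}
    (hg : ∀ p x, (g p : V ≃ₗ[K] V) x = sg F p.1.1 p.1.2 x) (M N : F.Om m) :
    (Nat.card {p : Pz F // omHom F m (g p) N = M} : ℤ) = aP F m E * (if M = N then 1 else 0) +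
      cP K m * (((Nat.card K : ℤ) - 1) * ∑ L, adjm F m M L * adjm F m L N + ((E : ℤ) - 1) * adjm F m M N) := by
  have hval : ∀ (v : Pz F) (M N : F.Om m), omHom F m (g v) N = M ↔ N.1.map (sg F v.1.1 v.1.2) = M.1 := by
    intro v M N
    rw [Subtype.ext_iff, omHom_val]
    have : (F.iso.subtype (g v) : V →ₗ[K] V) = sg F v.1.1 v.1.2 := LinearMap.ext fun x => hg v x
    rw [this]
  have hoff : ∀ M N : F.Om m, M ≠ N → (Nat.card {v : Pz F // omHom F m (g v) N = M} : ℤ) =
      cP K m * (((Nat.card K : ℤ) - 1) * ∑ L, adjm F m M L * adjm F m L N + ((E : ℤ) - 1) * adjm F m M N) := by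
    intro M N hne
    rw [← card_Pz_off hQ hP (fun p hp => ⟨g ⟨p, hp⟩, hg ⟨p, hp⟩⟩) hne]
    congr 1
    exact Nat.card_congr ((Equiv.subtypeEquivRight fun v => hval v M N).trans
      (Equiv.subtypeSubtypeEquivSubtypeInter (fun v => v ∈ Pz F) fun v => N.1.map (sg F v.1 v.2) = M.1))
  by_cases hMN : M = N
  · subst hMN
    rw [if_pos rfl, mul_one]
    have htot : ∑ N : F.Om m, (Nat.card {v : Pz F // omHom F m (g v) N = M} : ℤ) = Fintype.card (Pz F) := by
      have h3 : ∀ N : F.Om m, (Nat.card {v : Pz F // omHom F m (g v) N = M} : ℤ) =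
          ∑ v : Pz F, if omHom F m (g v) N = M then 1 else 0 := by
        intro N
        rw [Nat.card_eq_fintype_card, Fintype.card_subtype, Finset.card_filter, Nat.cast_sum]
        exact Finset.sum_congr rfl fun v _ => by split_ifs <;> simp
      simp only [h3]
      rw [Finset.sum_comm]
      have h4 : ∀ v : Pz F, (∑ N : F.Om m, if omHom F m (g v) N = M then (1 : ℤ) else 0) = 1 := by
        intro v
        rw [Finset.sum_eq_single ((omHom F m (g v)).symm M)]
        · rw [if_pos (Equiv.apply_symm_apply _ _)]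
        · intro N _ hN
          rw [if_neg]
          rintro rfl
          exact hN (Equiv.symm_apply_apply _ _).symm
        · intro h'; exact absurd (Finset.mem_univ _) h'
      simp only [h4]
      rw [Finset.sum_const, Finset.card_univ]
      simp only [_root_.Set.fintypeCard_eq_ncard, _root_.Int.nsmul_eq_mul, _root_.mul_one]
    have hrow : ∑ N : F.Om m, ∑ L, adjm F m M L * adjm F m L N = th (Nat.card K) m E 0 * th (Nat.card K) m E 0 := by
      rw [Finset.sum_comm]
      simp only [← Finset.mul_sum, op_one hP, ← Finset.sum_mul]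
    have hrow1 := op_one hP M
    rw [← Finset.add_sum_erase _ _ (Finset.mem_univ M)] at htot hrow hrow1
    rw [Finset.sum_congr rfl fun N hN => hoff M N (Finset.ne_of_mem_erase hN).symm, ← Finset.mul_sum,
      Finset.sum_add_distrib, ← Finset.mul_sum, ← Finset.mul_sum] at htot
    unfold aP
    linear_combination htot - cP K m * ((Nat.card K : ℤ) - 1) * hrow - cP K m * ((E : ℤ) - 1) * hrow1
  · rw [if_neg hMN, mul_zero, zero_add, hoff M N hMN]

theorem tp_op (hQ : Quad F) (hP : Pol F m E) {g : Pz F → F.iso}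
    (hg : ∀ p x, (g p : V ≃ₗ[K] V) x = sg F p.1.1 p.1.2 x) :
    ∑ v, permOp (omHom F m (g v)) =
      aeval (op (adjm F m)) ((C (aP F m E) + C (cP K m) * (C ((Nat.card K : ℤ) - 1) * Polynomial.X ^ 2 +
        C ((E : ℤ) - 1) * Polynomial.X) : ℤ[X]).map (Int.castRingHom ℂ)) := by
  classical
  rw [← op_quad]
  exact sum_permOp _ _ fun M N => tp_matrix hQ hP hg M N

theorem tp_conj {g : Pz F → F.iso} (hg : ∀ p x, (g p : V ≃ₗ[K] V) x = sg F p.1.1 p.1.2 x) (n : F.iso) :
    ∃ π : Equiv.Perm (Pz F), ∀ v, n * g v * n⁻¹ = g (π v) := by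
  let f : F.iso → Pz F → Pz F := fun n p => ⟨((n : V ≃ₗ[K] V) p.1.1, (n : V ≃ₗ[K] V) p.1.2),
    (LinearEquiv.map_ne_zero_iff _).2 p.2.1, ⟨(F.iso_Q n _).trans p.2.2.1.1, (F.iso_B n _ _).trans p.2.2.1.2⟩, (F.iso_B n _ _).trans p.2.2.2⟩
  refine ⟨⟨f n, f n⁻¹, fun v => Subtype.ext (Prod.ext ?_ ?_), fun v => Subtype.ext (Prod.ext ?_ ?_)⟩, fun v => ?_⟩
  · exact (n : V ≃ₗ[K] V).symm_apply_apply v.1.1
  · exact (n : V ≃ₗ[K] V).symm_apply_apply v.1.2
  · exact (n : V ≃ₗ[K] V).apply_symm_apply v.1.1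
  · exact (n : V ≃ₗ[K] V).apply_symm_apply v.1.2
  · apply Subtype.ext
    apply LinearEquiv.ext
    intro x
    obtain ⟨x, rfl⟩ := (n : V ≃ₗ[K] V).surjective x
    change (n : V ≃ₗ[K] V) ((g v : V ≃ₗ[K] V) ((n : V ≃ₗ[K] V).symm ((n : V ≃ₗ[K] V) x))) =
      (g (f n v) : V ≃ₗ[K] V) ((n : V ≃ₗ[K] V) x)
    rw [LinearEquiv.symm_apply_apply, hg, hg, sg_apply, sg_apply, map_sub, map_add, map_smul, map_smul]
    change _ = (n : V ≃ₗ[K] V) x + F.B ((n : V ≃ₗ[K] V) x) ((n : V ≃ₗ[K] V) v.1.1) • (n : V ≃ₗ[K] V) v.1.2 -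
      (F.B ((n : V ≃ₗ[K] V) x) ((n : V ≃ₗ[K] V) v.1.2) + F.Q ((n : V ≃ₗ[K] V) v.1.2) *
        F.B ((n : V ≃ₗ[K] V) x) ((n : V ≃ₗ[K] V) v.1.1)) • (n : V ≃ₗ[K] V) v.1.1
    rw [F.iso_B, F.iso_B, F.iso_Q]

/-- **test with the radicals of the point stabilizers** -/
theorem sep_tp {S : Type w} [Group S] [Fintype S] [MulAction S (F.Om m)] {N : Subgroup F.iso} {φ : N →* S}
    (hQ : Quad F) (hP : Pol F m E) (hA : Act F m N φ)
    (hg : ∀ p ∈ Pz F, ∃ g : F.iso, g ∈ N ∧ ∀ x, (g : V ≃ₗ[K] V) x = sg F p.1 p.2 x) {q : ℕ} {a b : ℤ}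
    (hq : ¬ (q : ℤ) ∣ cP K m * ((a - b) * (((Nat.card K : ℤ) - 1) * (a + b) + ((E : ℤ) - 1)))) :
    Sep q (fnRep S (F.Om m)) (op (adjm F m)) a b := by
  choose g hgN hg using fun v : Pz F => hg v v.2
  refine sep_of_fam (s := fun v : Pz F => φ ⟨g v, hgN v⟩) (fun s => ?_)
    (C (aP F m E) + C (cP K m) * (C ((Nat.card K : ℤ) - 1) * Polynomial.X ^ 2 + C ((E : ℤ) - 1) * Polynomial.X)) ?_ ?_
  · obtain ⟨n, rfl⟩ := hA.surj s
    obtain ⟨π, hπ⟩ := tp_conj hg (n : F.iso)
    refine ⟨π, fun v => ?_⟩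
    rw [← map_mul, ← map_inv, ← map_mul]
    congr 1
    exact Subtype.ext (hπ v)
  · rw [← tp_op hQ hP hg]
    refine Finset.sum_congr rfl fun v _ => ?_
    rw [fnRep_eq_permOp, hA.perm]
  · simp only [eval_add, eval_C, eval_mul, eval_X, eval_pow]
    have : aP F m E + cP K m * (((Nat.card K : ℤ) - 1) * a ^ 2 + ((E : ℤ) - 1) * a) -
        (aP F m E + cP K m * (((Nat.card K : ℤ) - 1) * b ^ 2 + ((E : ℤ) - 1) * b)) =
        cP K m * ((a - b) * (((Nat.card K : ℤ) - 1) * (a + b) + ((E : ℤ) - 1))) := by ring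
    rwa [this]

end Cfsg.Agent.H47.DP
end

-- part: H47/DP/El
section
/-!
# S4612: transvections, products of two reflections and Siegel transformations (helper47)

`exists_tv`, `exists_rf`, `exists_sg`; `rf_mul_mem`, `sg_mem` : products of two reflections in vectors of the same norm and
the Siegel transformations lie in the commutator subgroup of the isometry group.
-/

set_option autoImplicit false
set_option linter.unusedSectionVars false

open Cfsg

namespace Cfsg.Agent.H47.DP

open Cfsg.Agent.H477.HC Cfsg.Agent.H477.HC.CForm Cfsg.Agent.H53.HC Module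
open Polynomial
open scoped commutatorElement

universe u v w

variable {K : Type u} [Field K] {V : Type v} [AddCommGroup V] [Module K V] [FiniteDimensional K V] {F : CForm K V}

theorem exists_tv {κ : K} (h1 : F.σ κ + F.ε * κ = 0) (h2 : ∀ a, F.T (F.σ κ * (a * F.σ a)) = 0) {v : V}
    (hv : F.Sing v) : ∃ g : F.iso, ∀ x, (g : V ≃ₗ[K] V) x = tv F κ v x := by
  refine F.exists_iso (tv F κ v) (fun x y => ?_) (fun x => ?_)
  · rw [tv_apply, tv_apply, F.B_add_left, F.B_add_right, F.B_add_right, F.B_smul_left, F.B_smul_left, F.B_smul_right,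
      F.B_smul_right, hv.2, map_mul, F.B_symm v y]
    linear_combination (F.B x v * F.σ (F.B y v)) * h1
  · rw [tv_apply, F.Q_add, F.Q_smul, hv.1, mul_zero, add_zero, F.B_smul_right, map_mul]
    have h3 : F.σ κ * F.σ (F.B x v) * F.B x v = F.σ κ * (F.B x v * F.σ (F.B x v)) := by ring
    rw [h3, h2, add_zero]

section quad

variable (hQ : Quad F)
include hQ

theorem Quad.B_self (v : V) : F.B v v = 2 * F.Q v := by
  have h1 := F.Q_add v v
  have h2 := F.Q_smul 2 v
  rw [two_smul, hQ.σ] at h2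
  rw [hQ.T, h2] at h1
  linear_combination -h1

theorem Quad.Q_add (u v : V) : F.Q (u + v) = F.Q u + F.Q v + F.B u v := by
  rw [F.Q_add, hQ.T]

theorem Quad.Q_smul (a : K) (v : V) : F.Q (a • v) = a * a * F.Q v := by
  rw [F.Q_smul, hQ.σ]

theorem Quad.B_smul_right (a : K) (u v : V) : F.B u (a • v) = a * F.B u v := by
  rw [F.B_smul_right, hQ.σ]

theorem exists_rf {τ : K} (hτ : τ ≠ 0) {v : V} (hv : F.Q v = τ) :
    ∃ g : F.iso, ∀ x, (g : V ≃ₗ[K] V) x = tv F (-τ⁻¹) v x := by
  have hvv := hQ.B_self v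
  rw [hv] at hvv
  refine F.exists_iso (tv F (-τ⁻¹) v) (fun x y => ?_) (fun x => ?_)
  · rw [tv_apply, tv_apply, F.B_add_left, F.B_add_right, F.B_add_right, F.B_smul_left, F.B_smul_left, hQ.B_smul_right,
      hQ.B_smul_right, hvv, hQ.symm v y]
    field_simp
    ring
  · rw [tv_apply, hQ.Q_add, hQ.Q_smul, hv, hQ.B_smul_right]
    field_simp
    ring

theorem exists_sg {z y : V} (hz : F.Sing z) (hyz : F.B y z = 0) :
    ∃ g : F.iso, ∀ x, (g : V ≃ₗ[K] V) x = sg F z y x := by
  have hzy : F.B z y = 0 := F.B_eq_zero hyz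
  refine F.exists_iso (sg F z y) (fun x x' => ?_) (fun x => ?_)
  · simp only [sg_apply, F.B_add_left, F.B_sub_left, F.B_smul_left, F.B_add_right, F.B_sub_right, hQ.B_smul_right, hyz,
      hzy, hz.2, hQ.B_self y, hQ.symm y x', hQ.symm z x']
    ring
  · have e1 : sg F z y x = x + (F.B x z • y + (-(F.B x y + F.Q y * F.B x z)) • z) := by
      rw [sg_apply]; module
    rw [e1, hQ.Q_add, hQ.Q_add, hQ.Q_smul, hQ.Q_smul, hz.1, F.B_add_right, hQ.B_smul_right, hQ.B_smul_right,
      F.B_smul_left, hQ.B_smul_right, hyz]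
    ring

theorem rf_invol {τ : K} (hτ : τ ≠ 0) {v : V} (hv : F.Q v = τ) {g : F.iso}
    (hg : ∀ x, (g : V ≃ₗ[K] V) x = tv F (-τ⁻¹) v x) : g * g = 1 := by
  apply Subtype.ext
  apply LinearEquiv.ext
  intro x
  change (g : V ≃ₗ[K] V) ((g : V ≃ₗ[K] V) x) = x
  have hvv := hQ.B_self v
  rw [hv] at hvv
  rw [hg, hg, tv_apply, tv_apply, F.B_add_left, F.B_smul_left, hvv]
  have h1 : -τ⁻¹ * (F.B x v + -τ⁻¹ * F.B x v * (2 * τ)) = -(-τ⁻¹ * F.B x v) := by
    field_simp
    ring
  rw [h1]
  module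

/-- transitivity on the vectors of norm `τ` -/
theorem exists_map {τ : K} (hτ : τ ≠ 0) {v w : V} (hv : F.Q v = τ) (hw : F.Q w = τ) :
    ∃ h : F.iso, (h : V ≃ₗ[K] V) v = w := by
  have hvv := hQ.B_self v
  rw [hv] at hvv
  have hd : F.Q (v - w) = 2 * τ - F.B v w := by
    have e1 : v - w = v + (-1 : K) • w := by module
    rw [e1, hQ.Q_add, hQ.Q_smul, hQ.B_smul_right, hv, hw]
    ring
  by_cases h0 : F.Q (v - w) = 0
  · obtain ⟨s, hs⟩ : ∃ s, s = w - v := ⟨_, rfl⟩
    have hws : w = v + s := by rw [hs]; abel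
    have hs0 : F.Q s = 0 := by
      have e1 : s = (-1 : K) • (v - w) := by rw [hs]; module
      rw [e1, hQ.Q_smul, h0, mul_zero]
    have hvs : F.B v s = 0 := by
      rw [hs, F.B_sub_right, hvv]
      rw [hd] at h0
      linear_combination -h0
    obtain ⟨y', hy's, hy'v⟩ : ∃ y ∈ F.perp (K ∙ s), F.B v y ≠ 0 := by
      by_contra hcon
      push Not at hcon
      have h1 : v ∈ F.perp (F.perp (K ∙ s)) := hcon
      rw [F.perp_perp] at h1
      obtain ⟨c, hc⟩ := Submodule.mem_span_singleton.1 h1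
      apply hτ
      rw [← hv, ← hc, hQ.Q_smul, hs0, mul_zero]
    obtain ⟨y, hys, hyv⟩ : ∃ y, F.B y s = 0 ∧ F.B v y = -1 := by
      refine ⟨(-(F.B v y')⁻¹) • y', ?_, ?_⟩
      · rw [F.B_smul_left, mem_perp_span.1 hy's, mul_zero]
      · rw [hQ.B_smul_right, neg_mul, inv_mul_cancel₀ hy'v]
    obtain ⟨h, hh⟩ := exists_sg hQ (sing_of_Q hs0) hys
    refine ⟨h, ?_⟩
    rw [hh, sg_apply, hvs, hyv, hws]
    module
  · obtain ⟨h, hh⟩ := exists_rf hQ h0 rfl
    refine ⟨h, ?_⟩
    rw [hh, tv_apply]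
    have h1 : F.B v (v - w) = F.Q (v - w) := by rw [F.B_sub_right, hvv, hd]
    rw [h1, neg_mul, inv_mul_cancel₀ h0]
    module

/-- **products of two reflections in vectors of the same norm** -/
theorem rf_mul_mem {τ : K} (hτ : τ ≠ 0) {v w : V} (hv : F.Q v = τ) (hw : F.Q w = τ) {g g' : F.iso}
    (hg : ∀ x, (g : V ≃ₗ[K] V) x = tv F (-τ⁻¹) v x) (hg' : ∀ x, (g' : V ≃ₗ[K] V) x = tv F (-τ⁻¹) w x) :
    g * g' ∈ commutator F.iso := by
  obtain ⟨h, hh⟩ := exists_map hQ hτ hv hw
  have h1 : g' = h * g * h⁻¹ := by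
    apply Subtype.ext
    apply LinearEquiv.ext
    intro x
    change (g' : V ≃ₗ[K] V) x = (h : V ≃ₗ[K] V) ((g : V ≃ₗ[K] V) ((h : V ≃ₗ[K] V).symm x))
    rw [hg, hg', tv_apply, tv_apply, map_add, map_smul, LinearEquiv.apply_symm_apply, hh]
    congr 2
    congr 1
    rw [← F.iso_B h ((h : V ≃ₗ[K] V).symm x) v, LinearEquiv.apply_symm_apply, hh]
  have h2 : g⁻¹ = g := (inv_eq_of_mul_eq_one_left (rf_invol hQ hτ hv hg) :)
  have h3 : g * g' = ⁅g, h⁆ := by
    rw [commutatorElement_def, h1, h2]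
    group
  rw [h3, commutator_def]
  exact Subgroup.commutator_mem_commutator (Subgroup.mem_top _) (Subgroup.mem_top _)

theorem sg_comp {z y₁ y₂ : V} (hz : F.Sing z) (h1 : F.B y₁ z = 0) (h2 : F.B y₂ z = 0) (x : V) :
    sg F z y₁ (sg F z y₂ x) = sg F z (y₁ + y₂) x := by
  rw [sg_apply z y₂, sg_apply z (y₁ + y₂), sg_apply z y₁, hQ.Q_add]
  have hz1 : F.B z y₁ = 0 := F.B_eq_zero h1
  simp only [F.B_sub_left, F.B_add_left, F.B_smul_left, F.B_add_right, hz.2, hz1, h2, mul_zero, add_zero, sub_zero,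
    hQ.symm y₂ y₁]
  module

/-- **the Siegel transformations lie in the commutator subgroup** -/
theorem sg_mem {m : ℕ} (hmax : ∀ W : Submodule K V, F.TS W → finrank K W ≤ m) (hm : m + 2 < finrank K V) {z y : V}
    (hz : F.Sing z) (hyz : F.B y z = 0) : ∃ g : F.iso, g ∈ commutator F.iso ∧ ∀ x, (g : V ≃ₗ[K] V) x = sg F z y x := by
  -- `Q y ≠ 0`
  have key : ∀ y : V, F.B y z = 0 → F.Q y ≠ 0 →
      ∃ g : F.iso, g ∈ commutator F.iso ∧ ∀ x, (g : V ≃ₗ[K] V) x = sg F z y x := by
    intro y hyz hy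
    have hzy : F.B z y = 0 := F.B_eq_zero hyz
    have h1 : F.Q (y + (-F.Q y) • z) = F.Q y := by
      rw [hQ.Q_add, hQ.Q_smul, hz.1, hQ.B_smul_right, hyz]
      ring
    obtain ⟨g₁, hg₁⟩ := exists_rf hQ hy h1
    obtain ⟨g₂, hg₂⟩ := exists_rf hQ hy (rfl : F.Q y = F.Q y)
    refine ⟨g₁ * g₂, rf_mul_mem hQ hy h1 rfl hg₁ hg₂, fun x => ?_⟩
    change (g₁ : V ≃ₗ[K] V) ((g₂ : V ≃ₗ[K] V) x) = _
    rw [hg₂, hg₁, tv_apply, tv_apply, sg_apply]
    simp only [F.B_add_right, hQ.B_smul_right, F.B_add_left, F.B_smul_left, hQ.B_self y, hyz]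
    obtain ⟨t, ht⟩ : ∃ t, t = F.Q y := ⟨_, rfl⟩
    rw [← ht] at hy ⊢
    obtain ⟨α, hα⟩ : ∃ α, α = F.B x z := ⟨_, rfl⟩
    obtain ⟨β, hβ⟩ : ∃ β, β = F.B x y := ⟨_, rfl⟩
    rw [← hα, ← hβ]
    have e1 : -t⁻¹ * (β + -t⁻¹ * β * (2 * t) + -t * (α + -t⁻¹ * β * 0)) = t⁻¹ * β + α := by
      field_simp
      try ring
    rw [e1]
    have e2 : (t⁻¹ * β + α) • (y + -t • z) = (t⁻¹ * β + α) • y + (-(β + t * α)) • z := by
      rw [smul_add, smul_smul]
      congr 2
      field_simp
      try ring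
    rw [e2]
    module
  by_cases hy : F.Q y = 0
  · -- a vector `u ⟂ y, z` with `Q u ≠ 0`
    obtain ⟨W, hW⟩ : ∃ W, W = F.perp ((K ∙ y) ⊔ (K ∙ z)) := ⟨_, rfl⟩
    have hWf : finrank K V ≤ finrank K W + 2 := by
      have h1 := finrank_perp F ((K ∙ y) ⊔ (K ∙ z))
      have h2 : finrank K ((K ∙ y) ⊔ (K ∙ z) : Submodule K V) ≤ 2 := by
        have h3 := Submodule.finrank_add_le_finrank_add_finrank (K ∙ y) (K ∙ z)
        have h4 := finrank_span_le_card (R := K) ({y} : Set V)
        have h5 := finrank_span_le_card (R := K) ({z} : Set V)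
        rw [Set.toFinset_singleton, Finset.card_singleton] at h4 h5
        omega
      rw [← hW] at h1
      omega
    obtain ⟨u, hu, hu0⟩ : ∃ u ∈ W, F.Q u ≠ 0 := by
      by_contra hcon
      push Not at hcon
      have h1 : F.TS W := by
        refine ⟨hcon, fun u hu u' hu' => ?_⟩
        have h2 := hcon _ (W.add_mem hu hu')
        rw [hQ.Q_add, hcon u hu, hcon u' hu'] at h2
        linear_combination h2
      have := hmax W h1
      omega
    have huy : F.B u y = 0 := by
      rw [hW] at hu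
      exact hu y ((le_sup_left : K ∙ y ≤ _) (Submodule.mem_span_singleton_self y))
    have huz : F.B u z = 0 := by
      rw [hW] at hu
      exact hu z ((le_sup_right : K ∙ z ≤ (K ∙ y) ⊔ (K ∙ z)) (Submodule.mem_span_singleton_self z))
    have hyu : F.B y u = 0 := F.B_eq_zero huy
    have h1 : F.B (y + (-1 : K) • u) z = 0 := by rw [F.B_add_left, F.B_smul_left, hyz, huz]; ring
    have h2 : F.Q (y + (-1 : K) • u) ≠ 0 := by
      rw [hQ.Q_add, hQ.Q_smul, hQ.B_smul_right, hy, hyu]
      simpa using hu0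
    obtain ⟨g₁, hg₁, h3⟩ := key _ h1 h2
    obtain ⟨g₂, hg₂, h4⟩ := key _ huz hu0
    refine ⟨g₁ * g₂, Subgroup.mul_mem _ hg₁ hg₂, fun x => ?_⟩
    change (g₁ : V ≃ₗ[K] V) ((g₂ : V ≃ₗ[K] V) x) = _
    rw [h3, h4, sg_comp hQ hz h1 huz]
    congr 2
    module
  · exact key y hyz hy

end quad

end Cfsg.Agent.H47.DP
end

private theorem dce_90c0e93f47eb : _root_.True := by
  try have : _root_.True := by simp only [_root_.Cfsg.Agent.H47.DP.ind.eq_1]
  exact _root_.True.intro
end

-- part: H739/PQ/E7/Main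
section
prune_inst 0x42010300408c0000000000500000002000000002000008800000200000000000000800800000001080000000000000048100000000040000004840000000404010000040000010019c20090000008200000200000000000000000800000000000208000000
set_option linter.all false
open scoped Cfsg.Agent.FastGrp

-- part: H739/PQ/E7/Lat
section
/-!
# The function `b` on the invariant subspaces (helper739)

`b g W = dim W - ∑ b g W'`, the sum over the `g`-invariant `W' < W`.
* `b_congr`, `b_conj`, `sum_b`;
* `cusp` : cuspidality.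
-/

set_option autoImplicit false

namespace Cfsg.Agent.H739.PQ.E7

open Module

variable {K V : Type*} [Field K] [AddCommGroup V] [Module K V] [Finite V]

/-- `W` is invariant under `g` -/
def Inv (g : End K V) (W : Submodule K V) : Prop := ∀ v ∈ W, g v ∈ W

instance finite_sub : Finite (Submodule K V) := Finite.of_injective (fun W : Submodule K V => (W : Set V))
  SetLike.coe_injective

open Classical in
/-- the alternating function on the invariant subspaces -/
noncomputable def b (g : End K V) : Submodule K V → ℤ :=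
  WellFounded.fix (r := fun W W' : Submodule K V => W < W') wellFounded_lt fun W ih =>
    haveI := Fintype.ofFinite {W' : Submodule K V // W' < W ∧ Inv g W'}
    (finrank K W : ℤ) - ∑ W' : {W' : Submodule K V // W' < W ∧ Inv g W'}, ih W'.1 W'.2.1

open Classical in
theorem b_eq [Fintype (Submodule K V)] (g : End K V) (W : Submodule K V) :
    b g W = (finrank K W : ℤ) - ∑ W' ∈ Finset.univ.filter (fun W' : Submodule K V => W' < W ∧ Inv g W'), b g W' := by
  rw [b, WellFounded.fix_eq]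
  congr 1
  rw [Finset.sum_subtype (Finset.univ.filter (fun W' : Submodule K V => W' < W ∧ Inv g W'))
    (p := fun W' : Submodule K V => W' < W ∧ Inv g W') (fun x => by simp)]

theorem b_bot (g : End K V) : b g (⊥ : Submodule K V) = 0 := by
  classical
  have := Fintype.ofFinite (Submodule K V)
  rw [b_eq, Finset.filter_false_of_mem, Finset.sum_empty, finrank_bot]
  · rfl
  · rintro W' _ ⟨h, -⟩
    exact not_lt_bot h

/-- locality -/
theorem b_congr {g g' : End K V} : ∀ {W : Submodule K V}, (∀ v ∈ W, g v = g' v) → b g W = b g' W := by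
  classical
  have := Fintype.ofFinite (Submodule K V)
  intro W
  induction W using WellFoundedLT.induction with
  | ind W ih =>
    intro h
    rw [b_eq, b_eq]
    congr 1
    have h1 : ∀ W' < W, (Inv g W' ↔ Inv g' W') := by
      intro W' hW'
      constructor
      · intro h2 v hv
        rw [← h v (hW'.le hv)]
        exact h2 v hv
      · intro h2 v hv
        rw [h v (hW'.le hv)]
        exact h2 v hv
    have h2 : Finset.univ.filter (fun W' : Submodule K V => W' < W ∧ Inv g W') =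
        Finset.univ.filter (fun W' : Submodule K V => W' < W ∧ Inv g' W') := by
      ext W'
      rw [Finset.mem_filter, Finset.mem_filter]
      constructor
      · rintro ⟨h3, h4, h5⟩
        exact ⟨h3, h4, (h1 W' h4).1 h5⟩
      · rintro ⟨h3, h4, h5⟩
        exact ⟨h3, h4, (h1 W' h4).2 h5⟩
    rw [h2]
    refine Finset.sum_congr rfl fun W' hW' => ?_
    rw [Finset.mem_filter] at hW'
    exact ih W' hW'.2.1 fun v hv => h v (hW'.2.1.le hv)

/-- invariance under conjugation -/
theorem b_conj (e : V ≃ₗ[K] V) {g g' : End K V} (hg : ∀ v, g' (e v) = e (g v)) :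
    ∀ W : Submodule K V, b g' (W.map (e : V →ₗ[K] V)) = b g W := by
  classical
  have := Fintype.ofFinite (Submodule K V)
  intro W
  induction W using WellFoundedLT.induction with
  | ind W ih =>
    rw [b_eq, b_eq, LinearEquiv.finrank_map_eq]
    congr 1
    symm
    refine Finset.sum_bij (fun W' _ => W'.map (e : V →ₗ[K] V)) ?_ ?_ ?_ ?_
    · intro W' hW'
      rw [Finset.mem_filter] at hW' ⊢
      refine ⟨Finset.mem_univ _, ?_, ?_⟩
      · exact (Submodule.map_strictMono_of_injective e.injective) hW'.2.1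
      · rintro _ ⟨v, hv, rfl⟩
        show g' (e v) ∈ _
        rw [hg]
        exact Submodule.mem_map_of_mem (hW'.2.2 v hv)
    · intro W₁ _ W₂ _ h
      exact Submodule.map_injective_of_injective e.injective h
    · intro W' hW'
      rw [Finset.mem_filter] at hW'
      refine ⟨W'.map (e.symm : V →ₗ[K] V), ?_, ?_⟩
      · rw [Finset.mem_filter]
        refine ⟨Finset.mem_univ _, ?_, ?_⟩
        · have h1 := (Submodule.map_strictMono_of_injective (f := (e.symm : V →ₗ[K] V)) e.symm.injective) hW'.2.1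
          rwa [← Submodule.map_comp, LinearEquiv.comp_coe, LinearEquiv.self_trans_symm, LinearEquiv.refl_toLinearMap,
            Submodule.map_id] at h1
        · rintro _ ⟨v, hv, rfl⟩
          have h1 := hW'.2.2 v hv
          have h2 := hg (e.symm v)
          rw [e.apply_symm_apply] at h2
          rw [h2] at h1
          have h3 : g (e.symm v) = e.symm (e (g (e.symm v))) := (e.symm_apply_apply _).symm
          show g (e.symm v) ∈ _
          rw [h3]
          exact Submodule.mem_map_of_mem h1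
      · rw [← Submodule.map_comp, LinearEquiv.comp_coe, LinearEquiv.symm_trans_self, LinearEquiv.refl_toLinearMap,
          Submodule.map_id]
    · intro W' hW'
      rw [Finset.mem_filter] at hW'
      exact (ih W' hW'.2.1).symm

open Classical in
/-- the sum over all invariant subspaces of an invariant subspace -/
theorem sum_b [Fintype (Submodule K V)] {g : End K V} {W : Submodule K V} (hW : Inv g W) :
    ∑ W' ∈ Finset.univ.filter (fun W' : Submodule K V => W' ≤ W ∧ Inv g W'), b g W' = finrank K W := by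
  have h1 : Finset.univ.filter (fun W' : Submodule K V => W' ≤ W ∧ Inv g W') =
      insert W (Finset.univ.filter (fun W' : Submodule K V => W' < W ∧ Inv g W')) := by
    ext W'
    rw [Finset.mem_insert, Finset.mem_filter, Finset.mem_filter]
    constructor
    · rintro ⟨-, h2, h3⟩
      rcases h2.eq_or_lt with h4 | h4
      · exact Or.inl h4
      · exact Or.inr ⟨Finset.mem_univ _, h4, h3⟩
    · rintro (rfl | ⟨-, h2, h3⟩)
      · exact ⟨Finset.mem_univ _, le_rfl, hW⟩
      · exact ⟨Finset.mem_univ _, h2.le, h3⟩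
  rw [h1, Finset.sum_insert (by simp), b_eq g W, sub_add_cancel]

end Cfsg.Agent.H739.PQ.E7
end

-- part: H739/PQ/E7/Cusp
section
/-!
# Cuspidality of `b` (helper739)

`cusp_gen`: `∑ b (g (1 + φ)) W = 0`, the sum over the `φ : V → W ⊓ S` vanishing on `S`, if `⊥ < W ⊓ S < W` and `g` preserves
`S` and `W`.
-/

set_option autoImplicit false

namespace Cfsg.Agent.H739.PQ.E7

open Module

variable {K V : Type*} [Field K] [AddCommGroup V] [Module K V]

/-- the linear maps into `A` vanishing on `S` -/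
def NN (S A : Submodule K V) : AddSubgroup (End K V) where
  carrier := {φ | (∀ v, φ v ∈ A) ∧ ∀ v ∈ S, φ v = 0}
  zero_mem' := ⟨fun _ => A.zero_mem, fun _ _ => rfl⟩
  add_mem' := by
    rintro φ ψ ⟨h1, h2⟩ ⟨h3, h4⟩
    exact ⟨fun v => A.add_mem (h1 v) (h3 v), fun v hv => by rw [LinearMap.add_apply, h2 v hv, h4 v hv, add_zero]⟩
  neg_mem' := by
    rintro φ ⟨h1, h2⟩
    exact ⟨fun v => A.neg_mem (h1 v), fun v hv => by rw [LinearMap.neg_apply, h2 v hv, neg_zero]⟩

/-- `g (1 + φ)` -/
def tw (g : V ≃ₗ[K] V) (φ : End K V) : End K V := (g : V →ₗ[K] V) ∘ₗ (LinearMap.id + φ)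

theorem tw_apply (g : V ≃ₗ[K] V) (φ : End K V) (v : V) : tw g φ v = g (v + φ v) := rfl

/-- `1 + φ` -/
def unip (φ : End K V) (hφ : ∀ v, φ (φ v) = 0) : V ≃ₗ[K] V :=
  LinearEquiv.ofLinearMap (LinearMap.id + φ) (LinearMap.id - φ)
    (by
      ext v
      simp only [LinearMap.comp_apply, LinearMap.add_apply, LinearMap.sub_apply, LinearMap.id_apply, map_sub, hφ]
      abel)
    (by
      ext v
      simp only [LinearMap.comp_apply, LinearMap.add_apply, LinearMap.sub_apply, LinearMap.id_apply, map_add, hφ]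
      abel)

theorem unip_apply (φ : End K V) (hφ : ∀ v, φ (φ v) = 0) (v : V) : unip φ hφ v = v + φ v := rfl

theorem sq_zero {S A : Submodule K V} (hA : A ≤ S) {φ ψ : End K V} (hφ : φ ∈ NN S A) (hψ : ψ ∈ NN S A) (v : V) :
    φ (ψ v) = 0 := hφ.2 _ (hA (hψ.1 v))

variable [Finite V]

instance finite_end : Finite (End K V) := Finite.of_injective (fun f : End K V => (f : V → V)) DFunLike.coe_injective

/-- an injective map into itself is onto -/
theorem map_mem_iff {g : V ≃ₗ[K] V} {A : Submodule K V} (hA : Inv (g : End K V) A) {v : V} : g v ∈ A ↔ v ∈ A := by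
  constructor
  · intro h
    have : Finite A := inferInstance
    let f : A → A := fun a => ⟨g a, hA a a.2⟩
    have hf : Function.Injective f := by
      intro a a' haa
      exact Subtype.ext (g.injective (congrArg Subtype.val haa))
    obtain ⟨a, ha⟩ := (Finite.injective_iff_surjective.1 hf) ⟨g v, h⟩
    have h1 : g (a : V) = g v := congrArg Subtype.val ha
    rw [← g.injective h1]
    exact a.2
  · exact hA v

omit [Finite V] in
/-- a projection to `R` vanishing on `S` -/
theorem exists_proj {S R : Submodule K V} (h : R ⊓ S = ⊥) :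
    ∃ P : End K V, (∀ v, P v ∈ R) ∧ (∀ v ∈ S, P v = 0) ∧ ∀ v ∈ R, P v = v := by
  let j : R →ₗ[K] V ⧸ S := S.mkQ ∘ₗ R.subtype
  have hj : LinearMap.ker j = ⊥ := by
    rw [LinearMap.ker_eq_bot']
    intro r hr
    have h1 : (r : V) ∈ S := (Submodule.Quotient.mk_eq_zero S).1 hr
    have h2 : (r : V) ∈ R ⊓ S := ⟨r.2, h1⟩
    rw [h] at h2
    exact Subtype.ext ((Submodule.mem_bot K).1 h2)
  obtain ⟨k, hk⟩ := LinearMap.exists_leftInverse_of_injective j hj
  refine ⟨R.subtype ∘ₗ k ∘ₗ S.mkQ, fun v => (k (S.mkQ v)).2, fun v hv => ?_, fun v hv => ?_⟩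
  · have h1 : S.mkQ v = 0 := (Submodule.Quotient.mk_eq_zero S).2 hv
    rw [LinearMap.comp_apply, LinearMap.comp_apply, h1, map_zero, map_zero]
  · have h1 := LinearMap.congr_fun hk ⟨v, hv⟩
    exact congrArg Subtype.val h1

open Classical in
/-- the sum over `NN S A` for a fixed subspace -/
noncomputable def GG (g : V ≃ₗ[K] V) (S A W' : Submodule K V) [Fintype (NN S A)] : ℤ :=
  ∑ φ : NN S A, if Inv (tw g φ) W' then b (tw g φ) W' else 0

open Classical in
/-- the summand of the formula for `finrank` -/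
noncomputable def XX (g : V ≃ₗ[K] V) (C : Submodule K V) : ℤ := if Inv (g : End K V) C then b (g : End K V) C else 0

omit [Finite V] in
theorem inv_tw_add {S A A' W' : Submodule K V} (hAS : A ≤ S) (hA' : A' ≤ A) (hW : A' ≤ W') {g : V ≃ₗ[K] V}
    {φ ψ : End K V} (hφ : φ ∈ NN S A) (hψ : ψ ∈ NN S A') : Inv (tw g (φ + ψ)) W' ↔ Inv (tw g φ) W' := by
  have e : ∀ v, tw g (φ + ψ) v = tw g φ (v + ψ v) := by
    intro v
    have h1 : φ (v + ψ v) = φ v := by rw [map_add φ, hφ.2 _ (hAS (hA' (hψ.1 v))), add_zero]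
    rw [tw_apply, tw_apply, h1, LinearMap.add_apply]
    congr 1
    abel
  constructor
  · intro h v hv
    have h1 := h (v - ψ v) (W'.sub_mem hv (hW (hψ.1 v)))
    rw [e, map_sub, hψ.2 _ (hAS (hA' (hψ.1 v))), sub_zero, sub_add_cancel] at h1
    exact h1
  · intro h v hv
    rw [e]
    exact h _ (W'.add_mem hv (hW (hψ.1 v)))

section Main

variable {W S A : Submodule K V}

/-- translation by an element of `NN S A` -/
theorem GG_translate {S A W' : Submodule K V} [Fintype (NN S A)] (hAS : A ≤ S) {g g' : V ≃ₗ[K] V} {ψ : End K V}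
    (hψ : ψ ∈ NN S A) (hg : ∀ v, g' v = g (v + ψ v)) : GG g' S A W' = GG g S A W' := by
  classical
  unfold GG
  refine Fintype.sum_equiv (Equiv.addLeft (⟨ψ, hψ⟩ : NN S A)) _ _ ?_
  intro φ
  have e : tw g' φ = tw g (ψ + φ) := by
    ext v
    have h1 : ψ (v + (φ : End K V) v) = ψ v := by rw [map_add ψ, sq_zero hAS hψ φ.2, add_zero]
    rw [tw_apply, tw_apply, hg, h1, LinearMap.add_apply]
    congr 1
    abel
  show (if Inv (tw g' φ) W' then b (tw g' φ) W' else 0) = if Inv (tw g (ψ + φ)) W' then b (tw g (ψ + φ)) W' else 0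
  rw [e]

/-- case (b) -/
theorem GG_le [Fintype (NN S A)] {g : V ≃ₗ[K] V} {W' : Submodule K V} (hW' : W' ≤ S) :
    GG g S A W' = Fintype.card (NN S A) * XX g W' := by
  classical
  have e : ∀ φ : NN S A, ∀ v ∈ W', tw g φ v = (g : End K V) v := by
    intro φ v hv
    rw [tw_apply, φ.2.2 v (hW' hv), add_zero]
    rfl
  have h1 : ∀ φ : NN S A, (if Inv (tw g φ) W' then b (tw g φ) W' else 0) = XX g W' := by
    intro φ
    rw [b_congr (e φ)]
    have h2 : Inv (tw g φ) W' ↔ Inv (g : End K V) W' := by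
      constructor
      · intro h v hv
        rw [← e φ v hv]
        exact h v hv
      · intro h v hv
        rw [e φ v hv]
        exact h v hv
    simp only [h2, XX]
  unfold GG
  rw [Finset.sum_congr rfl fun φ _ => h1 φ, Finset.sum_const, Finset.card_univ, nsmul_eq_mul]

/-- case (a) -/
theorem GG_eq_zero [Fintype (NN S A)] (hAS : A ≤ S) {g : V ≃ₗ[K] V} {W' : Submodule K V} (hSg : Inv (g : End K V) S)
    (hW'A : W' ⊓ S ≤ A)
    (ih : ∀ (g' : V ≃ₗ[K] V) [Fintype (NN S (W' ⊓ S))], Inv (g' : End K V) S → Inv (g' : End K V) W' →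
      ∑ φ : NN S (W' ⊓ S), b (tw g' φ) W' = 0) : GG g S A W' = 0 := by
  classical
  have := Fintype.ofFinite (NN S (W' ⊓ S))
  have hle : NN S (W' ⊓ S) ≤ NN S A := fun ψ hψ => ⟨fun v => hW'A (hψ.1 v), hψ.2⟩
  set F : End K V → ℤ := fun φ => if Inv (tw g φ) W' then b (tw g φ) W' else 0 with hF
  have h1 : ∀ φ : NN S A, ∑ ψ : NN S (W' ⊓ S), F (φ + ψ) = 0 := by
    intro φ
    have h2 : ∀ ψ : NN S (W' ⊓ S), (Inv (tw g ((φ : End K V) + ψ)) W' ↔ Inv (tw g φ) W') := fun ψ =>
      inv_tw_add hAS hW'A inf_le_left φ.2 ψ.2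
    by_cases h3 : Inv (tw g φ) W'
    · let g' : V ≃ₗ[K] V := (unip (φ : End K V) (fun v => sq_zero hAS φ.2 φ.2 v)).trans g
      have hg' : ∀ v, g' v = g (v + (φ : End K V) v) := fun v => rfl
      have e : ∀ ψ : NN S (W' ⊓ S), tw g ((φ : End K V) + ψ) = tw g' ψ := by
        intro ψ
        ext v
        have h4 : (φ : End K V) (v + (ψ : End K V) v) = (φ : End K V) v := by
          rw [map_add (φ : End K V), φ.2.2 _ (ψ.2.1 v).2, add_zero]
        rw [tw_apply, tw_apply, hg', h4, LinearMap.add_apply]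
        congr 1
        abel
      have h5 := ih g' (fun v hv => by
          show g' v ∈ S
          rw [hg', φ.2.2 v hv, add_zero]
          exact hSg v hv) (fun v hv => h3 v hv)
      rw [← h5]
      refine Finset.sum_congr rfl fun ψ _ => ?_
      rw [hF]
      beta_reduce
      rw [if_pos ((h2 ψ).2 h3), e]
    · refine Finset.sum_eq_zero fun ψ _ => ?_
      rw [hF]
      beta_reduce
      rw [if_neg (fun h => h3 ((h2 ψ).1 h))]
  have h2 : (Fintype.card (NN S (W' ⊓ S)) : ℤ) * GG g S A W' = 0 := by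
    have h3 : ∀ ψ : NN S (W' ⊓ S), ∑ φ : NN S A, F (φ + ψ) = GG g S A W' := by
      intro ψ
      unfold GG
      exact Fintype.sum_equiv (Equiv.addRight (⟨ψ, hle ψ.2⟩ : NN S A)) _ _ fun φ => rfl
    have h4 : ∑ ψ : NN S (W' ⊓ S), ∑ φ : NN S A, F (φ + ψ) = 0 := by
      rw [Finset.sum_comm]
      exact Finset.sum_eq_zero fun φ _ => h1 φ
    rw [Finset.sum_congr rfl fun ψ _ => h3 ψ, Finset.sum_const, Finset.card_univ, nsmul_eq_mul] at h4
    exact h4
  rcases mul_eq_zero.1 h2 with h3 | h3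
  · exfalso
    have h4 : Fintype.card (NN S (W' ⊓ S)) = 0 := by exact_mod_cast h3
    exact Fintype.card_ne_zero h4
  · exact h3

open Classical in
/-- case (c), one subspace -/
theorem GG_graph [Fintype (NN S A)] [Fintype (Submodule K V)] (hWS : W ⊓ S = A) {g : V ≃ₗ[K] V}
    (hSg : Inv (g : End K V) S) (hWg : Inv (g : End K V) W)
    {R : Submodule K V} (hRg : Inv (g : End K V) R) {P : End K V} (hP1 : ∀ v, P v ∈ R)
    (hP2 : ∀ v ∈ S, P v = 0) (hP3 : ∀ v ∈ R, P v = v) (hP4 : ∀ v ∈ W, v - P v ∈ A)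
    {W' : Submodule K V} (hW' : W' ≤ W) (hW'S : W' ⊓ S = ⊥) :
    GG g S A W' = ∑ C ∈ Finset.univ.filter (fun C : Submodule K V => C ≤ R), ∑ η : NN S A,
      if C.map (LinearMap.id + (η : End K V)) = W' then XX g C else 0 := by
  have hAS : A ≤ S := hWS ▸ inf_le_right
  have hAW : A ≤ W := hWS ▸ inf_le_left
  have hAg : Inv (g : End K V) A := by
    rw [← hWS]
    exact fun v hv => ⟨hWg v hv.1, hSg v hv.2⟩
  -- `P` is injective on `W'`
  let j : W' →ₗ[K] V := P ∘ₗ W'.subtype
  have hj : LinearMap.ker j = ⊥ := by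
    rw [LinearMap.ker_eq_bot']
    intro w hw
    have h1 : P (w : V) = 0 := hw
    have h2 := hP4 w (hW' w.2)
    rw [h1, sub_zero] at h2
    have h3 : (w : V) ∈ W' ⊓ S := ⟨w.2, hAS h2⟩
    rw [hW'S] at h3
    exact Subtype.ext ((Submodule.mem_bot K).1 h3)
  obtain ⟨k, hk⟩ := LinearMap.exists_leftInverse_of_injective j hj
  let k' : End K V := W'.subtype ∘ₗ k
  have hk1 : ∀ v, k' v ∈ W' := fun v => (k v).2
  have hk2 : ∀ w ∈ W', k' (P w) = w := fun w hw => congrArg Subtype.val (LinearMap.congr_fun hk ⟨w, hw⟩)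
  have hPP : ∀ v, P (P v) = P v := fun v => hP3 _ (hP1 v)
  let η₀ : End K V := (k' - P ∘ₗ k') ∘ₗ P
  have hη₀ : ∀ v, η₀ v = k' (P v) - P (k' (P v)) := fun v => rfl
  have hη : η₀ ∈ NN S A := by
    refine ⟨fun v => ?_, fun v hv => ?_⟩
    · rw [hη₀]
      exact hP4 _ (hW' (hk1 _))
    · rw [hη₀, hP2 v hv, map_zero, map_zero, sub_zero]
  set C₀ : Submodule K V := W'.map P with hC₀
  have hC₀R : C₀ ≤ R := by
    rintro _ ⟨v, _, rfl⟩
    exact hP1 v
  have h0 : ∀ w ∈ W', P w + η₀ (P w) = w := by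
    intro w hw
    rw [hη₀, hPP, hk2 w hw]
    abel
  have hmap : C₀.map (LinearMap.id + η₀) = W' := by
    apply le_antisymm
    · rintro _ ⟨_, ⟨w, hw, rfl⟩, rfl⟩
      show P w + η₀ (P w) ∈ W'
      rw [h0 w hw]
      exact hw
    · intro w hw
      refine ⟨P w, ⟨w, hw, rfl⟩, ?_⟩
      exact h0 w hw
  -- the condition
  have hcond : ∀ C ≤ R, ∀ η : NN S A, C.map (LinearMap.id + (η : End K V)) = W' ↔
      C = C₀ ∧ ∀ v ∈ C₀, (η : End K V) v = η₀ v := by
    intro C hC η
    constructor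
    · intro h1
      have h2 : ∀ c ∈ C, P (c + (η : End K V) c) = c := by
        intro c hc
        rw [map_add, hP2 _ (hAS (η.2.1 c)), add_zero, hP3 c (hC hc)]
      have h3 : C = C₀ := by
        apply le_antisymm
        · intro c hc
          refine ⟨c + (η : End K V) c, ?_, h2 c hc⟩
          show c + (η : End K V) c ∈ W'
          rw [← h1]
          exact ⟨c, hc, rfl⟩
        · rintro _ ⟨w, hw, rfl⟩
          have h4 : w ∈ W' := hw
          rw [← h1] at h4
          obtain ⟨c, hc, rfl⟩ := h4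
          have h5 := h2 c hc
          show P (c + (η : End K V) c) ∈ C
          rw [h5]
          exact hc
      refine ⟨h3, fun v hv => ?_⟩
      rw [← h3] at hv
      have h4 : v + (η : End K V) v ∈ W' := by
        rw [← h1]
        exact ⟨v, hv, rfl⟩
      have h5 := h0 _ h4
      rw [h2 v hv] at h5
      exact (add_left_cancel h5).symm
    · rintro ⟨rfl, h2⟩
      rw [← hmap]
      apply le_antisymm
      · rintro _ ⟨c, hc, rfl⟩
        refine ⟨c, hc, ?_⟩
        show c + η₀ c = c + (η : End K V) c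
        rw [h2 c hc]
      · rintro _ ⟨c, hc, rfl⟩
        refine ⟨c, hc, ?_⟩
        show c + (η : End K V) c = c + η₀ c
        rw [h2 c hc]
  -- the right hand side
  have hR : ∑ C ∈ Finset.univ.filter (fun C : Submodule K V => C ≤ R), ∑ η : NN S A,
      (if C.map (LinearMap.id + (η : End K V)) = W' then XX g C else 0) =
      ∑ η : NN S A, if (∀ v ∈ C₀, (η : End K V) v = η₀ v) then XX g C₀ else 0 := by
    rw [Finset.sum_eq_single_of_mem C₀ (by rw [Finset.mem_filter]; exact ⟨Finset.mem_univ _, hC₀R⟩)]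
    · refine Finset.sum_congr rfl fun η _ => ?_
      have h1 := hcond C₀ hC₀R η
      simp only [true_and] at h1
      simp only [h1]
    · intro C hC hne
      refine Finset.sum_eq_zero fun η _ => ?_
      rw [Finset.mem_filter] at hC
      rw [if_neg (fun h => hne ((hcond C hC.2 η).1 h).1)]
  rw [hR]
  -- the left hand side
  have hginv : ∀ v ∈ A, g.symm v ∈ A := by
    intro v hv
    rw [← map_mem_iff hAg, g.apply_symm_apply]
    exact hv
  have hginvS : ∀ v ∈ S, g v ∈ S := hSg
  let κ : End K V := (g.symm : V →ₗ[K] V) ∘ₗ η₀ ∘ₗ (g : V →ₗ[K] V)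
  have hκ : ∀ v, κ v = g.symm (η₀ (g v)) := fun v => rfl
  have hκN : κ ∈ NN S A := by
    refine ⟨fun v => hginv _ (hη.1 _), fun v hv => ?_⟩
    rw [hκ, hη.2 _ (hginvS v hv), map_zero]
  unfold GG
  -- the new variable is `φ + 2 η₀ - κ`
  let δ : NN S A := ⟨η₀, hη⟩ + ⟨η₀, hη⟩ - ⟨κ, hκN⟩
  have hδ : (δ : End K V) = η₀ + η₀ - κ := rfl
  refine Fintype.sum_equiv (Equiv.addRight δ) _ _ ?_
  intro φ
  show (if Inv (tw g φ) W' then b (tw g φ) W' else 0) =
    if (∀ v ∈ C₀, (φ + δ : End K V) v = η₀ v) then XX g C₀ else 0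
  set e : V ≃ₗ[K] V := unip η₀ (fun v => sq_zero hAS hη hη v) with he
  have he1 : ∀ v, e v = v + η₀ v := fun v => rfl
  set φ' : End K V := (φ : End K V) + η₀ - κ with hφ'
  have hφ'N : φ' ∈ NN S A := (NN S A).sub_mem ((NN S A).add_mem φ.2 hη) hκN
  have hconj : ∀ v, tw g φ (e v) = e (tw g φ' v) := by
    intro v
    have h1 : (φ : End K V) (η₀ v) = 0 := sq_zero hAS φ.2 hη v
    have h2 : η₀ (g ((φ : End K V) v)) = 0 := hη.2 _ (hAS (hAg _ (φ.2.1 v)))
    have h3 : η₀ (g (η₀ v)) = 0 := hη.2 _ (hAS (hAg _ (hη.1 v)))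
    have h4 : η₀ (η₀ (g v)) = 0 := sq_zero hAS hη hη _
    rw [tw_apply, tw_apply, he1, he1, hφ', LinearMap.sub_apply, LinearMap.add_apply, hκ]
    simp only [map_add, map_sub, g.apply_symm_apply, h1, h2, h3, h4, map_zero]
    abel
  have hWe : W' = C₀.map (e : V →ₗ[K] V) := hmap.symm
  have hb : b (tw g φ) W' = b (tw g φ') C₀ := by
    rw [hWe]
    exact b_conj e hconj C₀
  have hI : Inv (tw g φ) W' ↔ Inv (tw g φ') C₀ := by
    rw [hWe]
    constructor
    · intro h v hv
      have h1 := h (e v) ⟨v, hv, rfl⟩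
      rw [hconj] at h1
      obtain ⟨w, hw, hwe⟩ := h1
      have h2 : w = tw g φ' v := e.injective hwe
      rw [← h2]
      exact hw
    · rintro h _ ⟨v, hv, rfl⟩
      show tw g φ (e v) ∈ _
      rw [hconj]
      exact ⟨_, h v hv, rfl⟩
  have hI2 : Inv (tw g φ') C₀ ↔ (∀ v ∈ C₀, φ' v = 0) ∧ Inv (g : End K V) C₀ := by
    constructor
    · intro h
      have h1 : ∀ v ∈ C₀, φ' v = 0 := by
        intro v hv
        have h2 : g (v + φ' v) ∈ R := hC₀R (h v hv)
        rw [map_add] at h2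
        have h3 : g (φ' v) ∈ R := by
          have h4 := R.sub_mem h2 (hRg v (hC₀R hv))
          have h5 : g v + g (φ' v) - (g : End K V) v = g (φ' v) := by
            show g v + g (φ' v) - g v = _
            abel
          rwa [h5] at h4
        have h4 : g (φ' v) ∈ S := hAS (hAg _ (hφ'N.1 v))
        have h5 : g (φ' v) = 0 := by
          rw [← hP3 _ h3, hP2 _ h4]
        exact (LinearEquiv.map_eq_zero_iff g).1 h5
      refine ⟨h1, fun v hv => ?_⟩
      have h2 := h v hv
      rw [tw_apply, h1 v hv, add_zero] at h2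
      exact h2
    · rintro ⟨h1, h2⟩ v hv
      rw [tw_apply, h1 v hv, add_zero]
      exact h2 v hv
  have hcnd : (∀ v ∈ C₀, ((φ : End K V) + (δ : End K V)) v = η₀ v) ↔ ∀ v ∈ C₀, φ' v = 0 := by
    refine forall₂_congr fun v _ => ?_
    rw [hδ, hφ']
    simp only [LinearMap.sub_apply, LinearMap.add_apply]
    constructor
    · intro h
      have h1 : (φ : End K V) v + η₀ v - κ v = ((φ : End K V) v + (η₀ v + η₀ v - κ v)) - η₀ v := by abel
      rw [h1, h, sub_self]
    · intro h
      have h1 : (φ : End K V) v + (η₀ v + η₀ v - κ v) = ((φ : End K V) v + η₀ v - κ v) + η₀ v := by abel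
      rw [h1, h, zero_add]
  rw [hb]
  simp only [hI, hI2, hcnd]
  by_cases h1 : ∀ v ∈ C₀, φ' v = 0
  · have h2 : b (tw g φ') C₀ = b (g : End K V) C₀ := b_congr fun v hv => by
      rw [tw_apply, h1 v hv, add_zero]
      rfl
    rw [if_pos h1, XX, h2]
    by_cases h3 : Inv (g : End K V) C₀
    · rw [if_pos ⟨h1, h3⟩, if_pos h3]
    · rw [if_neg (fun h => h3 h.2), if_neg h3]
  · rw [if_neg (fun h => h1 h.1), if_neg h1]

open Classical in
/-- case (c) -/
theorem sum_GG [Fintype (NN S A)] [Fintype (Submodule K V)] (hWS : W ⊓ S = A) {g : V ≃ₗ[K] V}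
    (hSg : Inv (g : End K V) S) (hWg : Inv (g : End K V) W) :
    ∑ W' ∈ Finset.univ.filter (fun W' : Submodule K V => W' ≤ W ∧ W' ⊓ S = ⊥), GG g S A W' =
      Fintype.card (NN S A) * ((finrank K W : ℤ) - finrank K A) := by
  have hAS : A ≤ S := hWS ▸ inf_le_right
  have hAW : A ≤ W := hWS ▸ inf_le_left
  have hAg : Inv (g : End K V) A := by
    rw [← hWS]
    exact fun v hv => ⟨hWg v hv.1, hSg v hv.2⟩
  -- a complement
  obtain ⟨R₀, hR₀⟩ := Submodule.exists_isCompl A
  set R : Submodule K V := R₀ ⊓ W with hR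
  have hRW : R ≤ W := inf_le_right
  have hRA : R ⊓ A = ⊥ := by
    rw [eq_bot_iff, ← hR₀.inf_eq_bot]
    exact le_inf inf_le_right (inf_le_left.trans inf_le_left)
  have hsup : A ⊔ R = W := by
    rw [hR, ← sup_inf_assoc_of_le R₀ hAW, hR₀.sup_eq_top, top_inf_eq]
  have hRS : R ⊓ S = ⊥ := by
    rw [eq_bot_iff]
    intro v hv
    have h1 : v ∈ R ⊓ A := ⟨hv.1, by rw [← hWS]; exact ⟨hRW hv.1, hv.2⟩⟩
    rwa [hRA] at h1
  obtain ⟨P, hP1, hP2, hP3⟩ := exists_proj hRS
  have hP4 : ∀ v ∈ W, v - P v ∈ A := by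
    intro v hv
    rw [← hsup] at hv
    obtain ⟨a, ha, r, hr, rfl⟩ := Submodule.mem_sup.1 hv
    rw [map_add, hP2 a (hAS ha), hP3 r hr, zero_add, add_sub_cancel_right]
    exact ha
  have hdim : (finrank K W : ℤ) - finrank K A = finrank K R := by
    have h1 := Submodule.finrank_sup_add_finrank_inf_eq A R
    rw [hsup, inf_comm, hRA, finrank_bot] at h1
    omega
  -- normalise `g`
  have hginv : ∀ v ∈ A, g.symm v ∈ A := by
    intro v hv
    rw [← map_mem_iff hAg, g.apply_symm_apply]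
    exact hv
  let ψ₀ : End K V := -((g.symm : V →ₗ[K] V) ∘ₗ (LinearMap.id - P) ∘ₗ (g : V →ₗ[K] V) ∘ₗ P)
  have hψ₀ : ∀ v, ψ₀ v = -(g.symm (g (P v) - P (g (P v)))) := fun v => rfl
  have hψN : ψ₀ ∈ NN S A := by
    refine ⟨fun v => ?_, fun v hv => ?_⟩
    · rw [hψ₀]
      exact A.neg_mem (hginv _ (hP4 _ (hWg _ (hRW (hP1 v)))))
    · rw [hψ₀, hP2 v hv, map_zero, map_zero, sub_zero, map_zero, neg_zero]
  let g₁ : V ≃ₗ[K] V := (unip ψ₀ (fun v => sq_zero hAS hψN hψN v)).trans g
  have hg₁ : ∀ v, g₁ v = g (v + ψ₀ v) := fun v => rfl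
  have hg₁S : Inv (g₁ : End K V) S := by
    intro v hv
    show g₁ v ∈ S
    rw [hg₁, hψN.2 v hv, add_zero]
    exact hSg v hv
  have hg₁W : Inv (g₁ : End K V) W := by
    intro v hv
    show g₁ v ∈ W
    rw [hg₁]
    exact hWg _ (W.add_mem hv (hAW (hψN.1 v)))
  have hg₁R : Inv (g₁ : End K V) R := by
    intro v hv
    show g₁ v ∈ R
    rw [hg₁, hψ₀, hP3 v hv, map_add, map_neg, g.apply_symm_apply]
    have h1 : g v + -(g v - P (g v)) = P (g v) := by abel
    rw [h1]
    exact hP1 _
  have e1 : ∀ W' : Submodule K V, GG g S A W' = GG g₁ S A W' := fun W' => (GG_translate hAS hψN hg₁).symm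
  rw [Finset.sum_congr rfl fun W' _ => e1 W', Finset.sum_congr rfl fun W' hW' =>
    GG_graph hWS hg₁S hg₁W hg₁R hP1 hP2 hP3 hP4 (Finset.mem_filter.1 hW').2.1 (Finset.mem_filter.1 hW').2.2,
    Finset.sum_comm, hdim, ← sum_b hg₁R, Finset.mul_sum]
  have e2 : ∑ W' ∈ Finset.univ.filter (fun W' : Submodule K V => W' ≤ R ∧ Inv (g₁ : End K V) W'),
      (Fintype.card (NN S A) : ℤ) * b (g₁ : End K V) W' =
      ∑ C ∈ Finset.univ.filter (fun W' : Submodule K V => W' ≤ R), (Fintype.card (NN S A) : ℤ) * XX g₁ C := by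
    rw [← Finset.filter_filter, Finset.sum_filter]
    refine Finset.sum_congr rfl fun C _ => ?_
    rw [XX]
    by_cases h1 : Inv (g₁ : End K V) C
    · rw [if_pos h1, if_pos h1]
    · rw [if_neg h1, if_neg h1, mul_zero]
  rw [e2]
  refine Finset.sum_congr rfl fun C hC => ?_
  rw [Finset.mem_filter] at hC
  rw [Finset.sum_comm]
  have e3 : ∀ η : NN S A, (∑ W' ∈ Finset.univ.filter (fun W' : Submodule K V => W' ≤ W ∧ W' ⊓ S = ⊥),
      if C.map (LinearMap.id + (η : End K V)) = W' then XX g₁ C else 0) = XX g₁ C := by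
    intro η
    rw [Finset.sum_ite_eq, if_pos]
    rw [Finset.mem_filter]
    refine ⟨Finset.mem_univ _, ?_, ?_⟩
    · rintro _ ⟨c, hc, rfl⟩
      exact W.add_mem (hRW (hC.2 hc)) (hAW (η.2.1 c))
    · rw [eq_bot_iff]
      rintro _ ⟨⟨c, hc, rfl⟩, h2⟩
      have h3 : c + (η : End K V) c ∈ S := h2
      have h4 : c ∈ S := by
        have h5 := S.sub_mem h3 (hAS (η.2.1 c))
        rwa [add_sub_cancel_right] at h5
      have h5 : c ∈ R ⊓ S := ⟨hC.2 hc, h4⟩
      rw [hRS] at h5
      have h6 : c = 0 := (Submodule.mem_bot K).1 h5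
      rw [h6, map_zero]
      exact Submodule.zero_mem _
  rw [Finset.sum_congr rfl fun η _ => e3 η, Finset.sum_const, Finset.card_univ, nsmul_eq_mul]

end Main

/-- **cuspidality** -/
theorem cusp_gen : ∀ (W S A : Submodule K V) (g : V ≃ₗ[K] V) [Fintype (NN S A)], W ⊓ S = A → Inv (g : End K V) S →
    Inv (g : End K V) W → A ≠ ⊥ → ¬ W ≤ S → ∑ φ : NN S A, b (tw g φ) W = 0 := by
  classical
  have := Fintype.ofFinite (Submodule K V)
  intro W
  induction W using WellFoundedLT.induction with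
  | ind W ih =>
    intro S A g _ hAdef hSg hWg hA hWS
    have hAS : A ≤ S := hAdef ▸ inf_le_right
    have hAW : A ≤ W := hAdef ▸ inf_le_left
    have hAg : Inv (g : End K V) A := by
      rw [← hAdef]
      exact fun v hv => ⟨hWg v hv.1, hSg v hv.2⟩
    have h1 : ∑ φ : NN S A, b (tw g φ) W = Fintype.card (NN S A) * (finrank K W : ℤ) -
        ∑ W' ∈ Finset.univ.filter (fun W' : Submodule K V => W' < W), GG g S A W' := by
      have h2 : ∀ φ : NN S A, b (tw g φ) W = (finrank K W : ℤ) -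
          ∑ W' ∈ Finset.univ.filter (fun W' : Submodule K V => W' < W),
            if Inv (tw g φ) W' then b (tw g φ) W' else 0 := by
        intro φ
        rw [b_eq, ← Finset.sum_filter, Finset.filter_filter]
      rw [Finset.sum_congr rfl fun φ _ => h2 φ, Finset.sum_sub_distrib, Finset.sum_const, Finset.card_univ,
        nsmul_eq_mul, Finset.sum_comm]
      rfl
    rw [h1]
    have h2 : ∀ W' ∈ Finset.univ.filter (fun W' : Submodule K V => W' < W), GG g S A W' =
        (if W' ≤ A then Fintype.card (NN S A) * XX g W' else 0) + if W' ⊓ S = ⊥ then GG g S A W' else 0 := by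
      intro W' hW'
      have hlt : W' < W := (Finset.mem_filter.1 hW').2
      by_cases h3 : W' ≤ A
      · have h4 := GG_le (S := S) (A := A) (g := g) (h3.trans hAS)
        rw [if_pos h3]
        by_cases h5 : W' ⊓ S = ⊥
        · have h6 : W' = ⊥ := by
            rw [inf_eq_left.2 (h3.trans hAS)] at h5
            exact h5
          have h7 : XX g W' = 0 := by
            rw [XX, h6, b_bot, ite_self]
          rw [if_pos h5, h4, h7, mul_zero, add_zero]
        · rw [if_neg h5, add_zero, h4]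
      · rw [if_neg h3, zero_add]
        by_cases h5 : W' ⊓ S = ⊥
        · rw [if_pos h5]
        · rw [if_neg h5]
          refine GG_eq_zero hAS hSg (by rw [← hAdef]; exact le_inf (inf_le_left.trans hlt.le) inf_le_right) ?_
          intro g' _ h6 h7
          refine ih W' hlt S _ g' rfl h6 h7 h5 ?_
          intro h8
          exact h3 (by rw [← hAdef]; exact le_inf hlt.le h8)
    rw [Finset.sum_congr rfl h2, Finset.sum_add_distrib, ← Finset.sum_filter, ← Finset.sum_filter,
      Finset.filter_filter, Finset.filter_filter]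
    have hAltW : A < W := lt_of_le_of_ne hAW fun h => hWS (by rw [← h]; exact hAS)
    have e1 : Finset.univ.filter (fun W' : Submodule K V => W' < W ∧ W' ≤ A) =
        Finset.univ.filter (fun W' : Submodule K V => W' ≤ A) := by
      ext W'
      simp only [Finset.mem_filter, Finset.mem_univ, true_and, and_iff_right_iff_imp]
      exact fun h => h.trans_lt hAltW
    have e2 : Finset.univ.filter (fun W' : Submodule K V => W' < W ∧ W' ⊓ S = ⊥) =
        Finset.univ.filter (fun W' : Submodule K V => W' ≤ W ∧ W' ⊓ S = ⊥) := by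
      ext W'
      simp only [Finset.mem_filter, Finset.mem_univ, true_and]
      constructor
      · rintro ⟨h3, h4⟩
        exact ⟨h3.le, h4⟩
      · rintro ⟨h3, h4⟩
        refine ⟨lt_of_le_of_ne h3 ?_, h4⟩
        rintro rfl
        exact hA (hAdef ▸ h4)
    rw [e1, e2, sum_GG hAdef hSg hWg, ← Finset.mul_sum]
    have e3 : ∑ W' ∈ Finset.univ.filter (fun W' : Submodule K V => W' ≤ A), XX g W' = finrank K A := by
      rw [← sum_b hAg]
      unfold XX
      rw [← Finset.sum_filter, Finset.filter_filter]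
    rw [e3]
    ring

end Cfsg.Agent.H739.PQ.E7
end

-- part: H739/PQ/E7/Gen
section
/-!
# Generalised characters from families on a set with a group action (helper739)

`gen_family`: `s ↦ ∑ c s ω`, the sum over the fixed points of `s`.
-/

set_option autoImplicit false

namespace Cfsg.Agent.H739.PQ.E7

open Cfsg

universe u v

/-- the sum over an orbit -/
theorem sum_orbit {Γ : Type u} [Group Γ] [Fintype Γ] {Ω : Type v} [MulAction Γ Ω] [Fintype Ω] [DecidableEq Ω]
    [DecidableEq (MulAction.orbitRel.Quotient Γ Ω)] (ω₀ : Ω) (h : Ω → ℂ) :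
    ∑ x : Γ, h (x • ω₀) = Nat.card (MulAction.stabilizer Γ ω₀) *
      ∑ ω ∈ Finset.univ.filter (fun ω : Ω => (Quotient.mk'' ω : MulAction.orbitRel.Quotient Γ Ω) = Quotient.mk'' ω₀),
        h ω := by
  classical
  have hs : ∀ x ∈ (Finset.univ : Finset Γ), x • ω₀ ∈ Finset.univ.filter
      (fun ω : Ω => (Quotient.mk'' ω : MulAction.orbitRel.Quotient Γ Ω) = Quotient.mk'' ω₀) := by
    intro x _
    rw [Finset.mem_filter]
    refine ⟨Finset.mem_univ _, ?_⟩
    exact Quotient.sound' ⟨x, rfl⟩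
  rw [← Finset.sum_fiberwise_of_maps_to hs, Finset.mul_sum]
  refine Finset.sum_congr rfl fun ω hω => ?_
  rw [Finset.mem_filter] at hω
  obtain ⟨x₀, hx₀⟩ : ω ∈ MulAction.orbit Γ ω₀ := MulAction.orbitRel_apply.1 (Quotient.exact' hω.2)
  have h1 : ∀ x ∈ Finset.univ.filter (fun x : Γ => x • ω₀ = ω), h (x • ω₀) = h ω := by
    intro x hx
    rw [(Finset.mem_filter.1 hx).2]
  rw [Finset.sum_congr rfl h1, Finset.sum_const, nsmul_eq_mul]
  congr 1
  rw [Nat.card_eq_fintype_card, Nat.cast_inj]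
  symm
  refine Finset.card_bij (fun (s : MulAction.stabilizer Γ ω₀) _ => x₀ * (s : Γ)) ?_ ?_ ?_
  · intro s _
    rw [Finset.mem_filter]
    refine ⟨Finset.mem_univ _, ?_⟩
    rw [mul_smul, s.2]
    exact hx₀
  · intro s _ t _ hst
    exact Subtype.ext (mul_left_cancel hst)
  · intro x hx
    rw [Finset.mem_filter] at hx
    refine ⟨⟨x₀⁻¹ * x, ?_⟩, Finset.mem_univ _, mul_inv_cancel_left _ _⟩
    rw [MulAction.mem_stabilizer_iff, mul_smul, hx.2, ← hx₀]
    exact inv_smul_smul _ _

theorem gen_family_aux {Γ : Type u} [Group Γ] [Fintype Γ] {Ω : Type v} [MulAction Γ Ω] [Fintype Ω] [DecidableEq Ω]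
    (c : Γ → Ω → ℂ)
    (hc : ∀ (ω : Ω) (S : Subgroup Γ), (∀ s ∈ S, s • ω = ω) → IsGeneralizedCharacter S (fun s => c s ω))
    (he : ∀ s t ω, c (t * s * t⁻¹) (t • ω) = c s ω) :
    IsGeneralizedCharacter Γ (fun s => ∑ ω : Ω, if s • ω = ω then c s ω else 0) := by
  classical
  have h1 : (fun s => ∑ ω : Ω, if s • ω = ω then c s ω else 0) =
      ∑ o : MulAction.orbitRel.Quotient Γ Ω, indFun (MulAction.stabilizer Γ o.out) (fun s => c s o.out) := by
    funext s
    rw [Finset.sum_apply, ← Finset.sum_fiberwise Finset.univ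
      (fun ω : Ω => (Quotient.mk'' ω : MulAction.orbitRel.Quotient Γ Ω))]
    refine Finset.sum_congr rfl fun o _ => ?_
    have h2 := sum_orbit (Γ := Γ) o.out (fun ω => if s • ω = ω then c s ω else 0)
    have h3 : (Quotient.mk'' o.out : MulAction.orbitRel.Quotient Γ Ω) = o := Quotient.out_eq' o
    rw [h3] at h2
    rw [indFun]
    have h4 : ∀ x : Γ, extendByZero (MulAction.stabilizer Γ o.out) (fun s => c s o.out) (x⁻¹ * s * x) =
        if s • (x • o.out) = x • o.out then c s (x • o.out) else 0 := by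
      intro x
      have h5 : x⁻¹ * s * x ∈ MulAction.stabilizer Γ o.out ↔ s • (x • o.out) = x • o.out := by
        rw [MulAction.mem_stabilizer_iff, mul_smul, mul_smul, inv_smul_eq_iff]
      by_cases h6 : s • (x • o.out) = x • o.out
      · rw [if_pos h6, Cfsg.Agent.OddOrderCharacters.Clifford.ext_apply_mem _ _ _ (h5.2 h6)]
        have h7 := he (x⁻¹ * s * x) x o.out
        have h8 : x * (x⁻¹ * s * x) * x⁻¹ = s := by group
        rw [h8] at h7
        exact h7.symm
      · rw [if_neg h6, Cfsg.Agent.OddOrderCharacters.Clifford.ext_apply_not_mem _ _ _ (fun h => h6 (h5.1 h))]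
    rw [Finset.sum_congr rfl fun x _ => h4 x, h2, ← mul_assoc, inv_mul_cancel₀, one_mul]
    exact Nat.cast_ne_zero.2 Nat.card_pos.ne'
  rw [h1]
  refine Cfsg.Agent.OddOrderCharacters.FeitCoherence.isGen_sum _ fun o _ => ?_
  have : Fintype (MulAction.stabilizer Γ o.out) := Fintype.ofFinite _
  exact Cfsg.Agent.OddOrderCharacters.IndRes.isGeneralizedCharacter_indFun _ (hc _ _ fun s hs => hs)

/-- **families** -/
theorem gen_family {Γ : Type u} [Group Γ] [Finite Γ] {Ω : Type v} [Finite Ω] (a : Γ →* Equiv.Perm Ω) (c : Γ → Ω → ℂ)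
    (hc : ∀ (ω : Ω) (S : Subgroup Γ), (∀ s ∈ S, a s ω = ω) → IsGeneralizedCharacter S (fun s => c s ω))
    (he : ∀ s t ω, c (t * s * t⁻¹) (a t ω) = c s ω) :
    IsGeneralizedCharacter Γ (fun s => ∑ᶠ ω : Ω, open Classical in if a s ω = ω then c s ω else 0) := by
  classical
  have := Fintype.ofFinite Γ
  have := Fintype.ofFinite Ω
  let _ : MulAction Γ Ω := MulAction.compHom Ω a
  have h1 := gen_family_aux (Γ := Γ) (Ω := Ω) c hc he
  have h2 : (fun s => ∑ᶠ ω : Ω, open Classical in if a s ω = ω then c s ω else 0) =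
      (fun s => ∑ ω : Ω, if s • ω = ω then c s ω else 0) := by
    funext s
    rw [finsum_eq_sum_of_fintype]
    rfl
  rw [h2]
  exact h1

end Cfsg.Agent.H739.PQ.E7
end

-- part: H739/PQ/E7/Avg
section
/-!
# `b`: generalised character, mean value (helper739)

* `gen_b` : `s ↦ b (r s) W` is a generalised character of a group stabilising `W`;
* `avg_b` : its mean value is `1` if the group induces all isomorphisms between proper subspaces of `W`.
-/

set_option autoImplicit false

namespace Cfsg.Agent.H739.PQ.E7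

open Module Cfsg

universe u v

variable {K : Type*} {V : Type v} [Field K] [AddCommGroup V] [Module K V] [Finite V]

omit [Finite V] in
theorem map_map (g h : V ≃ₗ[K] V) (W : Submodule K V) :
    (W.map (h : V →ₗ[K] V)).map (g : V →ₗ[K] V) = W.map ((g * h : V ≃ₗ[K] V) : V →ₗ[K] V) := by
  rw [← Submodule.map_comp]
  rfl

theorem inv_iff_map {g : V ≃ₗ[K] V} {W : Submodule K V} : Inv (g : End K V) W ↔ W.map (g : V →ₗ[K] V) = W := by
  constructor
  · intro h
    apply le_antisymm
    · rintro _ ⟨v, hv, rfl⟩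
      exact h v hv
    · intro v hv
      refine ⟨g.symm v, ?_, g.apply_symm_apply v⟩
      show g.symm v ∈ W
      rw [← map_mem_iff h, g.apply_symm_apply]
      exact hv
  · intro h v hv
    rw [← h]
    exact ⟨v, hv, rfl⟩

/-- the action on the subspaces -/
def subPerm : (V ≃ₗ[K] V) →* Equiv.Perm (Submodule K V) where
  toFun g := ⟨fun W => W.map (g : V →ₗ[K] V), fun W => W.map ((g⁻¹ : V ≃ₗ[K] V) : V →ₗ[K] V),
    fun W => by
      show (W.map (g : V →ₗ[K] V)).map ((g⁻¹ : V ≃ₗ[K] V) : V →ₗ[K] V) = W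
      rw [map_map, inv_mul_cancel]
      exact Submodule.map_id W,
    fun W => by
      show (W.map ((g⁻¹ : V ≃ₗ[K] V) : V →ₗ[K] V)).map (g : V →ₗ[K] V) = W
      rw [map_map, mul_inv_cancel]
      exact Submodule.map_id W⟩
  map_one' := by
    ext1 W
    exact Submodule.map_id W
  map_mul' g h := by
    ext1 W
    exact (map_map g h W).symm

theorem gen_b : ∀ (W : Submodule K V) {Γ : Type u} [Group Γ] [Finite Γ] (r : Γ →* (V ≃ₗ[K] V)),
    (∀ s, Inv (r s : End K V) W) → IsGeneralizedCharacter Γ (fun s => (b (r s : End K V) W : ℂ)) := by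
  classical
  have := Fintype.ofFinite (Submodule K V)
  intro W
  induction W using WellFoundedLT.induction with
  | ind W ih =>
    intro Γ _ _ r hr
    let c : Γ → Submodule K V → ℂ := fun s W' => if W' < W then (b (r s : End K V) W' : ℂ) else 0
    have hmapW : ∀ s, W.map (r s : V →ₗ[K] V) = W := fun s => inv_iff_map.1 (hr s)
    have hg := gen_family (Γ := Γ) (Ω := Submodule K V) (subPerm.comp r) c ?_ ?_
    · have h1 : (fun s => (b (r s : End K V) W : ℂ)) = (finrank K W) • (1 : Γ → ℂ) -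
          (fun s => ∑ᶠ ω : Submodule K V, if (subPerm.comp r) s ω = ω then c s ω else 0) := by
        funext s
        rw [Pi.sub_apply, finsum_eq_sum_of_fintype, b_eq, Pi.smul_apply, Pi.one_apply, nsmul_eq_mul, mul_one]
        push_cast
        congr 1
        rw [Finset.sum_filter]
        refine Finset.sum_congr rfl fun W' _ => ?_
        have h2 : (subPerm.comp r) s W' = W' ↔ Inv (r s : End K V) W' := inv_iff_map.symm
        simp only [h2, c]
        by_cases h3 : W' < W
        · by_cases h4 : Inv (r s : End K V) W'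
          · rw [if_pos ⟨h3, h4⟩, if_pos h4, if_pos h3]
          · rw [if_neg (fun h => h4 h.2), if_neg h4]
        · rw [if_neg (fun h => h3 h.1), if_neg h3, ite_self]
      rw [h1]
      refine Cfsg.Agent.OddOrderCharacters.FeitCoherence.isGen_sub ?_ hg
      exact Cfsg.Agent.OddOrderCharacters.FeitCoherence.isGen_nsmul _
        (Cfsg.Agent.OddOrderCharacters.FeitCoherence.isGen_of_isCharacter Cfsg.Agent.Characters.Core.isCharacter_one)
    · intro W' S hS
      by_cases h3 : W' < W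
      · have h4 := ih W' h3 (r.comp S.subtype) (fun s => inv_iff_map.2 (hS s s.2))
        simp only [c, if_pos h3]
        exact h4
      · simp only [c, if_neg h3]
        exact Cfsg.Agent.OddOrderCharacters.FeitCoherence.isGen_zero
    · intro s t W'
      have h5 : (subPerm.comp r) t W' < W ↔ W' < W := by
        have h6 : (subPerm.comp r) t W' = W'.map (r t : V →ₗ[K] V) := rfl
        rw [h6]
        conv_lhs => rw [← hmapW t]
        constructor
        · intro h
          refine lt_of_le_of_ne ?_ ?_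
          · intro v hv
            obtain ⟨w, hw, hwe⟩ := h.le ⟨v, hv, rfl⟩
            rw [← (r t).injective hwe]
            exact hw
          · rintro rfl
            exact lt_irrefl _ h
        · intro h
          exact Submodule.map_strictMono_of_injective (r t).injective h
      simp only [c, h5]
      by_cases h3 : W' < W
      · rw [if_pos h3, if_pos h3, Int.cast_inj]
        refine b_conj (r t) ?_ W'
        intro v
        show (r (t * s * t⁻¹)) (r t v) = r t (r s v)
        rw [map_mul, map_mul, map_inv]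
        show (r t) ((r s) ((r t)⁻¹ (r t v))) = _
        rw [show ((r t)⁻¹ : V ≃ₗ[K] V) (r t v) = v from (r t).symm_apply_apply v]
      · rw [if_neg h3, if_neg h3]

/-! ### mean values -/

/-- `L` induces all isomorphisms between proper subspaces of `W` -/
def Ext (L : Subgroup (V ≃ₗ[K] V)) (W : Submodule K V) : Prop :=
  ∀ (A B : Submodule K V), A < W → B < W → ∀ e : A ≃ₗ[K] B, ∃ h ∈ L, ∀ v : A, h v = e v

/-- the stabiliser -/
def stab (L : Subgroup (V ≃ₗ[K] V)) (A : Submodule K V) : Subgroup (V ≃ₗ[K] V) where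
  carrier := {h | h ∈ L ∧ A.map (h : V →ₗ[K] V) = A}
  one_mem' := ⟨L.one_mem, Submodule.map_id A⟩
  mul_mem' := by
    rintro g h ⟨hg, hg'⟩ ⟨hh, hh'⟩
    exact ⟨L.mul_mem hg hh, by rw [← map_map, hh', hg']⟩
  inv_mem' := by
    rintro g ⟨hg, hg'⟩
    refine ⟨L.inv_mem hg, ?_⟩
    conv_lhs => rw [← hg']
    rw [map_map, inv_mul_cancel]
    exact Submodule.map_id A

instance finite_equiv : Finite (V ≃ₗ[K] V) := Finite.of_injective (fun f : V ≃ₗ[K] V => (f : V → V))
  DFunLike.coe_injective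

theorem Ext.stab {L : Subgroup (V ≃ₗ[K] V)} {W A : Submodule K V} (h : Ext L W) (hA : A < W) : Ext (stab L A) A := by
  intro B C hB hC e
  -- extend `e` to `A`
  let B' : Submodule K A := B.comap A.subtype
  let C' : Submodule K A := C.comap A.subtype
  let eB : B' ≃ₗ[K] B := Submodule.comapSubtypeEquivOfLe hB.le
  let eC : C' ≃ₗ[K] C := Submodule.comapSubtypeEquivOfLe hC.le
  obtain ⟨e', he'⟩ := Submodule.exists_linearEquiv_restrict_eq ((eB.trans e).trans eC.symm)
  obtain ⟨h', hh', hh2⟩ := h A A hA hA e'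
  refine ⟨h', ⟨hh', ?_⟩, ?_⟩
  · rw [← inv_iff_map]
    intro v hv
    show h' v ∈ A
    rw [hh2 ⟨v, hv⟩]
    exact (e' _).2
  · intro v
    have h1 := hh2 ⟨v, hB.le v.2⟩
    have h2 := he' ⟨⟨v, hB.le v.2⟩, v.2⟩
    have h3 : (e' ⟨v, hB.le v.2⟩ : V) = e v := by
      have h4 := congrArg (fun x : A => (x : V)) h2
      rw [← h4]
      have h5 : eC (eC.symm (e (eB ⟨⟨v, hB.le v.2⟩, v.2⟩))) = e v := eC.apply_symm_apply _
      exact congrArg Subtype.val h5
    rw [← h3]
    exact h1

omit [Finite V] in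
/-- a subspace of dimension `d` -/
theorem exists_sub [FiniteDimensional K V] {W : Submodule K V} {d : ℕ} (hd : d < finrank K W) :
    ∃ A₀ : Submodule K V, A₀ < W ∧ finrank K A₀ = d := by
  let bb := finBasis K W
  let f : Fin d → V := fun i => bb (Fin.castLE hd.le i)
  have hf : LinearIndependent K f := by
    have h1 := bb.linearIndependent.comp _ (Fin.castLE_injective hd.le)
    exact h1.map' W.subtype (Submodule.ker_subtype W)
  refine ⟨Submodule.span K (Set.range f), lt_of_le_of_ne ?_ ?_, ?_⟩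
  · rw [Submodule.span_le]
    rintro _ ⟨i, rfl⟩
    exact (bb (Fin.castLE hd.le i)).2
  · intro h
    have h1 := finrank_span_eq_card hf
    rw [h, Fintype.card_fin] at h1
    omega
  · rw [finrank_span_eq_card hf, Fintype.card_fin]

open Classical in
/-- the sum of the orders of the stabilisers of the subspaces of dimension `d` -/
theorem sum_stab [Fintype (Submodule K V)] {L : Subgroup (V ≃ₗ[K] V)} {W : Submodule K V} (hL : ∀ h ∈ L, Inv (h : End K V) W)
    (hE : Ext L W) {d : ℕ} (hd : d < finrank K W) :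
    ∑ A ∈ Finset.univ.filter (fun A : Submodule K V => A < W ∧ finrank K A = d), (Nat.card (stab L A) : ℤ) =
      Nat.card L := by
  have := Fintype.ofFinite L
  obtain ⟨A₀, hA₀, hA₀d⟩ := exists_sub hd
  have h1 : ∀ A ∈ Finset.univ.filter (fun A : Submodule K V => A < W ∧ finrank K A = d),
      (Nat.card (stab L A) : ℤ) = ((Finset.univ.filter (fun h : L => A₀.map ((h : V ≃ₗ[K] V) : V →ₗ[K] V) = A)).card : ℤ) := by
    intro A hA
    obtain ⟨-, hAW, hAd⟩ := Finset.mem_filter.1 hA
    have e : A₀ ≃ₗ[K] A := LinearEquiv.ofFinrankEq _ _ (by rw [hA₀d, hAd])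
    obtain ⟨h₀, hh₀, hh₁⟩ := hE A₀ A hA₀ hAW e
    have hmap : A₀.map (h₀ : V →ₗ[K] V) = A := by
      apply le_antisymm
      · rintro _ ⟨v, hv, rfl⟩
        show h₀ v ∈ A
        rw [hh₁ ⟨v, hv⟩]
        exact (e _).2
      · intro v hv
        refine ⟨(e.symm ⟨v, hv⟩ : A₀), (e.symm ⟨v, hv⟩).2, ?_⟩
        show h₀ _ = v
        rw [hh₁, e.apply_symm_apply]
    have := Fintype.ofFinite (stab L A)
    rw [Nat.card_eq_fintype_card, Nat.cast_inj]
    refine Finset.card_bij (fun (s : stab L A) _ => (⟨(s : V ≃ₗ[K] V) * h₀, L.mul_mem s.2.1 hh₀⟩ : L)) ?_ ?_ ?_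
    · intro s _
      rw [Finset.mem_filter]
      refine ⟨Finset.mem_univ _, ?_⟩
      show A₀.map (((s : V ≃ₗ[K] V) * h₀ : V ≃ₗ[K] V) : V →ₗ[K] V) = A
      rw [← map_map, hmap, s.2.2]
    · intro s _ t _ hst
      exact Subtype.ext (mul_right_cancel (congrArg Subtype.val hst))
    · intro x hx
      rw [Finset.mem_filter] at hx
      refine ⟨⟨(x : V ≃ₗ[K] V) * h₀⁻¹, L.mul_mem x.2 (L.inv_mem hh₀), ?_⟩, Finset.mem_univ _, ?_⟩
      · rw [← map_map]
        have h2 : A.map ((h₀⁻¹ : V ≃ₗ[K] V) : V →ₗ[K] V) = A₀ := by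
          rw [← hmap, map_map, inv_mul_cancel]
          exact Submodule.map_id _
        rw [h2, hx.2]
      · apply Subtype.ext
        show (x : V ≃ₗ[K] V) * h₀⁻¹ * h₀ = x
        rw [inv_mul_cancel_right]
  rw [Finset.sum_congr rfl h1, ← Nat.cast_sum, Nat.cast_inj, Nat.card_eq_fintype_card]
  symm
  refine Finset.card_eq_sum_card_fiberwise ?_
  intro h _
  rw [Finset.coe_filter, Set.mem_ofPred_eq]
  refine ⟨Finset.mem_univ _, ?_, ?_⟩
  · have h2 := Submodule.map_strictMono_of_injective (f := ((h : V ≃ₗ[K] V) : V →ₗ[K] V)) (h : V ≃ₗ[K] V).injective hA₀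
    rwa [inv_iff_map.1 (hL h h.2)] at h2
  · rw [LinearEquiv.finrank_map_eq, hA₀d]

/-- **the mean value** -/
theorem avg_b : ∀ (W : Submodule K V) (L : Subgroup (V ≃ₗ[K] V)) [Fintype L], (∀ h ∈ L, Inv (h : End K V) W) → Ext L W →
    W ≠ ⊥ → ∑ h : L, b ((h : V ≃ₗ[K] V) : End K V) W = Nat.card L := by
  classical
  have := Fintype.ofFinite (Submodule K V)
  intro W
  induction W using WellFoundedLT.induction with
  | ind W ih =>
    intro L _ hL hE hW
    have h1 : ∑ h : L, b ((h : V ≃ₗ[K] V) : End K V) W = Nat.card L * (finrank K W : ℤ) -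
        ∑ A ∈ Finset.univ.filter (fun A : Submodule K V => A < W), ∑ h : L,
          if Inv ((h : V ≃ₗ[K] V) : End K V) A then b ((h : V ≃ₗ[K] V) : End K V) A else 0 := by
      have h2 : ∀ h : L, b ((h : V ≃ₗ[K] V) : End K V) W = (finrank K W : ℤ) -
          ∑ A ∈ Finset.univ.filter (fun A : Submodule K V => A < W),
            if Inv ((h : V ≃ₗ[K] V) : End K V) A then b ((h : V ≃ₗ[K] V) : End K V) A else 0 := by
        intro h
        rw [b_eq, ← Finset.sum_filter, Finset.filter_filter]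
      rw [Finset.sum_congr rfl fun h _ => h2 h, Finset.sum_sub_distrib, Finset.sum_const, Finset.card_univ,
        nsmul_eq_mul, Finset.sum_comm, Nat.card_eq_fintype_card]
    have h2 : ∀ A ∈ Finset.univ.filter (fun A : Submodule K V => A < W), (∑ h : L,
        if Inv ((h : V ≃ₗ[K] V) : End K V) A then b ((h : V ≃ₗ[K] V) : End K V) A else 0) =
        if A = ⊥ then 0 else (Nat.card (stab L A) : ℤ) := by
      intro A hA
      rw [Finset.mem_filter] at hA
      by_cases h0 : A = ⊥
      · rw [if_pos h0]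
        refine Finset.sum_eq_zero fun h _ => ?_
        rw [h0, b_bot, ite_self]
      · rw [if_neg h0]
        have := Fintype.ofFinite (stab L A)
        rw [← ih A hA.2 (stab L A) (fun h hh => inv_iff_map.2 hh.2) (hE.stab hA.2) h0, ← Finset.sum_filter]
        symm
        refine Finset.sum_bij (fun (s : stab L A) _ => (⟨(s : V ≃ₗ[K] V), s.2.1⟩ : L)) ?_ ?_ ?_ ?_
        · intro s _
          rw [Finset.mem_filter]
          exact ⟨Finset.mem_univ _, inv_iff_map.2 s.2.2⟩
        · intro s _ t _ hst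
          have h6 : (s : V ≃ₗ[K] V) = t := congrArg (fun x : L => (x : V ≃ₗ[K] V)) hst
          exact Subtype.ext h6
        · intro x hx
          rw [Finset.mem_filter] at hx
          exact ⟨⟨x, x.2, inv_iff_map.1 hx.2⟩, Finset.mem_univ _, rfl⟩
        · intro s _
          rfl
    rw [h1, Finset.sum_congr rfl h2]
    -- sort by the dimension
    have h3 : ∀ A ∈ Finset.univ.filter (fun A : Submodule K V => A < W), finrank K A ∈ Finset.range (finrank K W) := by
      intro A hA
      rw [Finset.mem_filter] at hA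
      rw [Finset.mem_range]
      exact Submodule.finrank_lt_finrank_of_lt hA.2
    rw [← Finset.sum_fiberwise_of_maps_to h3]
    have h4 : ∀ d ∈ Finset.range (finrank K W), (∑ A ∈ (Finset.univ.filter (fun A : Submodule K V => A < W)).filter
        (fun A : Submodule K V => finrank K A = d), if A = ⊥ then 0 else (Nat.card (stab L A) : ℤ)) =
        if d = 0 then 0 else (Nat.card L : ℤ) := by
      intro d hd
      rw [Finset.mem_range] at hd
      by_cases h0 : d = 0
      · rw [if_pos h0]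
        refine Finset.sum_eq_zero fun A hA => ?_
        rw [Finset.mem_filter, h0] at hA
        rw [if_pos (Submodule.finrank_eq_zero.1 hA.2)]
      · rw [if_neg h0, ← sum_stab hL hE hd, Finset.filter_filter]
        refine Finset.sum_congr rfl fun A hA => ?_
        rw [Finset.mem_filter] at hA
        rw [if_neg]
        rintro rfl
        rw [finrank_bot] at hA
        exact h0 hA.2.2.symm
    rw [Finset.sum_congr rfl h4]
    have h5 : 0 < finrank K W := by
      rw [Nat.pos_iff_ne_zero]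
      exact fun h => hW (Submodule.finrank_eq_zero.1 h)
    obtain ⟨m, hm⟩ : ∃ m, finrank K W = m + 1 := ⟨finrank K W - 1, by omega⟩
    rw [hm, Finset.sum_range_succ']
    simp only [Nat.add_eq_zero_iff, one_ne_zero, and_false, if_false, if_true, Finset.sum_const, Finset.card_range,
      nsmul_eq_mul]
    push_cast
    ring

end Cfsg.Agent.H739.PQ.E7
end

-- part: H739/PQ/E7/Beta
section
/-!
# The generalised character `β` of `GL₅(q)` (helper739)

`exists_beta` (T1 of tools/plans/S4612_e7_510.md).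
-/

set_option autoImplicit false

namespace Cfsg.Agent.H739.PQ.E7

open Module Cfsg Matrix

variable {K : Type} [Field K]

/-- matrices as linear maps -/
noncomputable def E : GL (Fin 5) K ≃* ((Fin 5 → K) ≃ₗ[K] (Fin 5 → K)) :=
  (Matrix.GeneralLinearGroup.toLin (n := Fin 5) (R := K)).trans
    (LinearMap.GeneralLinearGroup.generalLinearEquiv K (Fin 5 → K))

theorem E_apply (g : GL (Fin 5) K) (v : Fin 5 → K) : E g v = (g : Matrix (Fin 5) (Fin 5) K) *ᵥ v := rfl

theorem pres_iff {g : GL (Fin 5) K} {S : Submodule K (Fin 5 → K)} : Pres g S ↔ Inv (E g : End K (Fin 5 → K)) S := Iff.rfl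

/-- no invariant subspaces -/
def Irr (g : GL (Fin 5) K) : Prop := ∀ S : Submodule K (Fin 5 → K), Pres g S → S = ⊥ ∨ S = ⊤

/-- elements of `Uni S` from `NN S S` -/
noncomputable def ofNN {S : Submodule K (Fin 5 → K)} (φ : NN S S) : Uni S :=
  ⟨E.symm (unip (φ : End K (Fin 5 → K)) (fun v => sq_zero le_rfl φ.2 φ.2 v)), by
    have h1 : ∀ v, ((E.symm (unip (φ : End K (Fin 5 → K)) (fun v => sq_zero le_rfl φ.2 φ.2 v)) :
        GL (Fin 5) K) : Matrix (Fin 5) (Fin 5) K) *ᵥ v = v + (φ : End K (Fin 5 → K)) v := by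
      intro v
      rw [← E_apply, E.apply_symm_apply, unip_apply]
    constructor
    · intro v
      rw [h1, add_sub_cancel_left]
      exact φ.2.1 v
    · intro v hv
      rw [h1, φ.2.2 v hv, add_zero]⟩

theorem E_ofNN {S : Submodule K (Fin 5 → K)} (φ : NN S S) (v : Fin 5 → K) :
    E (ofNN φ : GL (Fin 5) K) v = v + (φ : End K (Fin 5 → K)) v := by
  rw [ofNN, E.apply_symm_apply, unip_apply]

theorem ofNN_bij (S : Submodule K (Fin 5 → K)) : Function.Bijective (ofNN : NN S S → Uni S) := by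
  constructor
  · intro φ ψ h
    apply Subtype.ext
    ext1 v
    have h1 := E_ofNN φ
    rw [h] at h1
    have h2 := fun v => (h1 v).symm.trans (E_ofNN ψ v)
    apply LinearMap.ext
    intro w
    exact add_left_cancel (h2 _)
  · intro u
    refine ⟨⟨(E (u : GL (Fin 5) K) : End K (Fin 5 → K)) - LinearMap.id, ?_, ?_⟩, ?_⟩
    · intro v
      exact u.2.1 v
    · intro v hv
      show ((u : GL (Fin 5) K) : Matrix (Fin 5) (Fin 5) K) *ᵥ v - v = 0
      rw [u.2.2 v hv, sub_self]
    · apply Subtype.ext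
      apply E.injective
      ext1 v
      rw [E_ofNN]
      show v + (E (u : GL (Fin 5) K) v - v) = _
      abel

/-- the determinant of an element of `Uni S` -/
theorem det_uni [Finite K] {S : Submodule K (Fin 5 → K)} {u : GL (Fin 5) K} (hu : u ∈ Uni S) :
    (u : Matrix (Fin 5) (Fin 5) K).det = 1 := by
  obtain ⟨r, hr⟩ := CharP.exists K
  have hrp : Fact r.Prime := ⟨CharP.char_is_prime K r⟩
  have h1 : ∀ k : ℕ, ∀ v, ((u ^ k : GL (Fin 5) K) : Matrix (Fin 5) (Fin 5) K) *ᵥ v =
      v + (k : K) • ((u : Matrix (Fin 5) (Fin 5) K) *ᵥ v - v) := by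
    intro k
    induction k with
    | zero =>
      intro v
      rw [pow_zero, Units.val_one, one_mulVec, Nat.cast_zero, zero_smul, add_zero]
    | succ k ih =>
      intro v
      rw [pow_succ', Units.val_mul, ← mulVec_mulVec, ih, mulVec_add, mulVec_smul]
      have h2 : (u : Matrix (Fin 5) (Fin 5) K) *ᵥ ((u : Matrix (Fin 5) (Fin 5) K) *ᵥ v - v) =
          (u : Matrix (Fin 5) (Fin 5) K) *ᵥ v - v := hu.2 _ (hu.1 v)
      rw [h2]
      push_cast
      rw [add_smul, one_smul]
      abel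
  have h2 : u ^ r = 1 := by
    apply E.injective
    ext1 v
    rw [E_apply, h1, CharP.cast_eq_zero, zero_smul, add_zero, map_one]
    rfl
  have h3 : (u : Matrix (Fin 5) (Fin 5) K).det ^ r = 1 := by
    rw [← det_pow, ← Units.val_pow_eq_pow_val, h2, Units.val_one, det_one]
  have h4 : ((u : Matrix (Fin 5) (Fin 5) K).det - 1) ^ r = 0 := by
    rw [sub_pow_char, h3, one_pow, sub_self]
  exact sub_eq_zero.1 (pow_eq_zero_iff hrp.out.ne_zero |>.1 h4)

theorem uni_le [Finite K] {H : Subgroup (GL (Fin 5) K)} (hH : HasSL H) (S : Submodule K (Fin 5 → K)) : Uni S ≤ H :=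
  fun _ hu => hH _ (det_uni hu)

/-- the generalised character -/
noncomputable def bet [Finite K] (g : GL (Fin 5) K) : ℤ := b (E g : End K (Fin 5 → K)) ⊤

variable [Finite K]

theorem bet_cusp {S : Submodule K (Fin 5 → K)} (h0 : S ≠ ⊥) (h1 : S ≠ ⊤) {m : GL (Fin 5) K} (hm : Pres m S) :
    ∑ᶠ u : Uni S, bet (m * (u : GL (Fin 5) K)) = 0 := by
  classical
  have := Fintype.ofFinite (NN S S)
  have := Fintype.ofFinite (Uni S)
  rw [finsum_eq_sum_of_fintype, ← (ofNN_bij S).sum_comp (fun u : Uni S => bet (m * (u : GL (Fin 5) K)))]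
  rw [← cusp_gen (⊤ : Submodule K (Fin 5 → K)) S S (E m) (by simp only [_root_.le_top, _root_.inf_of_le_right]) hm (fun v _ => Submodule.mem_top) h0
    (fun h => h1 (top_le_iff.1 h))]
  refine Finset.sum_congr rfl fun φ _ => ?_
  refine b_congr fun v _ => ?_
  show E (m * (ofNN φ : GL (Fin 5) K)) v = _
  rw [map_mul]
  show E m (E (ofNN φ : GL (Fin 5) K) v) = _
  rw [E_ofNN, tw_apply]

theorem bet_irr {g : GL (Fin 5) K} (hg : Irr g) : bet g = 5 := by
  classical
  have := Fintype.ofFinite (Submodule K (Fin 5 → K))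
  rw [bet, b_eq, finrank_top, Module.finrank_fin_fun, Finset.sum_eq_zero]
  · rfl
  · intro W' hW'
    rw [Finset.mem_filter] at hW'
    rcases hg W' hW'.2.2 with h | h
    · rw [h, b_bot]
    · exact absurd hW'.2.1 (by rw [h]; exact lt_irrefl _)

theorem bet_gen : IsGeneralizedCharacter (GL (Fin 5) K) (fun g => (bet g : ℂ)) :=
  gen_b (⊤ : Submodule K (Fin 5 → K)) (Γ := GL (Fin 5) K) (E : GL (Fin 5) K ≃* _).toMonoidHom
    (fun _ _ _ => Submodule.mem_top)

/-- orthogonality -/
theorem bet_orth {S : Submodule K (Fin 5 → K)} (h0 : S ≠ ⊥) (h1 : S ≠ ⊤) {H : Subgroup (GL (Fin 5) K)} [Fintype H]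
    (hH : HasSL H) (F : GL (Fin 5) K → ℤ) (hF : ∀ h, ∀ u ∈ Uni S, F (h * u) = F h) (hF0 : ∀ h, ¬ Pres h S → F h = 0) :
    ∑ h : H, bet (h : GL (Fin 5) K) * F h = 0 := by
  classical
  have := Fintype.ofFinite (Uni S)
  have h2 : ∀ u : Uni S, ∑ h : H, bet ((h : GL (Fin 5) K) * (u : GL (Fin 5) K)) * F h =
      ∑ h : H, bet (h : GL (Fin 5) K) * F h := by
    intro u
    refine Fintype.sum_equiv (Equiv.mulRight (⟨u, uni_le hH S u.2⟩ : H)) _ _ ?_
    intro h
    show _ = bet ((h : GL (Fin 5) K) * (u : GL (Fin 5) K)) * F ((h : GL (Fin 5) K) * (u : GL (Fin 5) K))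
    rw [hF _ _ u.2]
  have h3 : ∑ u : Uni S, ∑ h : H, bet ((h : GL (Fin 5) K) * (u : GL (Fin 5) K)) * F h = 0 := by
    rw [Finset.sum_comm]
    refine Finset.sum_eq_zero fun h _ => ?_
    rw [← Finset.sum_mul]
    by_cases h4 : Pres (h : GL (Fin 5) K) S
    · have h5 := bet_cusp h0 h1 h4
      rw [finsum_eq_sum_of_fintype] at h5
      rw [h5, zero_mul]
    · rw [hF0 _ h4, mul_zero]
  rw [Finset.sum_congr rfl fun u _ => h2 u, Finset.sum_const, Finset.card_univ, nsmul_eq_mul] at h3
  rcases mul_eq_zero.1 h3 with h4 | h4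
  · exfalso
    have h5 : Fintype.card (Uni S) = 0 := by exact_mod_cast h4
    exact Fintype.card_ne_zero h5
  · exact h4

open Classical in
theorem bet_eq [Fintype (Submodule K (Fin 5 → K))] (g : GL (Fin 5) K) :
    bet g = 5 - ∑ W : Submodule K (Fin 5 → K), if W ≠ ⊥ ∧ W ≠ ⊤ ∧ Pres g W then b (E g : End K (Fin 5 → K)) W else 0 := by
  rw [bet, b_eq, finrank_top, Module.finrank_fin_fun, Finset.sum_filter]
  congr 1
  refine Finset.sum_congr rfl fun W _ => ?_
  by_cases h0 : W = ⊥
  · rw [h0, b_bot, ite_self, ite_self]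
  · have h1 : (W < ⊤ ∧ Inv (E g : End K (Fin 5 → K)) W) ↔ (W ≠ ⊥ ∧ W ≠ ⊤ ∧ Pres g W) := by
      rw [lt_top_iff_ne_top, pres_iff]
      tauto
    simp only [h1]

theorem bet_mul {H : Subgroup (GL (Fin 5) K)} [Fintype H] (hH : HasSL H) (σ : GL (Fin 5) K → GL (Fin 5) K)
    (hσ : ∀ W : Submodule K (Fin 5 → K), W ≠ ⊥ → W ≠ ⊤ → ∃ S : Submodule K (Fin 5 → K), S ≠ ⊥ ∧ S ≠ ⊤ ∧
      (∀ h, ∀ u ∈ Uni S, (Pres (σ (h * u)) W ↔ Pres (σ h) W) ∧ ∀ v ∈ W, E (σ (h * u)) v = E (σ h) v) ∧
      ∀ h, Pres (σ h) W → Pres h S) :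
    ∑ h : H, bet (h : GL (Fin 5) K) * bet (σ h) = 5 * ∑ h : H, bet (h : GL (Fin 5) K) := by
  classical
  have := Fintype.ofFinite (Submodule K (Fin 5 → K))
  have h1 : ∀ h : H, bet (h : GL (Fin 5) K) * bet (σ h) = 5 * bet (h : GL (Fin 5) K) -
      ∑ W : Submodule K (Fin 5 → K), bet (h : GL (Fin 5) K) *
      (if W ≠ ⊥ ∧ W ≠ ⊤ ∧ Pres (σ h) W then b (E (σ h) : End K (Fin 5 → K)) W else 0) := by
    intro h
    rw [bet_eq (σ h), ← Finset.mul_sum]
    ring
  rw [Finset.sum_congr rfl fun h _ => h1 h, Finset.sum_sub_distrib, Finset.mul_sum, Finset.sum_comm,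
    Finset.sum_eq_zero (s := Finset.univ) (f := fun W : Submodule K (Fin 5 → K) => ∑ h : H, bet (h : GL (Fin 5) K) *
      (if W ≠ ⊥ ∧ W ≠ ⊤ ∧ Pres (σ h) W then b (E (σ h) : End K (Fin 5 → K)) W else 0)), sub_zero]
  intro W _
  by_cases h0 : W ≠ ⊥ ∧ W ≠ ⊤
  · obtain ⟨S, hS0, hS1, hS2, hS3⟩ := hσ W h0.1 h0.2
    refine bet_orth hS0 hS1 hH (fun h => if W ≠ ⊥ ∧ W ≠ ⊤ ∧ Pres (σ h) W then
      b (E (σ h) : End K (Fin 5 → K)) W else 0) ?_ ?_
    · intro h u hu
      obtain ⟨h2, h3⟩ := hS2 h u hu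
      rw [b_congr h3]
      simp only [h2]
    · intro h hh
      rw [if_neg]
      exact fun h2 => hh (hS3 h h2.2.2)
  · refine Finset.sum_eq_zero fun h _ => ?_
    rw [if_neg (fun h => h0 ⟨h.1, h.2.1⟩), mul_zero]

/-! ### the mean value -/

omit [Finite K] in
/-- an element of prescribed determinant fixing a proper subspace -/
theorem exists_dil {B : Submodule K (Fin 5 → K)} (hB : B < ⊤) {c : K} (hc : c ≠ 0) :
    ∃ d : GL (Fin 5) K, (d : Matrix (Fin 5) (Fin 5) K).det = c ∧ ∀ v ∈ B, E d v = v := by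
  obtain ⟨f, hf0, hf⟩ := Submodule.exists_le_ker_of_lt_top B hB
  obtain ⟨v₁, hv₁⟩ : ∃ v, f v ≠ 0 := by
    by_contra h
    push Not at h
    exact hf0 (LinearMap.ext h)
  let w : Fin 5 → K := fun i => f (Pi.single i 1)
  have hw : ∀ v, w ⬝ᵥ v = f v := by
    intro v
    have h1 : v = ∑ i, v i • (Pi.single i 1 : Fin 5 → K) := by
      funext j
      simp [Finset.sum_apply, Pi.single_apply]
    conv_rhs => rw [h1, map_sum]
    refine Finset.sum_congr rfl fun i _ => ?_
    rw [map_smul, smul_eq_mul, mul_comm]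
  let u : Fin 5 → K := (f v₁)⁻¹ • (c - 1) • v₁
  let D : Matrix (Fin 5) (Fin 5) K := 1 + replicateCol Unit u * replicateRow Unit w
  have hD : D.det = c := by
    rw [show D = 1 + replicateCol Unit u * replicateRow Unit w from rfl, det_one_add_replicateCol_mul_replicateRow, hw,
      map_smul, map_smul, smul_eq_mul, smul_eq_mul, mul_comm (c - 1), inv_mul_cancel_left₀ hv₁]
    ring
  have hu : IsUnit D := (Matrix.isUnit_iff_isUnit_det D).2 (by rw [hD]; exact hc.isUnit)
  obtain ⟨d, hd⟩ := hu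
  refine ⟨d, by rw [hd, hD], fun v hv => ?_⟩
  rw [E_apply, hd, add_mulVec, one_mulVec, ← mulVec_mulVec]
  have h1 : replicateRow Unit w *ᵥ v = 0 := by
    funext i
    show w ⬝ᵥ v = 0
    rw [hw]
    exact LinearMap.mem_ker.1 (hf hv)
  rw [h1, mulVec_zero, add_zero]

omit [Finite K] in
theorem ext_of_hasSL {H : Subgroup (GL (Fin 5) K)} (hH : HasSL H) :
    Ext (H.map (E : GL (Fin 5) K ≃* _).toMonoidHom) (⊤ : Submodule K (Fin 5 → K)) := by
  intro A B _ hB e
  obtain ⟨g, hg⟩ := Submodule.exists_linearEquiv_restrict_eq e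
  have hdet : ((E.symm g : GL (Fin 5) K) : Matrix (Fin 5) (Fin 5) K).det ≠ 0 :=
    ((Matrix.isUnit_iff_isUnit_det _).1 (E.symm g).isUnit).ne_zero
  obtain ⟨d, hd, hd2⟩ := exists_dil hB (inv_ne_zero hdet)
  refine ⟨E (d * E.symm g), ⟨d * E.symm g, hH _ ?_, rfl⟩, fun v => ?_⟩
  · rw [Units.val_mul, det_mul, hd, inv_mul_cancel₀ hdet]
  · rw [map_mul, E.apply_symm_apply]
    show E d (g v) = e v
    rw [← hg v]
    exact hd2 _ (e v).2

theorem bet_avg {H : Subgroup (GL (Fin 5) K)} [Fintype H] (hH : HasSL H) :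
    ∑ h : H, bet (h : GL (Fin 5) K) = Nat.card H := by
  classical
  have := Fintype.ofFinite (H.map (E : GL (Fin 5) K ≃* _).toMonoidHom)
  let e : H ≃* H.map (E : GL (Fin 5) K ≃* _).toMonoidHom := H.equivMapOfInjective _ E.injective
  have h1 := avg_b (⊤ : Submodule K (Fin 5 → K)) (H.map (E : GL (Fin 5) K ≃* _).toMonoidHom)
    (fun _ _ _ _ => Submodule.mem_top) (ext_of_hasSL hH) top_ne_bot
  rw [← Nat.card_congr e.toEquiv] at h1
  rw [← h1]
  exact Fintype.sum_equiv e.toEquiv _ _ fun h => rfl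

/-! ### duality -/

/-- the orthogonal space -/
def orth (W : Submodule K (Fin 5 → K)) : Submodule K (Fin 5 → K) where
  carrier := {v | ∀ w ∈ W, w ⬝ᵥ v = 0}
  zero_mem' := fun w _ => dotProduct_zero w
  add_mem' := by
    intro a b ha hb w hw
    rw [dotProduct_add, ha w hw, hb w hw, add_zero]
  smul_mem' := by
    intro c a ha w hw
    rw [dotProduct_smul, ha w hw, smul_zero]

omit [Finite K] in
theorem orth_ne_bot {W : Submodule K (Fin 5 → K)} (hW : W ≠ ⊤) : orth W ≠ ⊥ := by
  intro h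
  obtain ⟨f, hf0, hf⟩ := Submodule.exists_le_ker_of_lt_top W (lt_top_iff_ne_top.2 hW)
  apply hf0
  let w : Fin 5 → K := fun i => f (Pi.single i 1)
  have hw : ∀ v, v ⬝ᵥ w = f v := by
    intro v
    have h1 : v = ∑ i, v i • (Pi.single i 1 : Fin 5 → K) := by
      funext j
      simp [Finset.sum_apply, Pi.single_apply]
    conv_rhs => rw [h1, map_sum]
    refine Finset.sum_congr rfl fun i _ => ?_
    rw [map_smul, smul_eq_mul]
  have h1 : w ∈ orth W := fun v hv => by rw [hw]; exact LinearMap.mem_ker.1 (hf hv)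
  rw [h, Submodule.mem_bot] at h1
  apply LinearMap.ext
  intro v
  rw [← hw, h1, dotProduct_zero]
  rfl

omit [Finite K] in
theorem orth_ne_top {W : Submodule K (Fin 5 → K)} (hW : W ≠ ⊥) : orth W ≠ ⊤ := by
  intro h
  apply hW
  rw [eq_bot_iff]
  intro w hw
  rw [Submodule.mem_bot]
  funext i
  have h1 : (Pi.single i 1 : Fin 5 → K) ∈ orth W := by rw [h]; exact Submodule.mem_top
  have h2 := h1 w hw
  rwa [dotProduct_single_one] at h2

omit [Finite K] in
theorem dot_tau (h : GL (Fin 5) K) (w v : Fin 5 → K) : (E (tau h) w) ⬝ᵥ (E h v) = w ⬝ᵥ v := by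
  rw [E_apply, E_apply]
  show (((h⁻¹ : GL (Fin 5) K) : Matrix (Fin 5) (Fin 5) K)ᵀ *ᵥ w) ⬝ᵥ _ = _
  rw [mulVec_transpose, ← dotProduct_mulVec, mulVec_mulVec, ← Units.val_mul, inv_mul_cancel, Units.val_one, one_mulVec]

omit [Finite K] in
theorem tau_mul (g h : GL (Fin 5) K) : tau (g * h) = tau g * tau h := by
  apply Units.ext
  show (((g * h)⁻¹ : GL (Fin 5) K) : Matrix (Fin 5) (Fin 5) K)ᵀ = ((g⁻¹ : GL (Fin 5) K) : Matrix (Fin 5) (Fin 5) K)ᵀ *
    ((h⁻¹ : GL (Fin 5) K) : Matrix (Fin 5) (Fin 5) K)ᵀ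
  rw [_root_.mul_inv_rev, Units.val_mul, transpose_mul]

omit [Finite K] in
theorem eq_of_dot {v w : Fin 5 → K} (h : ∀ x, v ⬝ᵥ x = w ⬝ᵥ x) : v = w := by
  funext i
  have h1 := h (Pi.single i 1)
  rwa [dotProduct_single_one, dotProduct_single_one] at h1

omit [Finite K] in
theorem tau_uni {W : Submodule K (Fin 5 → K)} {u : GL (Fin 5) K} (hu : u ∈ Uni (orth W)) {w : Fin 5 → K} (hw : w ∈ W) :
    E (tau u) w = w := by
  apply eq_of_dot
  intro x
  have h1 := dot_tau u w ((E u).symm x)
  rw [LinearEquiv.apply_symm_apply] at h1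
  rw [h1]
  have h2 : x - (E u).symm x ∈ orth W := by
    have h3 := hu.1 ((E u).symm x)
    rw [← E_apply, LinearEquiv.apply_symm_apply] at h3
    exact h3
  have h3 := h2 w hw
  rw [dotProduct_sub, sub_eq_zero] at h3
  exact h3.symm

/-- **T1** -/
theorem exists_beta (K : Type) [Field K] [Finite K] : ∃ β : GL (Fin 5) K → ℤ,
    IsGeneralizedCharacter (GL (Fin 5) K) (fun g => (β g : ℂ)) ∧
    (∀ S : Submodule K (Fin 5 → K), S ≠ ⊥ → S ≠ ⊤ → ∀ m, Pres m S → ∑ᶠ u : Uni S, β (m * u) = 0) ∧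
    (∀ g, Irr g → β g = 5) ∧
    (∀ H : Subgroup (GL (Fin 5) K), HasSL H → ∑ᶠ h : H, β h = Nat.card H) ∧
    (∀ H : Subgroup (GL (Fin 5) K), HasSL H → ∑ᶠ h : H, β h * β h = 5 * Nat.card H) ∧
    (∀ H : Subgroup (GL (Fin 5) K), HasSL H → ∑ᶠ h : H, β h * β (tau h) = 5 * Nat.card H) := by
  classical
  refine ⟨bet, bet_gen, fun S h0 h1 m hm => bet_cusp h0 h1 hm, fun g hg => bet_irr hg, fun H hH => ?_, fun H hH => ?_,
    fun H hH => ?_⟩
  · have := Fintype.ofFinite H
    rw [finsum_eq_sum_of_fintype, bet_avg hH]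
  · have := Fintype.ofFinite H
    rw [finsum_eq_sum_of_fintype, ← bet_avg hH]
    refine bet_mul hH (fun g => g) ?_
    intro W h0 h1
    refine ⟨W, h0, h1, ?_, fun h hh => hh⟩
    intro h u hu
    have h2 : ∀ v ∈ W, E (h * u) v = E h v := by
      intro v hv
      show E (h * u) v = E h v
      rw [map_mul]
      show E h (E u v) = _
      rw [show E u v = v from hu.2 v hv]
    refine ⟨?_, h2⟩
    constructor
    · intro h3 v hv
      show E h v ∈ W
      rw [← h2 v hv]
      exact h3 v hv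
    · intro h3 v hv
      show E (h * u) v ∈ W
      rw [h2 v hv]
      exact h3 v hv
  · have := Fintype.ofFinite H
    rw [finsum_eq_sum_of_fintype, bet_mul hH tau, bet_avg hH]
    intro W h0 h1
    refine ⟨orth W, orth_ne_bot h1, orth_ne_top h0, ?_, ?_⟩
    · intro h u hu
      have h2 : ∀ v ∈ W, E (tau (h * u)) v = E (tau h) v := by
        intro v hv
        rw [tau_mul, map_mul]
        show E (tau h) (E (tau u) v) = _
        rw [tau_uni hu hv]
      refine ⟨?_, h2⟩
      constructor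
      · intro h3 v hv
        show E (tau h) v ∈ W
        rw [← h2 v hv]
        exact h3 v hv
      · intro h3 v hv
        show E (tau (h * u)) v ∈ W
        rw [h2 v hv]
        exact h3 v hv
    · intro h hh v hv w hw
      have h2 : ((E (tau h)).symm w) ∈ W := by
        rw [← map_mem_iff (g := E (tau h)) (A := W) hh, LinearEquiv.apply_symm_apply]
        exact hw
      have h3 := dot_tau h ((E (tau h)).symm w) v
      rw [LinearEquiv.apply_symm_apply, hv _ h2] at h3
      exact h3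

end Cfsg.Agent.H739.PQ.E7
end

-- part: H594/PQ/TorInd
section
/-!
# S4612: characters induced from an abelian subgroup given as the image of a homomorphism (helper594)

`M : Λ →* G` injective, `θ : Λ →* ℂˣ`, `fT = Ind (θ - 1)`.

* `sum_mul` : the sum of `fT * F` over a normal subgroup `H`, `F` a class function;
* `fT_M` : the value at `M t` when `M t` is regular.
-/

set_option autoImplicit false

namespace Cfsg.Agent.H594.PQ

open Cfsg Subgroup Cfsg.Agent.OddOrderCharacters
open scoped ComplexConjugate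

universe u v

variable {G : Type u} [Group G] [Fintype G] {Λ : Type v} [CommGroup Λ] [Fintype Λ] {M : Λ →* G}

/-- the induced class function -/
noncomputable def fT (hM : Function.Injective M) (θ : Λ →* ℂˣ) : G → ℂ :=
  indFun M.range fun t => ((θ ((MonoidHom.ofInjective hM).symm t) : ℂˣ) : ℂ) - 1

theorem isGen_fT (hM : Function.Injective M) (θ : Λ →* ℂˣ) : IsGeneralizedCharacter G (fT hM θ) := by
  apply IndRes.isGeneralizedCharacter_indFun
  refine ⟨fun t => ((θ ((MonoidHom.ofInjective hM).symm t) : ℂˣ) : ℂ), fun _ => 1, ?_, ?_, rfl⟩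
  · exact Characters.Linear.isCharacter_hom (θ.comp (MonoidHom.ofInjective hM).symm.toMonoidHom)
  · have h := Characters.Linear.isCharacter_hom (1 : M.range →* ℂˣ)
    simpa using h

open Classical in
theorem fT_apply (hM : Function.Injective M) (θ : Λ →* ℂˣ) (g : G) :
    fT hM θ g = (Nat.card Λ : ℂ)⁻¹ * ∑ x : G, ∑ s : Λ, if x⁻¹ * g * x = M s then ((θ s : ℂˣ) : ℂ) - 1 else 0 := by
  have hc : Nat.card M.range = Nat.card Λ := (Nat.card_congr (MonoidHom.ofInjective hM).toEquiv).symm
  unfold fT indFun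
  rw [hc]
  congr 1
  refine Finset.sum_congr rfl fun x _ => ?_
  unfold extendByZero
  by_cases h : x⁻¹ * g * x ∈ M.range
  · obtain ⟨s, hs⟩ := h
    have h1 : x⁻¹ * g * x = ((⟨M s, s, rfl⟩ : M.range) : G) := hs.symm
    rw [h1, Subtype.val_injective.extend_apply]
    have h2 : (MonoidHom.ofInjective hM).symm ⟨M s, s, rfl⟩ = s := by
      rw [MulEquiv.symm_apply_eq]
      rfl
    rw [h2, Finset.sum_eq_single s]
    · rw [if_pos rfl]
    · intro b _ hb
      rw [if_neg]
      intro h3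
      exact hb (hM h3).symm
    · intro h3
      exact absurd (Finset.mem_univ s) h3
  · rw [Function.extend_apply' _ _ _ (by
      rintro ⟨a, ha⟩
      exact h (ha ▸ a.2))]
    rw [Finset.sum_eq_zero]
    · rfl
    · intro s _
      rw [if_neg]
      intro h3
      exact h ⟨s, h3.symm⟩

theorem isClass_fT (hM : Function.Injective M) (θ : Λ →* ℂˣ) : IsClassFunction G (fT hM θ) :=
  IndRes.isClassFunction_indFun _ _

open Classical in
/-- the support -/
theorem exists_of_ne (hM : Function.Injective M) (θ : Λ →* ℂˣ) {g : G} (hg : fT hM θ g ≠ 0) :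
    ∃ (x : G) (s : Λ), x⁻¹ * g * x = M s ∧ θ s ≠ 1 := by
  by_contra hcon
  push Not at hcon
  apply hg
  rw [fT_apply, Finset.sum_eq_zero, mul_zero]
  intro x _
  apply Finset.sum_eq_zero
  intro s _
  split_ifs with h
  · rw [hcon x s h, Units.val_one, sub_self]
  · rfl

open Classical in
theorem sum_mul_aux (hM : Function.Injective M) (θ : Λ →* ℂˣ) {F : G → ℂ} (hF : IsClassFunction G F) :
    ∑ g : G, fT hM θ g * F g = (Nat.card Λ : ℂ)⁻¹ * (Nat.card G : ℂ) *
      ∑ s : Λ, (((θ s : ℂˣ) : ℂ) - 1) * F (M s) := by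
  have h1 : ∀ x : G, ∑ g : G, (∑ s : Λ, if x⁻¹ * g * x = M s then ((θ s : ℂˣ) : ℂ) - 1 else 0) * F g =
      ∑ s : Λ, (((θ s : ℂˣ) : ℂ) - 1) * F (M s) := by
    intro x
    simp only [Finset.sum_mul]
    rw [Finset.sum_comm]
    refine Finset.sum_congr rfl fun s _ => ?_
    rw [Finset.sum_eq_single (x * M s * x⁻¹)]
    · rw [if_pos (by group), hF]
    · intro b _ hb
      rw [if_neg, zero_mul]
      intro h2
      apply hb
      rw [← h2]
      group
    · intro h3
      exact absurd (Finset.mem_univ _) h3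
  calc ∑ g : G, fT hM θ g * F g = (Nat.card Λ : ℂ)⁻¹ *
      ∑ x : G, ∑ g : G, (∑ s : Λ, if x⁻¹ * g * x = M s then ((θ s : ℂˣ) : ℂ) - 1 else 0) * F g := by
        rw [Finset.sum_comm, Finset.mul_sum]
        refine Finset.sum_congr rfl fun g _ => ?_
        rw [fT_apply, mul_assoc, Finset.sum_mul]
    _ = _ := by
        simp only [h1]
        rw [Finset.sum_const, Finset.card_univ, nsmul_eq_mul, Nat.card_eq_fintype_card (α := G), mul_assoc]

open Classical in
/-- **The sum over a normal subgroup.** -/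
theorem sum_mul (hM : Function.Injective M) (θ : Λ →* ℂˣ) {F : G → ℂ} (hF : IsClassFunction G F) (H : Subgroup G)
    [hH : H.Normal] (hcov : ∀ g : G, ∃ s : Λ, (M s)⁻¹ * g ∈ H) {c : ℂ}
    (hc : ∑ s ∈ Finset.univ.filter (fun s => M s ∈ H), (((θ s : ℂˣ) : ℂ) - 1) * F (M s) =
      c * (Finset.univ.filter (fun s => M s ∈ H)).card) :
    ∑ᶠ h : H, fT hM θ h * F h = c * Nat.card H := by
  have h1 : ∑ᶠ h : H, fT hM θ h * F h = ∑ g : G, fT hM θ g * (if g ∈ H then F g else 0) := by
    rw [finsum_eq_sum_of_fintype]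
    have h2 : ∀ g : G, fT hM θ g * (if g ∈ H then F g else 0) = if g ∈ H then fT hM θ g * F g else 0 := by
      intro g
      split_ifs <;> simp
    simp only [h2]
    rw [← Finset.sum_filter]
    exact (Finset.sum_subtype _ (by simp) (fun g => fT hM θ g * F g)).symm
  have hF' : IsClassFunction G (fun g => if g ∈ H then F g else 0) := by
    intro g h
    have h2 : h * g * h⁻¹ ∈ H ↔ g ∈ H := (hH.mem_comm_iff.trans (by rw [← mul_assoc, inv_mul_cancel, one_mul]))
    simp only [h2, hF g h]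
  rw [h1, sum_mul_aux hM θ hF']
  have h3 : ∑ s : Λ, (((θ s : ℂˣ) : ℂ) - 1) * (if M s ∈ H then F (M s) else 0) =
      ∑ s ∈ Finset.univ.filter (fun s => M s ∈ H), (((θ s : ℂˣ) : ℂ) - 1) * F (M s) := by
    rw [Finset.sum_filter]
    refine Finset.sum_congr rfl fun s _ => ?_
    split_ifs <;> simp
  rw [h3, hc]
  -- the index
  have h4 : Nat.card (H.comap M) = (Finset.univ.filter (fun s => M s ∈ H)).card := by
    rw [Nat.card_eq_fintype_card]
    exact Fintype.card_subtype _
  have hsurj : Function.Surjective ((QuotientGroup.mk' H).comp M) := by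
    intro a
    obtain ⟨g, rfl⟩ := QuotientGroup.mk_surjective a
    obtain ⟨s, hs⟩ := hcov g
    exact ⟨s, QuotientGroup.eq.2 hs⟩
  have hker : ((QuotientGroup.mk' H).comp M).ker = H.comap M := by
    ext s
    rw [MonoidHom.mem_ker, MonoidHom.comp_apply, mem_comap]
    exact QuotientGroup.eq_one_iff _
  have h5 : (H.comap M).index = H.index := by
    rw [← hker, index_ker, MonoidHom.range_eq_top.2 hsurj, card_top]
    rfl
  have h6 := (H.comap M).card_mul_index
  have h7 := H.card_mul_index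
  rw [h5] at h6
  rw [← h4, ← h6, ← h7]
  have h8 : (Nat.card (H.comap M) : ℂ) ≠ 0 := by exact_mod_cast Nat.card_pos.ne'
  have h9 : (H.index : ℂ) ≠ 0 := by exact_mod_cast H.index_ne_zero_of_finite
  push_cast
  field_simp

open Classical in
/-- **The value at a regular element.** -/
theorem fT_M (hM : Function.Injective M) (θ : Λ →* ℂˣ) {t : Λ} {n : ℕ} (σ : Fin n → Λ) (hσ : Function.Injective σ)
    (h1 : ∀ i, ∃ x : G, x * M (σ i) * x⁻¹ = M t) (h2 : ∀ (s : Λ) (x : G), x * M s * x⁻¹ = M t → ∃ i, σ i = s)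
    (hC : ∀ x : G, x * M t = M t * x → x ∈ M.range) : fT hM θ (M t) = ∑ i, (((θ (σ i) : ℂˣ) : ℂ) - 1) := by
  rw [fT_apply, Finset.sum_comm]
  have hcount : ∀ s : Λ, (∑ x : G, if x⁻¹ * M t * x = M s then ((θ s : ℂˣ) : ℂ) - 1 else 0) =
      ∑ i, if σ i = s then (Nat.card Λ : ℂ) * (((θ (σ i) : ℂˣ) : ℂ) - 1) else 0 := by
    intro s
    by_cases hs : ∃ i, σ i = s
    · obtain ⟨i, rfl⟩ := hs
      rw [Finset.sum_eq_single i (fun j _ hj => by rw [if_neg]; intro h; exact hj (hσ h))
        (fun h => absurd (Finset.mem_univ i) h), if_pos rfl, ← Finset.sum_filter, Finset.sum_const, nsmul_eq_mul]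
      congr 2
      obtain ⟨x0, hx0⟩ := h1 i
      have h3 : (Finset.univ.filter fun x : G => x⁻¹ * M t * x = M (σ i)) =
          Finset.univ.image fun s : Λ => M s * x0 := by
        ext x
        simp only [Finset.mem_filter, Finset.mem_univ, true_and, Finset.mem_image]
        constructor
        · intro hx
          have h4 : x * x0⁻¹ * M t = M t * (x * x0⁻¹) := by
            have h5 : x0⁻¹ * M t * x0 = M (σ i) := by rw [← hx0]; group
            calc x * x0⁻¹ * M t = x * (x0⁻¹ * M t * x0) * x0⁻¹ := by group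
              _ = x * (x⁻¹ * M t * x) * x0⁻¹ := by rw [h5, hx]
              _ = _ := by group
          obtain ⟨s, hs⟩ := hC _ h4
          exact ⟨s, by rw [hs]; group⟩
        · rintro ⟨s, rfl⟩
          have h5 : (M s)⁻¹ * M t * M s = M t := by
            rw [← map_inv, ← map_mul, ← map_mul, mul_comm s⁻¹ t, inv_mul_cancel_right]
          calc (M s * x0)⁻¹ * M t * (M s * x0) = x0⁻¹ * ((M s)⁻¹ * M t * M s) * x0 := by group
            _ = x0⁻¹ * M t * x0 := by rw [h5]
            _ = M (σ i) := by rw [← hx0]; group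
      rw [h3, Finset.card_image_of_injective, Finset.card_univ, Nat.card_eq_fintype_card]
      intro a b hab
      exact hM (mul_right_cancel hab)
    · rw [Finset.sum_eq_zero, Finset.sum_eq_zero]
      · intro i _
        rw [if_neg]
        intro h
        exact hs ⟨i, h⟩
      · intro x _
        rw [if_neg]
        intro h
        exact hs (h2 s x (by rw [← h]; group))
  simp only [hcount]
  rw [Finset.sum_comm]
  simp only [Finset.sum_ite_eq, Finset.mem_univ, if_true]
  rw [← Finset.mul_sum, ← mul_assoc, inv_mul_cancel₀, one_mul]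
  exact_mod_cast Nat.card_pos.ne'

/-! ### sums of characters of an abelian group -/

open Classical in
theorem sum_char (A : Subgroup Λ) (μ : Λ →* ℂˣ) (h : ∃ s ∈ A, μ s ≠ 1) :
    ∑ s ∈ Finset.univ.filter (fun s => s ∈ A), ((μ s : ℂˣ) : ℂ) = 0 := by
  obtain ⟨a, ha, ha1⟩ := h
  have h1 : ∑ s ∈ Finset.univ.filter (fun s => s ∈ A), ((μ s : ℂˣ) : ℂ) =
      ((μ a : ℂˣ) : ℂ) * ∑ s ∈ Finset.univ.filter (fun s => s ∈ A), ((μ s : ℂˣ) : ℂ) := by
    rw [Finset.mul_sum]
    refine Finset.sum_bij' (fun s _ => a⁻¹ * s) (fun s _ => a * s) ?_ ?_ ?_ ?_ ?_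
    · intro s hs
      rw [Finset.mem_filter] at hs ⊢
      exact ⟨Finset.mem_univ _, mul_mem (inv_mem ha) hs.2⟩
    · intro s hs
      rw [Finset.mem_filter] at hs ⊢
      exact ⟨Finset.mem_univ _, mul_mem ha hs.2⟩
    · intro s _
      group
    · intro s _
      group
    · intro s _
      rw [← Units.val_mul, ← map_mul, mul_inv_cancel_left]
  have h2 : (((μ a : ℂˣ) : ℂ) - 1) * ∑ s ∈ Finset.univ.filter (fun s => s ∈ A), ((μ s : ℂˣ) : ℂ) = 0 := by
    rw [sub_mul, one_mul, ← h1, sub_self]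
  rcases mul_eq_zero.1 h2 with h3 | h3
  · exfalso
    apply ha1
    apply Units.ext
    rw [Units.val_one]
    exact sub_eq_zero.1 h3
  · exact h3

end Cfsg.Agent.H594.PQ
end

-- part: H594/PQ/E7Torus
section
/-!
# S4612, `E₇(q)`, orders 5 and 10, part T2 (helper594)

* `irr_of_dvd` : an element of order divisible by `p`, `ord_p q = 5`, of `GL₅(q)` is irreducible;
* `exists_f` : the generalised character `Ind (θ - 1)`, `θ` a character of order `p` of the Singer cycle.
-/

set_option autoImplicit false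
set_option linter.unusedSectionVars false

namespace Cfsg.Agent.H594.PQ

open Cfsg Matrix Polynomial Cfsg.Agent.H317.PQ Cfsg.Agent.H739.PQ.E7 Cfsg.Agent.H734.Fx
open scoped ComplexConjugate

section irr

variable {K : Type} [Field K] [Finite K]

/-- no invariant subspaces -/
theorem irr_of_dvd {p : ℕ} (hp : p.Prime) (ho : ord (Nat.card K) p = 5) {g : GL (Fin 5) K} (hg : p ∣ orderOf g)
    (S : Submodule K (Fin 5 → K)) (hS : Pres g S) : S = ⊥ ∨ S = ⊤ := by
  have hpF : Fact p.Prime := ⟨hp⟩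
  -- an element of order `p`
  obtain ⟨k, hk⟩ := hg
  have hk0 : 0 < k := by
    rcases Nat.eq_zero_or_pos k with h | h
    · rw [h, mul_zero] at hk
      exact absurd hk (orderOf_pos g).ne'
    · exact h
  have hy : orderOf (g ^ k) = p := by
    rw [orderOf_pow, hk, Nat.gcd_eq_right (Dvd.intro_left p rfl), Nat.mul_div_cancel _ hk0]
  set y := g ^ k with hyd
  have hyS : ∀ v ∈ S, (y : Matrix (Fin 5) (Fin 5) K) *ᵥ v ∈ S := by
    rw [hyd]
    clear_value y
    clear hk hk0 hy hyd
    induction k with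
    | zero =>
      intro v hv
      rw [pow_zero, Units.val_one, one_mulVec]
      exact hv
    | succ k ih =>
      intro v hv
      rw [pow_succ, Units.val_mul, ← mulVec_mulVec]
      exact ih _ (hS v hv)
  let s : (Fin 5 → K) →ₗ[K] (Fin 5 → K) := Matrix.toLin' (y : Matrix (Fin 5) (Fin 5) K)
  have hs : s ^ p = 1 := by
    show (Matrix.toLin' (y : Matrix (Fin 5) (Fin 5) K)) ^ p = 1
    rw [← Matrix.toLin'_pow, ← Units.val_pow_eq_pow_val, ← hy, pow_orderOf_eq_one, Units.val_one, Matrix.toLin'_one]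
    rfl
  have hs1 : s ≠ 1 := by
    intro h
    have h1 : (y : Matrix (Fin 5) (Fin 5) K) = 1 := by
      apply Matrix.toLin'.injective
      rw [Matrix.toLin'_one]
      exact h
    have h2 : y = 1 := Units.ext h1
    rw [h2, orderOf_one] at hy
    exact hp.one_lt.ne hy
  -- `p` is not the characteristic
  have hpK : (p : K) ≠ 0 := by
    intro h0
    have hc : CharP K p := by
      obtain ⟨c, hc⟩ := CharP.exists K
      have h1 := (CharP.cast_eq_zero_iff K c p).1 h0
      have hc1 : c ≠ 1 := CharP.char_ne_one K c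
      have h2 : c = p := ((Nat.dvd_prime hp).1 h1).resolve_left hc1
      exact h2 ▸ hc
    have := Fintype.ofFinite K
    obtain ⟨n, -, hn⟩ := FiniteField.card K p
    rw [← Nat.card_eq_fintype_card] at hn
    have h3 : ord (Nat.card K) p = 0 := by
      rw [hn]
      show orderOf ((p ^ (n : ℕ) : ℕ) : ZMod p) = 0
      have h4 : ((p ^ (n : ℕ) : ℕ) : ZMod p) = 0 := by
        push_cast
        rw [CharP.cast_eq_zero, zero_pow n.ne_zero]
      rw [h4, orderOf_eq_zero_iff']
      intro m hm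
      rw [zero_pow hm.ne']
      exact zero_ne_one
    rw [h3] at ho
    exact absurd ho (by norm_num)
  have hrange : LinearMap.range (s - 1) = ⊤ := by
    have h1 := H150.dvd_finrank_of_fpf_submodule hp s hs (LinearMap.range (s - 1)) (by
      rintro _ ⟨v, rfl⟩
      refine ⟨s v, ?_⟩
      simp only [LinearMap.sub_apply, Module.End.one_apply, map_sub]) (H150.fpf_range hpK s hs)
    have h2 : orderOf ((Nat.card K : ℕ) : ZMod p) = 5 := ho
    rw [h2] at h1
    have h3 : Module.finrank K (LinearMap.range (s - 1)) ≤ 5 := by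
      have := Submodule.finrank_le (LinearMap.range (s - 1))
      rwa [Module.finrank_fin_fun] at this
    have h4 : Module.finrank K (LinearMap.range (s - 1)) ≠ 0 := by
      intro h0
      rw [Submodule.finrank_eq_zero, LinearMap.range_eq_bot, sub_eq_zero] at h0
      exact hs1 h0
    apply Submodule.eq_top_of_finrank_eq
    rw [Module.finrank_fin_fun]
    obtain ⟨c, hc⟩ := h1
    rcases Nat.lt_or_ge c 2 with h5 | h5
    · interval_cases c
      · omega
      · omega
    · omega
  have hf : ∀ v, s v = v → v = 0 := fun v hv => H150.fpf_range hpK s hs v (by rw [hrange]; trivial) hv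
  have h5 := H150.dvd_finrank_of_fpf_submodule hp s hs S (by
    intro v hv
    show Matrix.toLin' (y : Matrix (Fin 5) (Fin 5) K) v ∈ S
    rw [Matrix.toLin'_apply]
    exact hyS v hv) (fun v _ hv => hf v hv)
  have h2 : orderOf ((Nat.card K : ℕ) : ZMod p) = 5 := ho
  rw [h2] at h5
  have h3 : Module.finrank K S ≤ 5 := by
    have := Submodule.finrank_le S
    rwa [Module.finrank_fin_fun] at this
  by_cases h4 : Module.finrank K S = 0
  · left
    exact Submodule.finrank_eq_zero.1 h4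
  · right
    apply Submodule.eq_top_of_finrank_eq
    rw [Module.finrank_fin_fun]
    obtain ⟨c, hc⟩ := h5
    rcases Nat.lt_or_ge c 2 with h5 | h5
    · interval_cases c
      · omega
      · omega
    · omega

end irr

/-! ### the transpose inverse -/

theorem tau_mul {K : Type*} [Field K] {n : ℕ} (g h : GL (Fin n) K) : tau (g * h) = tau g * tau h := by
  apply Units.ext
  show (((g * h)⁻¹ : GL (Fin n) K) : Matrix (Fin n) (Fin n) K)ᵀ = ((g⁻¹ : GL (Fin n) K) : Matrix (Fin n) (Fin n) K)ᵀ *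
    ((h⁻¹ : GL (Fin n) K) : Matrix (Fin n) (Fin n) K)ᵀ
  rw [_root_.mul_inv_rev, Units.val_mul, transpose_mul]

theorem tau_one {K : Type*} [Field K] {n : ℕ} : tau (1 : GL (Fin n) K) = 1 := by
  have h := tau_mul (1 : GL (Fin n) K) 1
  rw [one_mul] at h
  exact (mul_eq_left.1 h.symm)

theorem tau_inv {K : Type*} [Field K] {n : ℕ} (g : GL (Fin n) K) : tau g⁻¹ = (tau g)⁻¹ := by
  rw [eq_inv_iff_mul_eq_one, ← tau_mul, inv_mul_cancel, tau_one]

theorem normal_of_hasSL {K : Type*} [Field K] {n : ℕ} {H : Subgroup (GL (Fin n) K)} (hH : HasSL H) : H.Normal := by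
  refine ⟨fun h hh g => ?_⟩
  have h1 : g * h * g⁻¹ = (g * h * g⁻¹ * h⁻¹) * h := by group
  rw [h1]
  refine mul_mem (hH _ ?_) hh
  have h2 : GeneralLinearGroup.det (g * h * g⁻¹ * h⁻¹) = 1 := by
    rw [map_mul, map_mul, map_mul, map_inv, map_inv, mul_comm (GeneralLinearGroup.det g)]
    group
  exact congrArg Units.val h2

section field

variable {K L : Type} [Field K] [Fintype K] [Field L] [Finite L] [Algebra K L] (b : Module.Basis (Fin 5) K L)

theorem TT_injective : Function.Injective (TT b) := by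
  intro x y h
  apply Units.ext
  exact Algebra.leftMulMatrix_injective b (congrArg Units.val h)

include b in
theorem finrank_L : Module.finrank K L = 5 := by
  rw [Module.finrank_eq_card_basis b, Fintype.card_fin]

include b in
theorem adjoin_top {x : L} (hx : x ∉ Set.range (algebraMap K L)) : Algebra.adjoin K {x} = ⊤ := by
  have := Subalgebra.isSimpleOrder_of_finrank_prime K L (by rw [finrank_L b]; norm_num)
  rcases eq_bot_or_eq_top (Algebra.adjoin K {x}) with h | h
  · exfalso
    have h1 : x ∈ Algebra.adjoin K {x} := Algebra.subset_adjoin rfl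
    rw [h, Algebra.mem_bot] at h1
    exact hx h1
  · exact h

/-- conjugate elements are roots of the same polynomials -/
theorem aeval_of_conj {s t : Lˣ} {x : GL (Fin 5) K} (hc : x * TT b s * x⁻¹ = TT b t) (P : K[X])
    (hP : aeval (s : L) P = 0) : aeval (t : L) P = 0 := by
  have hx1 : ((x⁻¹ : GL (Fin 5) K) : Matrix (Fin 5) (Fin 5) K) * (x : Matrix (Fin 5) (Fin 5) K) = 1 := by
    rw [← Units.val_mul, inv_mul_cancel, Units.val_one]
  have hx2 : (x : Matrix (Fin 5) (Fin 5) K) * ((x⁻¹ : GL (Fin 5) K) : Matrix (Fin 5) (Fin 5) K) = 1 := by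
    rw [← Units.val_mul, mul_inv_cancel, Units.val_one]
  have hc' : (x : Matrix (Fin 5) (Fin 5) K) * Algebra.leftMulMatrix b (s : L) *
      ((x⁻¹ : GL (Fin 5) K) : Matrix (Fin 5) (Fin 5) K) = Algebra.leftMulMatrix b (t : L) := by
    have := congrArg Units.val hc
    rwa [Units.val_mul, Units.val_mul, coe_TT, coe_TT] at this
  have h1 : ∀ P : K[X], aeval (Algebra.leftMulMatrix b (t : L)) P = (x : Matrix (Fin 5) (Fin 5) K) *
      aeval (Algebra.leftMulMatrix b (s : L)) P * ((x⁻¹ : GL (Fin 5) K) : Matrix (Fin 5) (Fin 5) K) := by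
    intro P
    have h2 : ∀ n : ℕ, (Algebra.leftMulMatrix b (t : L)) ^ n = (x : Matrix (Fin 5) (Fin 5) K) *
        (Algebra.leftMulMatrix b (s : L)) ^ n * ((x⁻¹ : GL (Fin 5) K) : Matrix (Fin 5) (Fin 5) K) := by
      intro n
      induction n with
      | zero => rw [pow_zero, pow_zero, mul_one, hx2]
      | succ n ih =>
        rw [pow_succ, ih, ← hc', pow_succ]
        calc (x : Matrix (Fin 5) (Fin 5) K) * Algebra.leftMulMatrix b (s : L) ^ n *
              ((x⁻¹ : GL (Fin 5) K) : Matrix (Fin 5) (Fin 5) K) * ((x : Matrix (Fin 5) (Fin 5) K) *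
              Algebra.leftMulMatrix b (s : L) * ((x⁻¹ : GL (Fin 5) K) : Matrix (Fin 5) (Fin 5) K))
            = (x : Matrix (Fin 5) (Fin 5) K) * Algebra.leftMulMatrix b (s : L) ^ n *
              (((x⁻¹ : GL (Fin 5) K) : Matrix (Fin 5) (Fin 5) K) * (x : Matrix (Fin 5) (Fin 5) K)) *
              Algebra.leftMulMatrix b (s : L) * ((x⁻¹ : GL (Fin 5) K) : Matrix (Fin 5) (Fin 5) K) := by noncomm_ring
          _ = _ := by rw [hx1]; noncomm_ring
    induction P using Polynomial.induction_on' with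
    | add P Q hP hQ => rw [map_add, map_add, hP, hQ]; noncomm_ring
    | monomial n a =>
      rw [aeval_monomial, aeval_monomial, h2]
      rw [Algebra.algebraMap_eq_smul_one, smul_mul_assoc, one_mul, smul_mul_assoc, one_mul, Matrix.mul_smul,
        Matrix.smul_mul]
  have h3 : aeval (Algebra.leftMulMatrix b (t : L)) P = 0 := by
    rw [h1, aeval_algHom_apply, hP, map_zero]
    simp
  rw [aeval_algHom_apply] at h3
  exact Algebra.leftMulMatrix_injective b (h3.trans (map_zero _).symm)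

/-- conjugate elements of the Singer cycle -/
theorem exists_pow_of_conj {s t : Lˣ} {x : GL (Fin 5) K} (hc : x * TT b s * x⁻¹ = TT b t) :
    ∃ i : Fin 5, t ^ (Fintype.card K ^ (i : ℕ)) = s := by
  have hfin : Module.Finite K L := Module.Finite.of_basis b
  have hc' : x⁻¹ * TT b t * x⁻¹⁻¹ = TT b s := by
    rw [← hc]
    group
  have h1 : aeval (s : L) (minpoly K (t : L)) = 0 := aeval_of_conj b hc' _ (minpoly.aeval K (t : L))
  obtain ⟨σ, hσ⟩ := minpoly.exists_algEquiv_of_root' (K := K) (L := L) (Algebra.IsAlgebraic.isAlgebraic (t : L)) h1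
  obtain ⟨i, hi⟩ := (FiniteField.bijective_frobeniusAlgEquivOfAlgebraic_pow K L).2 σ
  refine ⟨⟨i, i.2.trans_eq (finrank_L b)⟩, ?_⟩
  apply Units.ext
  rw [Units.val_pow_eq_pow_val, ← hσ, ← hi]
  show (t : L) ^ (Fintype.card K ^ (i : ℕ)) = (FiniteField.frobeniusAlgEquivOfAlgebraic K L ^ (i : ℕ)) (t : L)
  rw [AlgEquiv.coe_pow, FiniteField.coe_frobeniusAlgEquivOfAlgebraic, pow_iterate]

theorem exists_conj_pow (t : Lˣ) (i : ℕ) : ∃ x : GL (Fin 5) K, x * TT b (t ^ (Fintype.card K ^ i)) * x⁻¹ = TT b t := by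
  induction i with
  | zero => exact ⟨1, by simp⟩
  | succ i ih =>
    obtain ⟨x, hx⟩ := ih
    refine ⟨x * (PH b (fr K L))⁻¹, ?_⟩
    have h1 := fr_conj b (t ^ (Fintype.card K ^ i))
    rw [← map_pow, ← pow_mul, ← pow_succ] at h1
    rw [← h1, ← hx]
    group

theorem mem_range_of_comm {t : Lˣ} (ht : (t : L) ∉ Set.range (algebraMap K L)) {x : GL (Fin 5) K}
    (hx : x * TT b t = TT b t * x) : x ∈ (TT b).range := by
  obtain ⟨w, hw⟩ := H514.DP.exists_of_commute b (adjoin_top b ht) (M := (x : Matrix (Fin 5) (Fin 5) K)) (by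
    have := congrArg Units.val hx
    rwa [Units.val_mul, Units.val_mul, coe_TT] at this)
  have hw0 : w ≠ 0 := by
    rintro rfl
    rw [map_zero] at hw
    have h1 : (x : Matrix (Fin 5) (Fin 5) K) * ((x⁻¹ : GL (Fin 5) K) : Matrix (Fin 5) (Fin 5) K) = 1 := by
      rw [← Units.val_mul, mul_inv_cancel, Units.val_one]
    rw [hw, zero_mul] at h1
    exact zero_ne_one h1
  exact ⟨Units.mk0 w hw0, Units.ext hw.symm⟩

/-- the transpose inverse on the Singer cycle -/
theorem exists_tau_conj (t : Lˣ) : ∃ y : GL (Fin 5) K, tau (TT b t) = y * TT b t⁻¹ * y⁻¹ := by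
  have hfin : Module.Finite K L := Module.Finite.of_basis b
  have hdet := H411.Six.Emb.det_T b
  let y : GL (Fin 5) K := Matrix.GeneralLinearGroup.mk'' (H411.Six.Emb.T b) hdet
  refine ⟨y, ?_⟩
  rw [eq_mul_inv_iff_mul_eq]
  apply Units.ext
  have h1 := H411.Six.Emb.T_mul b ((t⁻¹ : Lˣ) : L)
  show ((((TT b t)⁻¹ : GL (Fin 5) K) : Matrix (Fin 5) (Fin 5) K))ᵀ * H411.Six.Emb.T b =
    H411.Six.Emb.T b * Algebra.leftMulMatrix b ((t⁻¹ : Lˣ) : L)
  rw [h1, ← map_inv]
  rfl

/-! ### the character -/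

/-- a character of order `p` -/
theorem exists_theta {Λ : Type*} [CommGroup Λ] [Finite Λ] [IsCyclic Λ] {p : ℕ} (hp : p.Prime) (hd : p ∣ Nat.card Λ) :
    ∃ θ : Λ →* ℂˣ, (∀ s, θ s ^ p = 1) ∧ ∃ s, θ s ≠ 1 := by
  obtain ⟨k, hk⟩ := hd
  have hk0 : 0 < k := by
    rcases Nat.eq_zero_or_pos k with h | h
    · rw [h, mul_zero] at hk
      exact absurd hk Nat.card_pos.ne'
    · exact h
  obtain ⟨g, hg⟩ := IsCyclic.exists_generator (α := Λ)
  have ho : orderOf g = p * k := by rw [← hk]; exact orderOf_eq_card_of_forall_mem_zpowers hg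
  have ha : g ^ k ≠ 1 := by
    intro h
    have h1 := Nat.le_of_dvd hk0 (orderOf_dvd_of_pow_eq_one h)
    rw [ho] at h1
    have := hp.two_le
    nlinarith only [hk0, h1, this]
  obtain ⟨φ, hφ⟩ := CommGroup.exists_apply_ne_one_of_hasEnoughRootsOfUnity Λ ℂ ha
  refine ⟨φ ^ k, fun s => ?_, g, ?_⟩
  · rw [MonoidHom.pow_apply, ← pow_mul, mul_comm k p, ← hk, ← map_pow, pow_card_eq_one', map_one]
  · rw [MonoidHom.pow_apply, ← map_pow]
    exact hφ

theorem conj_unit {z : ℂˣ} {p : ℕ} (hp : p ≠ 0) (hz : z ^ p = 1) : conj (z : ℂ) = ((z⁻¹ : ℂˣ) : ℂ) := by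
  have h1 : ‖(z : ℂ)‖ = 1 := Complex.norm_eq_one_of_pow_eq_one (by rw [← Units.val_pow_eq_pow_val, hz, Units.val_one]) hp
  rw [Units.val_inv_eq_inv_val, Complex.inv_eq_conj h1]

variable {p : ℕ} (hp : p.Prime) (ho : ord (Fintype.card K) p = 5) (θ : Lˣ →* ℂˣ) (hθ : ∀ s, θ s ^ p = 1)

include hp hθ in
theorem order_theta {s : Lˣ} (hs : θ s ≠ 1) : orderOf (θ s) = p := by
  rcases (Nat.dvd_prime hp).1 (orderOf_dvd_of_pow_eq_one (hθ s)) with h | h
  · exact absurd (orderOf_eq_one_iff.1 h) hs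
  · exact h

include hp ho in
theorem not_dvd_sub {m : ℕ} (h1 : 0 < m) (h5 : m < 5) : ¬ p ∣ Fintype.card K ^ m - 1 := by
  rw [← ord_dvd Fintype.card_pos, ho]
  intro h
  have := Nat.le_of_dvd h1 h
  omega

include hp ho hθ in
/-- elements outside the kernel are regular -/
theorem not_mem_base {s : Lˣ} (hs : θ s ≠ 1) : (s : L) ∉ Set.range (algebraMap K L) := by
  rintro ⟨c, hc⟩
  have hc0 : c ≠ 0 := by
    rintro rfl
    rw [map_zero] at hc
    exact s.ne_zero hc.symm
  have h1 : s ^ (Fintype.card K - 1) = 1 := by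
    apply Units.ext
    rw [Units.val_pow_eq_pow_val, ← hc, ← map_pow, FiniteField.pow_card_sub_one_eq_one c hc0, map_one, Units.val_one]
  have h2 : p ∣ Fintype.card K - 1 := by
    rw [← order_theta hp θ hθ hs]
    apply orderOf_dvd_of_pow_eq_one
    rw [← map_pow, h1, map_one]
  exact not_dvd_sub (p := p) (K := K) hp ho (m := 1) (by norm_num) (by norm_num) (by rwa [pow_one])

include hp ho in
/-- the powers `q ^ i`, `i < 5`, are distinct modulo `p` -/
theorem pow_inj {z : ℂˣ} (hz : orderOf z = p) {i j : Fin 5}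
    (h : z ^ (Fintype.card K ^ (i : ℕ)) = z ^ (Fintype.card K ^ (j : ℕ))) : i = j := by
  have hpF : Fact p.Prime := ⟨hp⟩
  have h1 : Fintype.card K ^ (i : ℕ) ≡ Fintype.card K ^ (j : ℕ) [MOD p] := by
    rw [← hz]
    exact pow_eq_pow_iff_modEq.1 h
  rw [← ZMod.natCast_eq_natCast_iff] at h1
  push_cast at h1
  have h2 : orderOf ((Fintype.card K : ℕ) : ZMod p) = 5 := ho
  apply Fin.ext
  exact pow_injOn_Iio_orderOf (by rw [Set.mem_Iio, h2]; exact i.2) (by rw [Set.mem_Iio, h2]; exact j.2) h1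

include hp ho hθ in
/-- **The value of the induced function on the Singer cycle.** -/
theorem value [Fintype L] [Fintype (GL (Fin 5) K)] [Fintype Lˣ] {s : Lˣ} (hs : θ s ≠ 1) : fT (TT_injective b) θ (TT b s) =
    ∑ i : Fin 5, (((θ s ^ (Fintype.card K ^ (i : ℕ)) : ℂˣ) : ℂ) - 1) := by
  have hb := not_mem_base hp ho θ hθ hs
  have h1 := fT_M (TT_injective b) θ (t := s) (fun i : Fin 5 => s ^ (Fintype.card K ^ (i : ℕ))) (by
    intro i j hij
    apply pow_inj hp ho (order_theta hp θ hθ hs)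
    have h2 : s ^ (Fintype.card K ^ (i : ℕ)) = s ^ (Fintype.card K ^ (j : ℕ)) := hij
    rw [← map_pow, ← map_pow, h2]) (fun i => exists_conj_pow b s i) (fun s' x h => exists_pow_of_conj b h)
    (fun x hx => mem_range_of_comm b hb hx)
  rw [h1]
  refine Finset.sum_congr rfl fun i _ => ?_
  rw [map_pow]

include hp ho hθ in
open Classical in
/-- the sum over a subgroup -/
theorem sum_double [Fintype Lˣ] (A : Subgroup Lˣ) {s0 : Lˣ} (h0 : s0 ∈ A) (h1 : θ s0 ≠ 1) (ν : Lˣ →* ℂˣ)
    (hν1 : ν s0 ≠ 1) {N : ℕ}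
    (hN : (Finset.univ.filter fun i : Fin 5 => θ s0 * ν s0 ^ (Fintype.card K ^ (i : ℕ)) = 1).card = N)
    (htriv : ∀ i : Fin 5, θ s0 * ν s0 ^ (Fintype.card K ^ (i : ℕ)) = 1 →
      ∀ s, θ s * ν s ^ (Fintype.card K ^ (i : ℕ)) = 1) (hνp : ∀ s, ν s ^ p = 1) :
    ∑ s ∈ Finset.univ.filter (fun s => s ∈ A), (((θ s : ℂˣ) : ℂ) - 1) *
      (∑ i : Fin 5, (((ν s ^ (Fintype.card K ^ (i : ℕ)) : ℂˣ) : ℂ) - 1)) =
      ((5 + N : ℕ) : ℂ) * (Finset.univ.filter (fun s => s ∈ A)).card := by
  have hq : ∀ i : Fin 5, ν s0 ^ (Fintype.card K ^ (i : ℕ)) ≠ 1 := by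
    intro i h
    have h2 : orderOf (ν s0) = p := by
      rcases (Nat.dvd_prime hp).1 (orderOf_dvd_of_pow_eq_one (hνp s0)) with h | h
      · exact absurd (orderOf_eq_one_iff.1 h) hν1
      · exact h
    have h3 : p ∣ Fintype.card K ^ (i : ℕ) := by
      rw [← h2]
      exact orderOf_dvd_of_pow_eq_one h
    have h4 : p ∣ Fintype.card K := hp.dvd_of_dvd_pow h3
    have h5 : ord (Fintype.card K) p = 0 := by
      have hpF : Fact p.Prime := ⟨hp⟩
      show orderOf ((Fintype.card K : ℕ) : ZMod p) = 0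
      rw [(ZMod.natCast_eq_zero_iff _ _).2 h4, orderOf_eq_zero_iff']
      intro m hm
      rw [zero_pow hm.ne']
      exact zero_ne_one
    rw [h5] at ho
    exact absurd ho (by norm_num)
  set F := Finset.univ.filter (fun s => s ∈ A) with hF
  have e1 : ∑ s ∈ F, ((θ s : ℂˣ) : ℂ) = 0 := sum_char A θ ⟨s0, h0, h1⟩
  have e2 : ∀ i : Fin 5, ∑ s ∈ F, ((ν s ^ (Fintype.card K ^ (i : ℕ)) : ℂˣ) : ℂ) = 0 :=
    fun i => sum_char A (ν ^ (Fintype.card K ^ (i : ℕ))) ⟨s0, h0, hq i⟩
  have e3 : ∀ i : Fin 5, ∑ s ∈ F, ((θ s * ν s ^ (Fintype.card K ^ (i : ℕ)) : ℂˣ) : ℂ) =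
      if θ s0 * ν s0 ^ (Fintype.card K ^ (i : ℕ)) = 1 then (F.card : ℂ) else 0 := by
    intro i
    split_ifs with h
    · rw [Finset.sum_congr rfl fun s _ => by rw [htriv i h s, Units.val_one], Finset.sum_const, nsmul_eq_mul, mul_one]
    · exact sum_char A (θ * ν ^ (Fintype.card K ^ (i : ℕ))) ⟨s0, h0, h⟩
  have e4 : ∀ s : Lˣ, (((θ s : ℂˣ) : ℂ) - 1) * (∑ i : Fin 5, (((ν s ^ (Fintype.card K ^ (i : ℕ)) : ℂˣ) : ℂ) - 1)) =
      ∑ i : Fin 5, (((θ s * ν s ^ (Fintype.card K ^ (i : ℕ)) : ℂˣ) : ℂ) - ((θ s : ℂˣ) : ℂ) -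
        ((ν s ^ (Fintype.card K ^ (i : ℕ)) : ℂˣ) : ℂ) + 1) := by
    intro s
    rw [Finset.mul_sum]
    refine Finset.sum_congr rfl fun i _ => ?_
    rw [Units.val_mul]
    ring
  rw [Finset.sum_congr rfl fun s _ => e4 s, Finset.sum_comm]
  have e5 : ∀ i : Fin 5, ∑ s ∈ F, (((θ s * ν s ^ (Fintype.card K ^ (i : ℕ)) : ℂˣ) : ℂ) - ((θ s : ℂˣ) : ℂ) -
        ((ν s ^ (Fintype.card K ^ (i : ℕ)) : ℂˣ) : ℂ) + 1) =
      (if θ s0 * ν s0 ^ (Fintype.card K ^ (i : ℕ)) = 1 then (F.card : ℂ) else 0) + F.card := by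
    intro i
    rw [Finset.sum_add_distrib, Finset.sum_sub_distrib, Finset.sum_sub_distrib, e1, e2, e3, Finset.sum_const,
      nsmul_eq_mul, mul_one]
    ring
  rw [Finset.sum_congr rfl fun i _ => e5 i, Finset.sum_add_distrib, ← Finset.sum_filter, Finset.sum_const, hN,
    Finset.sum_const, Finset.card_univ, Fintype.card_fin, nsmul_eq_mul, nsmul_eq_mul]
  push_cast
  ring

theorem zmod_two (a : ZMod 2) : a = 0 ∨ a = 1 := by
  revert a
  decide

include hp ho in
theorem mul_ne_one {z : ℂˣ} (hz : orderOf z = p) (i : Fin 5) : z * z ^ (Fintype.card K ^ (i : ℕ)) ≠ 1 := by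
  intro h
  have hpF : Fact p.Prime := ⟨hp⟩
  rw [← pow_succ'] at h
  have h1 : p ∣ Fintype.card K ^ (i : ℕ) + 1 := by
    rw [← hz]
    exact orderOf_dvd_of_pow_eq_one h
  have h2 : orderOf ((Fintype.card K : ℕ) : ZMod p) = 5 := ho
  have h3 : ((Fintype.card K : ℕ) : ZMod p) ^ (i : ℕ) + 1 = 0 := by
    have := (ZMod.natCast_eq_zero_iff _ _).2 h1
    push_cast at this
    exact this
  have h4 : ((Fintype.card K : ℕ) : ZMod p) ^ (2 * (i : ℕ)) = 1 := by
    have h5 : ((Fintype.card K : ℕ) : ZMod p) ^ (i : ℕ) = -1 := eq_neg_of_add_eq_zero_left h3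
    rw [mul_comm, pow_mul, h5]
    norm_num
  have h5 := orderOf_dvd_of_pow_eq_one h4
  rw [h2] at h5
  have h6 : (i : ℕ) = 0 := by
    have := i.2
    omega
  rw [h6, pow_zero] at h3
  have h7 : p ∣ 2 := by
    rw [← ZMod.natCast_eq_zero_iff]
    rw [← h3]
    norm_num
  have h8 : p = 2 := (Nat.prime_dvd_prime_iff_eq hp Nat.prime_two).1 h7
  subst h8
  rcases zmod_two ((Fintype.card K : ℕ) : ZMod 2) with h10 | h10
  · rw [h10] at h2
    have : orderOf (0 : ZMod 2) = 0 := by
      rw [orderOf_eq_zero_iff']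
      intro m hm
      rw [zero_pow hm.ne']
      exact zero_ne_one
    rw [this] at h2
    exact absurd h2 (by norm_num)
  · rw [h10, orderOf_one] at h2
    exact absurd h2 (by norm_num)

end field

/-- **Part T2.** -/
theorem exists_f (K : Type) [Field K] [Finite K] {p : ℕ} (hp : p.Prime) (ho : ord (Nat.card K) p = 5) :
    ∃ f : GL (Fin 5) K → ℂ, IsGeneralizedCharacter (GL (Fin 5) K) f ∧
    (∀ g, f g ≠ 0 → p ∣ orderOf g) ∧
    (∀ H : Subgroup (GL (Fin 5) K), HasSL H → ∑ᶠ h : H, f h = -Nat.card H) ∧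
    (∀ H : Subgroup (GL (Fin 5) K), HasSL H → ∑ᶠ h : H, f h * conj (f h) = 6 * Nat.card H) ∧
    (∀ H : Subgroup (GL (Fin 5) K), HasSL H → ∑ᶠ h : H, f h * conj (f (tau h)) = 5 * Nat.card H) := by
  classical
  have hKF := Fintype.ofFinite K
  rw [Nat.card_eq_fintype_card] at ho
  obtain ⟨L, iL, iL', iA, hcard, hfr, ⟨b⟩⟩ := exists_ext K (e := 5) (by norm_num)
  have hLu := Fintype.ofFinite Lˣ
  have hL := Fintype.ofFinite L
  have hG := Fintype.ofFinite (GL (Fin 5) K)
  have hp0 : p ≠ 0 := hp.ne_zero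
  have hd : p ∣ Nat.card Lˣ := by
    rw [Nat.card_units, hcard, ← ord_dvd Fintype.card_pos, ho]
  obtain ⟨θ, hθ, s1, hs1⟩ := exists_theta hp hd
  have hcl := isClass_fT (TT_injective b) θ
  -- an element of determinant one outside the kernel
  have hexA : ∀ H : Subgroup (GL (Fin 5) K), HasSL H → ∃ s0 ∈ H.comap (TT b), θ s0 ≠ 1 := by
    intro H hH
    refine ⟨s1 ^ (Fintype.card K - 1), ?_, ?_⟩
    · rw [Subgroup.mem_comap]
      apply hH
      rw [TT_det, Units.val_pow_eq_pow_val, map_pow]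
      apply FiniteField.pow_card_sub_one_eq_one
      rw [Algebra.norm_ne_zero_iff]
      exact s1.ne_zero
    · rw [map_pow]
      intro h
      have h1 : p ∣ Fintype.card K - 1 := by
        rw [← order_theta hp θ hθ hs1]
        exact orderOf_dvd_of_pow_eq_one h
      exact not_dvd_sub (p := p) (K := K) hp ho (m := 1) (by norm_num) (by norm_num) (by rwa [pow_one])
  have hcov : ∀ H : Subgroup (GL (Fin 5) K), HasSL H → ∀ g : GL (Fin 5) K, ∃ s : Lˣ, (TT b s)⁻¹ * g ∈ H := by
    intro H hH g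
    obtain ⟨s, hs⟩ := FiniteField.unitsMap_norm_surjective K L (GeneralLinearGroup.det g)
    have h1 : GeneralLinearGroup.det (TT b s) = GeneralLinearGroup.det g := by
      rw [← hs]
      refine Units.ext ?_
      rw [GeneralLinearGroup.val_det_apply, Units.coe_map]
      exact TT_det b s
    have h2 : GeneralLinearGroup.det ((TT b s)⁻¹ * g) = 1 := by
      rw [map_mul, map_inv, h1, inv_mul_cancel]
    have h3 := congrArg Units.val h2
    rw [GeneralLinearGroup.val_det_apply, Units.val_one] at h3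
    exact ⟨s, hH _ h3⟩
  refine ⟨fT (TT_injective b) θ, isGen_fT _ _, ?_, ?_, ?_, ?_⟩
  · intro g hg
    obtain ⟨x, s, h1, h2⟩ := exists_of_ne _ _ hg
    have h3 : orderOf g = orderOf (TT b s) := by
      rw [← h1]
      have h4 : x⁻¹ * g * x = MulAut.conj x⁻¹ g := by rw [MulAut.conj_apply, inv_inv]
      rw [h4]
      exact (MulEquiv.orderOf_eq (MulAut.conj x⁻¹) g).symm
    rw [h3, orderOf_injective _ (TT_injective b), ← order_theta hp θ hθ h2]
    exact orderOf_map_dvd θ s
  · intro H hH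
    have hN := normal_of_hasSL hH
    obtain ⟨s0, h0, h1⟩ := hexA H hH
    have h2 := sum_mul (TT_injective b) θ (F := fun _ => 1) (fun _ _ => rfl) H (hcov H hH) (c := -1) (by
      have h3 := sum_char (H.comap (TT b)) θ ⟨s0, h0, h1⟩
      simp only [Subgroup.mem_comap] at h3
      simp only [mul_one]
      rw [Finset.sum_sub_distrib, h3, Finset.sum_const, nsmul_eq_mul, mul_one]
      ring)
    simp only [mul_one] at h2
    rw [h2]
    ring
  · intro H hH
    have hN := normal_of_hasSL hH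
    obtain ⟨s0, h0, h1⟩ := hexA H hH
    have hF : IsClassFunction (GL (Fin 5) K) (fun g => conj (fT (TT_injective b) θ g)) := by
      intro g h
      show conj _ = conj _
      rw [hcl]
    have h2 := sum_mul (TT_injective b) θ hF H (hcov H hH) (c := ((5 + 1 : ℕ) : ℂ)) (by
      have h3 := sum_double (K := K) hp ho θ hθ (H.comap (TT b)) h0 h1 θ⁻¹ (N := 1) (by
        rw [MonoidHom.inv_apply]
        intro h
        exact h1 (inv_eq_one.1 h)) (by
        rw [Finset.card_eq_one]
        refine ⟨0, ?_⟩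
        ext i
        rw [Finset.mem_filter, Finset.mem_singleton]
        constructor
        · rintro ⟨-, h⟩
          rw [MonoidHom.inv_apply, inv_pow, mul_inv_eq_one] at h
          apply pow_inj hp ho (order_theta hp θ hθ h1)
          rw [← h]
          simp
        · rintro rfl
          refine ⟨Finset.mem_univ _, ?_⟩
          simp) (by
        intro i h s
        rw [MonoidHom.inv_apply, inv_pow, mul_inv_eq_one] at h
        have h4 : i = 0 := by
          apply pow_inj hp ho (order_theta hp θ hθ h1)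
          rw [← h]
          simp
        subst h4
        simp) (by
        intro s
        rw [MonoidHom.inv_apply, inv_pow, hθ, inv_one])
      simp only [Subgroup.mem_comap] at h3
      rw [← h3]
      refine Finset.sum_congr rfl fun s _ => ?_
      by_cases hs : θ s = 1
      · rw [hs, Units.val_one, sub_self, zero_mul, zero_mul]
      · congr 1
        rw [value b hp ho θ hθ hs, map_sum]
        refine Finset.sum_congr rfl fun i _ => ?_
        rw [map_sub, map_one, conj_unit hp0 (by rw [← pow_mul, mul_comm, pow_mul, hθ, one_pow]), MonoidHom.inv_apply,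
          inv_pow])
    rw [h2]
    norm_num only [_root_.Nat.card_eq_fintype_card]
  · intro H hH
    have hN := normal_of_hasSL hH
    obtain ⟨s0, h0, h1⟩ := hexA H hH
    have hF : IsClassFunction (GL (Fin 5) K) (fun g => conj (fT (TT_injective b) θ (tau g))) := by
      intro g h
      show conj _ = conj _
      rw [tau_mul, tau_mul, tau_inv, hcl]
    have h2 := sum_mul (TT_injective b) θ hF H (hcov H hH) (c := ((5 + 0 : ℕ) : ℂ)) (by
      have h3 := sum_double (K := K) hp ho θ hθ (H.comap (TT b)) h0 h1 θ (N := 0) h1 (by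
        rw [Finset.card_eq_zero, Finset.filter_eq_empty_iff]
        intro i _
        exact mul_ne_one hp ho (order_theta hp θ hθ h1) i) (by
        intro i h
        exact absurd h (mul_ne_one hp ho (order_theta hp θ hθ h1) i)) hθ
      simp only [Subgroup.mem_comap] at h3
      rw [← h3]
      refine Finset.sum_congr rfl fun s _ => ?_
      by_cases hs : θ s = 1
      · rw [hs, Units.val_one, sub_self, zero_mul, zero_mul]
      · congr 1
        obtain ⟨y, hy⟩ := exists_tau_conj b s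
        have hs' : θ s⁻¹ ≠ 1 := by
          rw [map_inv]
          intro h
          exact hs (inv_eq_one.1 h)
        rw [hy, hcl, value b hp ho θ hθ hs', map_sum]
        refine Finset.sum_congr rfl fun i _ => ?_
        rw [map_sub, map_one, conj_unit hp0 (by rw [← pow_mul, mul_comm, pow_mul, hθ, one_pow]), map_inv, inv_pow,
          inv_inv])
    rw [h2]
    norm_num only [_root_.Nat.card_eq_fintype_card]

end Cfsg.Agent.H594.PQ
end

-- part: H739/PQ/E7/PsiMk
section
/-!
# The generalised character `ψ` (helper739)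

`exists_psi` (T3 of tools/plans/S4612_e7_510.md).
-/

set_option autoImplicit false
set_option linter.unusedSectionVars false

namespace Cfsg.Agent.H739.PQ.E7

open Cfsg Matrix Cfsg.Agent.H317.PQ
open scoped ComplexConjugate

variable {K : Type} [Field K] [Finite K]

/-- `tau` as an automorphism -/
def tauE : GL (Fin 5) K ≃* GL (Fin 5) K where
  toFun := tau
  invFun := tau
  left_inv g := by
    apply Units.ext
    show (((tau g)⁻¹ : GL (Fin 5) K) : Matrix (Fin 5) (Fin 5) K)ᵀ = g
    have h1 : ((tau g)⁻¹ : GL (Fin 5) K) = tau g⁻¹ := (H594.PQ.tau_inv g).symm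
    rw [h1]
    show ((((g⁻¹)⁻¹ : GL (Fin 5) K) : Matrix (Fin 5) (Fin 5) K)ᵀ)ᵀ = g
    rw [inv_inv, transpose_transpose]
  right_inv g := by
    apply Units.ext
    show (((tau g)⁻¹ : GL (Fin 5) K) : Matrix (Fin 5) (Fin 5) K)ᵀ = g
    have h1 : ((tau g)⁻¹ : GL (Fin 5) K) = tau g⁻¹ := (H594.PQ.tau_inv g).symm
    rw [h1]
    show ((((g⁻¹)⁻¹ : GL (Fin 5) K) : Matrix (Fin 5) (Fin 5) K)ᵀ)ᵀ = g
    rw [inv_inv, transpose_transpose]
  map_mul' := tau_mul

theorem orderOf_tau (g : GL (Fin 5) K) : orderOf (tau g) = orderOf g := tauE.orderOf_eq g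

theorem hasSL_map {H : Subgroup (GL (Fin 5) K)} (hH : HasSL H) : HasSL (H.map (tauE (K := K)).toMonoidHom) := by
  intro g hg
  refine ⟨tau g, hH _ ?_, tauE.left_inv g⟩
  show ((((g⁻¹ : GL (Fin 5) K) : Matrix (Fin 5) (Fin 5) K))ᵀ).det = 1
  have h1 : (g : Matrix (Fin 5) (Fin 5) K).det * ((g⁻¹ : GL (Fin 5) K) : Matrix (Fin 5) (Fin 5) K).det = 1 := by
    rw [← det_mul, ← Units.val_mul, mul_inv_cancel, Units.val_one, det_one]
  rw [hg, one_mul] at h1
  rw [det_transpose, h1]

/-- **T3** -/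
theorem exists_psi (K : Type) [Field K] [Finite K] {p : ℕ} (hp : p.Prime) (ho : ord (Nat.card K) p = 5) :
    ∃ ψ : GL (Fin 5) K → ℂ, Psi K p ψ := by
  classical
  obtain ⟨β, hβg, hβc, hβi, hβ1, hβ2, hβ3⟩ := exists_beta K
  obtain ⟨f, hfg, hfp, hf1, hf2, hf3⟩ := H594.PQ.exists_f K hp ho
  have hpF : Fact p.Prime := ⟨hp⟩
  have hirr : ∀ g : GL (Fin 5) K, p ∣ orderOf g → Irr g := fun g hg => H594.PQ.irr_of_dvd hp ho hg
  have hfβ : ∀ g, f g * (β g : ℂ) = 5 * f g := by
    intro g
    by_cases h : f g = 0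
    · rw [h, zero_mul, mul_zero]
    · rw [hβi g (hirr g (hfp g h))]
      push_cast
      ring
  have hβτ : ∀ g, f g * (β (tau g) : ℂ) = 5 * f g := by
    intro g
    by_cases h : f g = 0
    · rw [h, zero_mul, mul_zero]
    · rw [hβi (tau g) (hirr _ (by rw [orderOf_tau]; exact hfp g h))]
      push_cast
      ring
  have hτβ : ∀ g, (β g : ℂ) * conj (f (tau g)) = 5 * conj (f (tau g)) := by
    intro g
    by_cases h : f (tau g) = 0
    · rw [h, map_zero, mul_zero, mul_zero]
    · rw [hβi g (hirr _ (by rw [← orderOf_tau]; exact hfp _ h))]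
      push_cast
      ring
  have hcβ : ∀ n : ℤ, conj (n : ℂ) = n := fun n => map_intCast (starRingEnd ℂ) n
  -- the integral sums
  have cast1 : ∀ H : Subgroup (GL (Fin 5) K), HasSL H → ∀ [Fintype H], ∑ h : H, (β h : ℂ) = Nat.card H := by
    intro H hH _
    have h1 := hβ1 H hH
    rw [finsum_eq_sum_of_fintype] at h1
    exact_mod_cast h1
  have cast2 : ∀ H : Subgroup (GL (Fin 5) K), HasSL H → ∀ [Fintype H], ∑ h : H, (β h : ℂ) * (β h : ℂ) = 5 * Nat.card H := by
    intro H hH _
    have h1 := hβ2 H hH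
    rw [finsum_eq_sum_of_fintype] at h1
    exact_mod_cast h1
  have cast3 : ∀ H : Subgroup (GL (Fin 5) K), HasSL H → ∀ [Fintype H],
      ∑ h : H, (β h : ℂ) * (β (tau (h : GL (Fin 5) K)) : ℂ) = 5 * Nat.card H := by
    intro H hH _
    have h1 := hβ3 H hH
    rw [finsum_eq_sum_of_fintype] at h1
    exact_mod_cast h1
  have sumτ : ∀ H : Subgroup (GL (Fin 5) K), HasSL H → ∀ [Fintype H], ∑ h : H, f (tau (h : GL (Fin 5) K)) = -Nat.card H := by
    intro H hH _
    have := Fintype.ofFinite (H.map (tauE (K := K)).toMonoidHom)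
    let e : H ≃* H.map (tauE (K := K)).toMonoidHom := H.equivMapOfInjective _ tauE.injective
    have h1 := hf1 _ (hasSL_map hH)
    rw [finsum_eq_sum_of_fintype, ← Nat.card_congr e.toEquiv] at h1
    rw [← h1]
    exact Fintype.sum_equiv e.toEquiv _ _ fun h => rfl
  refine ⟨fun g => f g + β g, ?_, ?_, ?_, ?_, ?_, ?_⟩
  · exact Cfsg.Agent.OddOrderCharacters.FeitCoherence.isGen_add hfg hβg
  · intro S h0 h1 m hm
    have := Fintype.ofFinite (Uni S)
    rw [finsum_eq_sum_of_fintype, Finset.sum_add_distrib]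
    have h2 : ∑ u : Uni S, (β (m * (u : GL (Fin 5) K)) : ℂ) = 0 := by
      have h3 := hβc S h0 h1 m hm
      rw [finsum_eq_sum_of_fintype] at h3
      exact_mod_cast h3
    rw [h2, add_zero]
    refine Finset.sum_eq_zero fun u _ => ?_
    by_contra h3
    have h4 : Pres (m * (u : GL (Fin 5) K)) S := by
      intro v hv
      rw [Units.val_mul, ← mulVec_mulVec, u.2.2 v hv]
      exact hm v hv
    rcases hirr _ (hfp _ h3) S h4 with h5 | h5
    · exact h0 h5
    · exact h1 h5
  · intro H hH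
    have := Fintype.ofFinite H
    have e1 := hf1 H hH
    have e2 := hf2 H hH
    rw [finsum_eq_sum_of_fintype] at e1 e2 ⊢
    have h1 : ∀ h : H, (f h + β h) * conj (f h + β h) = f h * conj (f h) + 5 * f h + 5 * conj (f h) + (β h : ℂ) * (β h : ℂ) := by
      intro h
      have h2 : (β (h : GL (Fin 5) K) : ℂ) * conj (f h) = 5 * conj (f h) := by
        have h3 := congrArg conj (hfβ h)
        rw [map_mul, map_mul, hcβ, mul_comm] at h3
        rw [h3]
        congr 1
        exact Complex.conj_ofNat 5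
      rw [map_add, hcβ, add_mul, mul_add, mul_add, hfβ, h2]
      ring
    rw [Finset.sum_congr rfl fun h _ => h1 h, Finset.sum_add_distrib, Finset.sum_add_distrib, Finset.sum_add_distrib,
      ← Finset.mul_sum, ← Finset.mul_sum, ← map_sum, e1, e2, cast2 H hH, map_neg, Complex.conj_natCast]
    ring
  · intro H hH
    have := Fintype.ofFinite H
    have e1 := hf1 H hH
    have e2 := hf3 H hH
    rw [finsum_eq_sum_of_fintype] at e1 e2 ⊢
    have h1 : ∀ h : H, (f h + β h) * conj (f (tau (h : GL (Fin 5) K)) + β (tau (h : GL (Fin 5) K))) =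
        f h * conj (f (tau (h : GL (Fin 5) K))) + 5 * f h + 5 * conj (f (tau (h : GL (Fin 5) K))) +
          (β h : ℂ) * (β (tau (h : GL (Fin 5) K)) : ℂ) := by
      intro h
      rw [map_add, hcβ, add_mul, mul_add, mul_add, hβτ, hτβ]
      ring
    rw [Finset.sum_congr rfl fun h _ => h1 h, Finset.sum_add_distrib, Finset.sum_add_distrib, Finset.sum_add_distrib,
      ← Finset.mul_sum, ← Finset.mul_sum, ← map_sum, e1, e2, cast3 H hH, sumτ H hH, map_neg, Complex.conj_natCast]
    ring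
  · intro H hH
    have := Fintype.ofFinite H
    have e1 := hf1 H hH
    rw [finsum_eq_sum_of_fintype] at e1 ⊢
    rw [Finset.sum_add_distrib, e1, cast1 H hH]
    ring
  · intro H hH
    have := Fintype.ofFinite H
    have e1 := hf1 H hH
    rw [finsum_eq_sum_of_fintype] at e1
    have hN : (Nat.card H : ℂ) ≠ 0 := Nat.cast_ne_zero.2 Nat.card_pos.ne'
    -- `p` divides the order of `H`
    have hpH : p ∣ Nat.card H := by
      by_contra hcon
      have h1 : ∀ h : H, f h = 0 := by
        intro h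
        by_contra h2
        apply hcon
        have h3 := hfp _ h2
        rw [Subgroup.orderOf_coe] at h3
        exact h3.trans (orderOf_dvd_natCard h)
      rw [Finset.sum_eq_zero fun h _ => h1 h] at e1
      exact hN (neg_eq_zero.1 e1.symm)
    intro hz
    rw [finsum_eq_sum_of_fintype] at hz
    -- on the regular elements `ψ = β`
    have h1 : ∑ h : {h : H // ¬ p ∣ orderOf (h : GL (Fin 5) K)}, (f h.1 + β h.1) =
        ∑ h : H, (β h : ℂ) - ∑ h : H, if p ∣ orderOf (h : GL (Fin 5) K) then (5 : ℂ) else 0 := by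
      rw [← Finset.sum_sub_distrib]
      have h2 : ∀ h : H, (β h : ℂ) - (if p ∣ orderOf (h : GL (Fin 5) K) then (5 : ℂ) else 0) =
          if ¬ p ∣ orderOf (h : GL (Fin 5) K) then (f h + β h : ℂ) else 0 := by
        intro h
        by_cases h3 : p ∣ orderOf (h : GL (Fin 5) K)
        · rw [if_pos h3, if_neg (not_not.2 h3), hβi _ (hirr _ h3)]
          push_cast
          ring
        · rw [if_neg h3, if_pos h3]
          have h4 : f h = 0 := by
            by_contra h5
            exact h3 (hfp _ h5)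
          rw [h4]
          ring
      rw [Finset.sum_congr rfl fun h _ => h2 h, ← Finset.sum_filter]
      exact (Finset.sum_subtype _ (by simp only [_root_.orderOf_submonoid, _root_.Finset.mem_filter, _root_.Finset.mem_univ, _root_.true_and, _root_.implies_true]) (fun h : H => (f h + β h : ℂ))).symm
    rw [h1, cast1 H hH, ← Finset.sum_filter, Finset.sum_const, nsmul_eq_mul] at hz
    -- counting
    have h2 : (Finset.univ.filter (fun h : H => p ∣ orderOf (h : GL (Fin 5) K))).card +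
        Nat.card {x : H // ¬ p ∣ orderOf x} = Nat.card H := by
      rw [Nat.card_eq_fintype_card, Nat.card_eq_fintype_card, Fintype.card_subtype, ← Finset.card_univ,
        ← Finset.card_filter_add_card_filter_not (s := Finset.univ) (p := fun h : H => p ∣ orderOf (h : GL (Fin 5) K))]
      simp only [Subgroup.orderOf_coe]
    have h3 := Cfsg.Agent.Blocks.RegularCount.not_dvd_card_regular (p := p) (G := H)
    have h4 : (Nat.card H : ℂ) = (Finset.univ.filter (fun h : H => p ∣ orderOf (h : GL (Fin 5) K))).card * 5 :=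
      sub_eq_zero.1 hz
    have h5 : Nat.card H = (Finset.univ.filter (fun h : H => p ∣ orderOf (h : GL (Fin 5) K))).card * 5 := by
      exact_mod_cast h4
    have h6 : 5 * Nat.card {x : H // ¬ p ∣ orderOf x} = 4 * Nat.card H := by omega
    have h7 : p ∣ 5 * Nat.card {x : H // ¬ p ∣ orderOf x} := by
      rw [h6]
      exact hpH.mul_left 4
    rcases hp.dvd_mul.1 h7 with h8 | h8
    · have h9 : p = 5 := (Nat.prime_dvd_prime_iff_eq hp (by norm_num)).1 h8
      subst h9
      have h10 : ((Nat.card K : ℕ) : ZMod 5) ^ 4 = 1 := by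
        refine ZMod.pow_card_sub_one_eq_one ?_
        intro h11
        rw [ord, h11] at ho
        have h12 := orderOf_zero (M₀ := ZMod 5)
        omega
      have h11 := orderOf_dvd_of_pow_eq_one h10
      rw [show orderOf ((Nat.card K : ℕ) : ZMod 5) = 5 from ho] at h11
      exact absurd h11 (by norm_num)
    · exact h3 h8

end Cfsg.Agent.H739.PQ.E7
end

-- part: H739/PQ/E7/Kill
section
/-!
# The kill (helper739)

`not_same` (T4 of tools/plans/S4612_e7_510.md): `X = Ind_Q (ψ ∘ ρ)` is up to the sign an irreducible character in the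
principal `p`-block and not in the principal `l`-block.
-/

set_option autoImplicit false
set_option linter.unusedSectionVars false

namespace Cfsg.Agent.H739.PQ.E7

open Cfsg Matrix Cfsg.Agent.H317.PQ Cfsg.Agent.OddOrderCharacters.Clifford
open scoped ComplexConjugate

universe u

/-- sums along a homomorphism -/
theorem sum_hom {A B : Type*} [Group A] [Group B] [Fintype A] (r : A →* B) [Fintype r.range] (F : B → ℂ) :
    ∑ a : A, F (r a) = Nat.card r.ker * ∑ h : r.range, F h := by
  classical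
  rw [← Finset.sum_fiberwise Finset.univ (fun a : A => (⟨r a, ⟨a, rfl⟩⟩ : r.range)), Finset.mul_sum]
  refine Finset.sum_congr rfl fun h _ => ?_
  have h1 : ∀ a ∈ Finset.univ.filter (fun a : A => (⟨r a, ⟨a, rfl⟩⟩ : r.range) = h), F (r a) = F h := by
    intro a ha
    rw [← (Finset.mem_filter.1 ha).2]
  rw [Finset.sum_congr rfl h1, Finset.sum_const, nsmul_eq_mul]
  congr 1
  obtain ⟨_, a₀, rfl⟩ := h
  have := Fintype.ofFinite r.ker
  rw [Nat.card_eq_fintype_card, Nat.cast_inj]
  symm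
  refine Finset.card_bij (fun (k : r.ker) _ => a₀ * (k : A)) ?_ ?_ ?_
  · intro k _
    rw [Finset.mem_filter]
    refine ⟨Finset.mem_univ _, Subtype.ext ?_⟩
    show r (a₀ * k) = r a₀
    rw [map_mul, MonoidHom.mem_ker.1 k.2, mul_one]
  · intro k _ k' _ hkk
    exact Subtype.ext (mul_left_cancel hkk)
  · intro a ha
    have h2 : r a = r a₀ := congrArg Subtype.val (Finset.mem_filter.1 ha).2
    refine ⟨⟨a₀⁻¹ * a, ?_⟩, Finset.mem_univ _, mul_inv_cancel_left _ _⟩
    rw [MonoidHom.mem_ker, map_mul, map_inv, h2, inv_mul_cancel]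

variable {K : Type} [Field K] [Finite K] {G : Type u} [Group G] [Fintype G] {Q : Subgroup G} [Fintype Q]

/-- the twist as a sum over the intersection -/
theorem twist_eq (α β : Q → ℂ) (x : G) [Fintype (dsub Q x)] :
    twist Q α β x = ∑ d : dsub Q x, α d * conj (β (dhom Q x d)) := by
  classical
  rw [twist_def]
  have h1 : ∀ t : Q, t ∉ dsub Q x → α t * conj (extendByZero Q β (x⁻¹ * t * x)) = 0 := by
    intro t ht
    rw [ext_apply_not_mem Q β _ (fun h => ht ((mem_dsub Q x t).2 h)), map_zero, mul_zero]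
  rw [sum_eq_sum_subgroup (dsub Q x) _ h1]
  refine Finset.sum_congr rfl fun d _ => ?_
  rw [ext_apply_mem Q β _ ((mem_dsub Q x d).1 d.2)]
  rfl

/-- double coset invariance of the twist -/
theorem twist_mul {α β : Q → ℂ} (hα : IsClassFunction Q α) (hβ : IsClassFunction Q β) {a k b c : G} (hb : b ∈ Q)
    (hc : c ∈ Q) (ha : a = b * k * c) : twist Q α β a = twist Q α β k := by
  rw [twist_def, twist_def]
  refine Fintype.sum_equiv (MulAut.conj (⟨b, hb⟩⁻¹ : Q)).toEquiv _ _ ?_
  intro t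
  have h1 : (MulAut.conj (⟨b, hb⟩⁻¹ : Q)).toEquiv t = ⟨b, hb⟩⁻¹ * t * (⟨b, hb⟩⁻¹)⁻¹ := rfl
  rw [h1, hα]
  congr 2
  set y : G := k⁻¹ * (b⁻¹ * t * b) * k with hy
  have e1 : a⁻¹ * (t : G) * a = c⁻¹ * y * c := by
    rw [ha, hy]
    group
  have e2 : k⁻¹ * (((⟨b, hb⟩⁻¹ * t * (⟨b, hb⟩⁻¹)⁻¹ : Q)) : G) * k = y := by
    rw [hy, inv_inv]
    rfl
  rw [e1, e2]
  by_cases hyQ : y ∈ Q
  · have h2 : c⁻¹ * y * c ∈ Q := mul_mem (mul_mem (inv_mem hc) hyQ) hc
    rw [ext_apply_mem Q β _ h2, ext_apply_mem Q β _ hyQ]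
    have h3 := hβ ⟨y, hyQ⟩ (⟨c, hc⟩⁻¹)
    rw [← h3]
    congr 1
    apply Subtype.ext
    show c⁻¹ * y * c = c⁻¹ * y * (c⁻¹)⁻¹
    rw [inv_inv]
  · have h2 : c⁻¹ * y * c ∉ Q := by
      intro h
      apply hyQ
      have h3 := mul_mem (mul_mem hc h) (inv_mem hc)
      have h4 : c * (c⁻¹ * y * c) * c⁻¹ = y := by group
      rwa [h4] at h3
    rw [ext_apply_not_mem Q β _ h2, ext_apply_not_mem Q β _ hyQ]

variable {ρ : ↥Q →* GL (Fin 5) K} {p : ℕ} {ψ : GL (Fin 5) K → ℂ}

theorem psi_class (hψ : Psi K p ψ) : IsClassFunction (GL (Fin 5) K) ψ := by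
  obtain ⟨χ, χ', h1, h2, rfl⟩ := hψ.gen
  intro g h
  rw [Pi.sub_apply, Pi.sub_apply, Characters.Core.isCharacter_isClassFunction h1 g h,
    Characters.Core.isCharacter_isClassFunction h2 g h]

theorem comp_class (hψ : Psi K p ψ) : IsClassFunction Q (ψ ∘ ρ) := by
  intro g h
  show ψ (ρ (h * g * h⁻¹)) = ψ (ρ g)
  rw [map_mul, map_mul, map_inv]
  exact psi_class hψ _ _

theorem comp_gen (hψ : Psi K p ψ) : IsGeneralizedCharacter Q (ψ ∘ ρ) := by
  obtain ⟨χ, χ', h1, h2, h3⟩ := hψ.gen
  exact ⟨χ ∘ ρ, χ' ∘ ρ, Characters.Core.isCharacter_comp ρ h1, Characters.Core.isCharacter_comp ρ h2, by rw [h3]; rfl⟩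

/-- a bad double coset -/
theorem twist_bad (hψ : Psi K p ψ) {k : G} (hk : Bad ρ k) : twist Q (ψ ∘ ρ) (ψ ∘ ρ) k = 0 := by
  classical
  obtain ⟨S, h0, h1, h2, h3⟩ := hk
  have := Fintype.ofFinite (dsub Q k)
  rw [twist_eq]
  let ρ₁ : dsub Q k →* GL (Fin 5) K := ρ.comp (dsub Q k).subtype
  let ρ₂ : dsub Q k →* GL (Fin 5) K := ρ.comp (dhom Q k)
  let N : Subgroup (dsub Q k) := (Uni S).comap ρ₁ ⊓ ρ₂.ker
  have := Fintype.ofFinite N
  show ∑ d : dsub Q k, ψ (ρ₁ d) * conj (ψ (ρ₂ d)) = 0
  have e1 : ∀ n : N, ∑ d : dsub Q k, ψ (ρ₁ (d * n)) * conj (ψ (ρ₂ d)) = ∑ d : dsub Q k, ψ (ρ₁ d) * conj (ψ (ρ₂ d)) := by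
    intro n
    refine Fintype.sum_equiv (Equiv.mulRight (n : dsub Q k)) _ _ ?_
    intro d
    show ψ (ρ₁ (d * n)) * conj (ψ (ρ₂ d)) = ψ (ρ₁ (d * n)) * conj (ψ (ρ₂ (d * n)))
    rw [map_mul ρ₂, MonoidHom.mem_ker.1 n.2.2, mul_one]
  have e2 : ∀ d : dsub Q k, ∑ n : N, ψ (ρ₁ (d * n)) = 0 := by
    intro d
    have hd : Pres (ρ₁ d) S := h2 (d : Q) ((mem_dsub Q k d).1 d.2)
    let s : N →* GL (Fin 5) K := ρ₁.comp N.subtype
    have hs : s.range = Uni S := by
      apply le_antisymm
      · rintro _ ⟨n, rfl⟩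
        exact n.2.1
      · intro u hu
        obtain ⟨z, hz, hz1, hz2⟩ := h3 u hu
        have hzd : z ∈ dsub Q k := (mem_dsub Q k z).2 hz
        refine ⟨⟨⟨z, hzd⟩, ?_, ?_⟩, hz1⟩
        · show ρ z ∈ Uni S
          rw [hz1]
          exact hu
        · show ρ (dhom Q k ⟨z, hzd⟩) = 1
          exact hz2
    have := Fintype.ofFinite s.range
    have := Fintype.ofFinite (Uni S)
    have h4 : ∑ n : N, ψ (ρ₁ (d * n)) = ∑ n : N, (fun g => ψ (ρ₁ d * g)) (s n) := by
      refine Finset.sum_congr rfl fun n _ => ?_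
      show ψ (ρ₁ (d * n)) = ψ (ρ₁ d * ρ₁ n)
      rw [map_mul]
    rw [h4, sum_hom s (fun g => ψ (ρ₁ d * g))]
    have h5 : ∑ h : s.range, ψ (ρ₁ d * h) = ∑ u : Uni S, ψ (ρ₁ d * u) := by
      refine Fintype.sum_equiv (MulEquiv.subgroupCongr hs).toEquiv _ _ fun h => rfl
    have h6 := hψ.cusp S h0 h1 _ hd
    rw [finsum_eq_sum_of_fintype] at h6
    rw [h5, h6, mul_zero]
  have e3 : (Fintype.card N : ℂ) * ∑ d : dsub Q k, ψ (ρ₁ d) * conj (ψ (ρ₂ d)) = 0 := by
    have h4 : ∑ n : N, ∑ d : dsub Q k, ψ (ρ₁ (d * n)) * conj (ψ (ρ₂ d)) = 0 := by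
      rw [Finset.sum_comm]
      refine Finset.sum_eq_zero fun d _ => ?_
      rw [← Finset.sum_mul, e2, zero_mul]
    rw [Finset.sum_congr rfl fun n _ => e1 n, Finset.sum_const, Finset.card_univ, nsmul_eq_mul] at h4
    exact h4
  rcases mul_eq_zero.1 e3 with h4 | h4
  · exact absurd h4 (Nat.cast_ne_zero.2 Fintype.card_ne_zero)
  · exact h4

/-- the opposite double coset -/
theorem twist_opp (hψ : Psi K p ψ) {k : G} (hk : Opp ρ k) : twist Q (ψ ∘ ρ) (ψ ∘ ρ) k = 0 := by
  classical
  obtain ⟨h1, h2⟩ := hk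
  have := Fintype.ofFinite (dsub Q k)
  rw [twist_eq]
  let ρ₁ : dsub Q k →* GL (Fin 5) K := ρ.comp (dsub Q k).subtype
  have := Fintype.ofFinite ρ₁.range
  have e1 : ∀ d : dsub Q k, (ψ ∘ ρ) d * conj ((ψ ∘ ρ) (dhom Q k d)) = (fun g => ψ g * conj (ψ (tau g))) (ρ₁ d) := by
    intro d
    have h3 : IsConj (ρ (dhom Q k d)) (tau (ρ d)) := h1 (d : Q) ((mem_dsub Q k d).1 d.2)
    have h4 : ψ (ρ (dhom Q k d)) = ψ (tau (ρ d)) := by
      obtain ⟨c, hc⟩ := isConj_iff.1 h3
      rw [← hc]
      exact (psi_class hψ _ _).symm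
    show ψ (ρ d) * conj (ψ (ρ (dhom Q k d))) = ψ (ρ d) * conj (ψ (tau (ρ d)))
    rw [h4]
  rw [Finset.sum_congr rfl fun d _ => e1 d, sum_hom ρ₁ (fun g => ψ g * conj (ψ (tau g)))]
  have hS : HasSL ρ₁.range := by
    intro g hg
    obtain ⟨z, hz, hz1⟩ := h2 g hg
    exact ⟨⟨z, (mem_dsub Q k z).2 hz⟩, hz1⟩
  have h3 := hψ.dual _ hS
  rw [finsum_eq_sum_of_fintype] at h3
  rw [h3, mul_zero]

/-- the norm of the induced generalised character -/
theorem norm_ind (hD : Dat ρ) (hψ : Psi K p ψ) : classInner (indFun Q (ψ ∘ ρ)) (indFun Q (ψ ∘ ρ)) = 1 := by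
  classical
  have := Fintype.ofFinite ρ.range
  have hQ : (Nat.card Q : ℂ) ≠ 0 := Nat.cast_ne_zero.2 Nat.card_pos.ne'
  rw [classInner_indFun_indFun]
  have h0 : classInner (ψ ∘ ρ) (ψ ∘ ρ) = 1 := by
    rw [classInner_apply]
    have h1 := sum_hom ρ (fun g => ψ g * conj (ψ g))
    have h2 := hψ.norm _ hD.sl
    rw [finsum_eq_sum_of_fintype] at h2
    rw [h2] at h1
    have h3 : (Nat.card ρ.ker : ℂ) * Nat.card ρ.range = Nat.card Q := by
      rw [← Nat.cast_mul, Nat.cast_inj, mul_comm]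
      have h4 := Subgroup.card_eq_card_quotient_mul_card_subgroup ρ.ker
      rw [h4, Nat.card_congr (QuotientGroup.quotientKerEquivRange ρ).toEquiv]
    rw [h3] at h1
    show (Nat.card Q : ℂ)⁻¹ * ∑ g : Q, ψ (ρ g) * conj (ψ (ρ g)) = 1
    rw [h1, inv_mul_cancel₀ hQ]
  have h1 : ∀ x : G, twist Q (ψ ∘ ρ) (ψ ∘ ρ) x = if x ∈ Q then (Nat.card Q : ℂ) else 0 := by
    intro x
    by_cases hx : x ∈ Q
    · rw [if_pos hx, twist_of_mem Q _ _ (comp_class hψ) x hx, h0, mul_one]
    · rw [if_neg hx]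
      obtain ⟨b, hb, c, hc, k, hk, h2⟩ := hD.cases x
      rw [twist_mul (comp_class hψ) (comp_class hψ) hb hc hk]
      rcases h2 with h2 | h2 | h2
      · exfalso
        apply hx
        rw [hk, h2, mul_one]
        exact mul_mem hb hc
      · exact twist_bad hψ h2
      · exact twist_opp hψ h2
  rw [Finset.sum_congr rfl fun x _ => h1 x, ← Finset.sum_filter, Finset.sum_const, nsmul_eq_mul]
  have h2 : (Finset.univ.filter (fun x : G => x ∈ Q)).card = Nat.card Q := by
    rw [Nat.card_eq_fintype_card, Fintype.card_subtype]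
  rw [h2, inv_mul_cancel_left₀ hQ, inv_mul_cancel₀ hQ]

/-- sums of an induced function over a class of elements -/
theorem sum_indFun (α : Q → ℂ) (P : G → Prop) [DecidablePred P] (hP : ∀ x g : G, P (x * g * x⁻¹) ↔ P g) :
    ∑ g : G with P g, indFun Q α g = (Nat.card Q : ℂ)⁻¹ * (Nat.card G * ∑ z : Q, if P z then α z else 0) := by
  classical
  rw [Finset.sum_filter]
  have h1 : ∀ g : G, (if P g then indFun Q α g else 0) =
      (Nat.card Q : ℂ)⁻¹ * ∑ x : G, if P g then extendByZero Q α (x⁻¹ * g * x) else 0 := by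
    intro g
    by_cases hg : P g
    · simp only [if_pos hg]
      rfl
    · simp only [if_neg hg]
      rw [Finset.sum_const_zero, mul_zero]
  rw [Finset.sum_congr rfl fun g _ => h1 g, ← Finset.mul_sum, Finset.sum_comm]
  congr 1
  have h2 : ∀ x : G, (∑ g : G, if P g then extendByZero Q α (x⁻¹ * g * x) else 0) = ∑ z : Q, if P z then α z else 0 := by
    intro x
    have h3 : (∑ g : G, if P g then extendByZero Q α (x⁻¹ * g * x) else 0) =
        ∑ g : G, if P g then extendByZero Q α g else 0 := by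
      refine Fintype.sum_equiv (MulAut.conj x⁻¹).toEquiv _ _ ?_
      intro g
      have h4 : (MulAut.conj x⁻¹).toEquiv g = x⁻¹ * g * x := by
        show x⁻¹ * g * (x⁻¹)⁻¹ = _
        rw [inv_inv]
      have h5 : P (x⁻¹ * g * x) ↔ P g := by
        have := hP x⁻¹ g
        rwa [inv_inv] at this
      rw [h4]
      simp only [h5]
    rw [h3, sum_eq_sum_subgroup Q _ (fun g hg => by rw [ext_apply_not_mem Q α g hg, ite_self])]
    refine Finset.sum_congr rfl fun z _ => ?_
    rw [ext_apply_coe]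
  rw [Finset.sum_congr rfl fun x _ => h2 x, Finset.sum_const, Finset.card_univ, nsmul_eq_mul, Nat.card_eq_fintype_card]

omit [Fintype G] [Fintype Q] in
/-- **T4** -/
theorem not_same [Finite G] (hD : Dat ρ) {l : ℕ} (hp : p.Prime) (hl : l.Prime) (hψ : Psi K p ψ)
    (hk : ¬ p ∣ Nat.card ρ.ker) (hlQ : ¬ l ∣ Nat.card Q) : ¬ Same p l G := by
  classical
  have := Fintype.ofFinite G
  have := Fintype.ofFinite Q
  have := Fintype.ofFinite ρ.range
  intro hS
  set X : G → ℂ := indFun Q (ψ ∘ ρ) with hX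
  have hQ : (Nat.card Q : ℂ) ≠ 0 := Nat.cast_ne_zero.2 Nat.card_pos.ne'
  have hG : (Nat.card G : ℂ) ≠ 0 := Nat.cast_ne_zero.2 Nat.card_pos.ne'
  have hgen : IsGeneralizedCharacter G X := by
    exact Cfsg.Agent.OddOrderCharacters.IndRes.isGeneralizedCharacter_indFun _ (comp_gen hψ)
  have hsig := Cfsg.Agent.Classification.InvCent.WreathedGram.signed_of_norm_one hgen (norm_ind hD hψ)
  have horder : ∀ m : ℕ, ∀ x g : G, (¬ m ∣ orderOf (x * g * x⁻¹)) ↔ ¬ m ∣ orderOf g := by
    intro m x g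
    have h1 : orderOf (x * g * x⁻¹) = orderOf g := (MulAut.conj x).orderOf_eq g
    rw [h1]
  -- the sum over the `p`-regular elements
  have hpX : ∑ g : G with ¬ p ∣ orderOf g, X g ≠ 0 := by
    rw [hX, sum_indFun _ (fun g => ¬ p ∣ orderOf g) (horder p)]
    have h1 : ∀ z : Q, (¬ p ∣ orderOf (z : G)) ↔ ¬ p ∣ orderOf (ρ z) := by
      intro z
      rw [Subgroup.orderOf_coe, not_iff_not]
      constructor
      · intro h
        by_contra hcon
        apply hk
        have h2 : z ^ orderOf (ρ z) ∈ ρ.ker := by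
          rw [MonoidHom.mem_ker, map_pow, pow_orderOf_eq_one]
        have h3 : orderOf z ∣ orderOf (ρ z) * orderOf (z ^ orderOf (ρ z)) := by
          apply orderOf_dvd_of_pow_eq_one
          rw [pow_mul, pow_orderOf_eq_one]
        rcases hp.dvd_mul.1 (h.trans h3) with h4 | h4
        · exact absurd h4 hcon
        · have h5 : orderOf (z ^ orderOf (ρ z)) ∣ Nat.card ρ.ker := by
            have h6 := orderOf_dvd_natCard (⟨z ^ orderOf (ρ z), h2⟩ : ρ.ker)
            rwa [Subgroup.orderOf_mk] at h6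
          exact h4.trans h5
      · intro h
        exact h.trans (orderOf_map_dvd ρ z)
    have h2 : (∑ z : Q, if ¬ p ∣ orderOf (z : G) then (ψ ∘ ρ) z else 0) =
        ∑ z : Q, (fun g : GL (Fin 5) K => if ¬ p ∣ orderOf g then ψ g else 0) (ρ z) := by
      refine Finset.sum_congr rfl fun z _ => ?_
      show _ = if ¬ p ∣ orderOf (ρ z) then ψ (ρ z) else 0
      simp only [h1 z]
      rfl
    rw [h2, sum_hom ρ (fun g : GL (Fin 5) K => if ¬ p ∣ orderOf g then ψ g else 0)]
    have h3 := hψ.reg _ hD.sl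
    rw [finsum_eq_sum_of_fintype] at h3
    have h4 : (∑ h : ρ.range, if ¬ p ∣ orderOf (h : GL (Fin 5) K) then ψ h else 0) =
        ∑ h : {h : ρ.range // ¬ p ∣ orderOf (h : GL (Fin 5) K)}, ψ h.1 := by
      rw [← Finset.sum_filter]
      exact Finset.sum_subtype _ (by simp only [_root_.orderOf_submonoid, _root_.Finset.mem_filter, _root_.Finset.mem_univ, _root_.true_and, _root_.implies_true]) (fun h : ρ.range => ψ h)
    rw [h4]
    refine mul_ne_zero (inv_ne_zero hQ) (mul_ne_zero hG (mul_ne_zero ?_ h3))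
    exact Nat.cast_ne_zero.2 Nat.card_pos.ne'
  -- the sum over the `l`-regular elements
  have hlX : ∑ g : G with ¬ l ∣ orderOf g, X g = 0 := by
    rw [hX, sum_indFun _ (fun g => ¬ l ∣ orderOf g) (horder l)]
    have h1 : ∀ z : Q, ¬ l ∣ orderOf (z : G) := by
      intro z h
      rw [Subgroup.orderOf_coe] at h
      exact hlQ (h.trans (orderOf_dvd_natCard z))
    have h2 : (∑ z : Q, if ¬ l ∣ orderOf (z : G) then (ψ ∘ ρ) z else 0) = ∑ z : Q, ψ (ρ z) := by
      refine Finset.sum_congr rfl fun z _ => ?_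
      rw [if_pos (h1 z)]
      rfl
    have h3 := hψ.one _ hD.sl
    rw [finsum_eq_sum_of_fintype] at h3
    rw [h2, sum_hom ρ ψ, h3, mul_zero, mul_zero, mul_zero]
  rcases hsig with h | h
  · have h1 : (⟨X, h⟩ : IrrCharacter G) ∈ B0 p G := (H766.PQ.mem_B0_iff hp _).2 hpX
    rw [hS, H766.PQ.mem_B0_iff hl] at h1
    exact h1 hlX
  · have h1 : (⟨-X, h⟩ : IrrCharacter G) ∈ B0 p G := by
      refine (H766.PQ.mem_B0_iff hp _).2 ?_
      show ∑ g : G with ¬ p ∣ orderOf g, -X g ≠ 0
      rw [Finset.sum_neg_distrib]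
      exact neg_ne_zero.2 hpX
    rw [hS, H766.PQ.mem_B0_iff hl] at h1
    apply h1
    show ∑ g : G with ¬ l ∣ orderOf g, -X g = 0
    rw [Finset.sum_neg_distrib, hlX, neg_zero]

end Cfsg.Agent.H739.PQ.E7
end

-- part: H739/PQ/E7/Main
section
/-! S4612, `E₇(q)`, the pair `(5,10)`: the kill, from the parabolic data -/

set_option autoImplicit false

namespace Cfsg.Agent.H739.PQ.E7

open Cfsg Matrix Cfsg.Agent.H317.PQ

universe u

/-- the kill for any finite group with the data -/
theorem kill_of_dat {G : Type u} [Group G] [Finite G] (K : Type) [Field K] [Finite K]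
    (h : ∃ (Q : Subgroup G) (ρ : ↥Q →* GL (Fin 5) K), Dat ρ ∧
      (∀ p : ℕ, p.Prime → ord (Nat.card K) p = 5 → ¬ p ∣ Nat.card ρ.ker) ∧
      (∀ l : ℕ, l.Prime → ord (Nat.card K) l = 10 → ¬ l ∣ Nat.card Q)) :
    Kill G (Nat.card K) 5 10 := by
  intro p l hp hl _ _ _ _ _ ho1 ho2
  obtain ⟨Q, ρ, hD, h1, h2⟩ := h
  obtain ⟨ψ, hψ⟩ := exists_psi K hp ho1
  exact not_same hD hp hl hψ (h1 p hp ho1) (h2 l hl ho2)

end Cfsg.Agent.H739.PQ.E7
end

private theorem dce_122a5e619ff6 : _root_.True := by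
  try have : _root_.True := by simp only [_root_.Cfsg.Agent.H594.PQ.fT.congr_simp]
  try have : _root_.True := by simp only [_root_.Cfsg.Agent.H739.PQ.E7.bet.eq_1]
  try have : _root_.True := by simp only [_root_.Cfsg.Agent.H739.PQ.E7.XX.congr_simp]
  try have : _root_.True := by simp only [_root_.Cfsg.Agent.H739.PQ.E7.ofNN.eq_1]
  try have : _root_.True := by simp only [_root_.Cfsg.Agent.H739.PQ.E7.b.congr_simp]
  try have : _root_.True := by simp only [_root_.Cfsg.Agent.H739.PQ.E7.b.eq_1]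
  try have : _root_.True := by simp only [_root_.Cfsg.Agent.H739.PQ.E7.XX.eq_1]
  try have : _root_.True := by simp only [_root_.Cfsg.indFun.eq_1]
  try have : _root_.True := by simp only [_root_.Cfsg.Agent.H734.Fx.fr.congr_simp]
  exact _root_.True.intro
end

-- part: H792/PQ/Exc
section
set_option linter.all false
open scoped Cfsg.Agent.FastGrp

/-!
# S4612, exceptional groups: the arithmetic of the tests (helper792)

* `cyc e` : the cyclotomic polynomials; `dvd_cyc` : `ord q r = e` implies `r ∣ evZ q (cyc e)`;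
* `Cert m` : for one order `e` the pairs of constituents which are in the same block (`rel`, the eigenvalues are congruent
  modulo `cyc e`) and the constituents outside the principal block (`out`, class test, with the certificate
  `u D_i = R mod cyc e`); `Cert.good`;
* `kill_of` : `Kill G q e f` from two certificates whose conditions contradict each other;
* `killTwo_of` : `KillTwo G q f`.
-/

set_option autoImplicit false

namespace Cfsg.Agent.H792.PQ

open Cfsg Cfsg.Agent.H317.PQ Cfsg.Agent.H996.PQ Cfsg.Agent.H996.Eight.Cert Cfsg.Agent.H64.Dl.Sph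

universe u

/-! ### polynomials -/

theorem evZ_pAdd (x : ℤ) (p q : List ℤ) : evZ x (pAdd p q) = evZ x p + evZ x q := by
  have h : ((evZ x (pAdd p q) : ℤ) : ℚ) = ((evZ x p + evZ x q : ℤ) : ℚ) := by
    rw [Int.cast_add, evZ_cast, evZ_cast, evZ_cast, ev_pAdd]
  exact_mod_cast h

theorem evZ_pNeg (x : ℤ) (p : List ℤ) : evZ x (pNeg p) = -evZ x p := by
  have h : ((evZ x (pNeg p) : ℤ) : ℚ) = ((-evZ x p : ℤ) : ℚ) := by
    rw [Int.cast_neg, evZ_cast, evZ_cast, ev_pNeg]
  exact_mod_cast h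

theorem evZ_pMul (x : ℤ) (p q : List ℤ) : evZ x (pMul p q) = evZ x p * evZ x q := by
  have h : ((evZ x (pMul p q) : ℤ) : ℚ) = ((evZ x p * evZ x q : ℤ) : ℚ) := by
    rw [Int.cast_mul, evZ_cast, evZ_cast, evZ_cast, ev_pMul]
  exact_mod_cast h

theorem evZ_of_pEq (x : ℤ) {p q : List ℤ} (h : pEq p q = true) : evZ x p = evZ x q := by
  have h1 : ((evZ x p : ℤ) : ℚ) = ((evZ x q : ℤ) : ℚ) := by rw [evZ_cast, evZ_cast, ev_of_pEq _ h]
  exact_mod_cast h1

/-- quotient and remainder by a monic polynomial (not trusted, the results are checked) -/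
def divP (phi : List ℤ) : List ℤ → List ℤ × List ℤ
  | [] => ([], List.replicate (phi.length - 1) 0)
  | a :: l =>
    let gr := divP phi l
    let t := gr.2.getLastD 0
    (t :: gr.1, (pAdd (a :: gr.2) (pNeg (pScale t phi))).take (phi.length - 1))

/-- `phi` divides `a` -/
def chkDvd (phi a : List ℤ) : Bool := pEq a (pMul phi (divP phi a).1)

/-- `u a = R` modulo `phi` -/
def chkR (phi a u : List ℤ) (R : ℤ) : Bool :=
  pEq (pMul u a) (pAdd (pMul phi (divP phi (pMul u a)).1) [R])

theorem dvd_of_chk {phi a : List ℤ} (h : chkDvd phi a = true) {r x : ℤ} (hr : r ∣ evZ x phi) : r ∣ evZ x a := by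
  rw [evZ_of_pEq x h, evZ_pMul]
  exact Dvd.dvd.mul_right hr _

theorem dvd_of_chkR {phi a u : List ℤ} {R : ℤ} (h : chkR phi a u R = true) {r x : ℤ} (hr : r ∣ evZ x phi)
    (ha : r ∣ evZ x a) : r ∣ R := by
  have h1 := evZ_of_pEq x h
  rw [evZ_pAdd, evZ_pMul, evZ_pMul] at h1
  have h2 : evZ x [R] = R := by simp [evZ]
  rw [h2] at h1
  have h3 : R = evZ x u * evZ x a - evZ x phi * evZ x (divP phi (pMul u a)).1 := by linarith
  rw [h3]
  exact dvd_sub (Dvd.dvd.mul_left ha _) (Dvd.dvd.mul_right hr _)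

/-! ### cyclotomic polynomials -/

/-- the cyclotomic polynomials needed for the exceptional groups -/
def cyc : ℕ → List ℤ
  | 1 => [-1, 1]
  | 2 => [1, 1]
  | 3 => [1, 1, 1]
  | 4 => [1, 0, 1]
  | 5 => [1, 1, 1, 1, 1]
  | 6 => [1, -1, 1]
  | 7 => [1, 1, 1, 1, 1, 1, 1]
  | 8 => [1, 0, 0, 0, 1]
  | 9 => [1, 0, 0, 1, 0, 0, 1]
  | 10 => [1, -1, 1, -1, 1]
  | 12 => [1, 0, -1, 0, 1]
  | 14 => [1, -1, 1, -1, 1, -1, 1]
  | 15 => [1, -1, 0, 1, -1, 1, 0, -1, 1]
  | 18 => [1, 0, 0, -1, 0, 0, 1]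
  | 20 => [1, 0, -1, 0, 1, 0, -1, 0, 1]
  | 24 => [1, 0, 0, 0, -1, 0, 0, 0, 1]
  | 30 => [1, 1, 0, -1, -1, -1, 0, 1, 1]
  | _ => [1]

/-- `x ^ n - 1` -/
def xm (n : ℕ) : List ℤ := pAdd [-1] (pShift n [1])

/-- the proper divisors -/
def pd (n : ℕ) : List ℕ := (List.range n).filter fun d => d ≠ 0 ∧ d ∣ n

/-- the product of the `cyc d`, `d` a proper divisor of `n` -/
def rest (n : ℕ) : List ℤ := (pd n).foldr (fun d l => pMul (cyc d) l) [1]

/-- `x ^ n - 1` is the product of the `cyc d` -/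
def cycOK (n : ℕ) : Bool := (pEq (xm n) (pMul (cyc n) (rest n))) && (pd n).all fun d => pEq (xm d) (pMul (cyc d) (rest d))

theorem evZ_xm (x : ℤ) (n : ℕ) : evZ x (xm n) = x ^ n - 1 := by
  have h : ((evZ x (xm n) : ℤ) : ℚ) = ((x ^ n - 1 : ℤ) : ℚ) := by
    rw [evZ_cast, xm, ev_pAdd, ev_pShift]
    simp [ev]
    ring
  exact_mod_cast h

theorem dvd_rest {r : ℕ} (hr : r.Prime) (x : ℤ) : ∀ l : List ℕ,
    (r : ℤ) ∣ evZ x (l.foldr (fun d l => pMul (cyc d) l) [1]) → ∃ d ∈ l, (r : ℤ) ∣ evZ x (cyc d)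
  | [], h => by
    exfalso
    have h1 : evZ x ([1] : List ℤ) = 1 := by simp [evZ]
    rw [List.foldr_nil, h1] at h
    exact (Int.prime_iff_natAbs_prime.2 (by simpa using hr)).not_isUnit (isUnit_of_dvd_one h)
  | d :: l, h => by
    rw [List.foldr_cons, evZ_pMul] at h
    rcases (Nat.prime_iff_prime_int.1 hr).dvd_or_dvd h with h1 | h1
    · exact ⟨d, List.mem_cons_self, h1⟩
    · obtain ⟨d', h2, h3⟩ := dvd_rest hr x l h1
      exact ⟨d', List.mem_cons_of_mem _ h2, h3⟩

theorem int_dvd_iff {q r n : ℕ} (hq : 1 ≤ q) : (r : ℤ) ∣ (q : ℤ) ^ n - 1 ↔ r ∣ q ^ n - 1 := by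
  have h : ((q ^ n - 1 : ℕ) : ℤ) = (q : ℤ) ^ n - 1 := by
    rw [Nat.cast_sub (Nat.one_le_pow _ _ hq)]
    push_cast
    ring
  rw [← h]
  exact Int.natCast_dvd_natCast

/-- `ord q r = e` implies `r ∣ Φ_e(q)` -/
theorem dvd_cyc {q r e : ℕ} (hq : 1 ≤ q) (hr : r.Prime) (he : ord q r = e) (he0 : e ≠ 0) (hok : cycOK e = true) :
    (r : ℤ) ∣ evZ q (cyc e) := by
  rw [cycOK, Bool.and_eq_true, List.all_eq_true] at hok
  have h1 : (r : ℤ) ∣ evZ q (xm e) := by
    rw [evZ_xm, int_dvd_iff hq, ← ord_dvd hq, he]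
  rw [evZ_of_pEq _ hok.1, evZ_pMul] at h1
  rcases (Nat.prime_iff_prime_int.1 hr).dvd_or_dvd h1 with h2 | h2
  · exact h2
  · exfalso
    obtain ⟨d, hd, h3⟩ := dvd_rest hr q _ h2
    have h4 : (r : ℤ) ∣ evZ q (xm d) := by
      rw [evZ_of_pEq _ (hok.2 d hd), evZ_pMul]
      exact Dvd.dvd.mul_right h3 _
    rw [evZ_xm, int_dvd_iff hq, ← ord_dvd hq, he] at h4
    rw [pd, List.mem_filter, List.mem_range] at hd
    have h5 : d ≠ 0 ∧ d ∣ e := by simpa using hd.2
    exact absurd (Nat.le_of_dvd (Nat.pos_of_ne_zero h5.1) h4) (not_le.2 hd.1)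

/-- `ord q r = e` implies `e ∣ r - 1` -/
theorem ord_dvd_sub {q r e : ℕ} (hr : r.Prime) (he : ord q r = e) (he0 : e ≠ 0) : e ∣ r - 1 := by
  have : Fact r.Prime := ⟨hr⟩
  rw [← he]
  have h0 : (q : ZMod r) ≠ 0 := by
    intro h
    apply he0
    rw [← he, ord, h]
    exact orderOf_zero (ZMod r)
  exact orderOf_dvd_of_pow_eq_one (ZMod.pow_card_sub_one_eq_one h0)

/-- the prime divisors of `R` are `2`, or `3`, `5`, `7` and excluded by `e` -/
def okR (e : ℕ) (R : ℤ) : Bool :=
  decide (R ∣ 2 ^ 12 * 3 ^ (if e ∣ 2 then 0 else 8) * 5 ^ (if e ∣ 4 then 0 else 4) * 7 ^ (if e ∣ 6 then 0 else 4))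

theorem not_dvd_of_okR {q r e : ℕ} (hr : r.Prime) (hr2 : r ≠ 2) (he : ord q r = e) (he0 : e ≠ 0) {R : ℤ}
    (h : okR e R = true) : ¬ (r : ℤ) ∣ R := by
  intro h1
  have hp := Nat.prime_iff_prime_int.1 hr
  have h2 := h1.trans (of_decide_eq_true h)
  have hd := ord_dvd_sub hr he he0
  rcases hp.dvd_or_dvd h2 with h3 | h3
  · rcases hp.dvd_or_dvd h3 with h4 | h4
    · rcases hp.dvd_or_dvd h4 with h5 | h5
      · have h6 : r ∣ 2 := by exact_mod_cast hp.dvd_of_dvd_pow h5
        exact hr2 ((Nat.prime_dvd_prime_iff_eq hr Nat.prime_two).1 h6)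
      · have h6 : r ∣ 3 := by exact_mod_cast hp.dvd_of_dvd_pow h5
        have h7 := (Nat.prime_dvd_prime_iff_eq hr Nat.prime_three).1 h6
        rw [h7] at hd
        rw [if_pos hd, pow_zero] at h5
        exact hp.not_isUnit (isUnit_of_dvd_one h5)
    · have h6 : r ∣ 5 := by exact_mod_cast hp.dvd_of_dvd_pow h4
      have h7 := (Nat.prime_dvd_prime_iff_eq hr Nat.prime_five).1 h6
      rw [h7] at hd
      rw [if_pos hd, pow_zero] at h4
      exact hp.not_isUnit (isUnit_of_dvd_one h4)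
  · have h6 : r ∣ 7 := by exact_mod_cast hp.dvd_of_dvd_pow h3
    have h7 := (Nat.prime_dvd_prime_iff_eq hr (by norm_num)).1 h6
    rw [h7] at hd
    rw [if_pos hd, pow_zero] at h3
    exact hp.not_isUnit (isUnit_of_dvd_one h3)

/-! ### certificates -/

/-- the conditions on `S` for the primes of one order `e` -/
structure Cert (m : ℕ) where
  /-- constituents in the same block -/
  rel : List (Fin m × Fin m)
  /-- constituents outside the principal block, with `u`, `R` : `u D_i = R` modulo `cyc e` -/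
  out : List (Fin m × List ℤ × ℤ)

/-- the check -/
def Cert.ok {m : ℕ} (C : Cert m) (P : Pol m) (lam : Fin m → Fin m → List ℤ) (e : ℕ) : Bool :=
  cycOK e && (C.rel.all fun ab => (List.finRange m).all fun c =>
    chkDvd (cyc e) (pAdd (lam ab.1 c) (pNeg (lam ab.2 c)))) &&
  (C.out.all fun t => chkR (cyc e) (P.D t.1) t.2.1 t.2.2 && okR e t.2.2)

/-- the conditions -/
def Cert.Good {m : ℕ} (C : Cert m) (S : Finset (Fin m)) : Prop :=
  (∀ ab ∈ C.rel, ab.1 ∈ S ↔ ab.2 ∈ S) ∧ ∀ t ∈ C.out, t.1 ∉ S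

instance {m : ℕ} (C : Cert m) (S : Finset (Fin m)) : Decidable (C.Good S) := by unfold Cert.Good; infer_instance

theorem Cert.good {m : ℕ} {C : Cert m} {P : Pol m} {lam : Fin m → Fin m → List ℤ} {e : ℕ} (hok : C.ok P lam e = true)
    {q r g : ℕ} (hq : 1 ≤ q) (hr : r.Prime) (hr2 : r ≠ 2) (he : ord q r = e) (he2 : 2 ≤ e) {S : Finset (Fin m)}
    (T : TstX P lam q r g S) : C.Good S := by
  rw [Cert.ok, Bool.and_eq_true, Bool.and_eq_true, List.all_eq_true, List.all_eq_true] at hok
  have he0 : e ≠ 0 := by omega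
  have hphi := dvd_cyc hq hr he he0 hok.1.1
  refine ⟨fun ab hab => ?_, fun t ht hmem => ?_⟩
  · apply T.blk
    intro c
    have h1 := hok.1.2 ab hab
    rw [List.all_eq_true] at h1
    have h2 := dvd_of_chk (h1 c (List.mem_finRange c)) hphi
    rw [evZ_pAdd, evZ_pNeg] at h2
    exact h2
  · have h1 := hok.2 t ht
    rw [Bool.and_eq_true] at h1
    have h2 := T.cls _ hmem
    rcases (Nat.prime_iff_prime_int.1 hr).dvd_or_dvd h2 with h3 | h3
    · have h4 : r ∣ q - 1 := by
        have h5 : ((q - 1 : ℕ) : ℤ) = (q : ℤ) - 1 := by rw [Nat.cast_sub hq, Nat.cast_one]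
        rw [← h5] at h3
        exact_mod_cast h3
      rw [← ord_eq_one hq, he] at h4
      omega
    · exact not_dvd_of_okR hr hr2 he he0 h1.2 (dvd_of_chkR h1.1 hphi h3)

/-- **`Kill` from two certificates.** -/
theorem kill_of {G : Type u} [Group G] {m : ℕ} {P : Pol m} {lam : Fin m → Fin m → List ℤ} {q : ℕ} (hq : 1 ≤ q)
    {i₀ : Fin m}
    (H : ∀ p l : ℕ, p.Prime → l.Prime → Same p l G → SepX P lam q p l (Nat.card G) i₀) {e f : ℕ} (he : 2 ≤ e)
    (hf : 2 ≤ f) {C C' : Cert m} (hC : C.ok P lam e = true) (hC' : C'.ok P lam f = true)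
    (hno : ∀ S : Finset (Fin m), i₀ ∈ S → C.Good S → C'.Good S → False) : Kill G q e f := by
  intro p l hp hl hp2 hl2 _ _ _ h1 h2 hS
  obtain ⟨S, h0, T, T'⟩ := H p l hp hl hS
  exact hno S h0 (Cert.good hC hq hp hp2 h1 he T) (Cert.good hC' hq hl hl2 h2 hf T')

theorem evZ_two {x : ℤ} (hx : x % 2 = 1) (p : List ℤ) : evZ x p % 2 = evZ 1 p % 2 := by
  rw [evZ_emod, hx]

/-- **`KillTwo`**: a constituent `i` of odd degree outside the principal `l`-block -/
theorem killTwo_of {G : Type u} [Group G] {m : ℕ} {P : Pol m} {lam : Fin m → Fin m → List ℤ} {q : ℕ} (hq : 1 ≤ q)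
    (hodd : q % 2 = 1) {i₀ : Fin m}
    (H : ∀ p l : ℕ, p.Prime → l.Prime → Same p l G → SepX P lam q p l (Nat.card G) i₀) {f : ℕ}
    (hf : 2 ≤ f) {C : Cert m} (hC : C.ok P lam f = true) (i : Fin m)
    (hdeg : (P.den i : ℤ) * (P.deg q i : ℤ) = evZ q (P.dn i)) (hden : P.den i = 1) (hone : evZ 1 (P.dn i) % 2 = 1)
    (hno : i ∈ C.out.map Prod.fst) : KillTwo G q f := by
  intro l hl hl2 _ h2 hS
  obtain ⟨S, h0, T, T'⟩ := H 2 l Nat.prime_two hl hS
  have h3 : Odd (P.deg q i) := by
    rw [hden, Nat.cast_one, one_mul] at hdeg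
    have h4 : ((P.deg q i : ℕ) : ℤ) % 2 = 1 := by
      rw [hdeg, evZ_two (by omega), hone]
    rw [Nat.odd_iff]
    omega
  have h5 := T.odd rfl i h3
  obtain ⟨t, ht, rfl⟩ := List.mem_map.1 hno
  exact (Cert.good hC hq hl hl2 h2 hf T').2 t ht h5

end Cfsg.Agent.H792.PQ

private theorem dce_790374f07fa8 : _root_.True := by
  try have : _root_.True := by simp only [_root_.Cfsg.Agent.H792.PQ.xm.eq_1]
  try have : _root_.True := by simp only [_root_.Cfsg.Agent.H792.PQ.cycOK.eq_1]
  try have : _root_.True := by simp only [_root_.Cfsg.Agent.H792.PQ.pd.eq_1]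
  try have : _root_.True := by simp only [_root_.Cfsg.Agent.H792.PQ.Cert.ok.eq_1]
  try have : _root_.True := by simp only [_root_.Cfsg.Agent.H64.Dl.Sph.ev.eq_def]
  try have : _root_.True := by simp only [_root_.Cfsg.Agent.H64.Dl.Sph.ev.eq_2]
  try have : _root_.True := by simp only [_root_.Cfsg.Agent.H64.Dl.Sph.ev.eq_1]
  exact _root_.True.intro
end

-- part: H594/PQ/LinkE8c
section
set_option linter.all false
open scoped Cfsg.Agent.FastGrp

/-!
# S4612, `E₈`: the link between node `7` and the constituent `567` of node `6`, general form (helper594)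
-/

set_option autoImplicit false
set_option linter.unusedSectionVars false
set_option maxRecDepth 20000

namespace Cfsg.Agent.H594.PQ

open Cfsg Cfsg.Agent.H967.Sph Cfsg.Agent.H64.Dl.Sph Cfsg.Agent.H996.Eight Cfsg.Agent.H996.Eight.Cert Cfsg.Agent.H996.PQ
  Cfsg.Agent.Blocks.Basic Cfsg.Agent.Blocks.Local Cfsg.Agent.H790.PQ
open CoxeterSystem Cfsg.Agent.ChevalleyStructure.CoxeterGeom Cfsg.Agent.Tits.Roots Cfsg.Agent.Tits.Core
  Cfsg.Agent.Tits.Exchange
  Cfsg.Agent.Nodes.Reps Cfsg.Agent.Nodes.BNOf Cfsg.Agent.Nodes.Bruhat Cfsg.Agent.Nodes.LeviDec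
open scoped BigOperators

universe u

variable {W : Type*} {Y : Type u} [Group W] [Finite W] [Group Y] [Finite Y]
    {M : CoxeterMatrix (Fin 8)} {cs : CoxeterSystem M W} {h : IsCartan M TabE8c.A} {p : ℕ} {T : Subgroup Y}
    {n : Fin 8 → Y} {X : (Fin 8 → ℤ) → Subgroup Y}

/-- **The kernel**, for every constituent of the points with `W` constant on the lines -/
theorem exists_kernel' (R : RGD cs h p T n X) (hG : GG cs h T X = ⊤) {x : ℕ} (hx : 2 ≤ x)
    (hq : ∀ i, Nat.card (X (sr i)) = x) {χ : Y → ℂ} {d : ℕ} {a : Fin 5 → ℚ} (H : HasVal R hG tabP χ d a)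
    (hW : ∀ i, i ≠ 6 → ∀ s, LinkE8.Wv x a (TabE8a.tab.st i s) = LinkE8.Wv x a s) :
    ∃ K : Y → ℚ, Iso χ K ∧ ∀ g, K g = LinkE8.k2v x a (TabE8c.data.t.cls (stY R hG TabE8c.data.t g)) := by
  have hχ := hasVal_real R hG tabP H
  obtain ⟨K, k, h1, h2, h3⟩ := iso_line R hG TabE8c.data.t tabP (fun _ => x) hq comm67 hχ
    (Iso.of_hasVal R hG tabP H) (fun g => rfl) (fun i hi s => hW i hi s)
  have hk : k = LinkE8.k0v x a := by
    funext c
    have h4 := h3 (LinkE8.wd c)
    have h5 : fo TabE8c.data.t (LinkE8.wd c) = TabE8c.data.t.crep c := LinkE8.hwd c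
    have h6 : fo tabP (LinkE8.wd c).reverse = LinkE8.y0 c := LinkE8.hy0 c
    have h7 : fo tabP (7 :: (LinkE8.wd c).reverse) = LinkE8.y1 c := LinkE8.hy1 c
    have h8 : TabE8c.data.t.cls (TabE8c.data.t.crep c) = c := LinkE8.hcls c
    have h9 : ¬ TabE8c.data.t.vec (TabE8c.data.t.crep c) 7 < 0 := LinkE8.hvec c
    rw [h5, h6, h7, h8, if_neg h9] at h4
    exact h4
  rw [hk] at h2
  obtain ⟨K', h4, h5⟩ := iso_two R hG TabE8c.data hx (fun i => by rw [e_eq, pow_one]; exact hq i) (ev x LinkE8.th) hχ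
    isStar h1 h2
  exact ⟨K', h4, h5⟩

/-- **The link, general form.** -/
theorem same_gen (R : RGD cs h p T n X) (hG : GG cs h T X = ⊤) {x : ℕ} (hx : 2 ≤ x)
    (hq : ∀ i, Nat.card (X (sr i)) = x) {χ χ' : Y → ℂ} {d d' : ℕ} {a : Fin 5 → ℚ} {a' : Fin 26 → ℚ}
    (H : HasVal R hG tabP χ d a)
    (hW : ∀ i, i ≠ 6 → ∀ s, LinkE8.Wv x a (TabE8a.tab.st i s) = LinkE8.Wv x a s)
    (H' : HasVal R hG TabE8c.data.t χ' d' a') {l : ℕ} {M' : Ideal AlgInt} (hM : IsPModular l M')
    (h0 : LinkE8.k2v x a 0 ≠ 0)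
    (hc : ∀ c, ∃ u v : ℤ, ¬ (l : ℤ) ∣ v ∧
      v * (ev x (TabE8c.data.kk c) * (LinkE8.k2v x a c / LinkE8.k2v x a 0 - a' c)) = l * u) :
    SameBlock M' χ χ' := by
  obtain ⟨K, h1, h2⟩ := exists_kernel' R hG hx hq H hW
  refine sameBlock_of_iso R hG TabE8c.data.t (fun i => x ^ TabE8c.data.e i)
    (fun i => by rw [e_eq, pow_one]; exact hq i) (fun s => x ^ TabE8c.data.wl s) (by simp only [TabE8c.data.wo, pow_zero])
    (fun i s h9 => by
      show x ^ TabE8c.data.wl (TabE8c.data.t.st i s) = x ^ TabE8c.data.e i * x ^ TabE8c.data.wl s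
      rw [TabE8c.data.ws i s h9, pow_add]) (fun g y => h1 g y) h2 ?_ H' hM fun c => ?_
  · rw [cls_o]
    exact h0
  · have hK : (∑ s, if TabE8c.data.t.cls s = c then ((x ^ TabE8c.data.wl s : ℕ) : ℚ) else 0) = ev x (TabE8c.data.kk c) := by
      rw [← ChkK.spec (x : ℚ) TabE8c.data.chkK c, Finset.sum_filter]
      refine Finset.sum_congr rfl fun s _ => ?_
      push_cast
      rfl
    rw [hK, cls_o]
    exact hc c

end Cfsg.Agent.H594.PQ
end

-- part: H739/PQ/E8L/LinkZ
section
prune_inst 0x4353075457fe20000001c259233207cb7ff0005b2006b8801f8e60f460fcfff60a9c3af61eea01d1a12de8ac5783d0068131000f0424000000e840800011f0581082c1e06954ca219ea009180318e080c0020000000000000000080000004100420c010000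
set_option linter.all false
open scoped Cfsg.Agent.FastGrp

/-- decoders of the packed data (elaboration time only) -/
private noncomputable def pk61d (b S i : Nat) : Nat := Nat.mod (Nat.shiftRight S (Nat.mul b i)) (Nat.shiftLeft (nat_lit 1) b)
private noncomputable def pk61c {α : Type} (t : Nat) (a : α) (f : Nat → α) : α := Nat.rec a (fun k _ => f k) t
private noncomputable def pk61f {α : Type} (t : Nat) (f : Nat → α) : α := Nat.rec (f Nat.zero) (fun k _ => f (Nat.succ k)) t
private noncomputable def pk61l {α : Type} (f : Nat → α) (s e : Nat) (tl : List α) : List α :=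
  pk61f e fun e => Nat.rec tl (fun k ih => List.cons (pk61f (Nat.sub e (Nat.succ k)) f) ih) (Nat.sub e s)
private noncomputable def pk61o {α : Type} (O : (n : Nat) → OfNat α n → α) (I : (n : Nat) → OfNat α n) (t : Nat) : α :=
  pk61c t (O (nat_lit 0) (I (nat_lit 0))) fun k => O (Nat.succ k) (I (Nat.succ k))
private noncomputable def pk61y (O : (n : Nat) → OfNat Int n → Int) (I : (n : Nat) → OfNat Int n) (G : Int → Int) (t : Nat) : Int := pk61f t fun t =>
  pk61c (Nat.mod t (nat_lit 2)) (pk61o O I (Nat.div t (nat_lit 2))) fun _ => G (pk61o O I (Nat.succ (Nat.div t (nat_lit 2))))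

private noncomputable def lq26916e28de {T : Sort _} (f :
    type_of% (@_root_.List.cons.{0} (Int)) →
    type_of% (@_root_.List.cons.{0}) →
    type_of% (@_root_.List.nil.{0}) → T) : T :=
  f (@_root_.List.cons.{0} (Int)) (@_root_.List.cons.{0}) (@_root_.List.nil.{0})

/-!
# The link between the node `7` and the node `6` of `E₈`, constituent `35` (helper739, for S4612; made by a program)

As `H996/PQ/LinkE8.lean` with the constituent of degree `q^2 P5 P7 P10 P14 P15 P20 P30` at node `7` (`TabE8a.c2`):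
`k2 = q Φ₄ Φ₈ Φ₂₄ k3`, and `K_c k3 c ≡ lam c * k3 o` modulo `Φ₄` and modulo `Φ₈`.
-/

set_option autoImplicit false
set_option maxRecDepth 20000

namespace Cfsg.Agent.H739.PQ.E8L.LinkZ

open Cfsg.Agent.H967.Sph Cfsg.Agent.H64.Dl.Sph Cfsg.Agent.H996.Eight Cfsg.Agent.H996.Eight.Cert Cfsg.Agent.H996.PQ
  Cfsg.Agent.H996.PQ.Kr Cfsg.Agent.H996.PQ.LinkE8

/-- the polynomial of `W` -/
def W7 (s : Fin 240) : List ℤ :=
  pAdd (TabE8a.c2.nu (TabE8a.tab.cls s)) (if TabE8a.tab.vec s 7 < 0 then
    pAdd (TabE8a.c2.nu (TabE8a.tab.cls (TabE8a.tab.st 7 s))) (pMul [-1, 1] (TabE8a.c2.nu (TabE8a.tab.cls s)))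
    else 0 :: TabE8a.c2.nu (TabE8a.tab.cls (TabE8a.tab.st 7 s)))

theorem W7_st : ∀ i, i ≠ 6 → ∀ s, pEq (W7 (TabE8a.tab.st i s)) (W7 s) = true := by (delta W7; simp only [Cfsg.Agent.H996.Eight.Kq.pEq_eq]; decide +kernel)

noncomputable def k0L : List (List ℤ) :=
  (by
  refine (?fq9001 : (fun (Oz : (n : Nat) → OfNat Int n → Int) (Iz : (n : Nat) → OfNat Int n) (Gz : Int → Int) => ((pk61l (fun i1 => ((fun g1 : Nat → Nat => pk61l (fun i2 => (pk61y Oz Iz Gz (pk61d (nat_lit 4) 
    (nat_lit 0x24420024688642002442010242010268842000222002001130242012266622000222002220010020010122400122666220002220013124213126862000000000200135124213026640000000000220135512421102442000000000022013551242110244200000000002201355124211024420000000000222001022013330240110244200000000002220010220133302401102442000000000042035751242100222000000000002220010420355302401002220000000000024420110420333102201002220000000000024420110420333102201002220000000000024215775124200000000000000000222000226662210042210100200100222000000000002220012421575302400000000000000000024420112421553102200000000000000000024420112421553102200000000000000000024420112421553102200000000000000000046620312421531002000000000000000000022200022666221024203110020000000000000000000268621312421310000000000000000000000022200024886201024201000000000000000000000000244200246886420024420000000000000000000000000)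 i2))) (g1 i1) (g1 (Nat.succ i1)) List.nil) fun j => (pk61d (nat_lit 10) 
    (nat_lit 0x362d3737c72f9b8ac7aae8f9ce508b6117b9ca699895753a458f2338aa1f8590b400) j))) (nat_lit 0) (nat_lit 26) List.nil) : List (List ℤ)))
    = ?xq9001 → (List (List ℤ))) ?hq9001; (case hq9001 => (set_option maxRecDepth 1000000 in conv => lhs; reduce)); intro _; exact ?xq9001 (@OfNat.ofNat Int) (@instOfNat) (@Neg.neg Int Int.instNegInt) : List (List ℤ))

noncomputable def k1L : List (List ℤ) :=
  (by
  refine (?fq9002 : (fun (Oz : (n : Nat) → OfNat Int n → Int) (Iz : (n : Nat) → OfNat Int n) (Gz : Int → Int) => ((pk61l (fun i1 => ((fun g1 : Nat → Nat => pk61l (fun i2 => (pk61y Oz Iz Gz (pk61d (nat_lit 5) 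
    (nat_lit 0x94e52ae318d6f5adeb18c56529ca110825088294ae337c66f4a4e308c610042010044104842bdaf8bd6f7ace938c231840118c232946518425084a91956f5be2f5bdeb3a4e308c61008c6004cc304676b56d69c2000000000010804232082638473ada93ad23000000000000461108486210e50d6b5a4a539420000000000008c221090c421ca1ad6b494a7284000000000001184444424a3290128ca7294e508000000000002318465294e30046430006025695a4a539420000000000008c61194a52890622900020c1184a7294e508000000000006509088959cc610e93946118c2000000000000046308ca539c4a3118c2194239ca51846308000000000000129ca54ad2b480c00188308067294a308c61000000000000025394a7284613200042886408a52946118c200000000000004a501952e724a300a5080000000000000000000046308ce93adef5be2f5bd651a4a1094211946528c2318400000000000008c61194e93918c75a48210251800000000000000000000025394a95ad6353908620421046100000000000000000000004a72952b5ac6a7210c4084208c2000000000000000000000094e529ca32850a32a504104118400000000000000000000034ace96ace713982220c21002100000000000000000000000231846749d6f7adf17b5e521022208020042000000000000000000000004ed6adad38c26618203184000000000000000000000000000046308ce94be717ce2b4a42209422100000000000000000000000000000094e52ae318d6f5adeb18c56529ca1000000000000000000000000000000)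 i2))) (g1 i1) (g1 (Nat.succ i1)) List.nil) fun j => (pk61d (nat_lit 10) 
    (nat_lit 0x3b0e637fd873bc8703b92c5a9a8096a3b855ee71da75e1524ad04374b621c5f0c000) j))) (nat_lit 0) (nat_lit 26) List.nil) : List (List ℤ)))
    = ?xq9002 → (List (List ℤ))) ?hq9002; (case hq9002 => (set_option maxRecDepth 1000000 in conv => lhs; reduce)); intro _; exact ?xq9002 (@OfNat.ofNat Int) (@instOfNat) (@Neg.neg Int Int.instNegInt) : List (List ℤ))

noncomputable def k3L : List (List ℤ) :=
  (by
  refine (?fq9003 : (fun (Oz : (n : Nat) → OfNat Int n → Int) (Iz : (n : Nat) → OfNat Int n) (Gz : Int → Int) => ((pk61l (fun i1 => ((fun g1 : Nat → Nat => pk61l (fun i2 => (pk61y Oz Iz Gz (pk61d (nat_lit 9) (Nat.add 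
    (nat_lit 0x421d0b03c16080200400000000000000000000020281808030043239279ad128d3691c262c2a1306c0a1c9bcea6b2a8ac0418140e07c3414070240c050180400000000000000000000000080c0a060483826180e86c2811078041d158ec962f030988064321004c061792c762b0e8083c22140d8743013070240c0501804000000000000000000000000810100b078583a21130a4481c0d85c1605060402e2a1d8f080461f8c05621080201a0d070583a1b0d87438170983812060280c02000000000000000000000000408080583c2c1d1089852240e06c2e0b028302017150ec7840230fc602b10840100d068382c1d0d86c3a1c0b84c1c090301406010000000000000000000000002040381c08018748e734caf5a6c54a954222010044aa9562b4d7a993991c3a03040381c08010000000000000000000000000000000000000080c0a060483c2c1b118b46c3c23944ac572f17cba5e33998cc6b399c0ec7e401e0f67938194c85a271148236180b858251107c36160983812060280c0200000000000000000000000040605030241c140d07c3814060042b2a9acea6f1c8286c4c2a0b0264736a35126b278e4320103020180a020000000000000000000000000000000000000000408080583c2e21150c8682c110742805004141a1d1c1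2490451f8ac28030747235108541602040180c08030080000000000000000000000000000000000000002040402c1e160e8884e270e84412058e4a6512288438462510858031892cbe692c8fc5e210680008060401804000000000000000000000000000000000000000102020160f0b074442713874220902c725328914421c23128842c018c4965f349647e2f108340004030200c02000000000000000000000000000000000000000101c1a110c08c58301a0bc3c0e0381e2f158242c4a3e1f8b4421101c42291c8ec4e1307824020201010080200000000000000000000000000000000000000000040605030241e160d88c5a361e11ca2562c178b24e241247e391e1007a4728130803c18080280c00c1e090080c0004020080804010000000000000000000000000000000000000000002050604c3424170c8642f108280d0f8c466110f110c06422070080f118ac5a31158641a0d0681c0200000000000000000000000000000000000000000000000000080c0a060483c2c1c130c8784529970b85a2d1408c46249108c4e29148ae53228e060230b840140200008040080c0200000000000000000000000000000000000000000000000000000408080583c3025188f4985b339d1048b4826140a25129148a251281309045a08e8672d9307a31128601e0b0401002000000000000000000000000000000000000000000000000000000)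 (Nat.shiftLeft 
    (nat_lit 0x102020160f0c094623d2616cce744122d20985028944a45228944a04c24116823a19cb64c1e8c44a180782c1004008020300810080002050402e23180e08a532b948a44e23110924623140b45a2e170a6451e0c84c1c0b03c12060280c0200008080401010080001804120f018605040301e1009850238f4803c1c8fc924827164bc582b1448e3c1b0b4461b0b03c12060280c02000080c0a060483826160d87c4425160b86036209149c5a32194e0793d9e1007e3b1c0e66b33198ce5e2e97cbc572b1448e3c1b0b4461b0b03c12060280c02000040e0d06834322b188b4562307810384432180881e088cc621f06850845e32190b8481a098300a0100000000000000000000808040100802090784c4e3b1c8a4420711108b47e3e1282c09158bc1e0e0e0f0bc68301608c30110681c04000000000000000000000080c080301810020585442351c8740c282b1f91490491c0741a0500414281d110b06832150842e0f0582008010000000000000000000000406040180800068845e3f2c9a4be4b1880c584225118382122944a63905848443a27138883a160782c10040080000000000000000000002030200c0400034422f1f964d25f258c4062c211288c1c10914a2531c82c24221d1389c441d0b03c1608020040000000000000000000001018140c090704c2e1c0e86c361d0b0381a0d04040422b180fc8c401e0ec5417080300a0b0b86c382414898421d0b03c1608020040000000000000000000001018140c090704c2e1c0e86c361d0b0381a0d04040422b180fc8c401e0ec5417080300a0b0b86c382414898)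 (nat_lit 8000))) i2))) (g1 i1) (g1 (Nat.succ i1)) List.nil) fun j => (pk61d (nat_lit 11) 
    (nat_lit 0x1612ad52f9ff31e4dc6b875025ec3a06d0cdd7fac651a96d0d1e23525c09b8fe17a20c21000) j))) (nat_lit 0) (nat_lit 26) List.nil) : List (List ℤ)))
    = ?xq9003 → (List (List ℤ))) ?hq9003; (case hq9003 => (set_option maxRecDepth 1000000 in conv => lhs; reduce)); intro _; exact ?xq9003 (@OfNat.ofNat Int) (@instOfNat) (@Neg.neg Int Int.instNegInt) : List (List ℤ))

noncomputable def r4L : List (List ℤ) :=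
  (by
  refine (?fq9004 : (fun (Oz : (n : Nat) → OfNat Int n → Int) (Iz : (n : Nat) → OfNat Int n) (Gz : Int → Int) => ((pk61l (fun i1 => ((fun g1 : Nat → Nat => pk61l (fun i2 => (pk61y Oz Iz Gz (pk61d (nat_lit 16) (Nat.add (Nat.add 
    (nat_lit 0x246922331ed91a7b161511e10d910997068d0439024500eb0045000e004e006000440028001e0016000a00020000000000000000000000000000000000000000000000000000000000000000000000000000000000000000000000000000000000000000000000000000000000000002000c0024004c008e010401c002c2041e05f808420ad20db210d613c0161617fc193a192017be15b812e00ed40a60064c0222023305b7085b0b170dc30faf118f142b16d9193f1c251f6f220d240525d526bf260f246922331ed91a7b161511e10d910997068d0439024500eb0045000e004e006000440028001e0016000a00020000000000000000000000000000000000000000000000000000000000000000000000000000000000000000000000000000000000000000000000000000000000000004001a005400b80152025804060656093e0d0611c216e01c1221b0274a2b922e8c313a32e03230307a2f5c2d6a29c226f8260e244021301fd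81faa1d34194816c013d60dec07540262030509e90f591231149d16cf16bd14ab128510410cfd098906ff0501030b018700c1005500040030002a001e001c0016000a000200000000000000000000000000000000000000000000000000000000000000000000000000000000000000000000000000000000000000000002000a001800260038006200aa00f8014a01cc028a034e04120520067407a808c60a380bc40cda0dca0f20104810a410f811dc1260120e12021288126c11a4116e118c10c00f820ef20e660cea0b4c0a560944079a0624053a043a030c024201da015c00d20090008200620034001e001c0016000a00020000000000000000000000000000000000000000000000000000000000000000000000000000000000000000000000000000000000000000000000000002000c0024004c008e010401be02b403f00596079c09ca0c1a0ea01118132c14f6169017a2180a182e182a17b216f2165e15d41510145e13e6133c12401142101e0e700c6a0a5c08100576030600f2010102b703cf045f04b304b7044d03b50329029501f10167010700b7006f003f002700170009000100000000000000000000000000000000000000000000000000000000000000000000000000000000000000000000000000000002000a0018002600360058009200d4011e018e022602c2036c0456056206420716082a093a09e60a7e0b540bf40c160c4c0cd00d000cc00cc00d000cd00c4c0c160bf40b540a7e09e6093a082a0716064205620456036c02c20226018e011e00d400920058003600260018000a00020000000000000000000000000000000000000000000000000000000000000000000000000000000000000000000000000000)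 (Nat.shiftLeft (Nat.add 
    (nat_lit 0x84c071605fc0636060c04d6045e04de04b203fc04160488043603ac03a8039002f00258020c01aa012800d400a20060002600160016000a0003000500010000000000000000000000000000000000000000000000000000000000000000000000000000000000000000000000000000000000000000000000000000000000000000000000000002000a001a0034005e009600c800dc00b4000c0177041908190dd515791ed529b935f342e54fcb5c3b67c571b779cb803984f987fd89d18af58b558b138aa589e3884585c782637d7b76b56e5b6481590f4c933fdf335327591cb713dd0cbf076b03ed01e100cb0075009f00e3011301390147012900f500c500950063003d002700170009000100000000000000000000000000000000000000000000000000000000000000000000000000000000000000000000000000000000000000000000000000000000000000000000000000020008000e000e00100022003a004000420062008c0092009000bc00ec00e200d8010c0130010e010e015c0176013e014801a001aa0170018401be019a015e0178018c014601100124011a00d400b200be00ac008200740070005600400040003a00220010000e000e00080002000000000000000000000000000000000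0000000000000000000000000000000000000000000000000000000000000000000000000000000000000000000000000000000000000000002000c0024004c008e010601ce02f2048c06c0098c0cda10a614ae18521b301d2a1d981bb617ce12680b2a024406c10f3317931f19244d27d72afb2cfd2d7d2e45301731c933a736ff3adb3dab40054221422b3f7b3b4d35912d6323e11aab11910891013703ce076809c80a500976084c06f4053c039c027e01a800e8006a003a002200060009000700010000000000000000000000000000000000000000000000000000000000000000000000000000000000000000000000000000000000000000000000000000000000000002000a001800260038006000a000e20126018001dc021a025c02b602d802ac02ac02e802ce027a02a4030602e002be035a03d40376035403f003fc032402ca03040280017a013a015800c8002e006e00ce0096007200da0128010400ec010a00fc00b800900088006a003a0020001c0016000a00020000000000000000000000000000000000000000000000000000000000000000000000000000000000000000000000000000000000000000000000000000000000000002000c0024004c008e010401c002c2041e05f808420ad20db210d613c0161617fc193a192017be15b812e00ed40a60064c0222023305b7085b0b170dc30faf118f142b16d9193f1c251f6f220d240525d526bf260f)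 (Nat.shiftLeft 
    (nat_lit 0x2000a001800260038006000a000e20128018c0200026202cc035003a803c4040a046c0464043c04a60524050a0536064206f206dc078208d608f6084c08cc09840890076207aa07a20620054c05e405b20484047a054404f00416043c048403c602ec02bc0264018800ee00c4007600020029001b00210033002b0017000f000d0007000100000000000000000000000000000000000000000000000000000000000000000000000000000000000000000000000000000000000000000000000000000000000000000000000000000000000000000000000000040016003a006800a400fe01580166010a0038019104e7099d0f6b16c51fa528b93131395b407944ef46e547594593411b3bc936bd31012b0b26c523c720971e031cab1aab1721135f0f1908b1010106260d3414861a5a1dbe1fa620141e181a54163011c60cee0886053402a800b2007300eb011b011900dd00950069004b0029000d0001000000000000000000000000000000000000000000000000000000000000000000000000000000000000000000000000000000000000000000000000000000000000000000000000000000000000000000000002000c0024004a008400ec019a028c03cc058007a20a000caa0fb2128c14b6168017de17ce1660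14e213040f940c1a0a9e0988077e07500a120c160cac0f9413e214f214461608177a150c12ac137e138e115e118e14c216a8177c1aa41e881fe2201420f820aa1e041ae018021450100e0c8809b206f404a2031a0206012800a000620034000e00020006000600020000000000000000000000000000000000000000000000000000000000000000000000000000000000000000000000000000000000000000000000000000000000000000000000000002000c0022003e005e009600f4015e01c4024a02f2037403d0045c04e804ec04c4051c056404ee04ac055a05c2055605a206ec075a06f2079a08c00864078007ec084c071605fc0636060c04d6045e04de04b203fc04160488043603ac03a8039002f00258020c01aa012800d400a20060002600160016000a0003000500010000000000000000000000000000000000000000000000000000000000000000000000000000000000000000000000000000000000000000000000000000000000000000000000000002000c0022003e005e009600f4015e01c4024a02f2037403d0045c04e804ec04c4051c056404ee04ac055a05c2055605a206ec075a06f2079a08c00864078007ec) (nat_lit 8000))) (nat_lit 8000))) (Nat.shiftLeft (Nat.add 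
    (nat_lit 0xc55095306b1029d03b009120c921136167a188a18be1af21cea1b9a1abe1d1c1ea81e021fb423de25c225f228182a1a289825f8248421aa1c5e17961428101c0bca09120774059e041e039c035202b40236020001b2014000ea00b2007a0048002a0018000a0002000000000000000000000000000000000000000000000000000000000000000000000000000000000000000000000000000000000000000000000000000000000000000000000000000000000000000000000000000000000000000000020008000e000e0010001e0026001200030005002100650075003f003b005b000e00d8013401760268035c037c03b204a2050c047c046a050804d203f203f0045e03ec035403a603ee036003000348032c026a01f001d6016800c0006e004c0000003f003900270035003d00270011000d000d0007000100000000000000000000000000000000000000000000000000000000000000000000000000000000000000000000000000000000000000000000000000000000000000000000000000000000000000000000000000000000000000000000000000000002000a00180028003e0060007c00760050000400b1020103c105ed08d70c590fcf132b16a9199b1b4d1c471cd91c271a3b186316a5142311b310710f650ddb0d050c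f10bfd0a4108f5074304110095025205b809880c280da60f0c0faa0ea80d060b86097c06f004ec0382021600ea007000420001001b000c0026001c001c0028002400160010000e000800020000000000000000000000000000000000000000000000000000000000000000000000000000000000000000000000000000000000000000000000000000000000000000000000000000000000000000000000000002000a00180028003e0060007c00760050000400b1020103c105ed08d70c590fcf132b16a9199b1b4d1c471cd91c271a3b186316a5142311b310710f650ddb0d050cf10bfd0a4108f5074304110095025205b809880c280da60f0c0faa0ea80d060b86097c06f004ec0382021600ea007000420001001b000c0026001c001c0028002400160010000e000800020000000000000000000000000000000000000000000000000000000000000000000000000000000000000000000000000000000000000000000000000000000000000000000000000000000000000000000000000002000a001800260038006000a000e20128018c0200026202cc035003a803c4040a046c0464043c04a60524050a0536064206f206dc078208d608f6084c08cc09840890076207aa07a20620054c05e405b20484047a054404f00416043c048403c602ec02bc0264018800ee00c4007600020029001b00210033002b0017000f000d00070001)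 (Nat.shiftLeft (Nat.add 
    (nat_lit 0x10007000b000300060003000f0014005a008400b60152022a02d403a60510067c077008aa0a740bc00c660d8e0f040f860fa61094115810fa10c8115c112810060f940f780e2a0c7a0bae0aa4088206b405bc043c023000ee003600ff022b028902c1035503a3036b033d033502f1027f022701d7016f011100d10097005d0037002500170009000100000000000000000000000000000000000000000000000000000000000000000000000000000000000000000000000000000000000000000000000000000000000000000000000000000000000000000000000000000000000000000000000000000000000000000000000000020008000e000e0010001e0028001c001400200014001100080062008c00ae01660268030e03e0056c06c6077a08b80a9a0b9c0c000d660f0c0f5e0f9e1124123811ee124c13ac13d012ea132013ae129e111c10b610080e120c680b9e0a44084807000640050203a602e8025c018e00e6009e006000120013001700210029001d000f000d000d0007000100000000000000000000000000000000000000000000000000000000000000000000000000000000000000000000000000000000000000000000000000000000000000000000000000000000000000000000000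0000000000000000000000000000000020008000e000e0010002000320032003000420052004c00500068006c0066008800ae00a400aa00ea010400e000f6013c012c00fc0134016a012400fe015e01820126011c017e017a012601400184014e01020120013600ec00b600cc00c8008e006e007200640048003c003400200010000e000e00080002000000000000000000000000000000000000000000000000000000000000000000000000000000000000000000000000000000000000000000000000000000000000000000000000000000000000000000000000000000000000000000000000000000010009001700270041007900cf012f01a7025d033b040b04e105d7069906e9070906f7063d04fd03c5025b0061018402e804760644077c085e09d80b740c840de41016121213a015b8180819761a6a1b8a1c001b521a66196c17a4155a136611820f440d400bc60a4c08b80780068c0574045e039202e202220180011800c60078004200280018000a00020000000000000000000000000000000000000000000000000000000000000000000000000000000000000000000000000000000000000000000000000000000000000000000000000000000000000000000000000000000000000000000000000000000000000002000a00180026003600500066005c0038000500a701d9034104c706f309910b790ca30de50e49)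 (Nat.shiftLeft 
    (nat_lit 0x20008000e000e00100022003a004000400058007600760072008e00a40092008a00a600aa008800800090007a0052004c0046001e00020001001d0045004b00510079008f007f008700a900a50089009100a3008d0071007500750057003f003f00390021000f000d000d00070001000000000000000000000000000000000000000000000000000000000000000000000000000000000000000000000000000000000000000000000000000000000000000000000000000000000000000000000000000000000000000000000000000000000000000000000000000000000000000000000000) (nat_lit 8000))) (nat_lit 8000))) (nat_lit 24000))) i2))) (g1 i1) (g1 (Nat.succ i1)) List.nil) fun j => (pk61d (nat_lit 12) 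
    (nat_lit 0xa389bd9428cb85d7e476e70169061f5b25454d946d4093a533d2e227b21f1bd15b1000a6051000000) j))) (nat_lit 0) (nat_lit 26) List.nil) : List (List ℤ)))
    = ?xq9004 → (List (List ℤ))) ?hq9004; (case hq9004 => (set_option maxRecDepth 1000000 in conv => lhs; reduce)); intro _; exact ?xq9004 (@OfNat.ofNat Int) (@instOfNat) (@Neg.neg Int Int.instNegInt) : List (List ℤ))

noncomputable def r8L : List (List ℤ) :=
  (by
  refine (?fq9005 : (fun (Oz : (n : Nat) → OfNat Int n → Int) (Iz : (n : Nat) → OfNat Int n) (Gz : Int → Int) => ((pk61l (fun i1 => ((fun g1 : Nat → Nat => pk61l (fun i2 => (pk61y Oz Iz Gz (pk61d (nat_lit 16) (Nat.add (Nat.add 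
    (nat_lit 0x11591385160918db1c111f7922a5255727632869281f268d23c51fd91b23162111290c830883055702f5014d004f0032006a00700058003c00280018000a00020000000000000000000000000000000000000000000000000000000000000000000000000000000000000000000000000000000000000000000000000000000000000002000c0026005800b001440228036e052e07760a380d5c10c61432173a19901af61b1e19e2176813e20f800aaa05d8013e02fd0691096d0bcd0dd10f8d11591385160918db1c111f7922a5255727632869281f268d23c51fd91b23162111290c830883055702f5014d004f0032006a00700058003c00280018000a00020000000000000000000000000000000000000000000000000000000000000000000000000000000000000000000000000000000000000000000000000000000000000004001a005800d201a202f6050007dc0ba2106616001c0a2232282a2d5c313833a434a2341032322fb62cea29d426ec24ac22e6216420521f6c1df41ba818a014880f2a0904028a04390adb108b14e917e1191b18751671139910270c770911063103d5021300f9005700080036003c003200260018000a00020000000000000000000000000000000000000000000000000000000000000000000000000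0000000000000000000000000000000000000000002000a001a0030004e007e00c8012a01a60246030c03f004f60628077a08d80a440bb80d100e3a0f4a10421102118a11f6123e12561260126c1258121811cc116e10d810160f420e440d100bc60a7008fc0780062a04f803d802de021c0184010e00c0009000680046003200260018000a00020000000000000000000000000000000000000000000000000000000000000000000000000000000000000000000000000000000000000000000000000002000c0026005800b001440226036004fe070609660c000eb8116413cc15cc1756185818cc18ce187a17dc1714164e159614ea145a13e4136012b011cc109a0efe0d020abc0832057c02d0005a01c903770495052b054d050b048103d5031f026b01c9014500dd008d0055003100190009000100000000000000000000000000000000000000000000000000000000000000000000000000000000000000000000000000000002000a001a0030004c007400ae00fc016401ee02960354042e052a06380744084a09420a180acc0b6e0bf80c5a0c9e0cd20cee0cf20cf20cee0cd20c9e0c5a0bf80b6e0acc0a180942084a07440638052a042e0354029601ee016400fc00ae0074004c0030001a000a00020000000000000000000000000000000000000000000000000000000000000000000000000000000000000000000000000000)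 (Nat.shiftLeft (Nat.add 
    (nat_lit 0x414048804f0053005340524051804f804d604ec0530057605da0678071207860804087c08a00878083c07d4072c068a060c057804dc0482045e043c04340458046a0448041803dc037402f40280020c0188010e00b4007200420026001400040005000500010000000000000000000000000000000000000000000000000000000000000000000000000000000000000000000000000000000000000000000000000000000000000000000000000002000a001c003e007600c0010a01340106002801cd05410a9712171bc52769349b42b150d95e556a8574df7d19833b876b89e58b1d8b8f8b878b418aeb8a6b896f87a984bf803d79d3716f67175af94d973fa531d724ed19a11065095f048901a700470012002f00af0123016b0183016d013700f700b90081005300310019000900010000000000000000000000000000000000000000000000000000000000000000000000000000000000000000000000000000000000000000000000000000000000000000000000000002000800100016001c0028003a004c0060007a009400a800bc00d400e800f60108011a0120012401360150016401760188018e018e019a01a601a001900182016c014a012e011a00fe00e000ca00b20094007e0076006e005e0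04c003a0028001c00160010000800020000000000000000000000000000000000000000000000000000000000000000000000000000000000000000000000000000000000000000000000000000000000000000000000000002000c0026005800b00146023603a005aa086c0be20ffa1488191c1d161fe420f41fac1bca15820d2a034c071d11191a1921a1272f2ac72cd72da72da52db12e6b2fed3269360d3a5d3e95424144d3456f439b3f5b38a52f9d25151a170f6905d501d8074e0aa60c060bbe0a6a0898069604ac031e01f8012400980048001a0001000b000700010000000000000000000000000000000000000000000000000000000000000000000000000000000000000000000000000000000000000000000000000000000000000002000a001a0030004e007c00be0112017801e60244028802c002ea02f002da02c402aa028a028802ae02d602fa033c038c03bc03d603ec03da0394033e02da024e01b6014000e00084004c00460056007800b800fa011a01220126011a00f400c6009c0072004c003400260018000a00020000000000000000000000000000000000000000000000000000000000000000000000000000000000000000000000000000000000000000000000000000000000000002000c0026005800b001440228036e052e07760a380d5c10c61432173a19901af61b1e19e2176813e20f800aaa05d8013e02fd0691096d0bcd0dd10f8d)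 (Nat.shiftLeft 
    (nat_lit 0x702064405ae0558050204ba04ba04d404c604b004a0045803d4035202d0022a017c00f2008200220017002b0035003b003300230017000f000700010000000000000000000000000000000000000000000000000000000000000000000000000000000000000000000000000000000000000000000000000000000000000000000000000000000000000000000000000002000a001a0030004e007c00be0112017a01f2026a02dc035203c0040a0438046004700464047004aa04f0054c05ea06a2073807d2088a091009400950093808c0081c07960702064405ae0558050204ba04ba04d404c604b004a0045803d4035202d0022a017c00f2008200220017002b0035003b003300230017000f0007000100000000000000000000000000000000000000000000000000000000000000000000000000000000000000000000000000000000000000000000000000000000000000000000000000000000000000000000000000040016003e007e00da015001be01e60188004e024506950cb714a11e1d287b32c73c3543f7492f4b834b29485143493cf136332f87298124d721931f4b1ddb1cf31baf196315f111170a8b02ad05d60e8c16be1d5a21b823b8234220781c0616b011060ba20718039c011c00730131016701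55011b00d300910059002b000d0001000000000000000000000000000000000000000000000000000000000000000000000000000000000000000000000000000000000000000000000000000000000000000000000000000000000000000000000002000c0026005600a6012a01f8032204c006e209760c5e0f8c12d015c0180a198019c4188e163413300fa00be808ea07020602063407ee0a8e0d64108a13bc16001722179e173e15c013f21288114c107a10ea129414d417bc1b541eb8213022ca234822221f8e1c32184213e40fa20bde089605dc03da0276017800cc00680030001200080008000600020000000000000000000000000000000000000000000000000000000000000000000000000000000000000000000000000000000000000000000000000000000000000000000000000002000c0024004a007e00c8012e01aa023a02e003880414048804f0053005340524051804f804d604ec0530057605da0678071207860804087c08a00878083c07d4072c068a060c057804dc0482045e043c04340458046a0448041803dc037402f40280020c0188010e00b4007200420026001400040005000500010000000000000000000000000000000000000000000000000000000000000000000000000000000000000000000000000000000000000000000000000000000000000000000000000002000c0024004a007e00c8012e01aa023a02e00388)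 (nat_lit 8000))) (nat_lit 8000))) (Nat.shiftLeft (Nat.add 
    (nat_lit 0x2000a001a0030004c006c0082007c0052001500f1025b043b068b09430bfd0e310fa9101b0eef0c0907f302eb02fe09080e68132e174a1a041b581c0a1c321ba41b341b9e1c841dc21fea22be255c27b429e62b1c2ab028fc262c22001cf217e613140e860ac0080c061a04b803f00386032002b8026002020194013000e0009a005e0034001a000a000200000000000000000000000000000000000000000000000000000000000000000000000000000000000000000000000000000000000000000000000000000000000000000000000000000000000000000000000000000000000000000002000800100016001c00240026001a00060017004b0085009d008d006500150070010a01a80264032c03c8043c04aa04f204f604e204cc04920446041803f603be0396039a039c038403700354030c02a8024201c8013400b00054000e0027004100470047003f002d001d0015000f0007000100000000000000000000000000000000000000000000000000000000000000000000000000000000000000000000000000000000000000000000000000000000000000000000000000000000000000000000000000000000000000000000000000000002000a001a0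0320054007e00a000a400780003010102a104eb07eb0b970fa513bb17991ae11d211e3b1e491d451b4d18d91641139b11390f7f0e530d7d0d130ceb0c790b850a1f0807050b0181024606480a2e0d5c0f9a10e611060ff40e1a0bca0928068e045c029e014a007400100017001d0005001600220028002e002c002200180010000800020000000000000000000000000000000000000000000000000000000000000000000000000000000000000000000000000000000000000000000000000000000000000000000000000000000000000000000000000002000a001a00320054007e00a000a400780003010102a104eb07eb0b970fa513bb17991ae11d211e3b1e491d451b4d18d91641139b11390f7f0e530d7d0d130ceb0c790b850a1f0807050b0181024606480a2e0d5c0f9a10e611060ff40e1a0bca0928068e045c029e014a007400100017001d0005001600220028002e002c002200180010000800020000000000000000000000000000000000000000000000000000000000000000000000000000000000000000000000000000000000000000000000000000000000000000000000000000000000000000000000000002000a001a0030004e007c00be0112017a01f2026a02dc035203c0040a0438046004700464047004aa04f0054c05ea06a2073807d2088a091009400950093808c0081c0796)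 (Nat.shiftLeft (Nat.add 
    (nat_lit 0x10007000d000b000300000004001c004e0098010c01ba0292038e04c4062a079008f20a620bba0cda0de80eec0fb0103a10c2112e114e1154115e112810a2100e0f5e0e560d1c0be40a7a08c80714057403c4022800d80049015d023902cd033f038f03a503970381035102fb0297023301c7015b00ff00b50079004d002f0019000900010000000000000000000000000000000000000000000000000000000000000000000000000000000000000000000000000000000000000000000000000000000000000000000000000000000000000000000000000000000000000000000000000000000000000000000000000002000800100016001c0024002800240020001800000015000300380094012601f602de03e00522068407c809060a5c0b900c8c0d940ea60f7c1038111611dc125a12da136e13be13c213bc138212da11fc110e0fd20e4a0ccc0b6209de0862071a05e204aa03a002cc0208015800d60076002400110025002900290023001b0015000f00070001000000000000000000000000000000000000000000000000000000000000000000000000000000000000000000000000000000000000000000000000000000000000000000000000000000000000000000000000000000000000000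00000000000000002000800100016001c00260032003c0046004e00500052005c0066006c007c009800ae00c000dc00f60100010a011e01260122012e014201400136013a01400140014e01640164015601560156014601380130011800f200d400bc00a0008c0086007a0060004600340026001c0016001000080002000000000000000000000000000000000000000000000000000000000000000000000000000000000000000000000000000000000000000000000000000000000000000000000000000000000000000000000000000000000000000000000000000000010009001900310057009700f70177021f02f503eb04f105fd06ed078f07cf07a506f305b70425025d00650190034e04e40660079c08a409be0af40c360db80f9a11a613c015fe18301a021b6e1c741cd01c681b6e19f217ee15a2135811180eee0d080b6a09f2089e0776066205520456037402a401ee015e00ee009600580032001a000a00020000000000000000000000000000000000000000000000000000000000000000000000000000000000000000000000000000000000000000000000000000) (Nat.shiftLeft 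
    (nat_lit 0x2000800100016001c0028003a004c005e0070007c0082008a0094009a009e00a400a4009a0090008600740060005200400024000a00090023003f0051005f00730085008f009900a300a3009d0099009300890081007b006f005d004b00390027001b0015000f00070001000000000000000000000000000000000000000000000000) (nat_lit 8000))) (nat_lit 8000))) (nat_lit 24000))) i2))) (g1 i1) (g1 (Nat.succ i1)) List.nil) fun j => (pk61d (nat_lit 12) 
    (nat_lit 0xa0698d91489f8337bc7486dd66e5ff5945294bf4553f339132b2d226d2131b31530fa0a204f000000) j))) (nat_lit 0) (nat_lit 26) List.nil) : List (List ℤ)))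
    = ?xq9005 → (List (List ℤ))) ?hq9005; (case hq9005 => (set_option maxRecDepth 1000000 in conv => lhs; reduce)); intro _; exact ?xq9005 (@OfNat.ofNat Int) (@instOfNat) (@Neg.neg Int Int.instNegInt) : List (List ℤ))

noncomputable def k0 (c : Fin 26) : List ℤ := k0L.getD c []

noncomputable def k1 (c : Fin 26) : List ℤ := k1L.getD c []

/-- the values of the kernel divided by `q Φ₄ Φ₈ Φ₂₄` -/
noncomputable def k3 (c : Fin 26) : List ℤ := k3L.getD c []

noncomputable def rr4 (c : Fin 26) : List ℤ := r4L.getD c []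

noncomputable def rr8 (c : Fin 26) : List ℤ := r8L.getD c []

/-- `q Φ₄ Φ₈ Φ₂₄` -/
noncomputable def G : List ℤ := (beta% delta% lq26916e28de fun _ c d =>
 (c 0<|c 1<|c 0<|c 1<|c 0<|c 0<|c 0<|c 0<|c 0<|c 0<|c 0<|c 0<|c 0<|c 1<|c 0<|c 1<|d))

/-- inverse of `k3 o` modulo `Φ₄`, up to `6` -/
def s4 : List ℤ := [-1, 1]

noncomputable def t4 : List ℤ :=
  (by
  refine (?fq9006 : (fun (Oz : (n : Nat) → OfNat Int n → Int) (Iz : (n : Nat) → OfNat Int n) (Gz : Int → Int) => ((pk61l (fun i1 => (pk61y Oz Iz Gz (pk61d (nat_lit 6) 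
    (nat_lit 0x218600249818061e00371644588a8458828454896c70115cb14b44d00614d00c00b00c00b00c00b00c00b00c00b00c00b) i1))) (nat_lit 0) (nat_lit 65) List.nil) : List ℤ))
    = ?xq9006 → (List ℤ)) ?hq9006; (case hq9006 => (set_option maxRecDepth 1000000 in conv => lhs; reduce)); intro _; exact ?xq9006 (@OfNat.ofNat Int) (@instOfNat) (@Neg.neg Int Int.instNegInt) : List ℤ)

/-- inverse of `k3 o` modulo `Φ₈`, up to `2` -/
def s8 : List ℤ := [3, -7, 7, -3]

noncomputable def t8 : List ℤ :=
  (by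
  refine (?fq9007 : (fun (Oz : (n : Nat) → OfNat Int n → Int) (Iz : (n : Nat) → OfNat Int n) (Gz : Int → Int) => ((pk61l (fun i1 => (pk61y Oz Iz Gz (pk61d (nat_lit 6) 
    (nat_lit 0x52450d17574638d15e33c1459086342385056482428612920498796106282000004000003000004000003000004000003) i1))) (nat_lit 0) (nat_lit 65) List.nil) : List ℤ))
    = ?xq9007 → (List ℤ)) ?hq9007; (case hq9007 => (set_option maxRecDepth 1000000 in conv => lhs; reduce)); intro _; exact ?xq9007 (@OfNat.ofNat Int) (@instOfNat) (@Neg.neg Int Int.instNegInt) : List ℤ)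

theorem hk0 : ∀ c, pEq (pAdd (W7 (y0 c)) (0 :: W7 (y1 c))) (k0 c) = true := by (delta W7; simp only [Cfsg.Agent.H996.Eight.Kq.pEq_eq]; decide +kernel)

theorem hk1 : ∀ r, vz (2 ^ 21) G * vz (2 ^ 21) (k1 r) =
    dotZ (2 ^ 21) (TabE8c.bb r) k0 - vz (2 ^ 21) th * vz (2 ^ 21) (k0 r) ∧
    n1 G * n1 (k1 r) + (dotN (TabE8c.bb r) k0 + n1 th * n1 (k0 r)) < 2 ^ 21 := by (delta dotZ dotN; rw [Cfsg.Agent.H996.Eight.Kq.vz_fun, Cfsg.Agent.H996.Eight.Kq.n1_eq]; decide +kernel)

theorem hk3 : ∀ r, vz (2 ^ 21) [1] * vz (2 ^ 21) (k3 r) =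
    dotZ (2 ^ 21) (TabE8c.bb r) (fun c => k1 (star c)) - vz (2 ^ 21) th * vz (2 ^ 21) (k1 (star r)) ∧
    n1 [1] * n1 (k3 r) + (dotN (TabE8c.bb r) (fun c => k1 (star c)) + n1 th * n1 (k1 (star r))) < 2 ^ 21 := by
  (delta dotZ dotN; rw [Cfsg.Agent.H996.Eight.Kq.vz_fun, Cfsg.Agent.H996.Eight.Kq.n1_eq]; decide +kernel)

theorem hcong4 : ∀ c, vz (2 ^ 21) [1, 0, 1] * vz (2 ^ 21) (rr4 c) =
    vz (2 ^ 21) (TabE8c.kk c) * vz (2 ^ 21) (k3 c) - vz (2 ^ 21) (lam c) * vz (2 ^ 21) (k3 0) ∧
    n1 [1, 0, 1] * n1 (rr4 c) + (n1 (TabE8c.kk c) * n1 (k3 c) + n1 (lam c) * n1 (k3 0)) < 2 ^ 21 := by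
  (rw [Cfsg.Agent.H996.Eight.Kq.vz_fun, Cfsg.Agent.H996.Eight.Kq.n1_eq]; decide +kernel)

theorem hcong8 : ∀ c, vz (2 ^ 21) [1, 0, 0, 0, 1] * vz (2 ^ 21) (rr8 c) =
    vz (2 ^ 21) (TabE8c.kk c) * vz (2 ^ 21) (k3 c) - vz (2 ^ 21) (lam c) * vz (2 ^ 21) (k3 0) ∧
    n1 [1, 0, 0, 0, 1] * n1 (rr8 c) + (n1 (TabE8c.kk c) * n1 (k3 c) + n1 (lam c) * n1 (k3 0)) < 2 ^ 21 := by
  (rw [Cfsg.Agent.H996.Eight.Kq.vz_fun, Cfsg.Agent.H996.Eight.Kq.n1_eq]; decide +kernel)

theorem hunit4 : pEq (pMul s4 (k3 0)) (pAdd [6] (pMul [1, 0, 1] t4)) = true := by (simp only [Cfsg.Agent.H996.Eight.Kq.pEq_eq]; decide +kernel)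

theorem hunit8 : pEq (pMul s8 (k3 0)) (pAdd [2] (pMul [1, 0, 0, 0, 1] t8)) = true := by (simp only [Cfsg.Agent.H996.Eight.Kq.pEq_eq]; decide +kernel)

theorem hpos : pNV (k3 0) = true := by (simp only [Cfsg.Agent.H996.Eight.Kq.pNV_eq]; decide +kernel)

theorem hG : pPos G = true := by (simp only [Cfsg.Agent.H996.Eight.Kq.pPos_eq]; decide +kernel)

/-! ### the values -/

section Val

variable {x : ℕ} {f : Fin 5 → ℚ} {r : ℚ}

theorem Wv_eq (hf : ∀ c, f c = r * ev x (TabE8a.c2.nu c)) (s : Fin 240) : Wv x f s = r * ev x (W7 s) := by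
  rw [Wv, Tab.tau, W7, ev_pAdd]
  split_ifs with h
  · rw [ev_pAdd, ev_pMul, ev_cons, ev_cons, ev_nil, hf, hf]
    push_cast
    ring
  · rw [ev_cons, hf, hf]
    push_cast
    ring

/-- `W` does not depend on the line -/
theorem Wv_st (hf : ∀ c, f c = r * ev x (TabE8a.c2.nu c)) {i : Fin 8} (hi : i ≠ 6) (s : Fin 240) :
    Wv x f (TabE8a.tab.st i s) = Wv x f s := by
  rw [Wv_eq hf, Wv_eq hf, ev_of_pEq (x : ℚ) (W7_st i hi s)]

theorem k0v_eq (hf : ∀ c, f c = r * ev x (TabE8a.c2.nu c)) (c : Fin 26) : k0v x f c = r * ev x (k0 c) := by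
  rw [k0v, Wv_eq hf, Wv_eq hf, ← ev_of_pEq (x : ℚ) (hk0 c), ev_pAdd, ev_cons]
  push_cast
  ring

theorem k1v_eq (hf : ∀ c, f c = r * ev x (TabE8a.c2.nu c)) (c : Fin 26) : k1v x f c = r * ev x G * ev x (k1 c) := by
  have h1 : k0v x f = fun d => r * ev (x : ℚ) (k0 d) := funext (k0v_eq hf)
  rw [k1v, h1, opv_smul, opv, show TabE8c.data.bb c = TabE8c.bb c from rfl, lin_of (hk1 c) (x : ℚ), mul_assoc]

/-- **the values of `(A - θ) K₀ (A - θ)`** -/
theorem k2v_eq (hf : ∀ c, f c = r * ev x (TabE8a.c2.nu c)) (c : Fin 26) : k2v x f c = r * ev x G * ev x (k3 c) := by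
  have h1 : (fun d => k1v x f (star d)) = fun d => (r * ev (x : ℚ) G) * ev (x : ℚ) (k1 (star d)) :=
    funext fun d => k1v_eq hf _
  rw [k2v, h1, opv_smul, opv, show TabE8c.data.bb c = TabE8c.bb c from rfl, lin_of (hk3 c) (x : ℚ), ev_cons, ev_nil]
  push_cast
  ring

theorem k2v_ne (hf : ∀ c, f c = r * ev x (TabE8a.c2.nu c)) (hr : r ≠ 0) (hx : 2 ≤ x) : k2v x f 0 ≠ 0 := by
  have hx' : (2 : ℚ) ≤ (x : ℚ) := by exact_mod_cast hx
  rw [k2v_eq hf]
  exact mul_ne_zero (mul_ne_zero hr (ev_pos hx' hG).ne') (ev_nv hx' hpos)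

/-- the congruences modulo a polynomial -/
theorem cong_of (hf : ∀ c, f c = r * ev x (TabE8a.c2.nu c)) (hr : r ≠ 0) (hx : 2 ≤ x) {P s t : List ℤ} {N : ℤ}
    {rr : Fin 26 → List ℤ}
    (hc : ∀ c, ev (x : ℚ) (TabE8c.kk c) * ev x (k3 c) - ev x (lam c) * ev x (k3 0) = ev x P * ev x (rr c))
    (hu : ev (x : ℚ) s * ev x (k3 0) = N + ev x P * ev x t) {p : ℕ} (hN : ¬ (p : ℤ) ∣ N)
    (hd : (p : ℤ) ∣ evZ x P) {a : Fin 26 → ℚ}
    (ha : ∀ c, ev x (TabE8c.data.kk c) * a c = ev x (lam c)) (c : Fin 26) :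
    ∃ u v : ℤ, ¬ (p : ℤ) ∣ v ∧ v * (ev x (TabE8c.data.kk c) * (k2v x f c / k2v x f 0 - a c)) = p * u := by
  have hx' : (2 : ℚ) ≤ (x : ℚ) := by exact_mod_cast hx
  obtain ⟨w, hw⟩ := hd
  have h3 := ev_nv hx' hpos
  refine ⟨w * evZ x (rr c), evZ x (k3 0), ?_, ?_⟩
  · intro h4
    have h2 : evZ x s * evZ x (k3 0) = N + evZ x P * evZ x t := by
      have g1 := evZ_cast x s
      have g2 := evZ_cast x (k3 0)
      have g3 := evZ_cast x P
      have g4 := evZ_cast x t
      push_cast at g1 g2 g3 g4 hu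
      have h5 : ((evZ x s * evZ x (k3 0) : ℤ) : ℚ) = ((N + evZ x P * evZ x t : ℤ) : ℚ) := by
        push_cast
        rw [g1, g2, g3, g4, hu]
      exact_mod_cast h5
    apply hN
    have h6 : N = evZ x s * evZ x (k3 0) - evZ x P * evZ x t := by rw [h2]; ring
    rw [h6, hw]
    exact dvd_sub (h4.mul_left _) ((dvd_mul_right _ _).mul_right _)
  · have h1 := hc c
    have e1 := evZ_cast x (k3 0)
    have e2 := evZ_cast x (rr c)
    have e3 := evZ_cast x P
    push_cast at e1 e2 e3
    rw [hw] at e3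
    push_cast at e3
    have h4 : k2v x f c / k2v x f 0 = ev x (k3 c) / ev x (k3 0) := by
      rw [k2v_eq hf, k2v_eq hf, mul_div_mul_left _ _ (mul_ne_zero hr (ev_pos hx' hG).ne')]
    have h5 : ev (x : ℚ) (TabE8c.data.kk c) = ev x (TabE8c.kk c) := rfl
    push_cast
    rw [e1, e2, h4, mul_sub, ha, h5, ← mul_assoc (p : ℚ), e3, ← h1]
    field_simp

/-- **The congruences modulo `Φ₄`.** -/
theorem cong4 (hf : ∀ c, f c = r * ev x (TabE8a.c2.nu c)) (hr : r ≠ 0) (hx : 2 ≤ x) {p : ℕ}
    (hN : ¬ (p : ℤ) ∣ 6) (hd : (p : ℤ) ∣ evZ x [1, 0, 1]) {a : Fin 26 → ℚ}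
    (ha : ∀ c, ev x (TabE8c.data.kk c) * a c = ev x (lam c)) (c : Fin 26) :
    ∃ u v : ℤ, ¬ (p : ℤ) ∣ v ∧ v * (ev x (TabE8c.data.kk c) * (k2v x f c / k2v x f 0 - a c)) = p * u := by
  refine cong_of hf hr hx (P := [1, 0, 1]) (s := s4) (t := t4) (N := 6) (rr := rr4) (fun c => mul_of (hcong4 c) (x : ℚ)) ?_ hN hd ha c
  have h1 := ev_of_pEq (x : ℚ) hunit4
  rw [ev_pMul, ev_pAdd, ev_pMul] at h1
  rw [h1, ev_cons, ev_nil, mul_zero, add_zero]

/-- **The congruences modulo `Φ₈`.** -/
theorem cong8 (hf : ∀ c, f c = r * ev x (TabE8a.c2.nu c)) (hr : r ≠ 0) (hx : 2 ≤ x) {p : ℕ}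
    (hN : ¬ (p : ℤ) ∣ 2) (hd : (p : ℤ) ∣ evZ x [1, 0, 0, 0, 1]) {a : Fin 26 → ℚ}
    (ha : ∀ c, ev x (TabE8c.data.kk c) * a c = ev x (lam c)) (c : Fin 26) :
    ∃ u v : ℤ, ¬ (p : ℤ) ∣ v ∧ v * (ev x (TabE8c.data.kk c) * (k2v x f c / k2v x f 0 - a c)) = p * u := by
  refine cong_of hf hr hx (P := [1, 0, 0, 0, 1]) (s := s8) (t := t8) (N := 2) (rr := rr8) (fun c => mul_of (hcong8 c) (x : ℚ)) ?_ hN hd ha c
  have h1 := ev_of_pEq (x : ℚ) hunit8
  rw [ev_pMul, ev_pAdd, ev_pMul] at h1
  rw [h1, ev_cons, ev_nil, mul_zero, add_zero]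

end Val

end Cfsg.Agent.H739.PQ.E8L.LinkZ

private theorem dce_7b1eb39050f6 : _root_.True := by
  try have : _root_.True := by simp only [_root_.Cfsg.Agent.H739.PQ.E8L.LinkZ.W7.eq_1]
  exact _root_.True.intro
end

-- part: H594/PQ/LinkE8z
section
set_option linter.all false
open scoped Cfsg.Agent.FastGrp

/-!
# S4612, `E₈`: `35 ~ 567` modulo `Φ₄` and modulo `Φ₈` (helper594)
-/

set_option autoImplicit false
set_option linter.unusedSectionVars false
set_option maxRecDepth 20000

namespace Cfsg.Agent.H594.PQ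

open Cfsg Cfsg.Agent.H967.Sph Cfsg.Agent.H64.Dl.Sph Cfsg.Agent.H996.Eight Cfsg.Agent.H996.Eight.Cert Cfsg.Agent.H996.PQ
  Cfsg.Agent.Blocks.Basic Cfsg.Agent.Blocks.Local Cfsg.Agent.H790.PQ
open CoxeterSystem Cfsg.Agent.ChevalleyStructure.CoxeterGeom Cfsg.Agent.Tits.Roots Cfsg.Agent.Tits.Core
  Cfsg.Agent.Nodes.Reps Cfsg.Agent.Nodes.BNOf Cfsg.Agent.Nodes.Bruhat Cfsg.Agent.Nodes.LeviDec
open scoped BigOperators

universe u

theorem pos35 : pPos (TabE8a.c2.nu 0) = true := by decide +kernel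

variable {W : Type*} {Y : Type u} [Group W] [Finite W] [Group Y] [Finite Y]
    {M : CoxeterMatrix (Fin 8)} {cs : CoxeterSystem M W} {h : IsCartan M TabE8c.A} {p : ℕ} {T : Subgroup Y}
    {n : Fin 8 → Y} {X : (Fin 8 → ℤ) → Subgroup Y}

/-- **`35 ~ 567` modulo `Φ₄`.** -/
theorem same_35_567_four (R : RGD cs h p T n X) (hG : GG cs h T X = ⊤) {x : ℕ} (hx : 2 ≤ x)
    (hq : ∀ i, Nat.card (X (sr i)) = x) {χ χ' : Y → ℂ} {d d' : ℕ} {a : Fin 5 → ℚ} {a' : Fin 26 → ℚ}
    (H : HasVal R hG tabP χ d a) {r : ℚ} (hr : r ≠ 0) (hf : ∀ c, a c = r * ev x (TabE8a.c2.nu c))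
    (H' : HasVal R hG TabE8c.data.t χ' d' a') (ha : ∀ c, ev x (TabE8c.data.kk c) * a' c = ev x (LinkE8.lam c))
    {l : ℕ} (hl : l.Prime) (hl2 : l ≠ 2) (hd : (l : ℤ) ∣ evZ x [1, 0, 1]) {M' : Ideal AlgInt} (hM : IsPModular l M') :
    SameBlock M' χ χ' := by
  have hN : ¬ (l : ℤ) ∣ 6 := by
    intro h6
    have h7 : l ∣ 2 * 3 := by exact_mod_cast h6
    rcases (Nat.Prime.dvd_mul hl).1 h7 with h8 | h8
    · exact hl2 ((Nat.prime_dvd_prime_iff_eq hl Nat.prime_two).1 h8)
    · have h9 := (Nat.prime_dvd_prime_iff_eq hl Nat.prime_three).1 h8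
      subst h9
      have h10 : evZ (x : ℤ) [1, 0, 1] = 1 + (x : ℤ) * x := by
        simp only [evZ]
        ring
      rw [h10] at hd
      have h11 : ((x : ℤ) % 3 = 0 ∨ (x : ℤ) % 3 = 1 ∨ (x : ℤ) % 3 = 2) := by omega
      have h12 : (1 + (x : ℤ) * x) % 3 = 0 := Int.emod_eq_zero_of_dvd (by exact_mod_cast hd)
      rcases h11 with h13 | h13 | h13 <;> · rw [Int.add_emod, Int.mul_emod, h13] at h12; norm_num at h12
  exact same_gen R hG hx hq H (fun i hi s => H739.PQ.E8L.LinkZ.Wv_st hf hi s) H' hM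
    (H739.PQ.E8L.LinkZ.k2v_ne hf hr hx) (fun c => H739.PQ.E8L.LinkZ.cong4 hf hr hx hN hd ha c)

/-- **`35 ~ 567` modulo `Φ₈`.** -/
theorem same_35_567_eight (R : RGD cs h p T n X) (hG : GG cs h T X = ⊤) {x : ℕ} (hx : 2 ≤ x)
    (hq : ∀ i, Nat.card (X (sr i)) = x) {χ χ' : Y → ℂ} {d d' : ℕ} {a : Fin 5 → ℚ} {a' : Fin 26 → ℚ}
    (H : HasVal R hG tabP χ d a) {r : ℚ} (hr : r ≠ 0) (hf : ∀ c, a c = r * ev x (TabE8a.c2.nu c))
    (H' : HasVal R hG TabE8c.data.t χ' d' a') (ha : ∀ c, ev x (TabE8c.data.kk c) * a' c = ev x (LinkE8.lam c))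
    {l : ℕ} (hl : l.Prime) (hl2 : l ≠ 2) (hd : (l : ℤ) ∣ evZ x [1, 0, 0, 0, 1]) {M' : Ideal AlgInt}
    (hM : IsPModular l M') : SameBlock M' χ χ' := by
  have hN : ¬ (l : ℤ) ∣ 2 := by
    intro h6
    have h7 : l ∣ 2 := by exact_mod_cast h6
    exact hl2 ((Nat.prime_dvd_prime_iff_eq hl Nat.prime_two).1 h7)
  exact same_gen R hG hx hq H (fun i hi s => H739.PQ.E8L.LinkZ.Wv_st hf hi s) H' hM
    (H739.PQ.E8L.LinkZ.k2v_ne hf hr hx) (fun c => H739.PQ.E8L.LinkZ.cong8 hf hr hx hN hd ha c)

end Cfsg.Agent.H594.PQ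
end

-- part: H766/PQ/Steps
section
prune_inst 0x41510710507c002000004250000005ef3bb0000200048800000a602000681240000828820b81000180200000440350068120000200000000000840000011d05810800040400010019c2000800010861000020000000000000000080000000000020c010000
set_option linter.all false
open scoped Cfsg.Agent.FastGrp

-- part: H766/PQ/Step
section
/-!
# S4612: one step of a descent (helper766)

* `PQ_sub` : `PQ p q G` passes to a subgroup `N ≤ C_G(x)` normalised by `C_G(x)`, `x` a `p`-element;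
* `PQ_sub'` : the same from a central quotient `π : G →* S` with kernel of order prime to `p` to the subgroup `N ≤ G` with
  `N ∩ ker π = 1`;
* `not_PQ_of_abelian` : no such abelian subgroup of order divisible by `q`.
-/

set_option autoImplicit false
set_option linter.unusedSectionVars false

open Cfsg Cfsg.Agent

namespace Cfsg.Agent.H766.PQ

open Cfsg.Agent.H358.A3 (PQ)

universe u v

variable {p q : ℕ} {G : Type u} [Group G] {S : Type v} [Group S]

theorem PQ_sub [Finite G] (hp : p.Prime) (hq : q.Prime) (hpq : p ≠ q) (h : PQ p q G) {x : G}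
    (hx : ∃ k : ℕ, orderOf x = p ^ k) (N : Subgroup G) (hNC : N ≤ Subgroup.centralizer ({x} : Set G))
    (hn : ∀ c ∈ Subgroup.centralizer ({x} : Set G), ∀ n ∈ N, c * n * c⁻¹ ∈ N) : PQ p q N := by
  have h1 := H358.A3.PQ.centralizer hp hq hpq h hx
  have : (N.subgroupOf (Subgroup.centralizer ({x} : Set G))).Normal := ⟨fun n hn' c => hn c c.2 n hn'⟩
  have h2 := H358.A3.PQ.normal hp hq hpq h1 (N.subgroupOf (Subgroup.centralizer ({x} : Set G)))
  exact H358.A3.PQ.of_equiv (Subgroup.subgroupOfEquivOfLe hNC) h2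

/-- the centralizer of the image of a `p`-element under a central surjection with kernel of order prime to `p` -/
theorem exists_centralizer [Finite G] {π : G →* S} (hπ : Function.Surjective π)
    (hZ : π.ker ≤ Subgroup.center G) (hZp : p.Prime) (hZ' : ¬ p ∣ Nat.card π.ker) {x : G} (hx : ∃ k : ℕ, orderOf x = p ^ k)
    {s : S} (hs : s ∈ Subgroup.centralizer ({π x} : Set S)) : ∃ g ∈ Subgroup.centralizer ({x} : Set G), π g = s := by
  obtain ⟨g, rfl⟩ := hπ s
  refine ⟨g, ?_, rfl⟩
  rw [Subgroup.mem_centralizer_singleton_iff] at hs ⊢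
  set z : G := g * x * g⁻¹ * x⁻¹ with hz
  have hzk : z ∈ π.ker := by
    rw [MonoidHom.mem_ker, hz, map_mul, map_mul, map_mul, hs, map_inv, map_inv]
    group
  have hzx : g * x * g⁻¹ = z * x := by rw [hz]; group
  obtain ⟨k, hk⟩ := hx
  have hcomm : Commute z x := ((Subgroup.mem_center_iff.1 (hZ hzk) x).symm : z * x = x * z)
  have h1 : (z * x) ^ p ^ k = 1 := by
    rw [← hzx, conj_pow, ← hk, pow_orderOf_eq_one, mul_one, mul_inv_cancel]
  have h2 : z ^ p ^ k = 1 := by
    rw [hcomm.mul_pow, ← hk, pow_orderOf_eq_one, mul_one] at h1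
    rwa [hk] at h1
  have h3 : z ^ Nat.card π.ker = 1 := by
    have := pow_card_eq_one' (x := (⟨z, hzk⟩ : π.ker))
    exact congrArg Subtype.val this
  have h4 : z = 1 := by
    have hco : Nat.Coprime (p ^ k) (Nat.card π.ker) := Nat.Coprime.pow_left k ((Nat.Prime.coprime_iff_not_dvd hZp).2 hZ')
    have h5 : orderOf z ∣ Nat.gcd (p ^ k) (Nat.card π.ker) :=
      Nat.dvd_gcd (orderOf_dvd_of_pow_eq_one h2) (orderOf_dvd_of_pow_eq_one h3)
    rw [hco, Nat.dvd_one] at h5
    exact orderOf_eq_one_iff.1 h5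
  rw [h4, one_mul] at hzx
  calc g * x = (g * x * g⁻¹) * g := by group
    _ = x * g := by rw [hzx]

theorem PQ_sub' [Finite G] (hp : p.Prime) (hq : q.Prime) (hpq : p ≠ q) {π : G →* S} (hπ : Function.Surjective π)
    (hZ : π.ker ≤ Subgroup.center G) (hZ' : ¬ p ∣ Nat.card π.ker) (h : PQ p q S) {x : G}
    (hx : ∃ k : ℕ, orderOf x = p ^ k) (N : Subgroup G) (hNC : N ≤ Subgroup.centralizer ({x} : Set G))
    (hn : ∀ c ∈ Subgroup.centralizer ({x} : Set G), ∀ n ∈ N, c * n * c⁻¹ ∈ N)
    (hN1 : ∀ n ∈ N, π n = 1 → n = 1) : PQ p q N := by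
  have : Finite S := Finite.of_surjective π hπ
  have hx' : ∃ k : ℕ, orderOf (π x) = p ^ k := by
    obtain ⟨k, hk⟩ := hx
    obtain ⟨j, -, hj⟩ := (Nat.dvd_prime_pow hp).1 (hk ▸ orderOf_map_dvd π x)
    exact ⟨j, hj⟩
  have h1 : PQ p q (N.map π) := by
    refine PQ_sub hp hq hpq h hx' (N.map π) ?_ ?_
    · rintro _ ⟨n, hn', rfl⟩
      rw [Subgroup.mem_centralizer_singleton_iff, ← map_mul, ← map_mul]
      exact congrArg π (Subgroup.mem_centralizer_singleton_iff.1 (hNC hn'))
    · rintro c hc _ ⟨n, hn', rfl⟩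
      obtain ⟨g, hg, rfl⟩ := exists_centralizer hπ hZ hp hZ' hx hc
      exact ⟨g * n * g⁻¹, hn g hg n hn', by rw [map_mul, map_mul, map_inv]⟩
  have hinj : Function.Injective (π.comp N.subtype) := by
    rw [injective_iff_map_eq_one]
    intro n hn'
    exact Subtype.ext (hN1 n n.2 hn')
  have hr : (π.comp N.subtype).range = N.map π := by
    rw [MonoidHom.range_comp, Subgroup.range_subtype]
  exact H358.A3.PQ.of_equiv ((MonoidHom.ofInjective hinj).trans (MulEquiv.subgroupCongr hr)).symm h1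

/-- an abelian subgroup centralising the `p`-element `x` and normalised by its centralizer has order prime to `q` -/
theorem not_PQ_of_abelian [Finite G] (hp : p.Prime) (hq : q.Prime) (hpq : p ≠ q) {π : G →* S}
    (hπ : Function.Surjective π) (hZ : π.ker ≤ Subgroup.center G) (hZ' : ¬ p ∣ Nat.card π.ker) {x : G}
    (hx : ∃ k : ℕ, orderOf x = p ^ k) (A : Subgroup G) (hAC : A ≤ Subgroup.centralizer ({x} : Set G))
    (hA : ∀ c ∈ Subgroup.centralizer ({x} : Set G), ∀ a ∈ A, c * a * c⁻¹ ∈ A) (hcomm : ∀ a ∈ A, ∀ b ∈ A, a * b = b * a)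
    (hqA : ∃ a ∈ A, (∃ k : ℕ, orderOf a = q ^ k) ∧ π a ≠ 1) : ¬ PQ p q S := by
  intro h
  have hfin : Finite S := Finite.of_surjective π hπ
  have hx' : ∃ k : ℕ, orderOf (π x) = p ^ k := by
    obtain ⟨k, hk⟩ := hx
    obtain ⟨j, -, hj⟩ := (Nat.dvd_prime_pow hp).1 (hk ▸ orderOf_map_dvd π x)
    exact ⟨j, hj⟩
  have h1 := H358.A3.PQ.centralizer hp hq hpq h hx'
  -- the `q`-elements of `A`
  let Aq : Subgroup G :=
    { carrier := {a | a ∈ A ∧ ∃ k : ℕ, a ^ q ^ k = 1}
      one_mem' := ⟨A.one_mem, 0, one_pow _⟩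
      mul_mem' := by
        rintro a b ⟨ha, k, hk⟩ ⟨hb, l, hl⟩
        refine ⟨A.mul_mem ha hb, k + l, ?_⟩
        have hab : Commute a b := hcomm a ha b hb
        rw [hab.mul_pow, pow_add, pow_mul, hk, one_pow, one_mul, mul_comm, pow_mul, hl, one_pow]
      inv_mem' := by
        rintro a ⟨ha, k, hk⟩
        exact ⟨A.inv_mem ha, k, by rw [inv_pow, hk, inv_one]⟩ }
  have hle : Aq.map π ≤ Subgroup.centralizer ({π x} : Set S) := by
    rintro _ ⟨a, ha, rfl⟩
    rw [Subgroup.mem_centralizer_singleton_iff, ← map_mul, ← map_mul]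
    exact congrArg π (Subgroup.mem_centralizer_singleton_iff.1 (hAC ha.1))
  let N : Subgroup (Subgroup.centralizer ({π x} : Set S)) := (Aq.map π).subgroupOf _
  have hN : N.Normal := by
    refine ⟨?_⟩
    rintro ⟨_, hn⟩ ⟨a, ha, rfl⟩ c
    obtain ⟨g, hg, hgc⟩ := exists_centralizer hπ hZ hp hZ' hx c.2
    refine ⟨g * a * g⁻¹, ⟨hA g hg a ha.1, ?_⟩, ?_⟩
    · obtain ⟨k, hk⟩ := ha.2
      exact ⟨k, by rw [conj_pow, hk, mul_one, mul_inv_cancel]⟩
    · rw [map_mul, map_mul, map_inv, hgc]
      rfl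
  have hNq : IsPGroup q N := by
    rintro ⟨⟨s, hs⟩, hs'⟩
    obtain ⟨a, ha, hπa⟩ := hs'
    obtain ⟨k, hk⟩ := ha.2
    refine ⟨k, Subtype.ext (Subtype.ext ?_)⟩
    change s ^ q ^ k = 1
    have hs2 : π a = s := hπa
    rw [← hs2, ← map_pow, hk, map_one]
  have hfq : Fact q.Prime := ⟨hq⟩
  obtain ⟨m, hm⟩ := IsPGroup.iff_card.1 hNq
  have h2 : ¬ p ∣ Nat.card N := by
    rw [hm]
    intro h3
    exact hpq ((Nat.prime_dvd_prime_iff_eq hp hq).1 (hp.dvd_of_dvd_pow h3))
  have h3 := H358.A3.PQ.core hp hq hpq h1 N h2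
  apply h3
  obtain ⟨a, haA, ⟨k, hk⟩, hπa⟩ := hqA
  have hm0 : m ≠ 0 := by
    rintro rfl
    rw [pow_zero] at hm
    have ha : a ∈ Aq := ⟨haA, k, by rw [← hk, pow_orderOf_eq_one]⟩
    have h4 : (⟨⟨π a, hle ⟨a, ha, rfl⟩⟩, ⟨a, ha, rfl⟩⟩ : N) = 1 := by
      have := (Nat.card_eq_one_iff_unique.1 hm).1
      exact Subsingleton.elim _ _
    exact hπa (congrArg Subtype.val (congrArg Subtype.val h4))
  rw [hm]
  exact dvd_pow_self q hm0

end Cfsg.Agent.H766.PQ
end

-- part: H766/PQ/Desc
section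
/-!
# S4612: descent in the isometry groups (helper766)

`F : CForm K V` a non-degenerate form, `x ∈ F.iso` an element of order prime to the characteristic.

* `fixS`, `split` : `V = C_V(x) ⊥ C_V(x)ᗮ`; `Spl F W` : `V = W ⊥ Wᗮ`;
* `CForm.res` : the restriction of the form to `W`, `ext : (F.res h).iso →* F.iso`;
* `descend` : `PQ p q (commutator F.iso) → PQ p q (commutator (F.res h).iso)`, `W = C_V(x)`, `x` a `p`-element of
  `commutator F.iso`; `descend'` : the same starting from a central quotient of `commutator F.iso`.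
-/

set_option autoImplicit false
set_option linter.unusedSectionVars false

open Cfsg Cfsg.Agent

namespace Cfsg.Agent.H766.PQ

open Cfsg.Agent.H358.A3 (PQ)
open Cfsg.Agent.H477.HC Module

universe u v w

variable {K : Type u} [Field K] {V : Type v} [AddCommGroup V] [Module K V] (F : CForm K V)

/-- `V = W + Wᗮ` -/
def Spl (W : Submodule K V) : Prop := ∀ v : V, ∃ w ∈ W, ∃ u ∈ F.perp W, v = w + u

variable {F}

theorem Spl.inf {W : Submodule K V} (h : Spl F W) {w : V} (hw : w ∈ W) (hw' : w ∈ F.perp W) : w = 0 := by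
  refine F.nondeg w fun v => ?_
  obtain ⟨w', hw1, u, hu, rfl⟩ := h v
  rw [F.B_add_right, hw' w' hw1, F.B_eq_zero (hu w hw), add_zero]

theorem Spl.isCompl {W : Submodule K V} (h : Spl F W) : IsCompl W (F.perp W) := by
  refine IsCompl.of_eq ?_ ?_
  · rw [eq_bot_iff]
    rintro w ⟨hw, hw'⟩
    exact h.inf hw hw'
  · rw [eq_top_iff]
    rintro v -
    obtain ⟨w, hw, u, hu, rfl⟩ := h v
    exact Submodule.add_mem_sup hw hu

theorem Spl.perp {W : Submodule K V} (h : Spl F W) : Spl F (F.perp W) := by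
  intro v
  obtain ⟨w, hw, u, hu, rfl⟩ := h v
  exact ⟨u, hu, w, fun y hy => F.B_eq_zero (hy w hw), add_comm _ _⟩

/-- the restriction of the form -/
def CForm.res (F : CForm K V) {W : Submodule K V} (h : Spl F W) : CForm K W where
  σ := F.σ
  σσ := F.σσ
  ε := F.ε
  hε := F.hε
  B := fun u v => F.B u v
  B_add_left := fun u v w => F.B_add_left u v w
  B_smul_left := fun a u v => F.B_smul_left a u v
  B_symm := fun u v => F.B_symm u v
  Q := fun u => F.Q u
  T := F.T
  T_add := F.T_add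
  T_symm := F.T_symm
  Q_add := fun u v => F.Q_add u v
  Q_smul := fun a u => F.Q_smul a u
  Q_range := fun b => F.Q_range b
  alt := fun v hv => F.alt v hv
  nondeg := by
    intro w hw
    apply Subtype.ext
    refine F.nondeg w fun v => ?_
    obtain ⟨w', hw', u, hu, rfl⟩ := h v
    rw [F.B_add_right, hw ⟨w', hw'⟩, F.B_eq_zero (hu w w.2), add_zero]

section ext

variable {W : Submodule K V} (h : Spl F W)

/-- the decomposition -/
noncomputable def dec : (W × F.perp W) ≃ₗ[K] V := Submodule.prodEquivOfIsCompl _ _ h.isCompl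

theorem dec_apply (x : W × F.perp W) : dec h x = x.1 + x.2 := rfl

/-- `g ⊕ 1` -/
noncomputable def ext0 (g : W ≃ₗ[K] W) : V ≃ₗ[K] V :=
  (dec h).symm.trans ((g.prodCongr (LinearEquiv.refl K (F.perp W))).trans (dec h))

theorem ext0_left (g : W ≃ₗ[K] W) (w : W) : ext0 h g w = g w := by
  have h1 : (dec h).symm (w : V) = (w, 0) := by
    rw [LinearEquiv.symm_apply_eq, dec_apply]
    simp
  unfold ext0
  rw [LinearEquiv.trans_apply, LinearEquiv.trans_apply, h1, dec_apply]
  simp only [_root_.LinearEquiv.prodCongr_apply, _root_.LinearEquiv.refl_apply, _root_.ZeroMemClass.coe_zero, _root_.add_zero]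

theorem ext0_right (g : W ≃ₗ[K] W) {u : V} (hu : u ∈ F.perp W) : ext0 h g u = u := by
  have h1 : (dec h).symm u = (0, ⟨u, hu⟩) := by
    rw [LinearEquiv.symm_apply_eq, dec_apply]
    simp
  unfold ext0
  rw [LinearEquiv.trans_apply, LinearEquiv.trans_apply, h1, dec_apply]
  simp

/-- `g ⊕ 1` -/
noncomputable def ext : (CForm.res F h).iso →* F.iso where
  toFun g := ⟨ext0 h g.1, by
    have hB : ∀ u v : W, F.B (g.1 u) (g.1 v) = F.B u v := fun u v => g.2.1 u v
    have hQ : ∀ u : W, F.Q (g.1 u) = F.Q u := fun u => g.2.2 u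
    refine ⟨fun a b => ?_, fun a => ?_⟩
    · obtain ⟨w, hw, u, hu, rfl⟩ := h a
      obtain ⟨w', hw', u', hu', rfl⟩ := h b
      have e1 := ext0_left h g.1 ⟨w, hw⟩
      have e2 := ext0_left h g.1 ⟨w', hw'⟩
      simp only at e1 e2
      rw [map_add, map_add, e1, e2, ext0_right h g.1 hu, ext0_right h g.1 hu', F.B_add_left, F.B_add_left,
        F.B_add_right, F.B_add_right, F.B_add_right, F.B_add_right, hB, hu' |> fun _ => F.B_eq_zero (hu' _ (g.1 ⟨w, hw⟩).2),
        hu _ (g.1 ⟨w', hw'⟩).2, F.B_eq_zero (hu' w hw), hu w' hw']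
    · obtain ⟨w, hw, u, hu, rfl⟩ := h a
      have e1 := ext0_left h g.1 ⟨w, hw⟩
      simp only at e1
      rw [map_add, e1, ext0_right h g.1 hu, F.Q_add, F.Q_add, hQ, F.B_eq_zero (hu _ (g.1 ⟨w, hw⟩).2),
        F.B_eq_zero (hu w hw)]⟩
  map_one' := by
    apply Subtype.ext
    apply LinearEquiv.ext
    intro a
    change ext0 h 1 a = a
    obtain ⟨w, hw, u, hu, rfl⟩ := h a
    have e1 := ext0_left h 1 ⟨w, hw⟩
    rw [map_add, ext0_right h _ hu]
    exact congrArg (· + u) e1
  map_mul' := by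
    intro g g'
    apply Subtype.ext
    apply LinearEquiv.ext
    intro a
    change ext0 h (g.1 * g'.1) a = ext0 h g.1 (ext0 h g'.1 a)
    obtain ⟨w, hw, u, hu, rfl⟩ := h a
    have e1 := ext0_left h (g.1 * g'.1) ⟨w, hw⟩
    have e2 := ext0_left h g'.1 ⟨w, hw⟩
    simp only at e1 e2
    rw [map_add, map_add, map_add, ext0_right h _ hu, ext0_right h _ hu, ext0_right h _ hu, e1, e2, ext0_left]
    rfl

theorem ext_left (g : (CForm.res F h).iso) (w : W) : ((ext h g : F.iso) : V ≃ₗ[K] V) w = ((g : W ≃ₗ[K] W) w : V) :=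
  ext0_left h g.1 w

theorem ext_right (g : (CForm.res F h).iso) {u : V} (hu : u ∈ F.perp W) :
    ((ext h g : F.iso) : V ≃ₗ[K] V) u = u := ext0_right h g.1 hu

theorem ext_injective : Function.Injective (ext h) := by
  rw [injective_iff_map_eq_one]
  intro g hg
  apply Subtype.ext
  apply LinearEquiv.ext
  intro w
  apply Subtype.ext
  rw [← ext_left h g w, hg]
  rfl

/-- conjugation by an isometry preserving `W` -/
theorem conj_ext [FiniteDimensional K V] {c : F.iso} (hc : ∀ w ∈ W, (c : V ≃ₗ[K] V) w ∈ W) :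
    ∃ φ : (CForm.res F h).iso ≃* (CForm.res F h).iso, ∀ g, c * ext h g * c⁻¹ = ext h (φ g) := by
  have key : ∀ (d : F.iso), (∀ w ∈ W, (d : V ≃ₗ[K] V) w ∈ W) → ∃ d' : (CForm.res F h).iso, ∀ w : W,
      ((d' : W ≃ₗ[K] W) w : V) = (d : V ≃ₗ[K] V) w := by
    intro d hd
    obtain ⟨g', hg'⟩ := (CForm.res F h).exists_iso (((d : V ≃ₗ[K] V) : V →ₗ[K] V).restrict hd)
      (fun u v => F.iso_B d u v) (fun u => F.iso_Q d u)
    exact ⟨g', fun w => by rw [hg']; rfl⟩
  have hob_ := key c hc
  obtain ⟨d, hd⟩ := hob_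
  have hcc : ∀ v, (c : V ≃ₗ[K] V) (((c⁻¹ : F.iso) : V ≃ₗ[K] V) v) = v := fun v =>
    LinearEquiv.apply_symm_apply (c : V ≃ₗ[K] V) v
  have hperp : ∀ u ∈ F.perp W, ((c⁻¹ : F.iso) : V ≃ₗ[K] V) u ∈ F.perp W := by
    intro u hu w hw
    rw [← F.iso_B c, hcc]
    exact hu _ (hc w hw)
  refine ⟨MulAut.conj d, fun g => ?_⟩
  apply Subtype.ext
  apply LinearEquiv.ext
  intro a
  have hob_ := h a
  obtain ⟨w, hw, u, hu, rfl⟩ := hob_
  simp only [map_add, map_add]
  congr 1
  · have e1 : ((c⁻¹ : F.iso) : V ≃ₗ[K] V) w = ((((d⁻¹ : (CForm.res F h).iso) : W ≃ₗ[K] W) ⟨w, hw⟩ : W) : V) := by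
      apply (c : V ≃ₗ[K] V).injective
      rw [hcc, ← hd]
      have : (d : W ≃ₗ[K] W) (((d⁻¹ : (CForm.res F h).iso) : W ≃ₗ[K] W) ⟨w, hw⟩) = ⟨w, hw⟩ :=
        LinearEquiv.apply_symm_apply (d : W ≃ₗ[K] W) _
      rw [this]
    change (c : V ≃ₗ[K] V) (((ext h g : F.iso) : V ≃ₗ[K] V) (((c⁻¹ : F.iso) : V ≃ₗ[K] V) w)) = _
    simp only [e1, ext_left, ← hd]
    have e2 := ext_left h (MulAut.conj d g) ⟨w, hw⟩
    rw [e2]
    rfl
  · change (c : V ≃ₗ[K] V) (((ext h g : F.iso) : V ≃ₗ[K] V) (((c⁻¹ : F.iso) : V ≃ₗ[K] V) u)) = _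
    simp only [ext_right h g (hperp u hu), hcc, ext_right h _ hu]

end ext

/-! ### The fixed space of an element of order prime to the characteristic -/

/-- the fixed space -/
def fixS (x : V ≃ₗ[K] V) : Submodule K V := LinearMap.ker ((x : V →ₗ[K] V) - 1)

theorem mem_fixS {x : V ≃ₗ[K] V} {v : V} : v ∈ fixS x ↔ x v = v := by
  unfold fixS
  rw [LinearMap.mem_ker, LinearMap.sub_apply, sub_eq_zero]
  rfl

theorem fixS_pow {x : V ≃ₗ[K] V} {v : V} (hv : v ∈ fixS x) (i : ℕ) : (x ^ i) v = v := by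
  induction i with
  | zero => rfl
  | succ i ih => rw [pow_succ, LinearEquiv.mul_apply, mem_fixS.1 hv, ih]

/-- the centralizer preserves the fixed space -/
theorem centralizer_fixS {x c : F.iso} (hc : c * x = x * c) {w : V} (hw : w ∈ fixS (x : V ≃ₗ[K] V)) :
    (c : V ≃ₗ[K] V) w ∈ fixS (x : V ≃ₗ[K] V) := by
  rw [mem_fixS] at hw ⊢
  have h1 : ((c * x : F.iso) : V ≃ₗ[K] V) w = ((x * c : F.iso) : V ≃ₗ[K] V) w := by rw [hc]
  change (c : V ≃ₗ[K] V) ((x : V ≃ₗ[K] V) w) = (x : V ≃ₗ[K] V) ((c : V ≃ₗ[K] V) w) at h1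
  rw [hw] at h1
  exact h1.symm

/-- the image of `ext` centralises `x` if `W` is the fixed space of `x` -/
theorem ext_comm {x : F.iso} (h : Spl F (fixS (x : V ≃ₗ[K] V))) (g : (CForm.res F h).iso) :
    ext h g * x = x * ext h g := by
  apply Subtype.ext
  apply LinearEquiv.ext
  intro a
  have hob_ := h a
  obtain ⟨w, hw, u, hu, rfl⟩ := hob_
  have hxu : (x : V ≃ₗ[K] V) u ∈ F.perp (fixS (x : V ≃ₗ[K] V)) := by
    intro w' hw'
    have h1 := F.iso_B x u w'
    rw [mem_fixS.1 hw'] at h1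
    rw [h1]
    exact hu w' hw'
  change ((ext h g : F.iso) : V ≃ₗ[K] V) ((x : V ≃ₗ[K] V) (w + u)) = (x : V ≃ₗ[K] V) (((ext h g : F.iso) : V ≃ₗ[K] V) (w + u))
  have e1 := ext_left h g ⟨w, hw⟩
  simp only at e1
  have e2 : (x : V ≃ₗ[K] V) ((g.1 ⟨w, hw⟩ : fixS (x : V ≃ₗ[K] V)) : V) = (g.1 ⟨w, hw⟩ : fixS (x : V ≃ₗ[K] V)) :=
    mem_fixS.1 (g.1 ⟨w, hw⟩).2
  have key : ∀ (A X : V ≃ₗ[K] V) (w' : V), X w = w → A (X u) = X u → A u = u → A w = w' → X w' = w' →
      A (X (w + u)) = X (A (w + u)) := by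
    intro A X w' h1 h2 h3 h4 h5
    rw [map_add, map_add, map_add, map_add, h1, h2, h3, h4, h5]
  exact key _ _ _ (mem_fixS.1 hw) (ext_right h g hxu) (ext_right h g hu) e1 e2

section main

variable {W : Submodule K V}

/-- the image of the commutator subgroup of the isometry group of `W` -/
noncomputable def img (h : Spl F W) : Subgroup F.iso := (commutator (CForm.res F h).iso).map (ext h)

theorem img_le (h : Spl F W) : img h ≤ commutator F.iso := by
  unfold img
  rw [commutator_def, Subgroup.map_commutator]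
  exact Subgroup.commutator_mono le_top le_top

noncomputable def imgEquiv (h : Spl F W) : ↥(img h) ≃* ↥(commutator (CForm.res F h).iso) :=
  (Subgroup.equivMapOfInjective _ (ext h) (ext_injective h)).symm

theorem img_conj [FiniteDimensional K V] {x : F.iso} (h : Spl F (fixS (x : V ≃ₗ[K] V))) {c n : F.iso} (hc : c * x = x * c)
    (hn : n ∈ img h) : c * n * c⁻¹ ∈ img h := by
  obtain ⟨φ, hφ⟩ := conj_ext h (c := c) (fun w hw => centralizer_fixS hc hw)
  obtain ⟨g, hg, rfl⟩ := hn
  rw [hφ]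
  refine ⟨φ g, ?_, rfl⟩
  have hch : (commutator (CForm.res F h).iso).Characteristic := inferInstance
  have h1 := hch.fixed φ
  rw [← h1] at hg
  exact hg

/-- **Descent**, from a central quotient of the commutator subgroup. -/
theorem descend' [FiniteDimensional K V] [Finite F.iso] {p q : ℕ} (hp : p.Prime) (hq : q.Prime) (hpq : p ≠ q)
    {S : Type w} [Group S] {π : ↥(commutator F.iso) →* S} (hπ : Function.Surjective π)
    (hZ : π.ker ≤ Subgroup.center ↥(commutator F.iso)) (hZ' : ¬ p ∣ Nat.card π.ker)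
    (hsc : ∀ z ∈ π.ker, ∃ a : K, ∀ v : V, ((z : F.iso) : V ≃ₗ[K] V) v = a • v)
    (h0 : PQ p q S) {x : F.iso} (hxD : x ∈ commutator F.iso) (hx1 : x ≠ 1) (hx : ∃ k : ℕ, orderOf x = p ^ k)
    (h : Spl F (fixS (x : V ≃ₗ[K] V))) : PQ p q ↥(commutator (CForm.res F h).iso) := by
  let N : Subgroup ↥(commutator F.iso) := (img h).subgroupOf (commutator F.iso)
  have e : ↥N ≃* ↥(img h) := Subgroup.subgroupOfEquivOfLe (img_le h)
  have hx' : ∃ k : ℕ, orderOf (⟨x, hxD⟩ : ↥(commutator F.iso)) = p ^ k := by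
    obtain ⟨k, hk⟩ := hx
    exact ⟨k, by rw [Subgroup.orderOf_mk]; exact hk⟩
  refine H358.A3.PQ.of_equiv (e.trans (imgEquiv h)) ?_
  refine PQ_sub' hp hq hpq hπ hZ hZ' h0 hx' N ?_ ?_ ?_
  · rintro n hn
    rw [Subgroup.mem_centralizer_singleton_iff]
    have hob_ := (hn : (n : F.iso) ∈ img h)
    obtain ⟨g, -, hg⟩ := hob_
    have hg' : (n : F.iso) = ext h g := hg.symm
    apply Subtype.ext
    change (n : F.iso) * x = x * n
    rw [hg']
    exact ext_comm h g
  · intro c hc n hn
    rw [Subgroup.mem_centralizer_singleton_iff] at hc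
    exact img_conj h (congrArg Subtype.val hc) hn
  · intro n hn hn1
    obtain ⟨a, ha⟩ := hsc n hn1
    obtain ⟨g, -, hg⟩ := (hn : (n : F.iso) ∈ img h)
    -- a non-zero vector of the orthogonal space
    obtain ⟨u, hu, hu0⟩ : ∃ u ∈ F.perp (fixS (x : V ≃ₗ[K] V)), u ≠ 0 := by
      by_contra hno
      push Not at hno
      apply hx1
      apply Subtype.ext
      apply LinearEquiv.ext
      intro v
      obtain ⟨w, hw, u, hu, rfl⟩ := h v
      rw [hno u hu, add_zero, mem_fixS.1 hw]
      rfl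
    have hg' : (n : F.iso) = ext h g := hg.symm
    have h1 := ha u
    rw [hg', ext_right h g hu] at h1
    have ha1 : a = 1 := by
      by_contra hne
      apply hu0
      have h2 : (a - 1) • u = 0 := by rw [sub_smul, one_smul, ← h1, sub_self]
      exact (smul_eq_zero.1 h2).resolve_left (sub_ne_zero.2 hne)
    apply Subtype.ext
    apply Subtype.ext
    apply LinearEquiv.ext
    intro v
    rw [ha v, ha1, one_smul]
    rfl

end main

end Cfsg.Agent.H766.PQ
end

-- part: H766/PQ/Cen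
section
/-!
# S4612: elements of `p`-power order in the algebra generated by an element of order `q` (helper766)

`F : CForm K V`, `x ∈ F.iso` of order `q`, `N` a power of the characteristic with `a ^ N = σ a` on `K`, `q ∣ N + 1`:
the adjoint of `r ∈ K[x]` is `r ^ N`.  If `p ^ k ∣ N + 1` and `q ∣ |K|^j - 1 → p ^ k ∣ |K|^j - 1`, there is
`a ∈ F.iso ∩ K[x]` of order `p ^ k`, trivial on the fixed space of `x` (`exists_cen`).
-/

set_option autoImplicit false
set_option linter.unusedSectionVars false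

open Cfsg Cfsg.Agent

namespace Cfsg.Agent.H766.PQ

open Cfsg.Agent.H477.HC Module Polynomial

universe u v w

variable {K : Type u} [Field K] {V : Type v} [AddCommGroup V] [Module K V] {F : CForm K V}

section alg

variable (f : V →ₗ[K] V)

/-- the algebra `K[f]` -/
abbrev Alg : Type u := K[X] ⧸ RingHom.ker (aeval f : K[X] →ₐ[K] Module.End K V).toRingHom

/-- the action -/
noncomputable def act : Alg f →+* Module.End K V := RingHom.kerLift (aeval f : K[X] →ₐ[K] Module.End K V).toRingHom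

theorem act_injective : Function.Injective (act f) := RingHom.kerLift_injective _

theorem act_mk (g : K[X]) : act f (Ideal.Quotient.mk _ g) = aeval f g := rfl

theorem comm_act {c : V →ₗ[K] V} (hc : ∀ v, c (f v) = f (c v)) (r : Alg f) (v : V) : c (act f r v) = act f r (c v) := by
  obtain ⟨g, rfl⟩ := Ideal.Quotient.mk_surjective r
  rw [act_mk]
  have h1 : Commute (c : Module.End K V) f := LinearMap.ext hc
  have h2 : ∀ g : K[X], Commute (c : Module.End K V) (aeval f g) := by
    intro g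
    induction g using Polynomial.induction_on' with
    | add a b ha hb => rw [map_add]; exact ha.add_right hb
    | monomial n a =>
      rw [aeval_monomial]
      exact (show Commute (c : Module.End K V) (algebraMap K _ a) from (Algebra.commutes a (c : Module.End K V)).symm).mul_right
        (h1.pow_right n)
  exact LinearMap.congr_fun (h2 g) v

end alg

section main

variable {x : F.iso} {r t N q : ℕ}

/-- the linear map of `x` -/
def lin (x : F.iso) : V →ₗ[K] V := ((x : V ≃ₗ[K] V) : V →ₗ[K] V)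

theorem lin_pow (x : F.iso) (n : ℕ) (v : V) : (lin x ^ n) v = ((x ^ n : F.iso) : V ≃ₗ[K] V) v := by
  induction n generalizing v with
  | zero => rfl
  | succ n ih =>
    rw [pow_succ, Module.End.mul_apply, ih, pow_succ]
    rfl

theorem lin_pow_eq_one {n : ℕ} (h : x ^ n = 1) : lin x ^ n = 1 := by
  ext v
  rw [lin_pow, h]
  rfl

/-- **The adjoint of `r ∈ K[x]` is `r ^ N`.** -/
theorem B_act [Fact r.Prime] [CharP K r] (hN : N = r ^ t) (hσ : ∀ a : K, a ^ N = F.σ a) (hq : q ∣ N + 1) (hx : x ^ q = 1)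
    (y : Alg (lin x)) (u v : V) : F.B (act _ y u) v = F.B u (act _ (y ^ N) v) := by
  obtain ⟨g, rfl⟩ := Ideal.Quotient.mk_surjective y
  have hxN : x ^ (N + 1) = 1 := by
    obtain ⟨c, hc⟩ := hq
    rw [hc, pow_mul, hx, one_pow]
  rw [← map_pow, act_mk, act_mk]
  induction g using Polynomial.induction_on' generalizing u v with
  | add a b ha hb =>
    have h1 : (a + b) ^ N = a ^ N + b ^ N := by
      rw [hN]
      exact add_pow_char_pow a b r t
    rw [h1, map_add, map_add, LinearMap.add_apply, LinearMap.add_apply, F.B_add_left, F.B_add_right, ha, hb]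
  | monomial n a =>
    have h0 : (monomial n a : K[X]) ^ N = monomial (n * N) (F.σ a) := by
      rw [monomial_pow, hσ]
    rw [h0, aeval_monomial, aeval_monomial, Module.End.mul_apply, Module.End.mul_apply, Module.algebraMap_end_apply,
      Module.algebraMap_end_apply, F.B_smul_left, F.B_smul_right, F.σσ, lin_pow, lin_pow]
    congr 1
    rw [← F.iso_B (x ^ (n * N))]
    have h2 : x ^ (n * N) * x ^ n = 1 := by
      rw [← pow_add, ← Nat.mul_succ, mul_comm, pow_mul, hxN, one_pow]
    have h3 : ((x ^ (n * N) : F.iso) : V ≃ₗ[K] V) (((x ^ n : F.iso) : V ≃ₗ[K] V) u) = u := by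
      have h4 : ((x ^ (n * N) * x ^ n : F.iso) : V ≃ₗ[K] V) u = u := by rw [h2]; rfl
      exact h4
    rw [h3]

/-- the generator -/
noncomputable def gen (x : F.iso) : Alg (lin x) := Ideal.Quotient.mk _ X

theorem act_gen (x : F.iso) : act _ (gen x) = lin x := by
  unfold gen
  rw [act_mk, aeval_X]

theorem gen_pow_eq_one {n : ℕ} (h : x ^ n = 1) : gen x ^ n = 1 := by
  apply act_injective
  rw [map_pow, act_gen, lin_pow_eq_one h, map_one]

/-- every element of `K[x]` is fixed by `y ↦ y ^ N ^ 2` -/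
theorem pow_sq [Fact r.Prime] [CharP K r] (hN : N = r ^ t) (hσ : ∀ a : K, a ^ N = F.σ a) (hq : q ∣ N + 1) (hx : x ^ q = 1)
    (y : Alg (lin x)) : y ^ (N ^ 2) = y := by
  have hxN : gen x ^ (N ^ 2) = gen x := by
    obtain ⟨c, hc⟩ := hq
    have h1 : N ^ 2 = q * (c * (N - 1)) + 1 := by
      have hN1 : 1 ≤ N := by
        rw [hN]
        exact Nat.one_le_pow _ _ (Fact.out : r.Prime).pos
      have h2 : (N + 1) * (N - 1) + 1 = N ^ 2 := by
        obtain ⟨M, rfl⟩ := Nat.exists_eq_add_of_le hN1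
        simp only [Nat.add_sub_cancel_left]
        ring
      rw [← h2, hc]
      ring
    rw [h1, pow_succ, pow_mul, gen_pow_eq_one hx, one_pow, one_mul]
  have hK : ∀ a : K, a ^ (N ^ 2) = a := fun a => by rw [sq, pow_mul, hσ, hσ, F.σσ]
  obtain ⟨g, rfl⟩ := Ideal.Quotient.mk_surjective y
  induction g using Polynomial.induction_on' with
  | add a b ha hb =>
    have h1 : (Ideal.Quotient.mk _ (a + b) : Alg (lin x)) ^ (N ^ 2) = Ideal.Quotient.mk _ a ^ (N ^ 2) +
        Ideal.Quotient.mk _ b ^ (N ^ 2) := by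
      rw [← map_pow, ← map_pow, ← map_pow, ← map_add, hN, ← pow_mul]
      congr 1
      exact add_pow_char_pow a b r _
    rw [h1, ha, hb, map_add]
  | monomial n a =>
    have h2 : (Ideal.Quotient.mk (RingHom.ker (aeval (lin x) : K[X] →ₐ[K] Module.End K V).toRingHom) (monomial n a) :
        Alg (lin x)) = algebraMap K _ a * gen x ^ n := by
      unfold gen
      rw [← C_mul_X_pow_eq_monomial, map_mul, map_pow]
      rfl
    rw [h2, mul_pow, ← map_pow, hK, ← pow_mul, mul_comm n, pow_mul, hxN]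

/-- the idempotent of the fixed space -/
noncomputable def e0 (q : ℕ) (x : F.iso) : Alg (lin x) := (q : K)⁻¹ • ∑ i ∈ Finset.range q, gen x ^ i

theorem gen_mul_e0 (hx : x ^ q = 1) : gen x * e0 q x = e0 q x := by
  unfold e0
  rw [mul_smul_comm, Finset.mul_sum]
  congr 1
  have h2 := Finset.sum_range_succ' (fun i => gen x ^ i) q
  have h3 := Finset.sum_range_succ (fun i => gen x ^ i) q
  rw [h3, gen_pow_eq_one hx, pow_zero] at h2
  rw [add_right_cancel h2]
  exact Finset.sum_congr rfl fun i _ => (pow_succ' _ _).symm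

theorem gen_pow_mul_e0 (hx : x ^ q = 1) (i : ℕ) : gen x ^ i * e0 q x = e0 q x := by
  induction i with
  | zero => rw [pow_zero, one_mul]
  | succ i ih => rw [pow_succ, mul_assoc, gen_mul_e0 hx, ih]

theorem e0_mul_e0 (hq0 : (q : K) ≠ 0) (hx : x ^ q = 1) : e0 q x * e0 q x = e0 q x := by
  have h1 : e0 q x * e0 q x = (q : K)⁻¹ • ((∑ i ∈ Finset.range q, gen x ^ i) * e0 q x) := by
    rw [← smul_mul_assoc]
    rfl
  rw [h1, Finset.sum_mul, Finset.sum_congr rfl fun i _ => gen_pow_mul_e0 hx i, Finset.sum_const, Finset.card_range,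
    ← Nat.cast_smul_eq_nsmul K, smul_smul, inv_mul_cancel₀ hq0, one_smul]

theorem act_smul (a : K) (y : Alg (lin x)) : act _ (a • y) = a • act _ y := by
  obtain ⟨g, rfl⟩ := Ideal.Quotient.mk_surjective y
  have h : a • (Ideal.Quotient.mk (RingHom.ker (aeval (lin x) : K[X] →ₐ[K] Module.End K V).toRingHom) g) =
    Ideal.Quotient.mk _ (a • g) := rfl
  rw [h, act_mk, act_mk, map_smul]

theorem act_e0_mem (hx : x ^ q = 1) (v : V) : act _ (e0 q x) v ∈ fixS (x : V ≃ₗ[K] V) := by
  rw [mem_fixS]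
  have h1 := congrArg (act (lin x)) (gen_mul_e0 hx)
  rw [map_mul, act_gen] at h1
  exact LinearMap.congr_fun h1 v

theorem act_e0_fix (hq0 : (q : K) ≠ 0) {v : V} (hv : v ∈ fixS (x : V ≃ₗ[K] V)) : act _ (e0 q x) v = v := by
  unfold e0
  rw [act_smul, map_sum, LinearMap.smul_apply, LinearMap.sum_apply]
  have h1 : ∀ i ∈ Finset.range q, (act (lin x) (gen x ^ i)) v = v := by
    intro i _
    rw [map_pow, act_gen, lin_pow]
    exact fixS_pow hv i
  rw [Finset.sum_congr rfl h1, Finset.sum_const, Finset.card_range, ← Nat.cast_smul_eq_nsmul K, smul_smul,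
    inv_mul_cancel₀ hq0, one_smul]

theorem finite_alg [Finite V] : Finite (Alg (lin x)) := by
  have : Finite (Module.End K V) := Finite.of_injective (fun f : Module.End K V => (f : V → V)) DFunLike.coe_injective
  exact Finite.of_injective _ (act_injective (lin x))

/-- an element of `K[x]` with `a * a ^ N = 1` and `a e₀ = e₀` is an isometry -/
theorem exists_isom [FiniteDimensional K V] [Fact r.Prime] [CharP K r] (hN : N = r ^ t) (hσ : ∀ a : K, a ^ N = F.σ a)
    (hq : q ∣ N + 1) (hq0 : (q : K) ≠ 0) (hx : x ^ q = 1) {a : Alg (lin x)} (ha : a ^ (N + 1) = 1)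
    (hae : a * e0 q x = e0 q x) : ∃ g : F.iso, ∀ v, (g : V ≃ₗ[K] V) v = act _ a v := by
  have hB : ∀ u v, F.B (act _ a u) (act _ a v) = F.B u v := by
    intro u v
    rw [B_act hN hσ hq hx, ← Module.End.mul_apply, ← map_mul, ← pow_succ, ha, map_one]
    rfl
  have hfix : ∀ v ∈ fixS (x : V ≃ₗ[K] V), act _ a v = v := by
    intro v hv
    rw [← act_e0_fix hq0 hv, ← Module.End.mul_apply, ← map_mul, hae]
  have hcomm : ∀ v, act _ a ((x : V ≃ₗ[K] V) v) = (x : V ≃ₗ[K] V) (act _ a v) := fun v =>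
    (comm_act (lin x) (c := lin x) (fun _ => rfl) a v).symm
  have hδ : ∀ u v, F.Q (act _ a (u + v)) - F.Q (u + v) = (F.Q (act _ a u) - F.Q u) + (F.Q (act _ a v) - F.Q v) := by
    intro u v
    rw [map_add, F.Q_add, F.Q_add, hB]
    ring
  have hδx : ∀ v, F.Q (act _ a ((x : V ≃ₗ[K] V) v)) - F.Q ((x : V ≃ₗ[K] V) v) = F.Q (act _ a v) - F.Q v := by
    intro v
    rw [hcomm, F.iso_Q, F.iso_Q]
  have hδi : ∀ (i : ℕ) (v : V), F.Q (act _ a ((lin x ^ i) v)) - F.Q ((lin x ^ i) v) = F.Q (act _ a v) - F.Q v := by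
    intro i
    induction i with
    | zero => intro v; rfl
    | succ i ih =>
      intro v
      rw [pow_succ, Module.End.mul_apply, ih]
      exact hδx v
  have hsum : ∀ (n : ℕ) (v : V), F.Q (act _ a (∑ i ∈ Finset.range n, (lin x ^ i) v)) -
      F.Q (∑ i ∈ Finset.range n, (lin x ^ i) v) = (n : K) * (F.Q (act _ a v) - F.Q v) := by
    intro n v
    induction n with
    | zero =>
      rw [Finset.range_zero, Finset.sum_empty, map_zero, sub_self, Nat.cast_zero, zero_mul]
    | succ n ih =>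
      rw [Finset.sum_range_succ, hδ, ih, hδi]
      push_cast
      ring
  have hQ : ∀ v, F.Q (act _ a v) = F.Q v := by
    intro v
    have h1 := hsum q v
    have h2 : ∑ i ∈ Finset.range q, (lin x ^ i) v = (q : K) • act _ (e0 q x) v := by
      unfold e0
      rw [act_smul, map_sum, LinearMap.smul_apply, LinearMap.sum_apply, smul_smul, mul_inv_cancel₀ hq0, one_smul]
      exact Finset.sum_congr rfl fun i _ => by rw [map_pow, act_gen]
    rw [h2, hfix _ ((fixS _).smul_mem _ (act_e0_mem hx v)), sub_self] at h1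
    have h3 := (mul_eq_zero.1 h1.symm).resolve_left hq0
    exact sub_eq_zero.1 h3
  obtain ⟨g, hg⟩ := F.exists_iso (act _ a) hB hQ
  exact ⟨g, hg⟩

/-- **Elements of order `p ^ k` in `F.iso ∩ K[x]`.** -/
theorem exists_cen [Finite K] [Finite V] [FiniteDimensional K V] [Fact r.Prime] [CharP K r] (hN : N = r ^ t) (hN2 : 1 < N)
    (hσ : ∀ a : K, a ^ N = F.σ a) (hqp : q.Prime) (hq : q ∣ N + 1) (hq0 : (q : K) ≠ 0) (hx : x ^ q = 1) (hx1 : x ≠ 1)
    {p k : ℕ} (hp : p.Prime) (hk : 0 < k) (hpN : p ^ k ∣ N + 1)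
    (H : ∀ j, q ∣ Nat.card K ^ j - 1 → p ^ k ∣ Nat.card K ^ j - 1) :
    ∃ g : F.iso, orderOf g = p ^ k ∧ (∀ c : F.iso, c * x = x * c → c * g = g * c) ∧
      (∀ v ∈ fixS (x : V ≃ₗ[K] V), (g : V ≃ₗ[K] V) v = v) ∧
      ∃ a : Alg (lin x), ∀ v, (g : V ≃ₗ[K] V) v = act _ a v := by
  have hfin : Finite (Alg (lin x)) := finite_alg
  have hN1 : 1 ≤ N := hN2.le
  -- the idempotent `e0` is not `1`
  have he1 : e0 q x ≠ 1 := by
    intro h
    apply hx1
    have h1 := gen_mul_e0 (q := q) hx
    rw [h, mul_one] at h1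
    have h2 := congrArg (act (lin x)) h1
    rw [act_gen, map_one] at h2
    apply Subtype.ext
    apply LinearEquiv.ext
    intro v
    exact LinearMap.congr_fun h2 v
  have hnu : ¬ IsUnit (e0 q x) := by
    intro h
    have h1 := e0_mul_e0 hq0 hx
    exact he1 (h.mul_left_cancel (by rw [h1, mul_one]))
  obtain ⟨M, hM, heM⟩ := exists_max_ideal_of_mem_nonunits (mem_nonunits_iff.2 hnu)
  let _ : Field (Alg (lin x) ⧸ M) := Ideal.Quotient.field M
  have hfinL : Finite (Alg (lin x) ⧸ M) := Quotient.finite _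
  -- the cardinality of the residue field
  obtain ⟨j, hj⟩ : ∃ j, Nat.card (Alg (lin x) ⧸ M) = Nat.card K ^ j :=
    ⟨Module.finrank K (Alg (lin x) ⧸ M), Module.natCard_eq_pow_finrank⟩
  set π : Alg (lin x) →+* (Alg (lin x) ⧸ M) := Ideal.Quotient.mk M with hπ
  have hπe : π (e0 q x) = 0 := Ideal.Quotient.eq_zero_iff_mem.2 heM
  -- `q` divides the order of its unit group
  have hqL : q ∣ Nat.card K ^ j - 1 := by
    rw [← hj]
    have h1 : (π (gen x)) ^ q = 1 := by rw [← π.map_pow, gen_pow_eq_one hx, π.map_one]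
    have h2 : π (gen x) ≠ 1 := by
      intro h2
      have h3 : π (e0 q x) = algebraMap K _ (q : K)⁻¹ * ∑ i ∈ Finset.range q, (π (gen x)) ^ i := by
        unfold e0
        rw [Algebra.smul_def, map_mul, map_sum]
        simp only [map_pow]
        rfl
      rw [hπe, h2] at h3
      simp only [one_pow, Finset.sum_const, Finset.card_range, nsmul_eq_mul, mul_one] at h3
      have h4 : (algebraMap K (Alg (lin x) ⧸ M) (q : K)⁻¹) * (q : Alg (lin x) ⧸ M) = 1 := by
        rw [← map_natCast (algebraMap K (Alg (lin x) ⧸ M)) q, ← map_mul, inv_mul_cancel₀ hq0, map_one]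
      rw [h4] at h3
      exact zero_ne_one h3
    have h5 : orderOf (π (gen x)) = q := orderOf_eq_prime (hp := ⟨hqp⟩) h1 h2
    have h6 : π (gen x) ≠ 0 := by
      intro h6
      rw [h6, zero_pow hqp.ne_zero] at h1
      exact zero_ne_one h1
    rw [← h5, ← Nat.card_units, ← Units.val_mk0 h6, orderOf_units]
    exact orderOf_dvd_natCard _
  have hpL : p ^ k ∣ Nat.card (Alg (lin x) ⧸ M)ˣ := by
    rw [Nat.card_units, hj]
    exact H j hqL
  obtain ⟨ζ0, hζ0⟩ := IsCyclic.exists_ofOrder_eq_natCard (α := (Alg (lin x) ⧸ M)ˣ)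
  obtain ⟨c0, hc0⟩ := hpL
  have hc0pos : c0 ≠ 0 := by
    rintro rfl
    rw [mul_zero] at hc0
    exact Nat.card_pos.ne' hc0
  obtain ⟨ζ, hζ⟩ : ∃ ζ : (Alg (lin x) ⧸ M)ˣ, orderOf ζ = p ^ k := by
    refine ⟨ζ0 ^ c0, ?_⟩
    rw [orderOf_pow' _ hc0pos, hζ0, hc0, Nat.gcd_eq_right (Dvd.intro_left _ rfl), Nat.mul_div_cancel _ (Nat.pos_of_ne_zero hc0pos)]
  obtain ⟨z, hz⟩ := Ideal.Quotient.mk_surjective (ζ : Alg (lin x) ⧸ M)
  -- the element `z1`
  set z1 : Alg (lin x) := z * (1 - e0 q x) with hz1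
  have hπz1 : π z1 = ζ := by (rewrite [hz1, π.map_mul, π.map_sub]; simp only [π.map_one]; simp only [hπe]; simp only [sub_zero]; rewrite [mul_one, hπ, hz]; with_reducible rfl)
  have hz1e0 : z1 * e0 q x = 0 := by
    rw [hz1, mul_assoc, sub_mul, one_mul, e0_mul_e0 hq0 hx, sub_self, mul_zero]
  obtain ⟨n, hn⟩ : ∃ n, N ^ 2 = n + 1 := ⟨N ^ 2 - 1, by have := Nat.one_le_pow 2 N hN1; omega⟩
  have hNn : (N + 1) * (N - 1) = n := by
    obtain ⟨M', rfl⟩ := Nat.exists_eq_add_of_le hN1
    have : (1 + M' + 1) * (1 + M' - 1) + 1 = n + 1 := by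
      rw [← hn]
      simp only [Nat.add_sub_cancel_left]
      ring
    omega
  have hz1n : z1 ^ (n + 1) = z1 := by rw [← hn]; exact pow_sq hN hσ hq hx z1
  have hpn : p ^ k ∣ n := by
    rw [← hNn]
    exact hpN.mul_right _
  have hn0 : n ≠ 0 := by
    have h3 : 2 ^ 2 ≤ N ^ 2 := Nat.pow_le_pow_left hN2 2
    omega
  set e : Alg (lin x) := z1 ^ n with he
  have hez1 : z1 * e = z1 := by rw [he, ← pow_succ', hz1n]
  have hee : e * e = e := by
    obtain ⟨n1, rfl⟩ := Nat.exists_eq_succ_of_ne_zero hn0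
    rw [he]
    calc z1 ^ (n1 + 1) * z1 ^ (n1 + 1) = z1 ^ (n1 + 1 + 1) * z1 ^ n1 := by ring
      _ = z1 ^ (n1 + 1) := by rw [hz1n]; ring
  have hee0 : e * e0 q x = 0 := by
    obtain ⟨n1, rfl⟩ := Nat.exists_eq_succ_of_ne_zero hn0
    rw [he, pow_succ, mul_assoc, hz1e0, mul_zero]
  obtain ⟨b, n', hpn', hn'⟩ := Nat.exists_eq_pow_mul_and_not_dvd hn0 p hp.one_lt.ne'
  set z3 : Alg (lin x) := z1 ^ n' with hz3
  have hn'0 : n' ≠ 0 := by
    rintro rfl
    exact hpn' (dvd_zero _)
  have hz3e : z3 * e = z3 := by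
    obtain ⟨n1, rfl⟩ := Nat.exists_eq_succ_of_ne_zero hn'0
    rw [hz3, pow_succ, mul_assoc, hez1]
  have hz3e0 : z3 * e0 q x = 0 := by
    obtain ⟨n1, rfl⟩ := Nat.exists_eq_succ_of_ne_zero hn'0
    rw [hz3, pow_succ, mul_assoc, hz1e0, mul_zero]
  set a0 : Alg (lin x) := z3 + (1 - e) with ha0
  have ha0pow : ∀ i, a0 ^ (i + 1) = z3 ^ (i + 1) + (1 - e) := by
    intro i
    induction i with
    | zero => rw [zero_add, pow_one, pow_one]
    | succ i ih =>
      have h1 : z3 ^ (i + 1) * (1 - e) = 0 := by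
        rw [pow_succ, mul_assoc, mul_sub, mul_one, hz3e, sub_self, mul_zero]
      have h2 : (1 - e) * z3 = 0 := by rw [mul_comm, mul_sub, mul_one, hz3e, sub_self]
      have h3 : (1 - e) * (1 - e) = 1 - e := by
        rw [mul_sub, mul_one, sub_mul, one_mul, hee, sub_self, sub_zero]
      rw [pow_succ a0, ih, ha0, add_mul, mul_add, mul_add, h1, h2, h3, ← pow_succ]
      abel
  have ha0b : a0 ^ (p ^ b) = 1 := by
    have h1 : p ^ b ≠ 0 := pow_ne_zero _ hp.ne_zero
    obtain ⟨i, hi⟩ := Nat.exists_eq_succ_of_ne_zero h1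
    have h2 : z3 ^ (p ^ b) = e := by rw [hz3, ← pow_mul, mul_comm, ← hn', he]
    rw [hi, Nat.succ_eq_add_one, ha0pow, ← Nat.succ_eq_add_one, ← hi, h2, add_sub_cancel]
  have ha0e0 : a0 * e0 q x = e0 q x := by
    rw [ha0, add_mul, hz3e0, zero_add, sub_mul, hee0, sub_zero, one_mul]
  -- the image in the residue field
  have hπe' : π e = 1 := by
    rw [he, π.map_pow, hπz1, ← Units.val_pow_eq_pow_val]
    have : ζ ^ n = 1 := by
      rw [← orderOf_dvd_iff_pow_eq_one, hζ]
      exact hpn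
    rw [this, Units.val_one]
  have hπa0 : π a0 = ((ζ ^ n' : (Alg (lin x) ⧸ M)ˣ) : Alg (lin x) ⧸ M) := by
    rw [ha0, π.map_add, π.map_sub, π.map_one, hπe', sub_self, add_zero, hz3, π.map_pow, hπz1, Units.val_pow_eq_pow_val]
  have hord1 : p ^ k ∣ orderOf a0 := by
    have h1 : orderOf (π a0) ∣ orderOf a0 := orderOf_map_dvd π.toMonoidHom a0
    rw [hπa0, orderOf_units, orderOf_pow' _ hn'0, hζ] at h1
    have h2 : Nat.gcd (p ^ k) n' = 1 := Nat.Coprime.pow_left k ((Nat.Prime.coprime_iff_not_dvd hp).2 hpn')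
    rwa [h2, Nat.div_one] at h1
  obtain ⟨c, hcb, hc⟩ := (Nat.dvd_prime_pow hp).1 (orderOf_dvd_of_pow_eq_one ha0b)
  rw [hc] at hord1
  have hkc : k ≤ c := (Nat.pow_dvd_pow_iff_le_right hp.one_lt).1 hord1
  set a : Alg (lin x) := a0 ^ (p ^ (c - k)) with ha
  have haord : orderOf a = p ^ k := by
    rw [ha, orderOf_pow' _ (pow_ne_zero _ hp.ne_zero), hc, Nat.gcd_eq_right (pow_dvd_pow p (Nat.sub_le c k)),
      Nat.pow_div (Nat.sub_le c k) hp.pos]
    congr 1
    omega
  have haN : a ^ (N + 1) = 1 := by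
    rw [← orderOf_dvd_iff_pow_eq_one, haord]
    exact hpN
  have hae0 : a * e0 q x = e0 q x := by
    rw [ha]
    generalize p ^ (c - k) = i
    induction i with
    | zero => rw [pow_zero, one_mul]
    | succ i ih => rw [pow_succ, mul_assoc, ha0e0, ih]
  obtain ⟨g, hg⟩ := exists_isom hN hσ hq hq0 hx haN hae0
  have hgpow : ∀ (i : ℕ) (v : V), ((g ^ i : F.iso) : V ≃ₗ[K] V) v = act _ (a ^ i) v := by
    intro i
    induction i with
    | zero => intro v; rw [pow_zero, pow_zero, map_one]; rfl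
    | succ i ih =>
      intro v
      rw [pow_succ, pow_succ, map_mul, Module.End.mul_apply, ← hg, ← ih]
      rfl
  have hgi : ∀ i : ℕ, g ^ i = 1 ↔ a ^ i = 1 := by
    intro i
    constructor
    · intro h
      apply act_injective
      apply LinearMap.ext
      intro v
      rw [← hgpow, h, map_one]
      rfl
    · intro h
      apply Subtype.ext
      apply LinearEquiv.ext
      intro v
      rw [hgpow, h, map_one]
      rfl
  refine ⟨g, ?_, ?_, ?_, a, hg⟩
  · rw [← haord]
    apply Nat.dvd_antisymm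
    · rw [orderOf_dvd_iff_pow_eq_one, hgi, pow_orderOf_eq_one]
    · rw [orderOf_dvd_iff_pow_eq_one, ← hgi, pow_orderOf_eq_one]
  · intro c' hc'
    apply Subtype.ext
    apply LinearEquiv.ext
    intro v
    change (c' : V ≃ₗ[K] V) ((g : V ≃ₗ[K] V) v) = (g : V ≃ₗ[K] V) ((c' : V ≃ₗ[K] V) v)
    rw [hg, hg]
    exact comm_act (lin x) (c := lin c') (fun w => by
      have := congrArg (fun y : F.iso => (y : V ≃ₗ[K] V) w) hc'
      exact this) a v
  · intro v hv
    rw [hg, ← act_e0_fix hq0 hv, ← Module.End.mul_apply, ← map_mul, hae0]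

end main

end Cfsg.Agent.H766.PQ
end

-- part: H766/PQ/Core
section
/-!
# S4612: two primes of unitary type, the core case (helper766)

`q`, `p` two primes, `N` a power of the characteristic with `a ^ N = σ a` on `K`, `q ∣ N + 1`, `p ∣ N + 1` and
`q ∣ |K|^j - 1 → p ∣ |K|^j - 1`: an element `x` of order `q` of a classical group `G` has an element `a` of order `p` in the
centre of its centralizer (`exists_cen`), so `PQ q p` does not hold (`not_PQ_core`, `not_PQ_core'`).
-/

set_option autoImplicit false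
set_option linter.unusedSectionVars false

open Cfsg Cfsg.Agent

namespace Cfsg.Agent.H766.PQ

open Cfsg.Agent.H358.A3 (PQ)
open Cfsg.Agent.H317.PQ (Same)
open Cfsg.Agent.H477.HC Module

universe u v w

variable {K : Type u} [Field K] {V : Type v} [AddCommGroup V] [Module K V] {F : CForm K V}

/-- an element of order prime to the index of a normal subgroup -/
theorem mem_of_index {I : Type*} [Group I] (G : Subgroup I) [G.Normal] {p k : ℕ} (hp : p.Prime) (hidx : ¬ p ∣ G.index)
    {g : I} (hg : g ^ p ^ k = 1) : g ∈ G := by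
  rw [← QuotientGroup.eq_one_iff, ← orderOf_eq_one_iff]
  have h1 : orderOf (g : I ⧸ G) ∣ p ^ k := by
    rw [orderOf_dvd_iff_pow_eq_one, ← QuotientGroup.mk_pow, hg, QuotientGroup.mk_one]
  have h2 : orderOf (g : I ⧸ G) ∣ G.index := orderOf_dvd_natCard _
  have h3 : Nat.Coprime (p ^ k) G.index := Nat.Coprime.pow_left k ((Nat.Prime.coprime_iff_not_dvd hp).2 hidx)
  exact Nat.eq_one_of_dvd_coprimes h3 h1 h2

/-- a central element of the centralizer of `x` -/
theorem not_PQ_of_cen {I : Type*} [Group I] [Finite I] {q p k : ℕ} (hq : q.Prime) (hp : p.Prime) (hqp : q ≠ p)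
    (G : Subgroup I) {S : Type*} [Group S] (f : G →* S) (hf : Function.Surjective f) (hZ : f.ker ≤ Subgroup.center G)
    (hZq : ¬ q ∣ Nat.card f.ker) {x g : I} (hx : x ∈ G) (hxq : orderOf x = q) (hg : g ∈ G) (hgp : orderOf g = p ^ k)
    (hfg : (⟨g, hg⟩ : G) ∉ f.ker) (hc : ∀ c : I, c * x = x * c → c * g = g * c) : ¬ PQ q p S := by
  have hx' : ∃ j : ℕ, orderOf (⟨x, hx⟩ : G) = q ^ j := ⟨1, by rw [Subgroup.orderOf_mk, hxq, pow_one]⟩
  have hcg : ∀ c ∈ Subgroup.centralizer ({(⟨x, hx⟩ : G)} : Set G), c * (⟨g, hg⟩ : G) = ⟨g, hg⟩ * c := by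
    intro c h1
    rw [Subgroup.mem_centralizer_singleton_iff] at h1
    exact Subtype.ext (hc c (congrArg Subtype.val h1))
  refine not_PQ_of_abelian hq hp hqp hf hZ hZq hx' (Subgroup.zpowers (⟨g, hg⟩ : G)) ?_ ?_ ?_ ?_
  · rw [Subgroup.zpowers_le, Subgroup.mem_centralizer_singleton_iff]
    exact Subtype.ext (hc x rfl).symm
  · rintro c h1 _ ⟨i, rfl⟩
    have h2 : Commute c (⟨g, hg⟩ : G) := hcg c h1
    have h3 : c * (⟨g, hg⟩ : G) ^ i * c⁻¹ = (⟨g, hg⟩ : G) ^ i := by
      rw [(h2.zpow_right i).eq, mul_inv_cancel_right]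
    rw [show (fun i : ℤ => (⟨g, hg⟩ : G) ^ i) i = (⟨g, hg⟩ : G) ^ i from rfl, h3]
    exact ⟨i, rfl⟩
  · rintro _ ⟨i, rfl⟩ _ ⟨j, rfl⟩
    exact (Commute.zpow_zpow_self _ i j).eq
  · refine ⟨_, Subgroup.mem_zpowers _, ⟨k, by rw [Subgroup.orderOf_mk, hgp]⟩, fun h => hfg (MonoidHom.mem_ker.2 h)⟩

section core

variable {r t N q p : ℕ}

/-- **The core case.** -/
theorem not_PQ_core [Finite K] [Finite V] [FiniteDimensional K V] [Fact r.Prime] [CharP K r] (hN : N = r ^ t)
    (hN2 : 1 < N) (hσ : ∀ a : K, a ^ N = F.σ a) (hqp : q.Prime) (hq : q ∣ N + 1) (hp : p.Prime) (hpq : q ≠ p)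
    (hpN : p ∣ N + 1) (H : ∀ j, q ∣ Nat.card K ^ j - 1 → p ∣ Nat.card K ^ j - 1) (G : Subgroup F.iso) [G.Normal]
    (hidx : ¬ p ∣ G.index) {S : Type w} [Group S] (f : G →* S) (hf : Function.Surjective f)
    (hZ : f.ker ≤ Subgroup.center G) (hZq : ¬ q ∣ Nat.card f.ker) (hZp : ¬ p ∣ Nat.card f.ker) (hd : q ∣ Nat.card S) :
    ¬ PQ q p S := by
  have hfin : Finite F.iso := H61.PQ.finite_iso' F
  have hq0 : (q : K) ≠ 0 := by
    intro h
    have h1 : r ∣ q := (CharP.cast_eq_zero_iff K r q).1 h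
    have h2 : r = q := (Nat.prime_dvd_prime_iff_eq Fact.out hqp).1 h1
    have h3 : r ∣ N + 1 := h2 ▸ hq
    have h4 : r ∣ N := by
      rcases Nat.eq_zero_or_pos t with h | h
      · rw [h, pow_zero] at hN
        omega
      · rw [hN]
        exact dvd_pow_self r h.ne'
    exact (Fact.out : r.Prime).one_lt.ne' (Nat.dvd_one.1 ((Nat.dvd_add_right h4).1 h3))
  have hdG : q ∣ Nat.card G := hd.trans (Subgroup.card_dvd_of_surjective f hf)
  have : Fact q.Prime := ⟨hqp⟩
  obtain ⟨⟨x, hx⟩, hxq⟩ := exists_prime_orderOf_dvd_card' (G := G) q hdG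
  rw [Subgroup.orderOf_mk] at hxq
  have hx1 : x ≠ 1 := by
    rintro rfl
    rw [orderOf_one] at hxq
    exact hqp.one_lt.ne hxq
  obtain ⟨g, hg, hgc, -, -⟩ := exists_cen hN hN2 hσ hqp hq hq0 (by rw [← hxq, pow_orderOf_eq_one]) hx1 hp (k := 1)
    zero_lt_one (by rwa [pow_one]) (by rwa [pow_one])
  have hgG : g ∈ G := mem_of_index G hp hidx (k := 1) (by rw [← hg, pow_orderOf_eq_one])
  refine not_PQ_of_cen hqp hp hpq G f hf hZ hZq hx hxq hgG hg ?_ hgc
  intro h
  apply hZp
  have h1 : orderOf (⟨⟨g, hgG⟩, h⟩ : f.ker) ∣ Nat.card f.ker := orderOf_dvd_natCard _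
  rwa [Subgroup.orderOf_mk, Subgroup.orderOf_mk, hg, pow_one] at h1

/-- the same for a group isomorphic to the isometry group -/
theorem not_PQ_core' [Finite K] [Finite V] [FiniteDimensional K V] [Fact r.Prime] [CharP K r] (hN : N = r ^ t)
    (hN2 : 1 < N) (hσ : ∀ a : K, a ^ N = F.σ a) (hqp : q.Prime) (hq : q ∣ N + 1) (hp : p.Prime) (hpq : q ≠ p)
    (hpN : p ∣ N + 1) (H : ∀ j, q ∣ Nat.card K ^ j - 1 → p ∣ Nat.card K ^ j - 1) {I : Type*} [Group I] (E : I ≃* F.iso)
    (G : Subgroup I) [G.Normal] (hidx : ¬ p ∣ G.index) {S : Type w} [Group S] (f : G →* S)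
    (hf : Function.Surjective f) (hZ : f.ker ≤ Subgroup.center G) (hZq : ¬ q ∣ Nat.card f.ker)
    (hZp : ¬ p ∣ Nat.card f.ker) (hd : q ∣ Nat.card S) : ¬ PQ q p S := by
  let e : G ≃* G.map E.toMonoidHom := G.equivMapOfInjective E.toMonoidHom E.injective
  have hn : (G.map E.toMonoidHom).Normal := Subgroup.Normal.map inferInstance _ E.surjective
  have hcard : Nat.card (f.comp e.symm.toMonoidHom).ker = Nat.card f.ker := by
    have h1 : (f.comp e.symm.toMonoidHom).ker = f.ker.map e.toMonoidHom := by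
      ext z
      rw [MonoidHom.mem_ker, MonoidHom.comp_apply, Subgroup.mem_map]
      constructor
      · intro h
        exact ⟨e.symm z, MonoidHom.mem_ker.2 h, e.apply_symm_apply z⟩
      · rintro ⟨y, hy, rfl⟩
        change f (e.symm (e y)) = 1
        rw [e.symm_apply_apply]
        exact MonoidHom.mem_ker.1 hy
    rw [h1]
    exact (Nat.card_congr (f.ker.equivMapOfInjective e.toMonoidHom e.injective).toEquiv).symm
  refine not_PQ_core hN hN2 hσ hqp hq hp hpq hpN H (G.map E.toMonoidHom) ?_ (f.comp e.symm.toMonoidHom)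
    (hf.comp e.symm.surjective) ?_ (by rwa [hcard]) (by rwa [hcard]) hd
  · rwa [Subgroup.index_map_of_bijective E.bijective]
  · intro z hz
    rw [MonoidHom.mem_ker, MonoidHom.comp_apply] at hz
    have h1 := hZ (MonoidHom.mem_ker.2 hz)
    rw [Subgroup.mem_center_iff] at h1 ⊢
    intro g
    have h2 := h1 (e.symm g)
    apply e.symm.injective
    rw [map_mul, map_mul]
    exact h2

end core

end Cfsg.Agent.H766.PQ
end

-- part: H766/PQ/Block
section
/-!
# S4612: orthogonal decompositions and elements with one block (helper766)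

* `Emb F F' ι c` : `ι : X → V` multiplies the form by `c`; `simIso`, `Emb.resIso`, `Emb.push`;
* `free_of_order` : an element of order `q` of `F.iso`, `dim V = ord_q |K|`, has no fixed vectors;
* `block_step` : `V = ι₁ X₁ ⊥ ι₂ X₂`: an element `x` of order `q` with `fixS x = ι₂ X₂`;
* `descend_block` : the descent to the commutator subgroup of `F₂.iso`.
-/

set_option autoImplicit false
set_option linter.unusedSectionVars false

open Cfsg Cfsg.Agent

namespace Cfsg.Agent.H766.PQ

open Cfsg.Agent.H358.A3 (PQ)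
open Cfsg.Agent.H477.HC Module

universe u v w v₁ v₂

variable {K : Type u} [Field K] {V : Type v} [AddCommGroup V] [Module K V] {F : CForm K V}
  {X : Type v₁} [AddCommGroup X] [Module K X] {F' : CForm K X} {Y : Type v₂} [AddCommGroup Y] [Module K Y]
  {F₂ : CForm K Y}

/-- similar spaces have isomorphic isometry groups -/
noncomputable def simIso (F' : CForm K X) (F₂ : CForm K Y) (φ : X ≃ₗ[K] Y) {c : K} (hc : c ≠ 0)
    (hB : ∀ x y, F₂.B (φ x) (φ y) = c * F'.B x y) (hQ : ∀ x, F₂.Q (φ x) = c * F'.Q x) : F'.iso ≃* F₂.iso where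
  toFun g := ⟨φ.symm.trans (g.1.trans φ), by
    refine ⟨fun u v => ?_, fun v => ?_⟩
    · obtain ⟨x, rfl⟩ := φ.surjective u
      obtain ⟨y, rfl⟩ := φ.surjective v
      simp only [LinearEquiv.trans_apply, LinearEquiv.symm_apply_apply]
      rw [hB, hB, F'.iso_B g]
    · obtain ⟨x, rfl⟩ := φ.surjective v
      simp only [LinearEquiv.trans_apply, LinearEquiv.symm_apply_apply]
      rw [hQ, hQ, F'.iso_Q g]⟩
  invFun g := ⟨φ.trans (g.1.trans φ.symm), by
    have h1 : ∀ x, φ (φ.symm (g.1 x)) = g.1 x := fun x => φ.apply_symm_apply _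
    refine ⟨fun u v => ?_, fun v => ?_⟩
    · apply mul_left_cancel₀ hc
      simp only [LinearEquiv.trans_apply]
      rw [← hB, h1, h1, F₂.iso_B g, hB]
    · apply mul_left_cancel₀ hc
      simp only [LinearEquiv.trans_apply]
      rw [← hQ, h1, F₂.iso_Q g, hQ]⟩
  left_inv g := by
    apply Subtype.ext
    apply LinearEquiv.ext
    intro x
    simp
  right_inv g := by
    apply Subtype.ext
    apply LinearEquiv.ext
    intro x
    simp
  map_mul' g g' := by
    apply Subtype.ext
    apply LinearEquiv.ext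
    intro x
    simp only [_root_.Subgroup.coe_mul, _root_.LinearEquiv.trans_apply, _root_.LinearEquiv.mul_apply, _root_.LinearEquiv.symm_apply_apply]

theorem simIso_apply (F' : CForm K X) (F₂ : CForm K Y) (φ : X ≃ₗ[K] Y) {c : K} (hc : c ≠ 0)
    (hB : ∀ x y, F₂.B (φ x) (φ y) = c * F'.B x y) (hQ : ∀ x, F₂.Q (φ x) = c * F'.Q x) (g : F'.iso) (x : X) :
    ((simIso F' F₂ φ hc hB hQ g : F₂.iso) : Y ≃ₗ[K] Y) (φ x) = φ ((g : X ≃ₗ[K] X) x) := by
  change φ.symm.trans (g.1.trans φ) (φ x) = _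
  simp

/-- `ι` multiplies the form by `c` -/
structure Emb (F : CForm K V) (F' : CForm K X) (ι : X →ₗ[K] V) (c : K) : Prop where
  hc : c ≠ 0
  hB : ∀ x y, F.B (ι x) (ι y) = c * F'.B x y
  hQ : ∀ x, F.Q (ι x) = c * F'.Q x

namespace Emb

variable {ι : X →ₗ[K] V} {c : K}

theorem inj (E : Emb F F' ι c) : Function.Injective ι := by
  rw [← LinearMap.ker_eq_bot, Submodule.eq_bot_iff]
  intro x hx
  refine F'.nondeg x fun y => ?_
  have h := E.hB x y
  rw [LinearMap.mem_ker.1 hx, F.B_zero_left] at h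
  exact (mul_eq_zero.1 h.symm).resolve_left E.hc

theorem spl [FiniteDimensional K X] (E : Emb F F' ι c) : Spl F (LinearMap.range ι) := by
  intro v
  obtain ⟨b, hb⟩ := F'.exists_dual (c⁻¹ • (F.lf v).comp ι)
  refine ⟨ι b, ⟨b, rfl⟩, v - ι b, ?_, by abel⟩
  rintro _ ⟨y, rfl⟩
  apply F.B_eq_zero
  have h1 := hb y
  rw [LinearMap.smul_apply, LinearMap.comp_apply, F.lf_apply, smul_eq_mul] at h1
  rw [F.B_sub_right, E.hB, ← h1, ← mul_assoc, mul_inv_cancel₀ E.hc, one_mul, sub_self]

/-- the isometry group of the image -/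
noncomputable def resIso (E : Emb F F' ι c) {W : Submodule K V} (h : Spl F W) (hW : W = LinearMap.range ι) :
    F'.iso ≃* (CForm.res F h).iso :=
  simIso F' (CForm.res F h) ((LinearEquiv.ofInjective ι E.inj).trans (LinearEquiv.ofEq _ _ hW.symm)) E.hc
    (by intro x y; exact E.hB x y) (by intro x; exact E.hQ x)

theorem resIso_apply (E : Emb F F' ι c) {W : Submodule K V} (h : Spl F W) (hW : W = LinearMap.range ι) (g : F'.iso)
    (x : X) {w : W} (hw : (w : V) = ι x) :
    ((((E.resIso h hW g : (CForm.res F h).iso) : W ≃ₗ[K] W) w : W) : V) = ι ((g : X ≃ₗ[K] X) x) := by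
  have h1 : w = ((LinearEquiv.ofInjective ι E.inj).trans (LinearEquiv.ofEq _ _ hW.symm)) x := Subtype.ext hw
  subst h1
  exact congrArg Subtype.val (simIso_apply F' (CForm.res F h)
    ((LinearEquiv.ofInjective ι E.inj).trans (LinearEquiv.ofEq _ _ hW.symm)) E.hc
    (by intro x y; exact E.hB x y) (by intro x; exact E.hQ x) g x)

/-- the extension by `1` -/
noncomputable def push [FiniteDimensional K X] (E : Emb F F' ι c) : F'.iso →* F.iso :=
  (ext E.spl).comp (E.resIso E.spl rfl).toMonoidHom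

theorem push_left [FiniteDimensional K X] (E : Emb F F' ι c) (g : F'.iso) (x : X) :
    ((E.push g : F.iso) : V ≃ₗ[K] V) (ι x) = ι ((g : X ≃ₗ[K] X) x) := by
  have h1 := ext_left E.spl (E.resIso E.spl rfl g) ⟨ι x, ⟨x, rfl⟩⟩
  rw [E.resIso_apply E.spl rfl g x rfl] at h1
  exact h1

theorem push_right [FiniteDimensional K X] (E : Emb F F' ι c) (g : F'.iso) {u : V}
    (hu : u ∈ F.perp (LinearMap.range ι)) : ((E.push g : F.iso) : V ≃ₗ[K] V) u = u := ext_right E.spl _ hu

theorem push_injective [FiniteDimensional K X] (E : Emb F F' ι c) : Function.Injective E.push :=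
  (ext_injective E.spl).comp (E.resIso E.spl rfl).injective

theorem fixS_push [FiniteDimensional K X] (E : Emb F F' ι c) {g : F'.iso} (hg : fixS (g : X ≃ₗ[K] X) = ⊥) :
    fixS ((E.push g : F.iso) : V ≃ₗ[K] V) = F.perp (LinearMap.range ι) := by
  apply le_antisymm
  · intro v hv
    rw [mem_fixS] at hv
    obtain ⟨_, ⟨x, rfl⟩, u, hu, rfl⟩ := E.spl v
    rw [map_add, E.push_left, E.push_right g hu, add_left_inj] at hv
    have h1 := E.inj hv
    have h2 : x ∈ fixS (g : X ≃ₗ[K] X) := mem_fixS.2 h1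
    rw [hg, Submodule.mem_bot] at h2
    rw [h2, map_zero, zero_add]
    exact hu
  · intro u hu
    exact mem_fixS.2 (E.push_right g hu)

end Emb

/-- the orthogonal space of one summand -/
theorem perp_range_eq [FiniteDimensional K V] [FiniteDimensional K X] {ι : X →ₗ[K] V} {c : K} (E : Emb F F' ι c)
    {κ : Y →ₗ[K] V} {c' : K} (E' : Emb F F₂ κ c') (ho : ∀ x y, F.B (κ y) (ι x) = 0)
    (hd : finrank K V = finrank K X + finrank K Y) : F.perp (LinearMap.range ι) = LinearMap.range κ := by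
  symm
  apply Submodule.eq_of_le_of_finrank_eq
  · rintro _ ⟨y, rfl⟩ _ ⟨x, rfl⟩
    exact ho x y
  · have h1 := Submodule.finrank_add_eq_of_isCompl E.spl.isCompl
    rw [LinearMap.finrank_range_of_inj E.inj, hd] at h1
    rw [LinearMap.finrank_range_of_inj E'.inj]
    omega

/-- the congruence for the fixed space -/
theorem fixS_modEq [Finite K] [Finite V] {q k : ℕ} (hq : q.Prime) {g : V ≃ₗ[K] V} (hg : g ^ q ^ k = 1) :
    Nat.card K ^ finrank K V ≡ Nat.card K ^ finrank K (fixS g) [MOD q] := by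
  have : Fact q.Prime := ⟨hq⟩
  have hfin : Finite (V ≃ₗ[K] V) := Finite.of_injective (fun e : V ≃ₗ[K] V => (e : V → V)) DFunLike.coe_injective
  have hP : IsPGroup q (Subgroup.zpowers g) := by
    rw [IsPGroup.iff_card]
    have h1 : orderOf g ∣ q ^ k := orderOf_dvd_of_pow_eq_one hg
    obtain ⟨j, -, hj⟩ := (Nat.dvd_prime_pow hq).1 h1
    exact ⟨j, by rw [Nat.card_zpowers, hj]⟩
  have h1 := hP.card_modEq_card_fixedPoints V
  have h2 : Nat.card (MulAction.fixedPoints (Subgroup.zpowers g) V) = Nat.card (fixS g) := by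
    refine Nat.card_congr (Equiv.setCongr ?_)
    ext v
    constructor
    · intro hv
      exact mem_fixS.2 (hv ⟨g, Subgroup.mem_zpowers g⟩)
    · rintro hv ⟨_, i, rfl⟩
      have h3 : g v = v := mem_fixS.1 hv
      have h4 : g ∈ MulAction.stabilizer (V ≃ₗ[K] V) v := h3
      exact (MulAction.stabilizer (V ≃ₗ[K] V) v).zpow_mem h4 i
  rw [h2, Module.natCard_eq_pow_finrank (K := K) (V := V), Module.natCard_eq_pow_finrank (K := K) (V := fixS g)] at h1
  exact h1

/-- no fixed vectors -/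
theorem free_of_order [Finite K] [Finite V] [FiniteDimensional K V] {q : ℕ} (hq : q.Prime) (hqK : ¬ q ∣ Nat.card K)
    (ho : ∀ i, 0 < i → q ∣ Nat.card K ^ i - 1 → finrank K V ≤ i) {g : V ≃ₗ[K] V} (hg : orderOf g = q) :
    fixS g = ⊥ := by
  have h1 := fixS_modEq (k := 1) hq (g := g) (by rw [pow_one, ← hg, pow_orderOf_eq_one])
  have h2 : finrank K (fixS g) ≤ finrank K V := Submodule.finrank_le _
  by_contra hne
  have h3 : 0 < finrank K (fixS g) := by
    rw [Nat.pos_iff_ne_zero]
    exact fun h => hne (Submodule.finrank_eq_zero.1 h)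
  have h4 : fixS g ≠ ⊤ := by
    intro h
    have : g = 1 := LinearEquiv.ext fun v => mem_fixS.1 (h ▸ Submodule.mem_top)
    rw [this, orderOf_one] at hg
    exact hq.one_lt.ne hg
  have h5 : finrank K (fixS g) < finrank K V := lt_of_le_of_ne h2 fun h => h4 (Submodule.eq_top_of_finrank_eq h)
  have h6 : q ∣ Nat.card K ^ (finrank K V - finrank K (fixS g)) - 1 := by
    have hK : 1 ≤ Nat.card K := Nat.card_pos
    have h7 := (Nat.modEq_iff_dvd' (Nat.pow_le_pow_right hK h2)).1 h1.symm
    have h8 : Nat.card K ^ finrank K V - Nat.card K ^ finrank K (fixS g) =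
        Nat.card K ^ finrank K (fixS g) * (Nat.card K ^ (finrank K V - finrank K (fixS g)) - 1) := by
      rw [Nat.mul_sub, mul_one, ← pow_add, Nat.add_sub_cancel' h2]
    rw [h8] at h7
    exact (hq.dvd_mul.1 h7).resolve_left fun h => hqK (hq.dvd_of_dvd_pow h)
  have h7 := ho _ (by omega) h6
  omega

/-- **An element with one block.** -/
theorem block_step [Finite K] [Finite V] [FiniteDimensional K V] [Finite X] [FiniteDimensional K X]
    {ι : X →ₗ[K] V} {c : K} (E : Emb F F' ι c) {κ : Y →ₗ[K] V} {c' : K} (E' : Emb F F₂ κ c')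
    (horth : ∀ x y, F.B (κ y) (ι x) = 0) (hd : finrank K V = finrank K X + finrank K Y) {q : ℕ} (hq : q.Prime)
    (hqK : ¬ q ∣ Nat.card K) (ho : ∀ i, 0 < i → q ∣ Nat.card K ^ i - 1 → finrank K X ≤ i)
    (hqX : q ∣ Nat.card F'.iso) : ∃ x : F.iso, orderOf x = q ∧ fixS (x : V ≃ₗ[K] V) = LinearMap.range κ := by
  have : Fact q.Prime := ⟨hq⟩
  have hf : Finite F'.iso := H61.PQ.finite_iso' F'
  obtain ⟨g, hg⟩ := exists_prime_orderOf_dvd_card' (G := F'.iso) q hqX
  have hg' : orderOf (g : X ≃ₗ[K] X) = q := by rw [Subgroup.orderOf_coe, hg]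
  refine ⟨E.push g, ?_, ?_⟩
  · rw [orderOf_injective E.push E.push_injective, hg]
  · rw [E.fixS_push (free_of_order hq hqK ho hg'), perp_range_eq E E' horth hd]

/-- the commutator subgroups of isomorphic groups -/
noncomputable def commEquiv {A : Type*} {B : Type*} [Group A] [Group B] (e : A ≃* B) :
    ↥(commutator A) ≃* ↥(commutator B) :=
  (e.subgroupMap (commutator A)).trans (MulEquiv.subgroupCongr (by
    rw [commutator_def, commutator_def, Subgroup.map_commutator, Subgroup.map_top_of_surjective _ e.surjective]))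

/-- **The descent to `F₂`.** -/
theorem descend_block [Finite K] [Finite V] [FiniteDimensional K V] [FiniteDimensional K Y] [Finite X]
    [FiniteDimensional K X]
    {ι : X →ₗ[K] V} {c : K} (E : Emb F F' ι c) {κ : Y →ₗ[K] V} {c' : K} (E' : Emb F F₂ κ c')
    (horth : ∀ x y, F.B (κ y) (ι x) = 0) (hd : finrank K V = finrank K X + finrank K Y) {q p : ℕ} (hq : q.Prime)
    (hp : p.Prime) (hqp : q ≠ p)
    (hqK : ¬ q ∣ Nat.card K) (ho : ∀ i, 0 < i → q ∣ Nat.card K ^ i - 1 → finrank K X ≤ i)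
    (hqX : q ∣ Nat.card F'.iso) (hidx : ¬ q ∣ (commutator F.iso).index) {S : Type w} [Group S]
    {π : ↥(commutator F.iso) →* S} (hπ : Function.Surjective π) (hZ : π.ker ≤ Subgroup.center ↥(commutator F.iso))
    (hZ' : ¬ q ∣ Nat.card π.ker) (hsc : ∀ z ∈ π.ker, ∃ a : K, ∀ v : V, ((z : F.iso) : V ≃ₗ[K] V) v = a • v)
    (h0 : PQ q p S) : PQ q p ↥(commutator F₂.iso) := by
  have hf : Finite F.iso := H61.PQ.finite_iso' F
  obtain ⟨x, hx, hfix⟩ := block_step E E' horth hd hq hqK ho hqX
  have hx1 : x ≠ 1 := by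
    rintro rfl
    rw [orderOf_one] at hx
    exact hq.one_lt.ne hx
  have hxD : x ∈ commutator F.iso := mem_of_index _ hq hidx (k := 1) (by rw [pow_one, ← hx, pow_orderOf_eq_one])
  have hspl : Spl F (fixS (x : V ≃ₗ[K] V)) := by
    rw [hfix]
    exact E'.spl
  have h1 := descend' hq hp hqp hπ hZ hZ' hsc h0 hxD hx1 ⟨1, by rw [hx, pow_one]⟩ hspl
  exact H358.A3.PQ.of_equiv (commEquiv (E'.resIso hspl hfix)).symm h1

end Cfsg.Agent.H766.PQ
end

-- part: H766/PQ/Models
section
/-!
# S4612: orthogonal decompositions of the standard forms (helper766)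

* `sp_j`, `sp_k` : `sp_{k+n} = sp_k ⊥ sp_n`;
* `minus_j`, `minus_k` : `minus_{k+n} = plus_k ⊥ minus_n`;
* `plus_one`, `plus_two` : `plus_{d+l+2} = minus_d ⊥ -minus_l`.
-/

set_option autoImplicit false
set_option linter.unusedSectionVars false

open Cfsg Cfsg.Agent

namespace Cfsg.Agent.H766.PQ

open Cfsg.Agent.H358.A3 (PQ)
open Cfsg.Agent.H477.HC Module Cfsg.Agent.H477.HC.CForm

universe u

variable (K : Type u) [Field K]

/-- the first `k` coordinates -/
def kmap (k n : ℕ) : (Fin k ⊕ Fin k → K) →ₗ[K] (Fin (k + n) ⊕ Fin (k + n) → K) where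
  toFun x := Sum.elim (fun i => Fin.addCases (fun i' => x (.inl i')) (fun _ => (0 : K)) i)
    (fun i => Fin.addCases (fun i' => x (.inr i')) (fun _ => (0 : K)) i)
  map_add' x y := by
    ext s
    rcases s with i | i <;> refine Fin.addCases (fun i => ?_) (fun i => ?_) i <;> simp
  map_smul' c x := by
    ext s
    rcases s with i | i <;> refine Fin.addCases (fun i => ?_) (fun i => ?_) i <;> simp

variable {K}

@[simp] theorem kmap_inl_castAdd {k n : ℕ} (x : Fin k ⊕ Fin k → K) (i : Fin k) :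
    kmap K k n x (.inl (Fin.castAdd n i)) = x (.inl i) := by simp [kmap]

@[simp] theorem kmap_inl_natAdd {k n : ℕ} (x : Fin k ⊕ Fin k → K) (i : Fin n) :
    kmap K k n x (.inl (Fin.natAdd k i)) = 0 := by simp [kmap]

@[simp] theorem kmap_inr_castAdd {k n : ℕ} (x : Fin k ⊕ Fin k → K) (i : Fin k) :
    kmap K k n x (.inr (Fin.castAdd n i)) = x (.inr i) := by simp [kmap]

@[simp] theorem kmap_inr_natAdd {k n : ℕ} (x : Fin k ⊕ Fin k → K) (i : Fin n) :
    kmap K k n x (.inr (Fin.natAdd k i)) = 0 := by simp [kmap]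

/-! ### symplectic -/

theorem sp_j (k n : ℕ) : Emb (spF K (k + n)) (spF K n) (jmap K k n) 1 where
  hc := one_ne_zero
  hB x y := by simp only [spF_B, Fin.sum_univ_add, _root_.Cfsg.Agent.H477.HC.CForm.jmap_inl_castAdd, _root_.Cfsg.Agent.H477.HC.CForm.jmap_inr_castAdd, _root_.MulZeroClass.mul_zero, _root_.Finset.sum_const_zero, _root_.Cfsg.Agent.H477.HC.CForm.jmap_inl_natAdd, _root_.Cfsg.Agent.H477.HC.CForm.jmap_inr_natAdd, _root_.zero_add, _root_.one_mul]
  hQ x := by simp only [spF, _root_.Finset.sum_sub_distrib, _root_.Cfsg.Agent.H477.HC.CForm.symp_Q, _root_.MulZeroClass.mul_zero]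

theorem sp_k (k n : ℕ) : Emb (spF K (k + n)) (spF K k) (kmap K k n) 1 where
  hc := one_ne_zero
  hB x y := by simp only [spF_B, Fin.sum_univ_add, _root_.Cfsg.Agent.H766.PQ.kmap_inl_castAdd, _root_.Cfsg.Agent.H766.PQ.kmap_inr_castAdd, _root_.Cfsg.Agent.H766.PQ.kmap_inl_natAdd, _root_.Cfsg.Agent.H766.PQ.kmap_inr_natAdd, _root_.MulZeroClass.mul_zero, _root_.Finset.sum_const_zero, _root_.add_zero, _root_.one_mul]
  hQ x := by simp only [spF, _root_.Finset.sum_sub_distrib, _root_.Cfsg.Agent.H477.HC.CForm.symp_Q, _root_.MulZeroClass.mul_zero]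

theorem sp_orth (k n : ℕ) (x : Fin n ⊕ Fin n → K) (y : Fin k ⊕ Fin k → K) :
    (spF K (k + n)).B (kmap K k n y) (jmap K k n x) = 0 := by
  simp only [spF_B, Fin.sum_univ_add, _root_.Cfsg.Agent.H766.PQ.kmap_inl_castAdd, _root_.Cfsg.Agent.H477.HC.CForm.jmap_inr_castAdd, _root_.MulZeroClass.mul_zero, _root_.Finset.sum_const_zero, _root_.Cfsg.Agent.H766.PQ.kmap_inl_natAdd, _root_.Cfsg.Agent.H477.HC.CForm.jmap_inr_natAdd, _root_.MulZeroClass.zero_mul, _root_.add_zero, _root_.Cfsg.Agent.H766.PQ.kmap_inr_castAdd, _root_.Cfsg.Agent.H477.HC.CForm.jmap_inl_castAdd, _root_.Cfsg.Agent.H766.PQ.kmap_inr_natAdd, _root_.Cfsg.Agent.H477.HC.CForm.jmap_inl_natAdd, _root_.sub_self]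

/-! ### the hyperbolic form -/

theorem hypB_kj (k n : ℕ) (u u' : Fin k ⊕ Fin k → K) (v v' : Fin n ⊕ Fin n → K) :
    hypB K (k + n) (kmap K k n u + jmap K k n v) (kmap K k n u' + jmap K k n v') = hypB K k u u' + hypB K n v v' := by
  simp only [hypB, Fin.sum_univ_add, _root_.Pi.add_apply, _root_.Cfsg.Agent.H766.PQ.kmap_inl_castAdd, _root_.Cfsg.Agent.H477.HC.CForm.jmap_inl_castAdd, _root_.add_zero, _root_.Cfsg.Agent.H766.PQ.kmap_inr_castAdd, _root_.Cfsg.Agent.H477.HC.CForm.jmap_inr_castAdd, _root_.Cfsg.Agent.H766.PQ.kmap_inl_natAdd, _root_.Cfsg.Agent.H477.HC.CForm.jmap_inl_natAdd, _root_.zero_add, _root_.Cfsg.Agent.H766.PQ.kmap_inr_natAdd, _root_.Cfsg.Agent.H477.HC.CForm.jmap_inr_natAdd]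

theorem quad_kj (k n : ℕ) (u : Fin k ⊕ Fin k → K) (v : Fin n ⊕ Fin n → K) :
    quadFormPlus (k + n) K (kmap K k n u + jmap K k n v) = quadFormPlus k K u + quadFormPlus n K v := by
  simp only [quadFormPlus, Fin.sum_univ_add, _root_.Pi.add_apply, _root_.Cfsg.Agent.H766.PQ.kmap_inl_castAdd, _root_.Cfsg.Agent.H477.HC.CForm.jmap_inl_castAdd, _root_.add_zero, _root_.Cfsg.Agent.H766.PQ.kmap_inr_castAdd, _root_.Cfsg.Agent.H477.HC.CForm.jmap_inr_castAdd, _root_.Cfsg.Agent.H766.PQ.kmap_inl_natAdd, _root_.Cfsg.Agent.H477.HC.CForm.jmap_inl_natAdd, _root_.zero_add, _root_.Cfsg.Agent.H766.PQ.kmap_inr_natAdd, _root_.Cfsg.Agent.H477.HC.CForm.jmap_inr_natAdd]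

/-! ### minus type -/

section minus

variable [Finite K] {a b : K} (hab : ∀ z₁ z₂ : K, z₁ ^ 2 + a * z₁ * z₂ + b * z₂ ^ 2 = 0 → z₁ = 0 ∧ z₂ = 0)

theorem minus_j (k n : ℕ) : Emb (minusF K (k + n) a b hab) (minusF K n a b hab) (jminus K k n) 1 where
  hc := one_ne_zero
  hB x y := by simp only [minusF_B, minusB, hypB, Fin.sum_univ_add, _root_.Cfsg.Agent.H477.HC.CForm.jminus_inl, _root_.Cfsg.Agent.H477.HC.CForm.jmap_inl_castAdd, _root_.Cfsg.Agent.H477.HC.CForm.jmap_inr_castAdd, _root_.MulZeroClass.mul_zero, _root_.add_zero, _root_.Finset.sum_const_zero, _root_.Cfsg.Agent.H477.HC.CForm.jmap_inl_natAdd, _root_.Cfsg.Agent.H477.HC.CForm.jmap_inr_natAdd, _root_.zero_add, _root_.Fin.isValue, _root_.Cfsg.Agent.H477.HC.CForm.jminus_inr, _root_.one_mul]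
  hQ x := by simp only [quadFormMinus, Fin.sum_univ_add, _root_.Cfsg.Agent.H477.HC.CForm.minusF_Q, _root_.Cfsg.Agent.H477.HC.CForm.jminus_inl, _root_.Cfsg.Agent.H477.HC.CForm.jmap_inl_castAdd, _root_.Cfsg.Agent.H477.HC.CForm.jmap_inr_castAdd, _root_.MulZeroClass.mul_zero, _root_.Finset.sum_const_zero, _root_.Cfsg.Agent.H477.HC.CForm.jmap_inl_natAdd, _root_.Cfsg.Agent.H477.HC.CForm.jmap_inr_natAdd, _root_.zero_add, _root_.Fin.isValue, _root_.Cfsg.Agent.H477.HC.CForm.jminus_inr, _root_.one_mul]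

/-- the first `k` coordinates -/
def kminus (k n : ℕ) : (Fin k ⊕ Fin k → K) →ₗ[K] ((Fin (k + n) ⊕ Fin (k + n)) ⊕ Fin 2 → K) where
  toFun x := Sum.elim (kmap K k n x) (fun _ => 0)
  map_add' x y := by
    ext s
    rcases s with i | i <;> simp
  map_smul' c x := by
    ext s
    rcases s with i | i <;> simp

@[simp] theorem kminus_inr {k n : ℕ} (x : Fin k ⊕ Fin k → K) (i : Fin 2) : kminus k n x (.inr i) = 0 := rfl

@[simp] theorem kminus_inl {k n : ℕ} (x : Fin k ⊕ Fin k → K) (i) : kminus k n x (.inl i) = kmap K k n x i := rfl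

theorem minus_k (k n : ℕ) : Emb (minusF K (k + n) a b hab) (plusF K k) (kminus k n) 1 where
  hc := one_ne_zero
  hB x y := by simp only [minusF_B, minusB, hypB, Fin.sum_univ_add, _root_.Cfsg.Agent.H766.PQ.kminus_inl, _root_.Cfsg.Agent.H766.PQ.kmap_inl_castAdd, _root_.Cfsg.Agent.H766.PQ.kmap_inr_castAdd, _root_.Cfsg.Agent.H766.PQ.kmap_inl_natAdd, _root_.Cfsg.Agent.H766.PQ.kmap_inr_natAdd, _root_.MulZeroClass.mul_zero, _root_.add_zero, _root_.Finset.sum_const_zero, _root_.Fin.isValue, _root_.Cfsg.Agent.H766.PQ.kminus_inr, _root_.Cfsg.Agent.H477.HC.CForm.plusF_B, _root_.one_mul]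
  hQ x := by simp only [quadFormMinus, quadFormPlus, Fin.sum_univ_add, _root_.Cfsg.Agent.H477.HC.CForm.minusF_Q, _root_.Cfsg.Agent.H766.PQ.kminus_inl, _root_.Cfsg.Agent.H766.PQ.kmap_inl_castAdd, _root_.Cfsg.Agent.H766.PQ.kmap_inr_castAdd, _root_.Cfsg.Agent.H766.PQ.kmap_inl_natAdd, _root_.Cfsg.Agent.H766.PQ.kmap_inr_natAdd, _root_.MulZeroClass.mul_zero, _root_.Finset.sum_const_zero, _root_.add_zero, _root_.Fin.isValue, _root_.Cfsg.Agent.H766.PQ.kminus_inr, _root_.ne_eq, _root_.OfNat.ofNat_ne_zero, _root_.not_false_eq_true, _root_.zero_pow, _root_.Cfsg.Agent.H477.HC.CForm.plusF_Q, _root_.one_mul]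

theorem minus_orth (k n : ℕ) (x : (Fin n ⊕ Fin n) ⊕ Fin 2 → K) (y : Fin k ⊕ Fin k → K) :
    (minusF K (k + n) a b hab).B (kminus k n y) (jminus K k n x) = 0 := by
  simp only [minusF_B, minusB, hypB, Fin.sum_univ_add, _root_.Cfsg.Agent.H766.PQ.kminus_inl, _root_.Cfsg.Agent.H477.HC.CForm.jminus_inl, _root_.Cfsg.Agent.H766.PQ.kmap_inl_castAdd, _root_.Cfsg.Agent.H477.HC.CForm.jmap_inr_castAdd, _root_.MulZeroClass.mul_zero, _root_.Cfsg.Agent.H766.PQ.kmap_inr_castAdd, _root_.Cfsg.Agent.H477.HC.CForm.jmap_inl_castAdd, _root_.add_zero, _root_.Finset.sum_const_zero, _root_.Cfsg.Agent.H766.PQ.kmap_inl_natAdd, _root_.Cfsg.Agent.H477.HC.CForm.jmap_inr_natAdd, _root_.MulZeroClass.zero_mul, _root_.Cfsg.Agent.H766.PQ.kmap_inr_natAdd, _root_.Cfsg.Agent.H477.HC.CForm.jmap_inl_natAdd, _root_.Fin.isValue, _root_.Cfsg.Agent.H766.PQ.kminus_inr, _root_.Cfsg.Agent.H477.HC.CForm.jminus_inr]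

end minus

/-! ### plus type -/

section plus

variable (a b : K)

/-- `z₁ u₁ + z₂ u₂` -/
def tw1 (d : ℕ) : ((Fin d ⊕ Fin d) ⊕ Fin 2 → K) →ₗ[K] (Fin 2 ⊕ Fin 2 → K) where
  toFun x := Sum.elim ![x (.inr 0), x (.inr 1)] ![x (.inr 0) + a * x (.inr 1), b * x (.inr 1)]
  map_add' x y := by
    ext s
    rcases s with i | i <;> (revert i; simp only [_root_.Fin.forall_fin_succ, Fin.isValue, _root_.Pi.add_apply, _root_.Sum.elim_inl, _root_.Matrix.cons_val_zero, _root_.Matrix.cons_val_succ, _root_.Matrix.cons_val_fin_one, _root_.implies_true, _root_.and_self, _root_.Sum.elim_inr, _root_.forall_const]) <;> (repeat' with_reducible apply And.intro) <;> ring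
  map_smul' c x := by
    ext s
    rcases s with i | i <;> (revert i; simp only [_root_.Fin.forall_fin_succ, Fin.isValue, _root_.Pi.smul_apply, _root_.smul_eq_mul, _root_.Sum.elim_inl, _root_.RingHom.id_apply, _root_.Matrix.cons_val_zero, _root_.Matrix.cons_val_succ, _root_.Matrix.cons_val_fin_one, _root_.implies_true, _root_.and_self, _root_.Sum.elim_inr, _root_.forall_const]) <;> (repeat' with_reducible apply And.intro) <;> ring

/-- the orthogonal space in the plus form of dimension four -/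
def tw2 (d : ℕ) : ((Fin d ⊕ Fin d) ⊕ Fin 2 → K) →ₗ[K] (Fin 2 ⊕ Fin 2 → K) where
  toFun x := Sum.elim ![x (.inr 0), x (.inr 1)] ![-x (.inr 0), -(a * x (.inr 0) + b * x (.inr 1))]
  map_add' x y := by
    ext s
    rcases s with i | i <;> (revert i; simp only [_root_.Fin.forall_fin_succ, Fin.isValue, _root_.Pi.add_apply, _root_.neg_add_rev, _root_.Sum.elim_inl, _root_.Matrix.cons_val_zero, _root_.Matrix.cons_val_succ, _root_.Matrix.cons_val_fin_one, _root_.implies_true, _root_.and_self, _root_.Sum.elim_inr, _root_.forall_const]) <;> (repeat' with_reducible apply And.intro) <;> ring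
  map_smul' c x := by
    ext s
    rcases s with i | i <;> (revert i; simp only [_root_.Fin.forall_fin_succ, Fin.isValue, _root_.Pi.smul_apply, _root_.smul_eq_mul, _root_.neg_add_rev, _root_.Sum.elim_inl, _root_.RingHom.id_apply, _root_.Matrix.cons_val_zero, _root_.Matrix.cons_val_succ, _root_.Matrix.cons_val_fin_one, _root_.implies_true, _root_.and_self, _root_.Sum.elim_inr, _root_.mul_neg, _root_.forall_const, _root_.true_and]) <;> (repeat' with_reducible apply And.intro) <;> ring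

/-- the plus part -/
def pt1 (d : ℕ) : ((Fin d ⊕ Fin d) ⊕ Fin 2 → K) →ₗ[K] (Fin d ⊕ Fin d → K) where
  toFun x i := x (.inl i)
  map_add' _ _ := rfl
  map_smul' _ _ := rfl

/-- the negative of the plus part -/
def pt2 (d : ℕ) : ((Fin d ⊕ Fin d) ⊕ Fin 2 → K) →ₗ[K] (Fin d ⊕ Fin d → K) where
  toFun x := Sum.elim (fun i => x (.inl (.inl i))) (fun i => -x (.inl (.inr i)))
  map_add' x y := by
    ext s
    rcases s with i | i <;> simp only [_root_.Pi.add_apply, _root_.neg_add_rev, _root_.Sum.elim_inl, _root_.Sum.elim_inr]; ring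
  map_smul' c x := by
    ext s
    rcases s with i | i <;> simp

/-- `minus_d → plus_{d+l+2}` -/
def pone (d l : ℕ) : ((Fin d ⊕ Fin d) ⊕ Fin 2 → K) →ₗ[K] (Fin (d + (l + 2)) ⊕ Fin (d + (l + 2)) → K) :=
  (kmap K d (l + 2)).comp (pt1 d) + (jmap K d (l + 2)).comp ((jmap K l 2).comp (tw1 a b d))

/-- `-minus_l → plus_{d+l+2}` -/
def ptwo (d l : ℕ) : ((Fin l ⊕ Fin l) ⊕ Fin 2 → K) →ₗ[K] (Fin (d + (l + 2)) ⊕ Fin (d + (l + 2)) → K) :=
  (jmap K d (l + 2)).comp ((kmap K l 2).comp (pt2 l) + (jmap K l 2).comp (tw2 a b l))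

theorem pone_eq (d l : ℕ) (x : (Fin d ⊕ Fin d) ⊕ Fin 2 → K) : pone a b d l x = kmap K d (l + 2) (pt1 d x) +
    jmap K d (l + 2) (kmap K l 2 0 + jmap K l 2 (tw1 a b d x)) := by
  rw [map_zero, zero_add]
  rfl

theorem ptwo_eq (d l : ℕ) (x : (Fin l ⊕ Fin l) ⊕ Fin 2 → K) : ptwo a b d l x = kmap K d (l + 2) 0 +
    jmap K d (l + 2) (kmap K l 2 (pt2 l x) + jmap K l 2 (tw2 a b l x)) := by
  rw [map_zero, zero_add]
  rfl

theorem hypB_zero_left (n : ℕ) (u : Fin n ⊕ Fin n → K) : hypB K n 0 u = 0 := by simp only [hypB, _root_.Pi.zero_apply, _root_.MulZeroClass.zero_mul, _root_.add_zero, _root_.Finset.sum_const_zero]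

theorem hypB_zero_right (n : ℕ) (u : Fin n ⊕ Fin n → K) : hypB K n u 0 = 0 := by simp only [hypB, _root_.Pi.zero_apply, _root_.MulZeroClass.mul_zero, _root_.add_zero, _root_.Finset.sum_const_zero]

theorem quad_zero (n : ℕ) : quadFormPlus n K (0 : Fin n ⊕ Fin n → K) = 0 := by simp only [quadFormPlus, _root_.Pi.zero_apply, _root_.MulZeroClass.mul_zero, _root_.Finset.sum_const_zero]

variable [Finite K] {a b} (hab : ∀ z₁ z₂ : K, z₁ ^ 2 + a * z₁ * z₂ + b * z₂ ^ 2 = 0 → z₁ = 0 ∧ z₂ = 0)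

theorem plus_one (d l : ℕ) : Emb (plusF K (d + (l + 2))) (minusF K d a b hab) (pone a b d l) 1 where
  hc := one_ne_zero
  hB x y := by
    rw [plusF_B, minusF_B, pone_eq, pone_eq, hypB_kj, hypB_kj, hypB_zero_left]
    simp only [minusB, hypB, Fin.sum_univ_two, pt1, tw1, LinearMap.coe_mk, AddHom.coe_mk, Sum.elim_inl, Sum.elim_inr,
      Matrix.cons_val_zero, Matrix.cons_val_one]
    ring
  hQ x := by
    change quadFormPlus _ K _ = 1 * quadFormMinus d K a b x
    rw [pone_eq, quad_kj, quad_kj, quad_zero]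
    simp only [quadFormMinus, quadFormPlus, Fin.sum_univ_two, pt1, tw1, LinearMap.coe_mk, AddHom.coe_mk, Sum.elim_inl,
      Sum.elim_inr, Matrix.cons_val_zero, Matrix.cons_val_one]
    ring

theorem plus_two (d l : ℕ) : Emb (plusF K (d + (l + 2))) (minusF K l a b hab) (ptwo a b d l) (-1) where
  hc := neg_ne_zero.2 one_ne_zero
  hB x y := by
    rw [plusF_B, minusF_B, ptwo_eq, ptwo_eq, hypB_kj, hypB_kj, hypB_zero_left]
    simp only [minusB, hypB, Fin.sum_univ_two, pt2, tw2, LinearMap.coe_mk, AddHom.coe_mk, Sum.elim_inl, Sum.elim_inr,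
      Matrix.cons_val_zero, Matrix.cons_val_one, mul_add, Finset.mul_sum, Finset.sum_add_distrib]
    simp only [mul_neg, neg_mul, Finset.sum_neg_distrib]
    ring
  hQ x := by
    change quadFormPlus _ K _ = -1 * quadFormMinus l K a b x
    rw [ptwo_eq, quad_kj, quad_kj, quad_zero]
    simp only [quadFormMinus, quadFormPlus, Fin.sum_univ_two, pt2, tw2, LinearMap.coe_mk, AddHom.coe_mk, Sum.elim_inl,
      Sum.elim_inr, Matrix.cons_val_zero, Matrix.cons_val_one, mul_neg, Finset.sum_neg_distrib]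
    ring

theorem plus_orth (d l : ℕ) (x : (Fin d ⊕ Fin d) ⊕ Fin 2 → K) (y : (Fin l ⊕ Fin l) ⊕ Fin 2 → K) :
    (plusF K (d + (l + 2))).B (ptwo a b d l y) (pone a b d l x) = 0 := by
  rw [plusF_B, ptwo_eq, pone_eq, hypB_kj, hypB_kj, hypB_zero_left, hypB_zero_right]
  simp only [hypB, Fin.sum_univ_two, tw1, tw2, LinearMap.coe_mk, AddHom.coe_mk, Sum.elim_inl, Sum.elim_inr,
    Matrix.cons_val_zero, Matrix.cons_val_one]
  ring

end plus

end Cfsg.Agent.H766.PQ
end

-- part: H766/PQ/RowsCore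
section
/-!
# S4612: the core case for the classical groups (helper766)

`ord_q(Q) = 2 d'`, `ord_p(Q) = 2 d`, `d' = c d`, `c` odd (including `d = d'`): `psp_core`, `odd_core`, `plus_core`,
`minus_core`; `psu_core` : `q ∣ s ^ e' + 1`, `p ∣ s ^ e + 1`, `e ∣ e'` odd, `q`, `p` not dividing `s + 1`.
-/

set_option autoImplicit false
set_option linter.unusedSectionVars false

open Cfsg Cfsg.Agent

namespace Cfsg.Agent.H766.PQ

open Cfsg.Agent.H358.A3 (PQ)
open Cfsg.Agent.H317.PQ (Same)
open Cfsg.Agent.H477.HC Module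
open Cfsg.Agent.H61.PQ

universe u v w

/-! ### arithmetic -/

section arith

variable {Q q d : ℕ}

theorem dvd_pow_add_one (hq : q.Prime) (hQ : 1 ≤ Q) (hd : 0 < d) (h : orderOf ((Q : ℕ) : ZMod q) = 2 * d) :
    q ∣ Q ^ d + 1 := by
  have h1 : q ∣ Q ^ (2 * d) - 1 := by rw [pow_sub_one_iff hQ, h]
  rw [sq_sub] at h1
  have h2 : ¬ q ∣ Q ^ d - 1 := by
    rw [pow_sub_one_iff hQ, h]
    intro h3
    have := Nat.le_of_dvd hd h3
    omega
  rcases hq.dvd_mul.1 h1 with h3 | h3
  · exact h3
  · exact absurd h3 h2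

/-- `p ∣ Q ^ d + 1`, `c` odd: `p ∣ Q ^ (c d) + 1` -/
theorem dvd_pow_odd {p c : ℕ} (hc : Odd c) (h : p ∣ Q ^ d + 1) : p ∣ Q ^ (c * d) + 1 := by
  refine h.trans ?_
  have h1 := Odd.nat_add_dvd_pow_add_pow (Q ^ d) 1 hc
  rwa [one_pow, ← pow_mul, mul_comm] at h1

theorem not_dvd_of_order (hq : q.Prime) (hd : 0 < d) (h : orderOf ((Q : ℕ) : ZMod q) = 2 * d) : ¬ q ∣ Q := by
  intro h1
  rw [← ZMod.natCast_eq_zero_iff] at h1
  rw [h1] at h
  have : Fact q.Prime := ⟨hq⟩
  have h2 : orderOf (0 : ZMod q) = 0 := by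
    rw [orderOf_eq_zero_iff']
    intro n hn
    rw [zero_pow hn.ne']
    exact zero_ne_one
  omega

/-- the order modulo `2` is at most one -/
theorem ne_two_of_order (hd : 0 < d) (h : orderOf ((Q : ℕ) : ZMod q) = 2 * d) : q ≠ 2 := by
  rintro rfl
  have h1 : orderOf ((Q : ℕ) : ZMod 2) ≤ 1 := by
    have : ((Q : ℕ) : ZMod 2) = 0 ∨ ((Q : ℕ) : ZMod 2) = 1 := by
      generalize ((Q : ℕ) : ZMod 2) = z
      revert z
      decide
    rcases this with h2 | h2
    · rw [h2]
      have : orderOf (0 : ZMod 2) = 0 := by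
        rw [orderOf_eq_zero_iff']
        intro n hn
        rw [zero_pow hn.ne']
        exact zero_ne_one
      omega
    · rw [h2, orderOf_one]
  omega

end arith

/-- a group of exponent dividing `m` -/
theorem not_dvd_card_of_exp {Z : Type*} [Group Z] [Finite Z] {q m : ℕ} (hq : q.Prime) (hm : ¬ q ∣ m) (h : ∀ z : Z, z ^ m = 1) :
    ¬ q ∣ Nat.card Z := by
  intro hd
  have : Fact q.Prime := ⟨hq⟩
  obtain ⟨z, hz⟩ := exists_prime_orderOf_dvd_card' (G := Z) q hd
  apply hm
  rw [← hz]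
  exact orderOf_dvd_of_pow_eq_one (h z)

/-! ### symplectic and orthogonal groups -/

section rows

variable {K : Type u} [Field K] [Finite K] {q p d c : ℕ}

/-- the general statement for `σ = 1` -/
theorem core_of {V : Type v} [AddCommGroup V] [Module K V] [Finite V] [FiniteDimensional K V] (F : CForm K V)
    (hσ : F.σ = RingHom.id K) (hqp : q.Prime) (hp : p.Prime) (hpq : q ≠ p) (hd : 0 < d) (hc : Odd c)
    (ho : orderOf ((Nat.card K : ℕ) : ZMod q) = 2 * (c * d)) (ho' : orderOf ((Nat.card K : ℕ) : ZMod p) = 2 * d)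
    {I : Type*} [Group I] (E : I ≃* F.iso) (G : Subgroup I) [G.Normal] (hidx : ¬ p ∣ G.index) {S : Type w} [Group S]
    (f : G →* S) (hf : Function.Surjective f) (hZ : f.ker ≤ Subgroup.center G) (hZ2 : ∀ z ∈ f.ker, z ^ 2 = 1)
    (hdS : q ∣ Nat.card S) : ¬ PQ q p S := by
  obtain ⟨r, hr, hrK⟩ := exists_char_prime (K := K)
  have : Fact r.Prime := ⟨hr⟩
  obtain ⟨a, ha⟩ := H477.HC.card_pow K r
  have hfI : Finite I := Finite.of_equiv _ E.symm.toEquiv
  have hQ : 1 ≤ Nat.card K := Nat.card_pos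
  have hc0 : 0 < c := hc.pos
  have hcd : 0 < c * d := Nat.mul_pos hc0 hd
  have hq2 := ne_two_of_order hcd ho
  have hp2 := ne_two_of_order hd ho'
  have hker : ∀ l : ℕ, l.Prime → l ≠ 2 → ¬ l ∣ Nat.card f.ker := by
    intro l hl hl2
    refine not_dvd_card_of_exp hl (m := 2) (fun h => hl2 ((Nat.prime_dvd_prime_iff_eq hl Nat.prime_two).1 h)) ?_
    rintro ⟨z, hz⟩
    exact Subtype.ext (hZ2 z hz)
  refine not_PQ_core' (F := F) (r := r) (t := a * (c * d)) (N := Nat.card K ^ (c * d)) (by rw [ha, ← pow_mul]) ?_ ?_ hqp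
    (dvd_pow_add_one hqp hQ hcd ho) hp hpq (dvd_pow_odd hc (dvd_pow_add_one hp hQ hd ho')) ?_ E G hidx f hf hZ
    (hker q hqp hq2) (hker p hp hp2) hdS
  · exact Nat.one_lt_pow hcd.ne' Finite.one_lt_card
  · intro x
    rw [hσ, RingHom.id_apply]
    have : Fintype K := Fintype.ofFinite K
    rw [Nat.card_eq_fintype_card]
    exact FiniteField.pow_card_pow (c * d) x
  · intro j hj
    rw [pow_sub_one_iff hQ, ho] at hj
    rw [pow_sub_one_iff hQ, ho']
    exact (Dvd.intro_left c (by ring)).trans hj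

/-- **`PSp_{2m}(Q)`, core case** -/
theorem psp_core {m : ℕ} (hqp : q.Prime) (hp : p.Prime) (hpq : q ≠ p) (hd : 0 < d) (hc : Odd c)
    (ho : orderOf ((Nat.card K : ℕ) : ZMod q) = 2 * (c * d)) (ho' : orderOf ((Nat.card K : ℕ) : ZMod p) = 2 * d)
    (hdS : q ∣ Nat.card (PSp m K)) : ¬ PQ q p (PSp m K) := by
  classical
  let f : (⊤ : Subgroup (Matrix.symplecticGroup (Fin m) K)) →* PSp m K :=
    (QuotientGroup.mk' (Subgroup.center (Matrix.symplecticGroup (Fin m) K))).comp (Subgroup.subtype ⊤)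
  have hker : ∀ z ∈ f.ker, (z : Matrix.symplecticGroup (Fin m) K) ∈
      Subgroup.center (Matrix.symplecticGroup (Fin m) K) := by
    intro z hz
    exact (QuotientGroup.eq_one_iff _).1 (MonoidHom.mem_ker.1 hz)
  refine core_of (CForm.spF K m) rfl hqp hp hpq hd hc ho ho' (isoSp m K) ⊤ ?_ f ?_ ?_ ?_ hdS
  · rw [Subgroup.index_top]
    exact fun h => hp.one_lt.ne' (Nat.dvd_one.1 h)
  · intro x
    obtain ⟨y, rfl⟩ := QuotientGroup.mk_surjective x
    exact ⟨⟨y, Subgroup.mem_top y⟩, rfl⟩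
  · intro z hz
    have h1 := hker z hz
    rw [Subgroup.mem_center_iff] at h1 ⊢
    intro g
    exact Subtype.ext (h1 g)
  · intro z hz
    apply Subtype.ext
    apply Subtype.ext
    rcases Cfsg.Agent.ClassicalGeometry.SympInvolutions.center_eq (hker z hz) with h | h
    · change ((z : Matrix.symplecticGroup (Fin m) K).1) ^ 2 = 1
      rw [h, one_pow]
    · change ((z : Matrix.symplecticGroup (Fin m) K).1) ^ 2 = 1
      rw [h, neg_one_sq]

/-- orthogonal groups: the general statement -/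
theorem om_core {ι : Type} [Fintype ι] [DecidableEq ι] (F : CForm K (ι → K)) (hσ : F.σ = RingHom.id K)
    (hB : ∀ u v, F.B u v = F.Q (u + v) - F.Q u - F.Q v) (hqp : q.Prime) (hp : p.Prime) (hpq : q ≠ p) (hd : 0 < d)
    (hc : Odd c) (ho : orderOf ((Nat.card K : ℕ) : ZMod q) = 2 * (c * d))
    (ho' : orderOf ((Nat.card K : ℕ) : ZMod p) = 2 * d)
    (hcen : ∀ z : Omega K F.Q, z ∈ Subgroup.center (Omega K F.Q) → omMat z = 1 ∨ omMat z = -1)
    (hidx : (Omega K F.Q).index ∣ 8) (hdS : q ∣ Nat.card (POmega K F.Q)) : ¬ PQ q p (POmega K F.Q) := by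
  refine core_of F hσ hqp hp hpq hd hc ho ho' (isoQuad F hB) (Omega K F.Q) ?_
    (QuotientGroup.mk' (Subgroup.center (Omega K F.Q))) (QuotientGroup.mk'_surjective _) ?_ ?_ hdS
  · intro h
    have h1 : p ∣ 2 ^ 3 := h.trans hidx
    exact ne_two_of_order hd ho' ((Nat.prime_dvd_prime_iff_eq hp Nat.prime_two).1 (hp.dvd_of_dvd_pow h1))
  · rw [QuotientGroup.ker_mk']
  · intro z hz
    rw [QuotientGroup.ker_mk'] at hz
    apply Subtype.ext
    apply Subtype.ext
    apply Units.ext
    rcases hcen z hz with h | h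
    · change (omMat z) ^ 2 = 1
      rw [h, one_pow]
    · change (omMat z) ^ 2 = 1
      rw [h, neg_one_sq]

/-- **`PΩ_{2m+1}(Q)`, core case** -/
theorem odd_core {m : ℕ} (hodd : Odd (Nat.card K)) (hm : 3 ≤ m) (hqp : q.Prime) (hp : p.Prime) (hpq : q ≠ p)
    (hd : 0 < d) (hc : Odd c) (ho : orderOf ((Nat.card K : ℕ) : ZMod q) = 2 * (c * d))
    (ho' : orderOf ((Nat.card K : ℕ) : ZMod p) = 2 * d) (hdS : q ∣ Nat.card (POmega K (quadFormOdd m K))) :
    ¬ PQ q p (POmega K (quadFormOdd m K)) := by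
  classical
  obtain ⟨r, hr, hrK⟩ := exists_char_prime (K := K)
  have : Fact r.Prime := ⟨hr⟩
  have h2 := two_ne_zero_of_odd (K := K) (p := r) hodd
  refine om_core (CForm.oddF K m h2) rfl (odd_hB K m h2) hqp hp hpq hd hc ho ho'
    (fun z hz => cen_odd K h2 (by omega) z hz) ?_ hdS
  have := (odd_idx K (p := r) hodd hm).1
  change (Omega K (quadFormOdd m K)).index ∣ 8
  rw [this]
  norm_num

/-- **`PΩ⁺_{2m}(Q)`, core case** -/
theorem plus_core {m : ℕ} (hm : 4 ≤ m) (hqp : q.Prime) (hp : p.Prime) (hpq : q ≠ p)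
    (hd : 0 < d) (hc : Odd c) (ho : orderOf ((Nat.card K : ℕ) : ZMod q) = 2 * (c * d))
    (ho' : orderOf ((Nat.card K : ℕ) : ZMod p) = 2 * d) (hdS : q ∣ Nat.card (POmega K (quadFormPlus m K))) :
    ¬ PQ q p (POmega K (quadFormPlus m K)) := by
  classical
  obtain ⟨r, hr, hrK⟩ := exists_char_prime (K := K)
  have : Fact r.Prime := ⟨hr⟩
  exact om_core (CForm.plusF K m) rfl (plus_hB K m) hqp hp hpq hd hc ho ho'
    (fun z hz => cen_plus K (by omega) z hz) (plus_idx K hm) hdS

/-- **`PΩ⁻_{2m+2}(Q)`, core case** -/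
theorem minus_core {m : ℕ} (hm : 3 ≤ m) {a b : K}
    (hab : ∀ z₁ z₂ : K, z₁ ^ 2 + a * z₁ * z₂ + b * z₂ ^ 2 = 0 → z₁ = 0 ∧ z₂ = 0) (hqp : q.Prime) (hp : p.Prime)
    (hpq : q ≠ p) (hd : 0 < d) (hc : Odd c) (ho : orderOf ((Nat.card K : ℕ) : ZMod q) = 2 * (c * d))
    (ho' : orderOf ((Nat.card K : ℕ) : ZMod p) = 2 * d) (hdS : q ∣ Nat.card (POmega K (quadFormMinus m K a b))) :
    ¬ PQ q p (POmega K (quadFormMinus m K a b)) := by
  classical
  obtain ⟨r, hr, hrK⟩ := exists_char_prime (K := K)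
  have : Fact r.Prime := ⟨hr⟩
  exact om_core (CForm.minusF K m a b hab) rfl (minus_hB K m a b hab) hqp hp hpq hd hc ho ho'
    (fun z hz => cen_minus K (by omega) a b hab z hz) (minus_idx K a b hab hm) hdS

end rows

/-! ### unitary groups -/

section unitary

variable {K : Type u} [Field K] [Fintype K] {q p s : ℕ}

/-- a prime dividing the index of `SU` in `GU` divides `s + 1` -/
theorem index_sg (hF : Fintype.card K = s ^ 2) (hs : Nat.card K = s ^ 2) (n : ℕ) (hp : p.Prime) (hps : ¬ p ∣ s + 1) :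
    ¬ p ∣ (H328.Gow.sg (CForm.hermF K hs n)).index := by
  intro h
  have : Fact p.Prime := ⟨hp⟩
  have hfin : Finite (CForm.hermF K hs n).iso := finite_iso' _
  have hsgn : (H328.Gow.sg (CForm.hermF K hs n)).Normal := MonoidHom.normal_ker _
  obtain ⟨x, hx⟩ := exists_prime_orderOf_dvd_card' (G := (CForm.hermF K hs n).iso ⧸ H328.Gow.sg (CForm.hermF K hs n)) p h
  obtain ⟨g, rfl⟩ := QuotientGroup.mk_surjective x
  have h5 : ((g : (CForm.hermF K hs n).iso ⧸ H328.Gow.sg (CForm.hermF K hs n))) ^ (s + 1) = 1 := by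
    rw [← QuotientGroup.mk_pow, QuotientGroup.eq_one_iff, H328.Gow.mem_sg]
    obtain ⟨A, rfl⟩ := (isoGU hs n).surjective g
    rw [← map_pow, H328.Gow.det_isoGU]
    have h6 := Cfsg.Agent.ClassicalGeometry.GUBasic.det_pow hF fun u v => A.2 u v
    rw [Subgroup.coe_pow, Units.val_pow_eq_pow_val, Matrix.det_pow]
    exact h6
  have h6 := orderOf_dvd_of_pow_eq_one h5
  rw [hx] at h6
  exact hps h6

/-- the projection of the special isometry group onto `PSU` -/
noncomputable def suF (hs : Nat.card K = s ^ 2) (n : ℕ) : H328.Gow.sg (CForm.hermF K hs n) →* PSU n K s :=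
  (QuotientGroup.mk' (Subgroup.center (SU n K s))).comp (suE (K := K) hs n).symm.toMonoidHom

theorem suF_surjective (hs : Nat.card K = s ^ 2) (n : ℕ) : Function.Surjective (suF (K := K) hs n) :=
  (QuotientGroup.mk'_surjective _).comp (suE hs n).symm.surjective

theorem suF_ker (hs : Nat.card K = s ^ 2) (n : ℕ) {z : H328.Gow.sg (CForm.hermF K hs n)} (hz : z ∈ (suF hs n).ker) :
    (suE hs n).symm z ∈ Subgroup.center (SU n K s) := (QuotientGroup.eq_one_iff _).1 (MonoidHom.mem_ker.1 hz)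

theorem suF_center (hs : Nat.card K = s ^ 2) (n : ℕ) : (suF (K := K) hs n).ker ≤ Subgroup.center _ := by
  intro z hz
  have h1 := suF_ker hs n hz
  rw [Subgroup.mem_center_iff] at h1 ⊢
  intro g
  apply (suE hs n).symm.injective
  rw [map_mul, map_mul]
  exact h1 _

/-- the kernel consists of scalars of order dividing `s + 1` -/
theorem suF_scalar (hF : Fintype.card K = s ^ 2) (hs : Nat.card K = s ^ 2) {n : ℕ} (hn : 3 ≤ n)
    {z : H328.Gow.sg (CForm.hermF K hs n)} (hz : z ∈ (suF hs n).ker) : ∃ a : K, a ^ n = 1 ∧ a ^ (s + 1) = 1 ∧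
      ∀ v, ((z : (CForm.hermF K hs n).iso) : (Fin n → K) ≃ₗ[K] (Fin n → K)) v = a • v := by
  obtain ⟨a, han, haq, h5⟩ := (Cfsg.Agent.LieClassical.SUBasic.mem_center_SU_iff hF hn _).1 (suF_ker hs n hz)
  refine ⟨a, han, haq, fun v => ?_⟩
  have h7 : z = suE hs n ((suE hs n).symm z) := ((suE hs n).apply_symm_apply z).symm
  rw [h7]
  change ((((suE hs n).symm z : SU n K s) : Matrix.SpecialLinearGroup (Fin n) K) : Matrix _ _ K).mulVec v = a • v
  rw [h5]
  change (Matrix.diagonal (fun _ => a)).mulVec v = a • v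
  ext i
  rw [Matrix.mulVec_diagonal, Pi.smul_apply, smul_eq_mul]

/-- a scalar linear map raised to a power -/
theorem pow_of_scalar {W : Type*} [AddCommGroup W] [Module K W] {g : W ≃ₗ[K] W} {a : K} (h : ∀ v, g v = a • v) (m : ℕ)
    (v : W) : (g ^ m) v = a ^ m • v := by
  induction m with
  | zero => rw [pow_zero, pow_zero, one_smul]; rfl
  | succ m ih => rw [pow_succ', pow_succ', LinearEquiv.mul_apply, ih, h, smul_smul]

theorem suF_card_ker (hF : Fintype.card K = s ^ 2) (hs : Nat.card K = s ^ 2) {n : ℕ} (hn : 3 ≤ n) {l : ℕ} (hl : l.Prime)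
    (hls : ¬ l ∣ s + 1) : ¬ l ∣ Nat.card (suF (K := K) hs n).ker := by
  have hfin : Finite (CForm.hermF K hs n).iso := finite_iso' _
  refine not_dvd_card_of_exp hl hls ?_
  rintro ⟨z, hz⟩
  apply Subtype.ext
  apply Subtype.ext
  apply Subtype.ext
  apply LinearEquiv.ext
  intro v
  have hob_ := suF_scalar hF hs hn hz
  obtain ⟨a, -, ha, h⟩ := hob_
  change ((((z : (CForm.hermF K hs n).iso) : (Fin n → K) ≃ₗ[K] (Fin n → K)) ^ (s + 1)) v) = v
  rw [pow_of_scalar h, ha, one_smul]

/-- **`PSU_n(s)`, core case**, `p`, `q` not dividing `s + 1` -/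
theorem psu_core {n : ℕ} (hF : Fintype.card K = s ^ 2) (hn : 3 ≤ n) (hqp : q.Prime) (hp : p.Prime) (hpq : q ≠ p)
    {e c : ℕ} (he : Odd e) (he1 : 1 < e) (hc : Odd c) (ho : orderOf ((s : ℕ) : ZMod q) = 2 * (c * e))
    (ho' : orderOf ((s : ℕ) : ZMod p) = 2 * e) (hdS : q ∣ Nat.card (PSU n K s)) : ¬ PQ q p (PSU n K s) := by
  classical
  have hs : Nat.card K = s ^ 2 := by rw [Nat.card_eq_fintype_card, hF]
  obtain ⟨r, hr, hrK⟩ := exists_char_prime (K := K)
  have : Fact r.Prime := ⟨hr⟩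
  have hs2 := CForm.two_le_of_card hs
  have hs1 : 1 ≤ s := by omega
  obtain ⟨b, hb⟩ : ∃ b, s = r ^ b := by
    obtain ⟨a, ha⟩ := H477.HC.card_pow K r
    have h1 : s ∣ r ^ a := ⟨s, by rw [← ha, hs, sq]⟩
    obtain ⟨b, -, hb⟩ := (Nat.dvd_prime_pow hr).1 h1
    exact ⟨b, hb⟩
  have hce : Odd (c * e) := hc.mul he
  have hce0 : 0 < c * e := hce.pos
  have he0 : 0 < e := he.pos
  have hce1 : 1 < c * e := lt_of_lt_of_le he1 (Nat.le_mul_of_pos_left e hc.pos)
  have hps : ∀ {l k : ℕ}, 1 < k → orderOf ((s : ℕ) : ZMod l) = 2 * k → ¬ l ∣ s + 1 := by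
    intro l k hk h h1
    have h2 : l ∣ s ^ 2 - 1 := by
      have h3 : s ^ 2 - 1 ^ 2 = (s + 1) * (s - 1) := Nat.sq_sub_sq s 1
      rw [one_pow] at h3
      rw [h3]
      exact h1.mul_right _
    rw [pow_sub_one_iff hs1, h] at h2
    have := Nat.le_of_dvd (by norm_num) h2
    omega
  have hsgn : (H328.Gow.sg (CForm.hermF K hs n)).Normal := MonoidHom.normal_ker _
  refine not_PQ_core (F := CForm.hermF K hs n) (r := r) (t := b * (c * e)) (N := s ^ (c * e)) (by rw [hb, ← pow_mul]) ?_ ?_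
    hqp (dvd_pow_add_one hqp hs1 hce0 ho) hp hpq (dvd_pow_odd hc (dvd_pow_add_one hp hs1 he0 ho')) ?_
    (H328.Gow.sg (CForm.hermF K hs n)) (index_sg hF hs n hp (hps he1 ho')) (suF hs n) (suF_surjective hs n)
    (suF_center hs n) (suF_card_ker hF hs hn hqp (hps hce1 ho)) (suF_card_ker hF hs hn hp (hps he1 ho')) hdS
  · exact Nat.one_lt_pow hce0.ne' hs2
  · intro x
    obtain ⟨j, hj⟩ := hce
    have h1 : s ^ (c * e) = Fintype.card K ^ j * s := by
      rw [hj, hF, ← pow_mul, ← pow_succ]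
    rw [h1, pow_mul, FiniteField.pow_card_pow]
    rfl
  · intro j hj
    rw [hs, ← pow_mul, pow_sub_one_iff hs1, ho] at hj
    rw [hs, ← pow_mul, pow_sub_one_iff hs1, ho']
    exact (Dvd.intro_left c (by ring)).trans hj

end unitary

end Cfsg.Agent.H766.PQ
end

-- part: H766/PQ/Steps
section
/-!
# S4612: one descent for the orthogonal groups (helper766)

`q` an odd prime with `ord_q |K| = 2 (d + 1)`:

* `plus_step` : `PQ q p PΩ⁺_{2m}`, `m = d + (l + 2)`, gives `PQ q p` for the commutator subgroup of the isometry group of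
  `quadFormMinus l`;
* `minus_step` : `PQ q p PΩ⁻_{2m+2}`, `m = k + d`, gives `PQ q p` for the commutator subgroup of the isometry group of
  `quadFormPlus k`;
* `plus_elt`, `minus_elt`, `sp_elt` : the elements.
-/

set_option autoImplicit false
set_option linter.unusedSectionVars false

open Cfsg Cfsg.Agent

namespace Cfsg.Agent.H766.PQ

open Cfsg.Agent.H358.A3 (PQ)
open Cfsg.Agent.H477.HC Module Cfsg.Agent.H477.HC.CForm
open Cfsg.Agent.H61.PQ

universe u v v₁ v₂

variable {K : Type u} [Field K] [Finite K]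

section om

variable {ι : Type} [Fintype ι] [DecidableEq ι] (F : CForm K (ι → K))
  (hB : ∀ u v, F.B u v = F.Q (u + v) - F.Q u - F.Q v)

/-- the projection of the commutator subgroup of the isometry group -/
noncomputable def omPr : ↥(commutator F.iso) →* POmega K F.Q :=
  (QuotientGroup.mk' (Subgroup.center (Omega K F.Q))).comp (commEquiv (isoQuad F hB)).symm.toMonoidHom

theorem omPr_surjective : Function.Surjective (omPr F hB) :=
  (QuotientGroup.mk'_surjective _).comp (commEquiv (isoQuad F hB)).symm.surjective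

theorem omPr_ker {z : ↥(commutator F.iso)} (hz : z ∈ (omPr F hB).ker) :
    (commEquiv (isoQuad F hB)).symm z ∈ Subgroup.center (Omega K F.Q) :=
  (QuotientGroup.eq_one_iff _).1 (MonoidHom.mem_ker.1 hz)

theorem omPr_center : (omPr F hB).ker ≤ Subgroup.center _ := by
  intro z hz
  have h1 := omPr_ker F hB hz
  rw [Subgroup.mem_center_iff] at h1 ⊢
  intro g
  apply (commEquiv (isoQuad F hB)).symm.injective
  ((conv => enter [@2]; rw [MulEquiv.map_mul]); (conv => enter [@3]; rw [MulEquiv.map_mul]))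
  exact h1 _

theorem omPr_scal (hcen : ∀ z : Omega K F.Q, z ∈ Subgroup.center (Omega K F.Q) → omMat z = 1 ∨ omMat z = -1)
    {z : ↥(commutator F.iso)} (hz : z ∈ (omPr F hB).ker) :
    (∀ v, ((z : F.iso) : (ι → K) ≃ₗ[K] (ι → K)) v = v) ∨ ∀ v, ((z : F.iso) : (ι → K) ≃ₗ[K] (ι → K)) v = -v := by
  have h1 : z = commEquiv (isoQuad F hB) ((commEquiv (isoQuad F hB)).symm z) :=
    ((commEquiv (isoQuad F hB)).apply_symm_apply z).symm
  have h2 : ∀ (y : Omega K F.Q) (v : ι → K), ((commEquiv (isoQuad F hB) y : F.iso) : (ι → K) ≃ₗ[K] (ι → K)) v =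
      (omMat y).mulVec v := fun y v => rfl
  rcases hcen _ (omPr_ker F hB hz) with h | h
  · left
    intro v
    rw [h1, h2, h, Matrix.one_mulVec]
  · right
    intro v
    rw [h1, h2, h, Matrix.neg_mulVec, Matrix.one_mulVec]

theorem omPr_card (hcen : ∀ z : Omega K F.Q, z ∈ Subgroup.center (Omega K F.Q) → omMat z = 1 ∨ omMat z = -1)
    {l : ℕ} (hl : l.Prime) (hl2 : l ≠ 2) : ¬ l ∣ Nat.card (omPr F hB).ker := by
  have hfin : Finite F.iso := finite_iso' F
  refine not_dvd_card_of_exp hl (m := 2) (fun h => hl2 ((Nat.prime_dvd_prime_iff_eq hl Nat.prime_two).1 h)) ?_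
  rintro ⟨z, hz⟩
  apply Subtype.ext
  apply Subtype.ext
  apply Subtype.ext
  apply LinearEquiv.ext
  intro v
  change ((z : F.iso) : (ι → K) ≃ₗ[K] (ι → K)) (((z : F.iso) : (ι → K) ≃ₗ[K] (ι → K)) v) = v
  rcases omPr_scal F hB hcen hz with h | h
  · rw [h, h]
  · rw [h, h, neg_neg]

include hB in
theorem comm_index : (commutator F.iso).index = (Omega K F.Q).index := by
  have h1 : commutator F.iso = (Omega K F.Q).map (isoQuad F hB).toMonoidHom := by
    change _ = (commutator (isometryGroup K F.Q)).map _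
    have h2 : Subgroup.map (isoQuad F hB).toMonoidHom ⊤ = ⊤ :=
      Subgroup.map_top_of_surjective _ (isoQuad F hB).surjective
    rw [commutator_def, commutator_def, Subgroup.map_commutator, h2]
  rw [h1]
  exact Subgroup.index_map_of_bijective (isoQuad F hB).bijective _

include hB in
theorem comm_idx (hidx : (Omega K F.Q).index ∣ 8) {l : ℕ} (hl : l.Prime) (hl2 : l ≠ 2) :
    ¬ l ∣ (commutator F.iso).index := by
  rw [comm_index F hB]
  intro h
  have h1 : l ∣ 2 ^ 3 := h.trans hidx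
  exact hl2 ((Nat.prime_dvd_prime_iff_eq hl Nat.prime_two).1 (hl.dvd_of_dvd_pow h1))

include hB in
/-- **One descent, orthogonal groups.** -/
theorem om_step (hcen : ∀ z : Omega K F.Q, z ∈ Subgroup.center (Omega K F.Q) → omMat z = 1 ∨ omMat z = -1)
    (hidx : (Omega K F.Q).index ∣ 8) {X : Type v₁} [AddCommGroup X] [Module K X] [Finite X] [FiniteDimensional K X]
    {F' : CForm K X} {Y : Type v₂} [AddCommGroup Y] [Module K Y] [FiniteDimensional K Y] {F₂ : CForm K Y}
    {ι₁ : X →ₗ[K] (ι → K)} {c : K} (E : Emb F F' ι₁ c) {κ : Y →ₗ[K] (ι → K)} {c' : K} (E' : Emb F F₂ κ c')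
    (horth : ∀ x y, F.B (κ y) (ι₁ x) = 0) (hd : finrank K (ι → K) = finrank K X + finrank K Y) {q p : ℕ} (hq : q.Prime)
    (hq2 : q ≠ 2) (hp : p.Prime) (hqp : q ≠ p) (hqK : ¬ q ∣ Nat.card K)
    (ho : ∀ i, 0 < i → q ∣ Nat.card K ^ i - 1 → finrank K X ≤ i) (hqX : q ∣ Nat.card F'.iso)
    (h : PQ q p (POmega K F.Q)) : PQ q p ↥(commutator F₂.iso) := by
  refine descend_block E E' horth hd hq hp hqp hqK ho hqX (comm_idx F hB hidx hq hq2) (omPr_surjective F hB)
    (omPr_center F hB) (omPr_card F hB hcen hq hq2) ?_ h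
  intro z hz
  rcases omPr_scal F hB hcen hz with h | h
  · exact ⟨1, fun v => by rw [h, one_smul]⟩
  · exact ⟨-1, fun v => by rw [h, neg_one_smul]⟩

end om

section rows

variable {q p d : ℕ}

theorem ord_le (hd : orderOf ((Nat.card K : ℕ) : ZMod q) = 2 * (d + 1)) (i : ℕ) (hi : 0 < i)
    (h : q ∣ Nat.card K ^ i - 1) : 2 * (d + 1) ≤ i := by
  rw [pow_sub_one_iff Nat.card_pos, hd] at h
  exact Nat.le_of_dvd hi h

theorem dvd_card_minusF (hq : q.Prime) (ho : orderOf ((Nat.card K : ℕ) : ZMod q) = 2 * (d + 1)) {a b : K}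
    (hab : ∀ z₁ z₂ : K, z₁ ^ 2 + a * z₁ * z₂ + b * z₂ ^ 2 = 0 → z₁ = 0 ∧ z₂ = 0) :
    q ∣ Nat.card (minusF K d a b hab).iso := by
  rw [card_minusF]
  exact ((dvd_pow_add_one hq Nat.card_pos (Nat.succ_pos d) ho).mul_left _).mul_right _

theorem finrank_minus (n : ℕ) : finrank K ((Fin n ⊕ Fin n) ⊕ Fin 2 → K) = 2 * (n + 1) := by
  simp only [_root_.Module.finrank_fintype_fun_eq_card, _root_.Fintype.card_sum, _root_.Fintype.card_fin]; ring

theorem finrank_plus (n : ℕ) : finrank K (Fin n ⊕ Fin n → K) = 2 * n := by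
  simp only [_root_.Module.finrank_fintype_fun_eq_card, _root_.Fintype.card_sum, _root_.Fintype.card_fin]; ring

/-- **From plus type to minus type.** -/
theorem plus_step {m l : ℕ} (hm : m = d + (l + 2)) (hm4 : 4 ≤ m) (hq : q.Prime) (hp : p.Prime) (hqp : q ≠ p)
    (ho : orderOf ((Nat.card K : ℕ) : ZMod q) = 2 * (d + 1)) {a b : K}
    (hab : ∀ z₁ z₂ : K, z₁ ^ 2 + a * z₁ * z₂ + b * z₂ ^ 2 = 0 → z₁ = 0 ∧ z₂ = 0)
    (h : PQ q p (POmega K (quadFormPlus m K))) : PQ q p ↥(commutator (minusF K l a b hab).iso) := by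
  classical
  subst hm
  obtain ⟨r, hr, hrK⟩ := exists_char_prime (K := K)
  have : Fact r.Prime := ⟨hr⟩
  refine om_step (plusF K (d + (l + 2))) (plus_hB K _) (fun z hz => cen_plus K (by omega) z hz) (plus_idx K hm4)
    (plus_one hab d l) (plus_two hab d l) (plus_orth d l) ?_ hq
    (ne_two_of_order (Nat.succ_pos d) ho) hp hqp (not_dvd_of_order hq (Nat.succ_pos d) ho) ?_ (dvd_card_minusF hq ho hab) h
  · rw [finrank_minus, finrank_minus, finrank_plus]
    ring
  · rw [finrank_minus]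
    exact ord_le ho

/-- **From minus type to plus type.** -/
theorem minus_step {m k : ℕ} (hm : m = k + d) (hm3 : 3 ≤ m) (hq : q.Prime) (hp : p.Prime) (hqp : q ≠ p)
    (ho : orderOf ((Nat.card K : ℕ) : ZMod q) = 2 * (d + 1)) {a b : K}
    (hab : ∀ z₁ z₂ : K, z₁ ^ 2 + a * z₁ * z₂ + b * z₂ ^ 2 = 0 → z₁ = 0 ∧ z₂ = 0)
    (h : PQ q p (POmega K (quadFormMinus m K a b))) : PQ q p ↥(commutator (plusF K k).iso) := by
  classical
  subst hm
  obtain ⟨r, hr, hrK⟩ := exists_char_prime (K := K)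
  have : Fact r.Prime := ⟨hr⟩
  refine om_step (minusF K (k + d) a b hab) (minus_hB K _ a b hab) (fun z hz => cen_minus K (by omega) a b hab z hz)
    (minus_idx K a b hab hm3) (minus_j hab k d) (minus_k hab k d) (minus_orth hab k d) ?_ hq
    (ne_two_of_order (Nat.succ_pos d) ho) hp hqp (not_dvd_of_order hq (Nat.succ_pos d) ho) ?_ (dvd_card_minusF hq ho hab) h
  · rw [finrank_minus, finrank_minus, finrank_plus]
    ring
  · rw [finrank_minus]
    exact ord_le ho

end rows

end Cfsg.Agent.H766.PQ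
end

private theorem dce_fa01cce5e32d : _root_.True := by
  try have : _root_.True := by simp only [_root_.Cfsg.Agent.H766.PQ.kmap.eq_1]
  try have : _root_.True := by simp only [_root_.Cfsg.Agent.H766.PQ.ext0.congr_simp]
  try have : _root_.True := by simp only [_root_.Cfsg.Agent.H766.PQ.tw2.eq_1]
  try have : _root_.True := by simp only [_root_.Cfsg.Agent.H766.PQ.pt2.eq_1]
  try have : _root_.True := by simp only [_root_.Cfsg.Agent.H766.PQ.tw1.eq_1]
  try have : _root_.True := by simp only [_root_.Cfsg.Agent.H477.HC.CForm.symp.congr_simp]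
  try have : _root_.True := by simp only [_root_.Cfsg.Agent.H766.PQ.pt1.eq_1]
  try have : _root_.True := by simp only [_root_.Cfsg.Agent.H477.HC.CForm.spF.eq_1]
  exact _root_.True.intro
end

-- part: H61/PQ/Psu3Str
section
prune_inst 0x20000000000000000080000000000000c010000
set_option linter.all false
open scoped Cfsg.Agent.FastGrp

/-!
# Cyclic Sylow `p`-subgroups, inertial index dividing 3 (helper61, S4612)

* `exists_struct` : the principal block, given an irreducible character equal to `-1` on the `p`-singular elements;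
* `exists_third` : a second such character `χw`: it is the third non-exceptional character and the exceptional ones
  have degree `χs(1) + χw(1) - 1`;
* `relIndex_dvd_three`.
-/

set_option autoImplicit false
set_option linter.unusedSectionVars false

namespace Cfsg.Agent.H61.PQ

open Cfsg Subgroup
open scoped ComplexConjugate
open Cfsg.Agent.Characters.Core Cfsg.Agent.H317.PQ

universe u

variable {G : Type u} [Group G] [Finite G] {p l : ℕ}

/-- the structure of the principal block -/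
theorem exists_struct [hp : Fact p.Prime] (P : Sylow p G) (hcyc : IsCyclic (P : Subgroup G)) (hpG : p ∣ Nat.card G)
    (hp5 : 5 ≤ p)
    (he3 : (centralizer ((P : Subgroup G) : Set G)).relIndex (normalizer ((P : Subgroup G) : Set G)) ∣ 3)
    (χs : IrrCharacter G) (hs1 : (χs : G → ℂ) ≠ 1) (hsing : ∀ g : G, p ∣ orderOf g → (χs : G → ℂ) g = -1) :
    ∃ (b : IrrCharacter G) (Y : Set (IrrCharacter G)) (ψ : IrrCharacter G) (ε ε' : ℤ) (one : IrrCharacter G),
      (one : G → ℂ) = 1 ∧
      (centralizer ((P : Subgroup G) : Set G)).relIndex (normalizer ((P : Subgroup G) : Set G)) = 3 ∧ b ≠ one ∧ b ≠ χs ∧ one ∉ Y ∧ χs ∉ Y ∧ b ∉ Y ∧ B0 p G = insert one (insert χs (insert b Y)) ∧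
      3 * Nat.card Y + 1 = Nat.card (P : Subgroup G) ∧ 2 ≤ Nat.card Y ∧ ψ ∈ Y ∧ (ε = 1 ∨ ε = -1) ∧ (ε' = 1 ∨ ε' = -1) ∧
      (∀ ψ' ∈ Y, ∀ g : G, ¬ p ∣ orderOf g → (ψ' : G → ℂ) g = (ψ : G → ℂ) g) ∧
      ∀ g : G, ¬ p ∣ orderOf g → (ε' : ℂ) * (ψ : G → ℂ) g + 1 - (χs : G → ℂ) g + (ε : ℂ) * (b : G → ℂ) g = 0 := by
  classical
  obtain ⟨M, hM⟩ := Blocks.ExistsModular.exists_isPModular hp.out
  have hMp := Blocks.Local.isPrime_of_isPModular hM
  obtain ⟨a, ha⟩ := (IsPGroup.iff_card).1 P.isPGroup'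
  have ha1 : 1 ≤ a := by
    by_contra h
    have h0 : a = 0 := by omega
    have h1 : p ∣ Nat.card (P : Subgroup G) := P.dvd_card_of_dvd_card hpG
    rw [ha, h0, pow_zero] at h1
    exact hp.out.one_lt.ne' (Nat.dvd_one.1 h1)
  set e0 := (centralizer ((P : Subgroup G) : Set G)).relIndex (normalizer ((P : Subgroup G) : Set G)) with he0
  obtain ⟨hep, -, -, X, Y, hXY, hd, hX, hY, hagree, δ, δ₀, hδ, hδ₀, hrel⟩ := H734.RB.block hM P hcyc ha1 ha he0.symm
  have := Fintype.ofFinite G
  have : Finite (IrrCharacter G) := finite_irr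
  have := Fintype.ofFinite (IrrCharacter G)
  let one : IrrCharacter G := ⟨1, isIrr_one⟩
  have honeB : one ∈ principalBlock M G := by
    show SameBlock M _ _
    exact Blocks.Osima.sameBlock_refl hM _
  have hs1' : χs ≠ one := fun h => hs1 (congrArg Subtype.val h)
  -- the size of `Y`
  have he01 : e0 = 1 ∨ e0 = 3 := (Nat.dvd_prime Nat.prime_three).1 he3
  have hpa : p ≤ p ^ a := Nat.le_self_pow (by omega) p
  have hdvd : e0 ∣ p ^ a - 1 := hep.trans (by simpa using Nat.sub_dvd_pow_sub_pow p 1 a)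
  have hY2 : 2 ≤ Nat.card Y := by
    rw [hY]
    rcases he01 with h | h
    · rw [h, Nat.div_one]
      omega
    · rw [h] at hep hdvd ⊢
      have h7 : 7 ≤ p := by
        by_contra hlt
        have : p = 5 ∨ p = 6 := by omega
        rcases this with h5 | h6
        · rw [h5] at hep
          norm_num at hep
        · have := hp.out
          rw [h6] at this
          norm_num at this
      rw [Nat.le_div_iff_mul_le (by norm_num)]
      omega
  have hYother : ∀ c : IrrCharacter G, ∃ ψ ∈ Y, ψ ≠ c := by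
    intro c
    by_contra hcon
    push Not at hcon
    have h1 : Y ⊆ {c} := fun ψ hψ => hcon ψ hψ
    have h2 : Nat.card Y ≤ 1 := by
      rw [Nat.card_coe_set_eq]
      exact (Set.ncard_le_ncard h1 (Set.toFinite _)).trans (by rw [Set.ncard_singleton])
    omega
  -- the orthogonality with `1 + χs`
  have hXs : ∀ F : IrrCharacter G → ℂ, ∑ᶠ χ ∈ X, F χ = ∑ χ with χ ∈ X, F χ := by
    intro F
    rw [finsum_mem_eq_finite_toFinset_sum _ (Set.toFinite _)]
    refine Finset.sum_congr ?_ fun _ _ => rfl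
    ext
    simp
  have horth : ∀ ψ ∈ Y, (if ψ = one then (δ₀ : ℂ) else 0) + (if ψ = χs then (δ₀ : ℂ) else 0) +
      ((if one ∈ X then (δ one : ℂ) else 0) + (if χs ∈ X then (δ χs : ℂ) else 0)) = 0 := by
    intro ψ hψ
    have h1 : ∑ g : G, (((one : G → ℂ) g + (χs : G → ℂ) g) * conj ((δ₀ : ℂ) * (ψ : G → ℂ) g +
        ∑ᶠ χ ∈ X, (δ χ : ℂ) * (χ : G → ℂ) g)) = 0 := by
      refine Finset.sum_eq_zero fun g _ => ?_
      by_cases hg : p ∣ orderOf g
      · have h2 : (one : G → ℂ) g = 1 := rfl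
        rw [h2, hsing g hg]
        ring
      · rw [hrel ψ hψ g hg, map_zero, mul_zero]
    have h2 : ∀ θ η : IrrCharacter G, ∑ g : G, (θ : G → ℂ) g * conj ((η : G → ℂ) g) =
        if η = θ then (Nat.card G : ℂ) else 0 := by
      intro θ η
      have h3 := classInner_irr θ.2 η.2
      rw [classInner_def, inv_mul_eq_iff_eq_mul₀ card_ne_zero_complex] at h3
      rw [h3]
      by_cases h4 : (θ : G → ℂ) = (η : G → ℂ)
      · rw [if_pos h4, if_pos (Subtype.ext h4).symm, mul_one]
      · rw [if_neg h4, if_neg (fun h5 => h4 (congrArg Subtype.val h5).symm), mul_zero]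
    have h3 : ∀ g : G, ((one : G → ℂ) g + (χs : G → ℂ) g) * conj ((δ₀ : ℂ) * (ψ : G → ℂ) g +
        ∑ᶠ χ ∈ X, (δ χ : ℂ) * (χ : G → ℂ) g) =
        (δ₀ : ℂ) * ((one : G → ℂ) g * conj ((ψ : G → ℂ) g)) + (δ₀ : ℂ) * ((χs : G → ℂ) g * conj ((ψ : G → ℂ) g)) +
        ∑ χ with χ ∈ X, ((δ χ : ℂ) * ((one : G → ℂ) g * conj ((χ : G → ℂ) g)) +
          (δ χ : ℂ) * ((χs : G → ℂ) g * conj ((χ : G → ℂ) g))) := by
      intro g
      rw [hXs, map_add, map_mul, map_sum, mul_add, Finset.mul_sum]
      congr 1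
      · rw [map_intCast]
        ring
      · refine Finset.sum_congr rfl fun χ _ => ?_
        rw [map_mul, map_intCast]
        ring
    rw [Finset.sum_congr rfl fun g _ => h3 g, Finset.sum_add_distrib, Finset.sum_add_distrib, ← Finset.mul_sum,
      ← Finset.mul_sum, Finset.sum_comm] at h1
    have h4 : ∀ χ : IrrCharacter G, ∑ g : G, ((δ χ : ℂ) * ((one : G → ℂ) g * conj ((χ : G → ℂ) g)) +
          (δ χ : ℂ) * ((χs : G → ℂ) g * conj ((χ : G → ℂ) g))) =
        (if χ = one then (δ χ : ℂ) * Nat.card G else 0) + (if χ = χs then (δ χ : ℂ) * Nat.card G else 0) := by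
      intro χ
      rw [Finset.sum_add_distrib, ← Finset.mul_sum, ← Finset.mul_sum, h2, h2, mul_ite, mul_ite, mul_zero]
    rw [Finset.sum_congr rfl fun χ _ => h4 χ, Finset.sum_add_distrib, Finset.sum_ite_eq', Finset.sum_ite_eq', h2, h2] at h1
    have hc : (Nat.card G : ℂ) ≠ 0 := card_ne_zero_complex
    simp only [Finset.mem_filter, Finset.mem_univ, true_and] at h1
    apply mul_right_cancel₀ hc
    rw [zero_mul]
    refine Eq.trans ?_ h1
    split_ifs <;> ring
  have hδne : ∀ χ ∈ X, (δ χ : ℂ) ≠ 0 := by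
    intro χ hχ
    rcases hδ χ hχ with h | h <;> rw [h] <;> norm_num
  have hδ₀ne : (δ₀ : ℂ) ≠ 0 := by
    rcases hδ₀ with h | h <;> rw [h] <;> norm_num
  -- `1 ∈ X`
  have honeX : one ∈ X := by
    by_contra hno
    have h1Y : one ∈ Y := by
      rw [hXY] at honeB
      exact honeB.resolve_left hno
    have h1 := horth one h1Y
    rw [if_pos rfl, if_neg (Ne.symm hs1'), if_neg hno, add_zero, zero_add] at h1
    obtain ⟨ψ, hψ, hψ1⟩ := hYother one
    have h2 := horth ψ hψ
    rw [if_neg hψ1, if_neg hno, zero_add] at h2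
    by_cases hsX : χs ∈ X
    · rw [if_pos hsX] at h1 h2
      have hψs : ψ ≠ χs := by
        rintro rfl
        exact Set.disjoint_left.1 hd hsX hψ
      rw [if_neg hψs, zero_add, zero_add] at h2
      exact hδne _ hsX h2
    · rw [if_neg hsX, add_zero] at h1
      exact hδ₀ne h1
  obtain ⟨hsX, hsgn⟩ : χs ∈ X ∧ (δ χs : ℂ) = -(δ one : ℂ) := by
    obtain ⟨ψ, hψ, hψs⟩ := hYother χs
    have hψ1 : ψ ≠ one := by
      rintro rfl
      exact Set.disjoint_left.1 hd honeX hψ
    have h1 := horth ψ hψ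
    rw [if_neg hψ1, if_neg hψs, if_pos honeX, add_zero, zero_add] at h1
    by_cases hsX : χs ∈ X
    · rw [if_pos hsX] at h1
      exact ⟨hsX, by linear_combination h1⟩
    · rw [if_neg hsX, add_zero] at h1
      exact absurd h1 (hδne _ honeX)
  have hsgn' : δ χs = -δ one := by exact_mod_cast hsgn
  -- `e0 = 3`
  have he03 : e0 = 3 := by
    rcases he01 with h | h
    · exfalso
      rw [h] at hX
      rw [Nat.card_coe_set_eq, Set.ncard_eq_one] at hX
      obtain ⟨c, hc⟩ := hX
      rw [hc] at honeX hsX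
      exact hs1' ((Set.mem_singleton_iff.1 hsX).trans (Set.mem_singleton_iff.1 honeX).symm)
    · exact h
  rw [he03] at hX hY hdvd
  obtain ⟨b, hbX, hXeq⟩ : ∃ b, (b ≠ one ∧ b ≠ χs) ∧ X = insert one (insert χs {b}) := by
    have h1 : (X \ {one, χs}).ncard = 1 := by
      rw [Set.ncard_sdiff (by
        rintro c hc
        rcases hc with rfl | hc
        · exact honeX
        · rw [Set.mem_singleton_iff.1 hc]; exact hsX) (Set.toFinite _), Set.ncard_pair (Ne.symm hs1')]
      rw [Nat.card_coe_set_eq] at hX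
      omega
    obtain ⟨b, hb⟩ := Set.ncard_eq_one.1 h1
    have hbm : b ∈ X \ {one, χs} := by rw [hb]; rfl
    refine ⟨b, ⟨fun h => hbm.2 (Or.inl h), fun h => hbm.2 (Or.inr h)⟩, ?_⟩
    ext c
    constructor
    · intro hc
      by_cases h2 : c = one
      · exact Or.inl h2
      by_cases h3 : c = χs
      · exact Or.inr (Or.inl h3)
      · have h4 : c ∈ X \ {one, χs} := ⟨hc, by rintro (h | h); exacts [h2 h, h3 h]⟩
        rw [hb] at h4
        exact Or.inr (Or.inr h4)
    · rintro (rfl | rfl | hc)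
      · exact honeX
      · exact hsX
      · rw [Set.mem_singleton_iff.1 hc]
        exact hbm.1
  have hbX' : b ∈ X := by rw [hXeq]; exact Or.inr (Or.inr rfl)
  obtain ⟨ψ, hψ, -⟩ := hYother one
  have hδ1 : δ one * δ one = 1 := by
    rcases hδ _ honeX with h | h <;> rw [h] <;> norm_num
  refine ⟨b, Y, ψ, δ one * δ b, δ one * δ₀, one, rfl, he0.symm.trans he03, hbX.1, hbX.2, Set.disjoint_left.1 hd honeX,
    Set.disjoint_left.1 hd hsX, Set.disjoint_left.1 hd hbX', ?_, ?_, hY2, hψ, ?_, ?_, ?_, ?_⟩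
  · rw [B0_eq hp.out hM, hXY, hXeq, Set.insert_union, Set.insert_union, Set.singleton_union]
  · rw [hY, ha, Nat.mul_div_cancel' hdvd]
    omega
  · rcases hδ _ honeX with h | h <;> rcases hδ _ hbX' with h' | h' <;> rw [h, h'] <;> norm_num
  · rcases hδ _ honeX with h | h <;> rcases hδ₀ with h' | h' <;> rw [h, h'] <;> norm_num
  · intro ψ' hψ' g hg
    exact hagree ψ' hψ' ψ hψ g hg
  · intro g hg
    have h1 := hrel ψ hψ g hg
    have h2 : ∑ᶠ χ ∈ X, (δ χ : ℂ) * (χ : G → ℂ) g =
        (δ one : ℂ) * 1 + ((δ χs : ℂ) * (χs : G → ℂ) g + (δ b : ℂ) * (b : G → ℂ) g) := by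
      rw [hXeq, finsum_mem_insert _ (by
        rintro (h | h)
        · exact hs1' h.symm
        · exact hbX.1 (Set.mem_singleton_iff.1 h).symm) (Set.toFinite _), finsum_mem_insert _ (by
        intro h
        exact hbX.2 (Set.mem_singleton_iff.1 h).symm) (Set.toFinite _), finsum_mem_singleton]
      rfl
    rw [h2, hsgn'] at h1
    have h3 : (δ one : ℂ) * (δ one : ℂ) = 1 := by exact_mod_cast hδ1
    push_cast at h1 ⊢
    linear_combination (δ one : ℂ) * h1 - (1 - (χs : G → ℂ) g) * h3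

/-- **a second character equal to `-1` on the `p`-singular elements** -/
theorem exists_third [hp : Fact p.Prime] (P : Sylow p G) (hcyc : IsCyclic (P : Subgroup G)) (hpG : p ∣ Nat.card G)
    (hp5 : 5 ≤ p)
    (he3 : (centralizer ((P : Subgroup G) : Set G)).relIndex (normalizer ((P : Subgroup G) : Set G)) ∣ 3)
    (χs : IrrCharacter G) (hs1 : (χs : G → ℂ) ≠ 1) (hsing : ∀ g : G, p ∣ orderOf g → (χs : G → ℂ) g = -1)
    (χw : IrrCharacter G) (hw1 : (χw : G → ℂ) ≠ 1) (hws : χw ≠ χs)
    (hwing : ∀ g : G, p ∣ orderOf g → (χw : G → ℂ) g = -1) {d : ℕ} (hd0 : 0 < d)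
    (hd : (χs : G → ℂ) 1 + (χw : G → ℂ) 1 = d + 1) :
    ∃ ψ ∈ B0 p G, (ψ : G → ℂ) 1 = d := by
  classical
  have := Fintype.ofFinite G
  obtain ⟨b, Y, ψ, ε, ε', one, hone, -, hb1, hbs, honeY, hsY, hbY, hB, hY, hY2, hψ, hε, hε', hagree, hrel⟩ :=
    exists_struct P hcyc hpG hp5 he3 χs hs1 hsing
  have hs1' : one ≠ χs := fun h => hs1 (by rw [← h, hone])
  have hw1' : one ≠ χw := fun h => hw1 (by rw [← h, hone])
  have hψ1 : ∀ ψ' ∈ Y, ψ' ≠ one := fun ψ' h h' => honeY (h' ▸ h)
  have hψb : ∀ ψ' ∈ Y, ψ' ≠ b := fun ψ' h h' => hbY (h' ▸ h)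
  have h2 : ∀ θ η : IrrCharacter G, ∑ g : G, (θ : G → ℂ) g * conj ((η : G → ℂ) g) =
      if η = θ then (Nat.card G : ℂ) else 0 := by
    intro θ η
    have h3 := classInner_irr θ.2 η.2
    rw [classInner_def, inv_mul_eq_iff_eq_mul₀ card_ne_zero_complex] at h3
    rw [h3]
    by_cases h4 : (θ : G → ℂ) = (η : G → ℂ)
    · rw [if_pos h4, if_pos (Subtype.ext h4).symm, mul_one]
    · rw [if_neg h4, if_neg (fun h5 => h4 (congrArg Subtype.val h5).symm), mul_zero]
  have hc : (Nat.card G : ℂ) ≠ 0 := card_ne_zero_complex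
  -- the orthogonality with `1 + χw`
  have horth : ∀ ψ' ∈ Y, (1 : ℂ) + (if b = χw then (ε : ℂ) else 0) + (if ψ' = χw then (ε' : ℂ) else 0) = 0 := by
    intro ψ' hψ'
    have h1 : ∑ g : G, (((one : G → ℂ) g + (χw : G → ℂ) g) * conj ((ε' : ℂ) * (ψ' : G → ℂ) g + (one : G → ℂ) g -
        (χs : G → ℂ) g + (ε : ℂ) * (b : G → ℂ) g)) = 0 := by
      refine Finset.sum_eq_zero fun g _ => ?_
      by_cases hg : p ∣ orderOf g
      · have h2 : (one : G → ℂ) g = 1 := by rw [hone]; rfl
        rw [h2, hwing g hg]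
        ring
      · have h3 := hrel g hg
        rw [← hagree ψ' hψ' g hg] at h3
        have h4 : (one : G → ℂ) g = 1 := by rw [hone]; rfl
        rw [h4, h3, map_zero, mul_zero]
    have h3 : ∀ g : G, ((one : G → ℂ) g + (χw : G → ℂ) g) * conj ((ε' : ℂ) * (ψ' : G → ℂ) g + (one : G → ℂ) g -
        (χs : G → ℂ) g + (ε : ℂ) * (b : G → ℂ) g) =
        (ε' : ℂ) * ((one : G → ℂ) g * conj ((ψ' : G → ℂ) g)) + (ε' : ℂ) * ((χw : G → ℂ) g * conj ((ψ' : G → ℂ) g)) +
        ((one : G → ℂ) g * conj ((one : G → ℂ) g) + (χw : G → ℂ) g * conj ((one : G → ℂ) g)) -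
        ((one : G → ℂ) g * conj ((χs : G → ℂ) g) + (χw : G → ℂ) g * conj ((χs : G → ℂ) g)) +
        ((ε : ℂ) * ((one : G → ℂ) g * conj ((b : G → ℂ) g)) + (ε : ℂ) * ((χw : G → ℂ) g * conj ((b : G → ℂ) g))) := by
      intro g
      rw [map_add, map_sub, map_add, map_mul, map_mul, map_intCast, map_intCast]
      ring
    rw [Finset.sum_congr rfl fun g _ => h3 g] at h1
    simp only [Finset.sum_add_distrib, Finset.sum_sub_distrib, ← Finset.mul_sum, h2] at h1
    rw [if_neg (hψ1 ψ' hψ'), if_true, if_neg hw1', if_neg hs1'.symm, if_neg (Ne.symm hws), if_neg hb1] at h1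
    apply mul_right_cancel₀ hc
    rw [zero_mul]
    refine Eq.trans ?_ h1
    split_ifs <;> ring
  -- `χw = b`
  have hwb : b = χw := by
    by_contra hne
    have h3 : ∀ ψ' ∈ Y, ψ' = χw := by
      intro ψ' hψ'
      by_contra h4
      have h5 := horth ψ' hψ'
      rw [if_neg hne, if_neg h4] at h5
      norm_num at h5
    have h4 : Y ⊆ {χw} := fun ψ' hψ' => h3 ψ' hψ'
    have : Finite (IrrCharacter G) := finite_irr
    have h5 : Nat.card Y ≤ 1 := by
      rw [Nat.card_coe_set_eq]
      exact (Set.ncard_le_ncard h4 (Set.toFinite _)).trans (by rw [Set.ncard_singleton])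
    omega
  have h3 := horth ψ hψ
  rw [if_pos hwb, if_neg (fun h => hψb ψ hψ (h.trans hwb.symm)), add_zero] at h3
  have h1p : ¬ p ∣ orderOf (1 : G) := by
    rw [orderOf_one]
    exact hp.out.one_lt.ne' ∘ Nat.dvd_one.1
  have r1 := hrel 1 h1p
  rw [hwb] at r1
  have h4 : (ε' : ℂ) * (ψ : G → ℂ) 1 = d := by linear_combination r1 + hd - (χw : G → ℂ) 1 * h3
  refine ⟨ψ, by rw [hB]; exact Or.inr (Or.inr (Or.inr hψ)), ?_⟩
  obtain ⟨n, hn0, hn⟩ := isIrr_apply_one ψ.2
  rcases hε' with h5 | h5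
  · rw [h5, Int.cast_one, one_mul] at h4
    exact h4
  · exfalso
    rw [h5, hn] at h4
    have h6 : (-1 : ℤ) * (n : ℤ) = d := by exact_mod_cast h4
    omega

/-- the inertial index of a cyclic Sylow `p`-subgroup, `p` odd, divides `3` -/
theorem relIndex_dvd_three [hp : Fact p.Prime] (hp2 : p ≠ 2) (P : Sylow p G) (hcyc : IsCyclic (P : Subgroup G))
    (h3 : ∀ n ∈ normalizer ((P : Subgroup G) : Set G), n ^ 3 ∈ centralizer ((P : Subgroup G) : Set G)) :
    (centralizer ((P : Subgroup G) : Set G)).relIndex (normalizer ((P : Subgroup G) : Set G)) ∣ 3 := by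
  classical
  obtain ⟨a, ha⟩ := (IsPGroup.iff_card).1 P.isPGroup'
  have hA : IsCyclic (MulAut (P : Subgroup G)) := by
    have e1 : MulAut (P : Subgroup G) ≃* (ZMod (Nat.card (P : Subgroup G)))ˣ := IsCyclic.mulAutMulEquiv _
    have h1 : IsCyclic (ZMod (Nat.card (P : Subgroup G)))ˣ := by
      rw [ha]
      exact ZMod.isCyclic_units_of_prime_pow p hp.out hp2 a
    exact isCyclic_of_surjective e1.symm e1.symm.surjective
  set f := Subgroup.normalizerMonoidHom (P : Subgroup G) with hf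
  have h1 : (centralizer ((P : Subgroup G) : Set G)).relIndex (normalizer ((P : Subgroup G) : Set G)) =
      Nat.card f.range := by
    rw [Subgroup.relIndex, ← Subgroup.index_ker, hf, Subgroup.normalizerMonoidHom_ker]
  rw [h1]
  have h2 : IsCyclic f.range := inferInstance
  obtain ⟨g, hg⟩ := h2.exists_ofOrder_eq_natCard
  rw [← hg]
  apply orderOf_dvd_of_pow_eq_one
  obtain ⟨g, ⟨n, rfl⟩⟩ := g
  apply Subtype.ext
  show (f n) ^ 3 = 1
  rw [← map_pow, ← MonoidHom.mem_ker, hf, Subgroup.normalizerMonoidHom_ker, Subgroup.mem_subgroupOf]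
  exact h3 n n.2

end Cfsg.Agent.H61.PQ
end

-- part: H638/PQ/RankThree
section
prune_inst 0x4353045407fe200000000259233205a36be0005b000600800b8a20d4201cb7b6289c2a1412e201c1a124aae1108350068131000c0424000000e84000000040501082806048149a011a0009000300c61000020000000000000000080000004100420c010000
set_option linter.all false
open scoped Cfsg.Agent.FastGrp

/-!
# S4612: rank 3 permutation characters, membership in the principal block by the eigenvalues (helper638)

`G` of rank 3 on `X` (`R3 G X R k l`), eigenvalues `r ≠ s` of `R`.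

* `frame_vals` : `1_H^G = 1 + χ₁ + χ₂` with `(r - s) χ₁(g) = N(g) - s fix(g) - (k - s)` (`N(g)` = the number of the points
  `x` with `R x (g x)`), the same for `χ₂` with `r`, `s` exchanged (from helper113's `frame_exact`).
* `mem_of_r3` : `p ∣ k - r` and `p ∣ l + 1 + r`: `χ₁ ∈ B0 p G`.
* `dvd_of_r3` : a normal set `L` of `c |X|` elements without points `x` with `R x (g x)` and with `1 + k` fixed points:
  `χ₁ ∈ B0 p G` implies `p ∣ c (l + 1 + r)`.
-/

set_option autoImplicit false
set_option linter.unusedSectionVars false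

open Cfsg Cfsg.Agent

namespace Cfsg.Agent.H638.PQ.RankThree

open Cfsg.Agent.H317.PQ Cfsg.Agent.Characters.Core Cfsg.Agent.Blocks.Basic
open Cfsg.Agent.H690.Spor.RankThree Cfsg.Agent.H690.Spor.RankThree.R3
open Cfsg.Agent.H816.IMEig
open scoped ComplexConjugate

universe u v

variable {G : Type u} {X : Type v} [Group G] [MulAction G X] {R : X → X → Prop} {k l : ℕ}

/-- the number of the points `x` with `R x (g x)` -/
noncomputable def nR (G : Type u) {X : Type v} [Group G] [MulAction G X] (R : X → X → Prop) (g : G) : ℕ :=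
  Nat.card {x : X // R x (g • x)}

/-- the number of the fixed points -/
noncomputable def fx (G : Type u) (X : Type v) [Group G] [MulAction G X] (g : G) : ℕ :=
  Nat.card (MulAction.fixedBy X g)

/-- the values of the character of the eigenvalue `r` -/
def Vals (G : Type u) (X : Type v) [Group G] [MulAction G X] (R : X → X → Prop) (k : ℕ) (r s : ℤ)
    (χ : G → ℂ) : Prop :=
  ∀ g : G, χ g * ((r : ℂ) - s) = nR G R g - s * fx G X g - (k - s)

section

variable [Fintype X] [DecidableEq X] [DecidableRel R]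

theorem params_b {a b : ℕ} (hab : ∀ x y, ∑ z, adj R x z * adj R z y =
    (k - b : ℂ) * dia x y + (a - b : ℂ) * adj R x y + b) {x₀ y₀ : X} (hxy : x₀ ≠ y₀) (hR : ¬ R x₀ y₀) :
    com R x₀ y₀ = b := by
  have h1 := hab x₀ y₀
  rw [sum_mul] at h1
  have e1 : dia x₀ y₀ = 0 := if_neg hxy
  have e2 : adj R x₀ y₀ = 0 := if_neg hR
  rw [e1, e2, mul_zero, mul_zero, zero_add, zero_add] at h1
  exact_mod_cast h1

/-- **Frame's theorem with known eigenvalues and the values** -/
theorem frame_vals' [Finite G] (h : R3 G X R k l) {x₀ y₀ : X} (hxy : x₀ ≠ y₀) (hR : ¬ R x₀ y₀) {b : ℕ}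
    (hb : com R x₀ y₀ = b) {r s : ℤ} (hrs : r ≠ s) (h2 : r * s = b - k)
    (h1 : (k : ℤ) * (r + s + b) = k * k - k - l * b) :
    ∃ (χ₁ χ₂ : IrrCharacter G), Vals G X R k r s χ₁ ∧ Vals G X R k s r χ₂ := by
  have := Fintype.ofFinite G
  obtain ⟨a, b', hab⟩ := h.exists_params
  have hp := h.params_eq hab
  have hbb : b' = b := by rw [← hb]; exact (params_b hab hxy hR).symm
  subst hbb
  have hn := h.cardn
  have hk0 : (0 : ℤ) < k := by exact_mod_cast h.k0
  have hpZ : (k : ℤ) * k = k + k * a + l * b' := by exact_mod_cast hp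
  have h1' : r + s = a - b' := by
    have h3 : (k : ℤ) * (r + s + b') = k * a := by rw [h1]; linear_combination hpZ
    have h4 := mul_left_cancel₀ hk0.ne' h3
    linear_combination h4
  obtain ⟨rC, hrC⟩ : ∃ rC : ℂ, rC = (r : ℂ) := ⟨_, rfl⟩
  obtain ⟨sC, hsC⟩ : ∃ sC : ℂ, sC = (s : ℂ) := ⟨_, rfl⟩
  have hne : rC ≠ sC := by rw [hrC, hsC]; exact_mod_cast hrs
  have h1C : rC + sC = a - b' := by rw [hrC, hsC]; exact_mod_cast h1'
  have h2C : rC * sC = b' - k := by rw [hrC, hsC]; exact_mod_cast h2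
  obtain ⟨d, hd⟩ : ∃ d : ℂ, d = rC - sC := ⟨_, rfl⟩
  have hd0 : d ≠ 0 := by rw [hd]; exact sub_ne_zero.2 hne
  -- the characters
  have hchar : ∀ u v : ℂ, u ≠ v → u + v = a - b' → u * v = b' - k →
      IsCharacter G (fun g : G => ∑ x : X, ker R k (Nat.card X) u v x (g • x)) := by
    intro u v huv h3 h4
    exact Cfsg.Agent.H651.isCharacter_sum_perm (MulAction.toPermHom G X) (ker R k (Nat.card X) u v)
      (h.ker_mul hab huv h3 h4) (fun g x y => h.ker_smul _ u v g x y)
  have hc1 := hchar rC sC hne h1C h2C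
  have hc2 := hchar sC rC hne.symm (by rw [add_comm]; exact h1C) (by rw [mul_comm]; exact h2C)
  set θ₁ : G → ℂ := fun g : G => ∑ x : X, ker R k (Nat.card X) rC sC x (g • x) with hθ₁
  set θ₂ : G → ℂ := fun g : G => ∑ x : X, ker R k (Nat.card X) sC rC x (g • x) with hθ₂
  have hnC : (Nat.card X : ℂ) ≠ 0 := by
    have : Nat.card X ≠ 0 := by omega
    exact_mod_cast this
  have hval : ∀ u v : ℂ, ∀ g : G, ∑ x : X, ker R k (Nat.card X) u v x (g • x) =
      (u - v)⁻¹ * (∑ x : X, adj R x (g • x) - v * (Nat.card (MulAction.fixedBy X g) : ℂ) - (k - v)) := by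
    intro u v g
    unfold ker
    rw [← Finset.mul_sum, Finset.sum_sub_distrib, Finset.sum_sub_distrib, ← Finset.mul_sum, sum_dia_smul,
      Finset.sum_const, Finset.card_univ, ← Nat.card_eq_fintype_card, nsmul_eq_mul]
    congr 2
    field_simp
  have hsum : (fun g : G => (Nat.card (MulAction.fixedBy X g) : ℂ) - 1) = θ₁ + θ₂ := by
    funext g
    show _ = θ₁ g + θ₂ g
    rw [hθ₁, hθ₂]
    simp only [hval]
    have h3 : (sC - rC)⁻¹ = -(rC - sC)⁻¹ := by rw [← neg_sub, inv_neg]
    rw [h3]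
    have h4 : (rC - sC)⁻¹ * (rC - sC) = 1 := inv_mul_cancel₀ (by rw [← hd]; exact hd0)
    linear_combination (-(Nat.card (MulAction.fixedBy X g) : ℂ) + 1) * h4
  have hnorm := h.norm_two (G := G)
  rw [hsum, classInner_add_left, classInner_add_right, classInner_add_right] at hnorm
  -- degrees
  have htriv : ∀ g : G, (∀ y : X, g • y = y) → ∑ x : X, adj R x (g • x) = 0 := by
    intro g hg
    refine Finset.sum_eq_zero fun x _ => ?_
    unfold adj
    rw [hg, if_neg (h.irr x)]
  have hfixt : ∀ g : G, (∀ y : X, g • y = y) → Nat.card (MulAction.fixedBy X g) = Nat.card X := by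
    intro g hg
    have : MulAction.fixedBy X g = Set.univ := Set.eq_univ_of_forall hg
    rw [this]
    exact Nat.card_univ
  have hn' : (Nat.card X : ℂ) = 1 + k + l := by exact_mod_cast hn
  have hdeg1 : ∀ g : G, (∀ y : X, g • y = y) → θ₁ g * d = -(sC * (k + l) + k) := by
    intro g hg
    rw [hθ₁]
    simp only [hval]
    rw [htriv g hg, hfixt g hg, hn', ← hd]
    have h4 : d⁻¹ * d = 1 := inv_mul_cancel₀ hd0
    linear_combination (0 - sC * (1 + k + l) - (k - sC)) * h4
  have hdeg2 : ∀ g : G, (∀ y : X, g • y = y) → θ₂ g * d = rC * (k + l) + k := by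
    intro g hg
    rw [hθ₂]
    simp only [hval]
    have h3 : (sC - rC)⁻¹ = -d⁻¹ := by rw [← neg_sub, inv_neg, hd]
    rw [htriv g hg, hfixt g hg, hn', h3]
    have h4 : d⁻¹ * d = 1 := inv_mul_cancel₀ hd0
    linear_combination (0 - (0 - rC * (1 + k + l) - (k - rC))) * h4
  have hone : ∀ y : X, (1 : G) • y = y := fun y => one_smul G y
  obtain ⟨f, hf⟩ := isCharacter_apply_one hc1
  obtain ⟨g, hg⟩ := isCharacter_apply_one hc2
  have hpC : (k : ℂ) * k = k + k * a + l * b' := by exact_mod_cast hp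
  have hprod : (f : ℂ) * g * (d * d) = (1 + k + l) * k * l := by
    rw [← hf, ← hg]
    have h5 : θ₁ 1 * θ₂ 1 * (d * d) = (θ₁ 1 * d) * (θ₂ 1 * d) := by ring
    rw [h5, hdeg1 1 hone, hdeg2 1 hone]
    linear_combination (-(k + l : ℂ) ^ 2) * h2C - (k : ℂ) * (k + l) * h1C + (k + l : ℂ) * hpC
  have hprod0 : ((1 + k + l) * k * l : ℂ) ≠ 0 := by
    have h3 : 0 < (1 + k + l) * k * l := by
      have := h.k0
      have := h.l0
      positivity
    exact_mod_cast h3.ne'
  have hf0 : f ≠ 0 := by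
    rintro rfl
    apply hprod0
    rw [← hprod]
    push_cast
    ring
  have hg0 : g ≠ 0 := by
    rintro rfl
    apply hprod0
    rw [← hprod]
    push_cast
    ring
  -- norms
  obtain ⟨m11, hm11⟩ := classInner_isNat hc1 hc1
  obtain ⟨m12, hm12⟩ := classInner_isNat hc1 hc2
  obtain ⟨m21, hm21⟩ := classInner_isNat hc2 hc1
  obtain ⟨m22, hm22⟩ := classInner_isNat hc2 hc2
  rw [hm11, hm12, hm21, hm22] at hnorm
  have hnormN : m11 + m12 + (m21 + m22) = 2 := by exact_mod_cast hnorm
  have h11 : m11 ≠ 0 := by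
    rintro rfl
    have h3 := classInner_self_eq_zero (φ := θ₁) (by rw [hm11]; simp)
    rw [h3] at hf
    apply hf0
    have : (f : ℂ) = 0 := by rw [← hf]; rfl
    exact_mod_cast this
  have h22 : m22 ≠ 0 := by
    rintro rfl
    have h3 := classInner_self_eq_zero (φ := θ₂) (by rw [hm22]; simp)
    rw [h3] at hg
    apply hg0
    have : (g : ℂ) = 0 := by rw [← hg]; rfl
    exact_mod_cast this
  have hm1 : m11 = 1 := by omega
  have hm2 : m22 = 1 := by omega
  have hi1 : IsIrrCharacter G θ₁ := isIrr_of_classInner_self hc1 (by rw [hm11, hm1]; simp)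
  have hi2 : IsIrrCharacter G θ₂ := isIrr_of_classInner_self hc2 (by rw [hm22, hm2]; simp)
  have hN : ∀ x : G, ∑ y : X, adj R y (x • y) = (nR G R x : ℂ) := by
    intro x
    unfold adj nR
    rw [Finset.sum_boole, Nat.card_eq_fintype_card, Fintype.card_subtype]
  refine ⟨⟨θ₁, hi1⟩, ⟨θ₂, hi2⟩, fun g => ?_, fun g => ?_⟩
  · show θ₁ g * _ = _
    rw [hθ₁]
    simp only [hval]
    rw [hN, ← hrC, ← hsC, ← hd]
    unfold fx
    field_simp
  · show θ₂ g * _ = _
    rw [hθ₂]
    simp only [hval]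
    have h3 : sC - rC ≠ 0 := sub_ne_zero.2 hne.symm
    rw [hN, ← hrC, ← hsC]
    unfold fx
    field_simp

end

/-- **Frame's theorem with known eigenvalues and the values** -/
theorem frame_vals [Finite G] (h : R3 G X R k l) {x₀ y₀ : X} (hxy : x₀ ≠ y₀) (hR : ¬ R x₀ y₀) {b : ℕ}
    (hb : com R x₀ y₀ = b) {r s : ℤ} (hrs : r ≠ s) (h2 : r * s = b - k)
    (h1 : (k : ℤ) * (r + s + b) = k * k - k - l * b) :
    ∃ (χ₁ χ₂ : IrrCharacter G), Vals G X R k r s χ₁ ∧ Vals G X R k s r χ₂ := by
  classical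
  have hn := h.cardn
  have hfin : Finite X := by
    by_contra hcon
    rw [not_finite_iff_infinite] at hcon
    rw [Nat.card_eq_zero_of_infinite] at hn
    omega
  have := Fintype.ofFinite X
  exact frame_vals' h hxy hR hb hrs h2 h1

/-- the colours of a rank 3 action -/
noncomputable def col3 (R : X → X → Prop) (x y : X) : Fin 3 := by
  classical exact if x = y then 0 else if R x y then 1 else 2

theorem isCol (h : R3 G X R k l) : Col G X (Fin 3) (col3 R) 0 where
  inv g x y := by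
    classical
    have h1 : (g • x = g • y) ↔ x = y := MulAction.injective g |>.eq_iff
    have h2 := h.inv_iff g x y
    unfold col3
    by_cases h3 : x = y
    · rw [if_pos h3, if_pos (h1.2 h3)]
    · rw [if_neg h3, if_neg (fun h4 => h3 (h1.1 h4))]
      by_cases h4 : R x y
      · rw [if_pos h4, if_pos (h2.2 h4)]
      · rw [if_neg h4, if_neg (fun h5 => h4 (h2.1 h5))]
  tr x y x' y' hc := by
    classical
    have htr := h.trans
    unfold col3 at hc
    by_cases h1 : x = y
    · subst h1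
      rw [if_pos rfl] at hc
      by_cases h2 : x' = y'
      · subst h2
        obtain ⟨g, hg⟩ := htr.exists_smul_eq x x'
        exact ⟨g, hg, hg⟩
      · rw [if_neg h2] at hc
        split_ifs at hc <;> simp at hc
    · rw [if_neg h1] at hc
      by_cases h2 : x' = y'
      · rw [if_pos h2] at hc
        split_ifs at hc <;> simp at hc
      · rw [if_neg h2] at hc
        by_cases h3 : R x y
        · rw [if_pos h3] at hc
          by_cases h4 : R x' y'
          · exact h.one _ _ _ _ h3 h4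
          · rw [if_neg h4] at hc
            simp at hc
        · rw [if_neg h3] at hc
          by_cases h4 : R x' y'
          · rw [if_pos h4] at hc
            simp at hc
          · exact h.two _ _ _ _ h1 h3 h2 h4
  diag x y := by
    classical
    unfold col3
    constructor
    · intro hc
      by_contra h1
      rw [if_neg h1] at hc
      split_ifs at hc <;> simp at hc
    · intro h1
      rw [if_pos h1]
  symm x y := by
    classical
    unfold col3
    have h1 : R x y ↔ R y x := ⟨h.symm x y, h.symm y x⟩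
    have h2 : x = y ↔ y = x := eq_comm
    simp only [h1, h2]

theorem col3_eq_zero {x y : X} : col3 R x y = 0 ↔ x = y := by
  classical
  unfold col3
  split_ifs with h1 h2
  · simp [h1]
  · simp [h1]
  · simp [h1]

theorem col3_eq_one {x y : X} (hirr : ∀ x, ¬ R x x) : col3 R x y = 1 ↔ R x y := by
  classical
  unfold col3
  split_ifs with h1 h2
  · subst h1
    simp [hirr]
  · simp [h2]
  · simp [h2]

theorem card_col (h : R3 G X R k l) (x₀ : X) : Nat.card {y // col3 R x₀ y = 0} = 1 ∧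
    Nat.card {y // col3 R x₀ y = 1} = k ∧ Nat.card {y // col3 R x₀ y = 2} = l := by
  have hn := h.cardn
  have hfin : Finite X := by
    by_contra hcon
    rw [not_finite_iff_infinite] at hcon
    rw [Nat.card_eq_zero_of_infinite] at hn
    omega
  have h0 : Nat.card {y // col3 R x₀ y = 0} = 1 := by
    rw [Nat.card_congr (Equiv.subtypeEquivRight fun y => col3_eq_zero)]
    rw [Nat.card_eq_one_iff_unique]
    exact ⟨⟨fun a b => Subtype.ext (a.2.symm.trans b.2)⟩, ⟨⟨x₀, rfl⟩⟩⟩
  have h1 : Nat.card {y // col3 R x₀ y = 1} = k := by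
    rw [Nat.card_congr (Equiv.subtypeEquivRight fun y => col3_eq_one h.irr), h.cardk]
  refine ⟨h0, h1, ?_⟩
  have h2 : Nat.card X = ∑ u : Fin 3, Nat.card {y // col3 R x₀ y = u} := by
    rw [← Nat.card_congr (Equiv.sigmaFiberEquiv (col3 R x₀)), Nat.card_sigma]
  rw [Fin.sum_univ_three, h0, h1, hn] at h2
  omega

/-- the spherical function of the eigenvalue `r` -/
noncomputable def om (k l : ℕ) (r : ℤ) : Fin 3 → ℂ := ![1, (r : ℂ) / k, (-1 - r) / l]

theorem sum_om [Fintype X] (h : R3 G X R k l) (r : ℤ) (g : G) : ∑ x : X, om k l r (col3 R x (g • x)) =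
    fx G X g + (r : ℂ) / k * nR G R g + (-1 - r) / l * (1 + k + l - fx G X g - nR G R g) := by
  classical
  have h1 : ∀ x : X, om k l r (col3 R x (g • x)) = (1 - (-1 - r : ℂ) / l) * (if x ∈ MulAction.fixedBy X g then 1 else 0) +
      ((r : ℂ) / k - (-1 - r) / l) * (if R x (g • x) then 1 else 0) + (-1 - r) / l := by
    intro x
    unfold col3
    simp only [MulAction.mem_fixedBy]
    by_cases h2 : x = g • x
    · rw [if_pos h2, if_pos h2.symm, if_neg (by rw [← h2]; exact h.irr x)]
      simp [om]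
    · rw [if_neg h2, if_neg (fun h3 : g • x = x => h2 h3.symm)]
      by_cases h3 : R x (g • x)
      · rw [if_pos h3, if_pos h3]
        simp [om]
      · rw [if_neg h3, if_neg h3]
        simp [om]
  rw [Finset.sum_congr rfl fun x _ => h1 x, Finset.sum_add_distrib, Finset.sum_add_distrib, ← Finset.mul_sum,
    ← Finset.mul_sum, Finset.sum_boole, Finset.sum_boole, Finset.sum_const, Finset.card_univ]
  have h4 : (Finset.univ.filter fun x : X => x ∈ MulAction.fixedBy X g).card = fx G X g := by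
    unfold fx
    rw [Nat.card_eq_fintype_card, Fintype.card_subtype]
  have h5 : (Finset.univ.filter fun x : X => R x (g • x)).card = nR G R g := by
    unfold nR
    rw [Nat.card_eq_fintype_card, Fintype.card_subtype]
  rw [h4, h5, ← Nat.card_eq_fintype_card, h.cardn, nsmul_eq_mul]
  push_cast
  ring

theorem nR_one (h : R3 G X R k l) : nR G R 1 = 0 := by
  unfold nR
  rw [Nat.card_eq_zero]
  exact Or.inl ⟨fun x => h.irr x.1 (by simpa using x.2)⟩

theorem fx_one (h : R3 G X R k l) : fx G X 1 = 1 + k + l := by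
  unfold fx
  rw [MulAction.fixedBy_one_eq_univ, Nat.card_univ, h.cardn]

section rel

variable {r s b : ℤ}

/-- the relations of the eigenvalues -/
theorem rel_one (h2 : r * s = b - k) (h1 : (k : ℤ) * (r + s + b) = k * k - k - l * b) :
    (-(s * (k + l) + k) : ℤ) * (1 + r) = l * (k - s) := by
  linear_combination (-(k + l : ℤ)) * h2 - h1

theorem rel_two (h2 : r * s = b - k) (h1 : (k : ℤ) * (r + s + b) = k * k - k - l * b) :
    (-(s * (k + l) + k) : ℤ) * r = k * (1 + l + s) := by
  linear_combination (-(k + l : ℤ)) * h2 - h1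

end rel

variable {p : ℕ} {r s b : ℤ} {χ : IrrCharacter G}

theorem Vals.deg (h : R3 G X R k l) (hχ : Vals G X R k r s χ) [Finite G] :
    (charDegree (χ : G → ℂ) : ℂ) * ((r : ℂ) - s) = -(s * (k + l) + k) := by
  have h5 := hχ 1
  rw [irr_one_eq_charDegree χ.2, nR_one h, fx_one h] at h5
  rw [h5]
  push_cast
  ring

/-- **membership** -/
theorem mem_of_r3 [Finite G] (h : R3 G X R k l) (hp : p.Prime) (hrs : r ≠ s) (h2 : r * s = b - k)
    (h1 : (k : ℤ) * (r + s + b) = k * k - k - l * b) (hχ : Vals G X R k r s χ) (h3 : (p : ℤ) ∣ r - k)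
    (h4 : (p : ℤ) ∣ l + 1 + r) : χ ∈ B0 p G := by
  classical
  have hn := h.cardn
  have hfin : Finite X := by
    by_contra hcon
    rw [not_finite_iff_infinite] at hcon
    rw [Nat.card_eq_zero_of_infinite] at hn
    omega
  have := Fintype.ofFinite X
  have hne : Nonempty X := by
    by_contra hcon
    rw [not_nonempty_iff] at hcon
    rw [Nat.card_of_isEmpty] at hn
    omega
  obtain ⟨x₀⟩ := hne
  have hk0 : (k : ℂ) ≠ 0 := by exact_mod_cast h.k0.ne'
  have hl0 : (l : ℂ) ≠ 0 := by exact_mod_cast h.l0.ne'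
  have hv0 : ((1 + k + l : ℕ) : ℂ) ≠ 0 := by exact_mod_cast (by omega : 1 + k + l ≠ 0)
  have hd0 : (r : ℂ) - s ≠ 0 := by
    rw [sub_ne_zero]
    exact_mod_cast hrs
  have hdeg := hχ.deg h
  have e1 : (-(s * (k + l) + k) : ℂ) * (1 + r) = l * (k - s) := by exact_mod_cast rel_one h2 h1
  have e2 : (-(s * (k + l) + k) : ℂ) * r = k * (1 + l + s) := by exact_mod_cast rel_two h2 h1
  have hcol := card_col h x₀
  refine Cfsg.Agent.H426.PQ.mem_of_hecke hp (isCol h) x₀ (ω := om k l r) χ rfl (fun g => ?_) (fun u => ?_)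
  · rw [sum_om h, hn]
    refine mul_right_cancel₀ hd0 ?_
    rw [hχ g]
    have e3 : (charDegree (χ : G → ℂ) : ℂ) / ((1 + k + l : ℕ) : ℂ) *
        (fx G X g + (r : ℂ) / k * nR G R g + (-1 - r) / l * (1 + k + l - fx G X g - nR G R g)) * ((r : ℂ) - s) =
        ((charDegree (χ : G → ℂ) : ℂ) * ((r : ℂ) - s)) / ((1 + k + l : ℕ) : ℂ) *
        (fx G X g + (r : ℂ) / k * nR G R g + (-1 - r) / l * (1 + k + l - fx G X g - nR G R g)) := by ring
    rw [e3, hdeg, div_mul_eq_mul_div, eq_div_iff hv0]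
    have e4 : (-(s * (k + l) + k) : ℂ) *
        (fx G X g + (r : ℂ) / k * nR G R g + (-1 - r) / l * (1 + k + l - fx G X g - nR G R g)) =
        (-(s * (k + l) + k) : ℂ) * fx G X g + ((-(s * (k + l) + k) : ℂ) * r) / k * nR G R g -
        ((-(s * (k + l) + k) : ℂ) * (1 + r)) / l * (1 + k + l - fx G X g - nR G R g) := by ring
    rw [e4, e1, e2, mul_div_cancel_left₀ _ hk0, mul_div_cancel_left₀ _ hl0]
    push_cast
    ring
  · fin_cases u
    · refine ⟨0, ?_⟩
      show (Nat.card {y // col3 R x₀ y = 0} : ℂ) * om k l r 0 = (Nat.card {y // col3 R x₀ y = 0} : ℂ) + _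
      rw [hcol.1]
      simp [om]
    · obtain ⟨z, hz⟩ := h3
      refine ⟨z, ?_⟩
      show (Nat.card {y // col3 R x₀ y = 1} : ℂ) * om k l r 1 = (Nat.card {y // col3 R x₀ y = 1} : ℂ) + _
      rw [hcol.2.1]
      have h5 : (r : ℂ) - k = p * z := by exact_mod_cast hz
      have h6 : om k l r 1 = (r : ℂ) / k := rfl
      rw [h6, mul_div_cancel₀ _ hk0]
      linear_combination h5
    · obtain ⟨z, hz⟩ := h4
      refine ⟨-z, ?_⟩
      show (Nat.card {y // col3 R x₀ y = 2} : ℂ) * om k l r 2 = (Nat.card {y // col3 R x₀ y = 2} : ℂ) + _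
      rw [hcol.2.2]
      have h5 : (l : ℂ) + 1 + r = p * z := by exact_mod_cast hz
      have h6 : om k l r 2 = (-1 - r : ℂ) / l := rfl
      rw [h6, mul_div_cancel₀ _ hl0]
      push_cast
      linear_combination -h5

/-- **non-membership** -/
theorem dvd_of_r3 [Finite G] (h : R3 G X R k l) (hp : p.Prime) (hrs : r ≠ s) (h2 : r * s = b - k)
    (h1 : (k : ℤ) * (r + s + b) = k * k - k - l * b) (hχ : Vals G X R k r s χ) (hmem : χ ∈ B0 p G) (L : Set G)
    (hL : ∀ g ∈ L, ∀ y : G, y * g * y⁻¹ ∈ L) {c : ℕ} (hc : Nat.card L = c * Nat.card X)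
    (hfix : ∀ g ∈ L, fx G X g = 1 + k) (hnr : ∀ g ∈ L, nR G R g = 0) : (p : ℤ) ∣ c * (l + 1 + r) := by
  have hn := h.cardn
  have hd0 : ((r : ℤ) : ℚ) - s ≠ 0 := by
    rw [sub_ne_zero]
    exact_mod_cast hrs
  have hdC : ((r : ℤ) : ℂ) - s ≠ 0 := by
    rw [sub_ne_zero]
    exact_mod_cast hrs
  have hdeg := hχ.deg h
  have hdegQ : (charDegree (χ : G → ℂ) : ℚ) * ((r : ℚ) - s) = -(s * (k + l) + k) := by exact_mod_cast hdeg
  have e1 : (-(s * (k + l) + k) : ℚ) * (1 + r) = l * (k - s) := by exact_mod_cast rel_one h2 h1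
  refine Cfsg.Agent.H77.ClassSet.class_test_set hp hmem L hL (d := charDegree (χ : G → ℂ))
    (v := (-(k * (1 + s)) : ℚ) / (r - s)) ?_ ?_ ?_
  · rw [irr_one_eq_charDegree χ.2]
    push_cast
    rfl
  · intro g hg
    have h5 := hχ g
    rw [hnr g hg, hfix g hg] at h5
    push_cast
    rw [eq_div_iff hdC, h5]
    push_cast
    ring
  · rw [hc, hn]
    refine mul_right_cancel₀ hd0 ?_
    have e3 : ((c * (l + 1 + r) : ℤ) : ℚ) * ((charDegree (χ : G → ℂ) : ℤ) : ℚ) * ((r : ℚ) - s) =
        c * (l + 1 + r) * ((charDegree (χ : G → ℂ) : ℚ) * ((r : ℚ) - s)) := by push_cast; ring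
    have e4 : ((c * (1 + k + l) : ℕ) : ℚ) * (((charDegree (χ : G → ℂ) : ℤ) : ℚ) - -(k * (1 + s)) / (r - s)) *
        ((r : ℚ) - s) = c * (1 + k + l) * ((charDegree (χ : G → ℂ) : ℚ) * ((r : ℚ) - s) + k * (1 + s)) := by
      push_cast
      field_simp
      ring
    rw [e3, e4, hdegQ]
    linear_combination (c : ℚ) * e1

end Cfsg.Agent.H638.PQ.RankThree

private theorem dce_54c181223f21 : _root_.True := by
  try have : _root_.True := by simp only [_root_.Cfsg.Agent.H638.PQ.RankThree.om.eq_1]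
  exact _root_.True.intro
end
end
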